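import Mathlib

/-!
# Glauberman's fixed point lemma

Everything is phrased for subgroups `A`, `K` of an ambient finite group `G` acting on a set `X`.
-/

set_option autoImplicit false

open scoped Pointwise commutatorElement IsMulCommutative

namespace H1

universe u v

variable {G : Type u} [Group G]

/-- conjugation by an element normalising `K`, as an endomorphism of `K`. -/
def conjHom (K : Subgroup G) (a : G) (ha : a ∈ Subgroup.normalizer (K : Set G)) : K →* K where
  toFun k := ⟨a * k * a⁻¹, (Subgroup.mem_normalizer_iff.mp ha k).mp k.2⟩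
  map_one' := by ext; simp
  map_mul' x y := by ext; simp [mul_assoc]

@[simp] theorem coe_conjHom (K : Subgroup G) (a : G) (ha : a ∈ Subgroup.normalizer (K : Set G))
    (k : K) : ((conjHom K a ha k : K) : G) = a * k * a⁻¹ := rfl

theorem conj_mem_of_le_normalizer {A K : Subgroup G} (hAK : A ≤ Subgroup.normalizer (K : Set G))
    {a k : G} (ha : a ∈ A) (hk : k ∈ K) : a * k * a⁻¹ ∈ K :=
  Subgroup.le_normalizer_iff.mp hAK a ha k hk

theorem inv_conj_mem_of_le_normalizer {A K : Subgroup G}
    (hAK : A ≤ Subgroup.normalizer (K : Set G))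
    {a k : G} (ha : a ∈ A) (hk : k ∈ K) : a⁻¹ * k * a ∈ K := by
  simpa using conj_mem_of_le_normalizer hAK (A.inv_mem ha) hk

/-- a group normalising `K` and `L` normalises `⁅K, L⁆`. -/
theorem le_normalizer_commutator {A K L : Subgroup G} (hK : A ≤ Subgroup.normalizer (K : Set G))
    (hL : A ≤ Subgroup.normalizer (L : Set G)) :
    A ≤ Subgroup.normalizer ((⁅K, L⁆ : Subgroup G) : Set G) := by
  apply Subgroup.le_normalizer_closure_iff.mpr
  rintro g hg _ ⟨g₁, hg₁, g₂, hg₂, rfl⟩
  rw [conjugate_commutatorElement]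
  exact Subgroup.commutator_mem_commutator (conj_mem_of_le_normalizer hK hg hg₁)
    (conj_mem_of_le_normalizer hL hg hg₂)

theorem le_normalizer_inf {A K L : Subgroup G} (hK : A ≤ Subgroup.normalizer (K : Set G))
    (hL : A ≤ Subgroup.normalizer (L : Set G)) :
    A ≤ Subgroup.normalizer ((K ⊓ L : Subgroup G) : Set G) :=
  (le_inf hK hL).trans Subgroup.inf_normalizer_le_normalizer_inf

theorem le_normalizer_sup {A K L : Subgroup G} (hK : A ≤ Subgroup.normalizer (K : Set G))
    (hL : A ≤ Subgroup.normalizer (L : Set G)) :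
    A ≤ Subgroup.normalizer ((K ⊔ L : Subgroup G) : Set G) :=
  (le_inf hK hL).trans (Subgroup.normalizer_inf_normalizer_le_normalizer_sup K L)

/-- a group normalising `K` normalises the centraliser of `K`. -/
theorem le_normalizer_centralizer {A K : Subgroup G} (hK : A ≤ Subgroup.normalizer (K : Set G)) :
    A ≤ Subgroup.normalizer ((Subgroup.centralizer (K : Set G) : Subgroup G) : Set G) := by
  rw [Subgroup.le_normalizer_iff]
  intro a ha c hc
  rw [Subgroup.mem_centralizer_iff] at hc ⊢
  intro k hk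
  have := hc _ (inv_conj_mem_of_le_normalizer hK ha hk)
  calc k * (a * c * a⁻¹) = a * ((a⁻¹ * k * a) * c) * a⁻¹ := by group
    _ = a * (c * (a⁻¹ * k * a)) * a⁻¹ := by rw [this]
    _ = a * c * a⁻¹ * k := by group

/-- a group normalising `K` normalises the normaliser of `K`. -/
theorem le_normalizer_normalizer {A K : Subgroup G} (hK : A ≤ Subgroup.normalizer (K : Set G)) :
    A ≤ Subgroup.normalizer ((Subgroup.normalizer (K : Set G) : Subgroup G) : Set G) :=
  hK.trans Subgroup.le_normalizer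

/-- a subgroup of `K` containing `⁅K, K⁆` is normalised by `K`. -/
theorem le_normalizer_of_commutator_le {K B : Subgroup G} (hBK : B ≤ K) (h : ⁅K, K⁆ ≤ B) :
    K ≤ Subgroup.normalizer (B : Set G) :=
  Subgroup.le_normalizer_iff_commutator_le_right.mpr
    ((Subgroup.commutator_mono le_rfl hBK).trans h)

theorem solvable_of_le {K L : Subgroup G} (hLK : L ≤ K) (hK : Group.IsSolvable K) :
    Group.IsSolvable L :=
  Group.isSolvable_of_isSolvable_injective (Subgroup.inclusion_injective hLK)

theorem commutator_lt_of_solvable {K : Subgroup G} (hK : Group.IsSolvable K) (hK1 : K ≠ ⊥) :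
    ⁅K, K⁆ < K := by
  rw [← Subgroup.nontrivial_iff_ne_bot] at hK1
  rw [← K.range_subtype, MonoidHom.range_eq_map, ← Subgroup.map_commutator,
    Subgroup.map_subtype_lt_map_subtype]
  exact Group.IsSolvable.commutator_lt_top_of_nontrivial K

variable {X : Type v} [MulAction G X]

/-- The abelian case: the averaging argument. -/
theorem exists_fixed_of_commutator_le [Finite G] (A K : Subgroup G)
    (hAK : A ≤ Subgroup.normalizer (K : Set G)) (x : X)
    (hcop : (Nat.card A).Coprime ((MulAction.stabilizer G x).relIndex K))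
    (hcomm : ⁅K, K⁆ ≤ MulAction.stabilizer G x)
    (hx : ∀ a ∈ A, ∃ k ∈ K, a • x = k • x) :
    ∃ k ∈ K, ∀ a ∈ A, a • k • x = k • x := by
  classical
  set S : Subgroup K := (MulAction.stabilizer G x).subgroupOf K with hS
  have hmemS : ∀ k : K, k ∈ S ↔ (k : G) • x = x := fun k => by
    simp [hS, Subgroup.mem_subgroupOf]
  have hcS : commutator K ≤ S := by
    rw [commutator_def, Subgroup.commutator_le]
    intro g₁ _ g₂ _
    rw [hS, Subgroup.mem_subgroupOf]
    exact hcomm (Subgroup.commutator_mem_commutator g₁.2 g₂.2)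
  have hSn : S.Normal := Subgroup.Normal.of_commutator_le _ hcS
  have hVc : IsMulCommutative (K ⧸ S) :=
    (Subgroup.Normal.quotient_commutative_iff_commutator_le).mpr hcS
  choose! c hcK hc using hx
  have hconjS : ∀ (a : A), S ≤ S.comap (conjHom K a (hAK a.2)) := by
    intro a s hs
    rw [Subgroup.mem_comap, hmemS, coe_conjHom]
    have h1 := hc _ (A.inv_mem a.2)
    have h2 := (hmemS _).mp (hSn.conj_mem s hs (⟨c (a : G)⁻¹, hcK _ (A.inv_mem a.2)⟩ : K)⁻¹)
    simp only [Subgroup.coe_mul, Subgroup.coe_inv, inv_inv, mul_smul, inv_smul_eq_iff] at h2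
    rw [mul_smul, mul_smul, h1, h2, ← h1, smul_inv_smul]
  let ψ : A → (K ⧸ S →* K ⧸ S) := fun a => QuotientGroup.map S S _ (hconjS a)
  let d : A → K ⧸ S := fun a => QuotientGroup.mk (⟨c a, hcK _ a.2⟩ : K)
  have hcoc : ∀ a b : A, d (a * b) = ψ a (d b) * d a := by
    intro a b
    simp only [d, ψ, QuotientGroup.map_mk, ← QuotientGroup.mk_mul]
    rw [QuotientGroup.eq, hmemS]
    simp only [Subgroup.coe_mul, Subgroup.coe_inv, coe_conjHom, mul_smul, inv_smul_eq_iff]
    rw [← hc _ a.2, inv_smul_smul, ← hc _ b.2, ← hc _ (A.mul_mem a.2 b.2), mul_smul]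
  have : Fintype A := Fintype.ofFinite A
  have hV : (Nat.card (K ⧸ S)).Coprime (Nat.card A) := hcop.symm
  set C : K ⧸ S := ∏ b : A, d b with hC
  have hCa : ∀ a : A, C = ψ a C * d a ^ Nat.card A := by
    intro a
    calc C = ∏ b : A, d (a * b) := (Fintype.prod_equiv (Equiv.mulLeft a) _ _ (fun _ => rfl)).symm
      _ = ∏ b : A, (ψ a (d b) * d a) := Finset.prod_congr rfl fun b _ => hcoc a b
      _ = ψ a C * d a ^ Nat.card A := by
        rw [Finset.prod_mul_distrib, hC, map_prod, Finset.prod_const, Finset.card_univ,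
          Nat.card_eq_fintype_card]
  obtain ⟨kbar, hkbar⟩ := (powCoprime hV).surjective C
  rw [powCoprime_apply] at hkbar
  obtain ⟨k, rfl⟩ := QuotientGroup.mk_surjective kbar
  refine ⟨k, k.2, fun a ha => ?_⟩
  have h1 : (QuotientGroup.mk k : K ⧸ S) = ψ ⟨a, ha⟩ (QuotientGroup.mk k) * d ⟨a, ha⟩ := by
    apply (powCoprime hV).injective
    rw [powCoprime_apply, powCoprime_apply, mul_pow, ← map_pow, hkbar]
    exact hCa _
  simp only [d, ψ, QuotientGroup.map_mk, ← QuotientGroup.mk_mul] at h1
  rw [QuotientGroup.eq, hmemS] at h1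
  simp only [Subgroup.coe_mul, Subgroup.coe_inv, coe_conjHom, mul_smul, inv_smul_eq_iff] at h1
  rw [← hc _ ha, inv_smul_smul] at h1
  exact h1

theorem relIndex_stabilizer_smul (K : Subgroup G) (x : X) {k : G} (hk : k ∈ K) :
    (MulAction.stabilizer G (k • x)).relIndex K = (MulAction.stabilizer G x).relIndex K := by
  rw [MulAction.stabilizer_smul_eq_stabilizer_map_conj]
  conv_lhs => rw [← Subgroup.conj_smul_eq_self_of_mem hk]
  exact Subgroup.relIndex_map_map_of_injective _ _ (MulAut.conj k).injective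

/-- for `N` normal in `G`, `|N : N ⊓ S| * |G : N S| = |G : S|`. -/
theorem relIndex_mul_index_sup [Finite G] (N S : Subgroup G) [N.Normal] :
    S.relIndex N * (N ⊔ S).index = S.index := by
  have h1 : S.relIndex N * N.index = N.relIndex S * S.index := by
    rw [← Subgroup.inf_relIndex_left N S, Subgroup.relIndex_mul_index inf_le_left,
      ← Subgroup.inf_relIndex_right N S, Subgroup.relIndex_mul_index inf_le_right]
  have h2 : N.relIndex S * (N ⊔ S).index = N.index := by
    rw [← Subgroup.relIndex_sup_left S N, Subgroup.relIndex_mul_index le_sup_left]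
  have h3 : N.relIndex S ≠ 0 := Subgroup.index_ne_zero_of_finite
  apply Nat.eq_of_mul_eq_mul_left (Nat.pos_of_ne_zero h3)
  rw [← h1, ← h2]; ring

/-- for `N` normal in `K`, `|N : N ⊓ S|` divides `|K : K ⊓ S|`. -/
theorem relIndex_dvd_of_le_normalizer [Finite G] {N K : Subgroup G} (S : Subgroup G) (hNK : N ≤ K)
    (hn : K ≤ Subgroup.normalizer (N : Set G)) : S.relIndex N ∣ S.relIndex K := by
  have : (N.subgroupOf K).Normal := (Subgroup.normal_subgroupOf_iff_le_normalizer hNK).mpr hn
  rw [← Subgroup.relIndex_subgroupOf hNK]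
  exact Dvd.intro _ (relIndex_mul_index_sup (N.subgroupOf K) (S.subgroupOf K))

/-- Fixed point lemma, solvable `K`: only the orbit length needs to be prime to `|A|`. -/
theorem exists_fixed_of_solvable_right [Finite G] (A K : Subgroup G)
    (hAK : A ≤ Subgroup.normalizer (K : Set G)) (hK : Group.IsSolvable K) (x : X)
    (hcop : (Nat.card A).Coprime ((MulAction.stabilizer G x).relIndex K))
    (hx : ∀ a ∈ A, ∃ k ∈ K, a • x = k • x) :
    ∃ k ∈ K, ∀ a ∈ A, a • k • x = k • x := by
  induction K using WellFoundedLT.induction generalizing x with | ind K ih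
  by_cases hK1 : K = ⊥
  · subst hK1
    refine ⟨1, Subgroup.one_mem _, fun a ha => ?_⟩
    obtain ⟨k, hk, h⟩ := hx a ha
    rw [Subgroup.mem_bot] at hk
    simpa [hk] using h
  set K' : Subgroup G := ⁅K, K⁆ with hK'
  have hlt : K' < K := commutator_lt_of_solvable hK hK1
  have hAK' : A ≤ Subgroup.normalizer (K' : Set G) := le_normalizer_commutator hAK hAK
  have hKK' : K ≤ Subgroup.normalizer (K' : Set G) := Subgroup.normalizer_commutator_ge_left K K
  -- translating orbits of `K'`
  have horb : ∀ g ∈ Subgroup.normalizer (K' : Set G), ∀ y : X,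
      g • MulAction.orbit K' y = MulAction.orbit K' (g • y) := by
    intro g hg y
    ext z
    simp only [Set.mem_smul_set, MulAction.mem_orbit_iff, Subtype.exists, Subgroup.mk_smul]
    constructor
    · rintro ⟨_, ⟨k, hk, rfl⟩, rfl⟩
      exact ⟨g * k * g⁻¹, (Subgroup.mem_normalizer_iff.mp hg k).mp hk, by simp [mul_smul]⟩
    · rintro ⟨k, hk, rfl⟩
      exact ⟨_, ⟨g⁻¹ * k * g, (Subgroup.mem_normalizer_iff''.mp hg k).mp hk, rfl⟩,
        by simp [mul_smul]⟩
  obtain ⟨k, hk, hfix⟩ := exists_fixed_of_commutator_le A K hAK (MulAction.orbit K' x)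
    (by
      refine hcop.coprime_dvd_right ?_
      rw [← Subgroup.inf_relIndex_right (MulAction.stabilizer G x) K]
      apply Subgroup.relIndex_dvd_of_le_left
      rintro g hg
      obtain ⟨hg1, hg2⟩ := Subgroup.mem_inf.mp hg
      rw [MulAction.mem_stabilizer_iff] at hg1
      rw [MulAction.mem_stabilizer_iff, horb g (hKK' hg2), hg1])
    (by
      intro g hg
      rw [MulAction.mem_stabilizer_iff, horb g (Subgroup.le_normalizer hg)]
      exact MulAction.orbit_smul (⟨g, hg⟩ : K') x)
    (by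
      intro a ha
      obtain ⟨k, hk, h⟩ := hx a ha
      exact ⟨k, hk, by rw [horb a (hAK' ha), horb k (hKK' hk), h]⟩)
  have hsolv' : Group.IsSolvable K' :=
    Group.isSolvable_of_isSolvable_injective (Subgroup.inclusion_injective hlt.le)
  obtain ⟨k', hk', hfix'⟩ := ih K' hlt hAK' hsolv' (k • x)
    (by
      refine hcop.coprime_dvd_right ?_
      rw [← relIndex_stabilizer_smul K x hk]
      exact relIndex_dvd_of_le_normalizer _ hlt.le hKK')
    (by
      intro a ha
      have h := hfix a ha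
      rw [horb k (hKK' hk), horb a (hAK' ha)] at h
      have h2 : a • k • x ∈ MulAction.orbit K' (k • x) := h ▸ MulAction.mem_orbit_self _
      obtain ⟨k', hk'⟩ := h2
      exact ⟨k', k'.2, hk'.symm⟩)
  exact ⟨k' * k, K.mul_mem (hlt.le hk') hk, by simpa only [mul_smul] using hfix'⟩

/-- Fixed point lemma for a `p`-group `A`: only the orbit length needs to be prime to `p`. -/
theorem exists_fixed_of_isPGroup [Finite G] {p : ℕ} [Fact p.Prime] (A K : Subgroup G)
    (hA : IsPGroup p A) (hAK : A ≤ Subgroup.normalizer (K : Set G)) (x : X)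
    (hcop : ¬ p ∣ (MulAction.stabilizer G x).relIndex K)
    (hx : ∀ a ∈ A, ∃ k ∈ K, a • x = k • x) :
    ∃ k ∈ K, ∀ a ∈ A, a • k • x = k • x := by
  let O : SubMulAction A X :=
    { carrier := MulAction.orbit K x
      smul_mem' := by
        rintro a _ ⟨k, rfl⟩
        obtain ⟨k', hk', h⟩ := hx a a.2
        refine ⟨⟨a * k * (a : G)⁻¹ * k', K.mul_mem (conj_mem_of_le_normalizer hAK a.2 k.2) hk'⟩, ?_⟩
        simp only [Subgroup.mk_smul, mul_smul, ← h, inv_smul_smul]
        rfl }
  have hcard : Nat.card O = (MulAction.stabilizer G x).relIndex K := by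
    have : Nat.card (MulAction.orbit K x) = (MulAction.stabilizer K x).index :=
      Nat.card_congr (MulAction.orbitEquivQuotientStabilizer K x)
    exact this
  obtain ⟨⟨_, k, rfl⟩, hy⟩ := hA.nonempty_fixed_point_of_prime_not_dvd_card O (hcard ▸ hcop)
  refine ⟨k, k.2, fun a ha => ?_⟩
  exact congrArg Subtype.val (hy ⟨a, ha⟩)

/-- Part (b) of Glauberman's lemma from part (a) for the coset space of `A`. -/
theorem fixed_conj_of_exists_fixed (A K : Subgroup G)
    (hAK : A ≤ Subgroup.normalizer (K : Set G)) (hdisj : Disjoint A K) (x : X) (k : G) (hk : k ∈ K)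
    (hx : ∀ a ∈ A, a • x = x) (hy : ∀ a ∈ A, a • k • x = k • x)
    (h : ∀ z : G ⧸ A, (∀ a ∈ A, ∃ s ∈ K ⊓ MulAction.stabilizer G x, a • z = s • z) →
      ∃ s ∈ K ⊓ MulAction.stabilizer G x, ∀ a ∈ A, a • s • z = s • z) :
    ∃ c ∈ K ⊓ Subgroup.centralizer (A : Set G), c • x = k • x := by
  obtain ⟨s, hsKx, hs⟩ := h (QuotientGroup.mk k⁻¹) (by
    intro a ha
    refine ⟨a * k⁻¹ * a⁻¹ * k, Subgroup.mem_inf.mpr
      ⟨K.mul_mem (conj_mem_of_le_normalizer hAK ha (K.inv_mem hk)) hk, ?_⟩, ?_⟩
    · rw [MulAction.mem_stabilizer_iff, mul_smul, mul_smul, mul_smul,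
        hy _ (A.inv_mem ha), inv_smul_smul, hx a ha]
    · simp only [MulAction.Quotient.smul_mk, smul_eq_mul, QuotientGroup.eq]
      simpa [mul_assoc] using ha)
  obtain ⟨hsK, hsx⟩ := Subgroup.mem_inf.mp hsKx
  rw [MulAction.mem_stabilizer_iff] at hsx
  have hc : s * k⁻¹ ∈ K := K.mul_mem hsK (K.inv_mem hk)
  refine ⟨(s * k⁻¹)⁻¹, Subgroup.mem_inf.mpr ⟨K.inv_mem hc, ?_⟩, ?_⟩
  · rw [Subgroup.mem_centralizer_iff]
    intro a ha
    have h1 := hs a ha
    simp only [MulAction.Quotient.smul_mk, smul_eq_mul, QuotientGroup.eq] at h1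
    have h2 : (s * k⁻¹)⁻¹ * a⁻¹ * (s * k⁻¹) * a ∈ A := by
      have := A.mul_mem h1 ha
      simpa [mul_assoc] using this
    have h3 : (s * k⁻¹)⁻¹ * a⁻¹ * (s * k⁻¹) * a ∈ K := by
      have := K.mul_mem (K.inv_mem hc) (inv_conj_mem_of_le_normalizer hAK ha hc)
      simpa [mul_assoc] using this
    have h4 := Subgroup.disjoint_def.mp hdisj h2 h3
    generalize s * k⁻¹ = c at h4
    calc a * c⁻¹ = a * (c⁻¹ * a⁻¹ * c * a)⁻¹ * c⁻¹ := by rw [h4]; simp
      _ = c⁻¹ * a := by group
  · rw [mul_inv_rev, inv_inv, mul_smul, inv_smul_eq_iff.mpr hsx.symm]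

/-- A nontrivial finite solvable group `A` is `B P` with `B < A` normal and `P` a `p`-group. -/
theorem exists_normal_sup_pgroup [Finite G] (A : Subgroup G) (hA : Group.IsSolvable A)
    (hA1 : A ≠ ⊥) : ∃ (B P : Subgroup G) (p : ℕ), p.Prime ∧ B < A ∧
      A ≤ Subgroup.normalizer (B : Set G) ∧ IsPGroup p P ∧ p ∣ Nat.card A ∧ B ⊔ P = A ∧
      ¬ p ∣ P.relIndex A := by
  have hlt : ⁅A, A⁆ < A := commutator_lt_of_solvable hA hA1
  obtain ⟨B, hB1, hB2⟩ := exists_le_covBy_of_lt hlt
  have hidx : B.relIndex A ≠ 1 := by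
    rw [Ne, Subgroup.relIndex_eq_one]
    exact hB2.lt.not_ge
  obtain ⟨p, hp, hpd⟩ := Nat.exists_prime_and_dvd hidx
  have : Fact p.Prime := ⟨hp⟩
  obtain ⟨P⟩ : Nonempty (Sylow p A) := inferInstance
  have hPA : (P : Subgroup A).map A.subtype ≤ A := Subgroup.map_subtype_le _
  have hPi : ¬ p ∣ ((P : Subgroup A).map A.subtype).relIndex A := by
    rw [Subgroup.relIndex, Subgroup.subgroupOf, Subgroup.comap_map_eq_self_of_injective
      A.subtype_injective]
    exact P.not_dvd_index
  refine ⟨B, (P : Subgroup A).map A.subtype, p, hp, hB2.lt,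
    le_normalizer_of_commutator_le hB2.le hB1, P.isPGroup'.map _,
    hpd.trans (Subgroup.relIndex_dvd_card _ _), ?_, hPi⟩
  refine (hB2.eq_or_eq le_sup_left (sup_le hB2.le hPA)).resolve_left fun h => hPi ?_
  exact hpd.trans (Subgroup.relIndex_dvd_of_le_left _ (sup_eq_left.mp h))

theorem exists_fixed_of_solvable_left_aux [Finite G] (A : Subgroup G) (hA : Group.IsSolvable A) :
    ∀ (K : Subgroup G) (_ : A ≤ Subgroup.normalizer (K : Set G))
      (_ : (Nat.card A).Coprime (Nat.card K)) {Y : Type u} [MulAction G Y] (x : Y)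
      (_ : ∀ a ∈ A, ∃ k ∈ K, a • x = k • x), ∃ k ∈ K, ∀ a ∈ A, a • k • x = k • x := by
  induction A using WellFoundedLT.induction with | ind A ih
  intro K hAK hcop Y _ x hx
  by_cases hA1 : A = ⊥
  · subst hA1
    refine ⟨1, Subgroup.one_mem _, fun a ha => ?_⟩
    rw [Subgroup.mem_bot] at ha
    simp [ha]
  obtain ⟨B, P, p, hp, hBA, hAB, hP, hpA, hsup, -⟩ := exists_normal_sup_pgroup A hA hA1
  have : Fact p.Prime := ⟨hp⟩
  have hB : Group.IsSolvable B :=
    Group.isSolvable_of_isSolvable_injective (Subgroup.inclusion_injective hBA.le)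
  have hBK : B ≤ Subgroup.normalizer (K : Set G) := hBA.le.trans hAK
  have hcopB : (Nat.card B).Coprime (Nat.card K) :=
    hcop.coprime_dvd_left (Subgroup.card_dvd_of_le hBA.le)
  have hPA : P ≤ A := hsup ▸ le_sup_right
  obtain ⟨k, hk, hfix⟩ := ih B hBA hB K hBK hcopB x fun a ha => hx a (hBA.le ha)
  have hC : A ≤ Subgroup.normalizer ((K ⊓ Subgroup.centralizer (B : Set G) : Subgroup G) : Set G) :=
    le_normalizer_inf hAK (le_normalizer_centralizer hAB)
  obtain ⟨c, hc, hfixc⟩ := exists_fixed_of_isPGroup P (K ⊓ Subgroup.centralizer (B : Set G)) hP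
    (hPA.trans hC) (k • x)
    (by
      intro h
      have h1 : p ∣ Nat.card K :=
        h.trans ((Subgroup.relIndex_dvd_card _ _).trans (Subgroup.card_dvd_of_le inf_le_left))
      exact hp.one_lt.ne' (Nat.eq_one_of_dvd_coprimes hcop hpA h1))
    (by
      intro a ha
      have haA := hPA ha
      obtain ⟨k', hk', h'⟩ := hx a haA
      have e : a • k • x = (a * k * a⁻¹ * k' * k⁻¹) • k • x := by
        simp only [mul_smul, inv_smul_smul, ← h']
      have hk'' : a * k * a⁻¹ * k' * k⁻¹ ∈ K :=
        K.mul_mem (K.mul_mem (conj_mem_of_le_normalizer hAK haA hk) hk') (K.inv_mem hk)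
      rw [e]
      obtain ⟨c, hc, hc'⟩ := fixed_conj_of_exists_fixed B K hBK
        (Subgroup.disjoint_of_coprime_natCard hcopB) (k • x) _ hk'' hfix
        (by
          intro b hb
          rw [← e]
          have := hfix _ (inv_conj_mem_of_le_normalizer hAB haA hb)
          rw [mul_smul, mul_smul, inv_smul_eq_iff] at this
          exact this)
        (by
          intro z hz
          refine ih B hBA hB _ (le_normalizer_inf hBK ?_)
            (hcopB.coprime_dvd_right (Subgroup.card_dvd_of_le inf_le_left)) z hz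
          exact le_trans (fun b hb => hfix b hb) Subgroup.le_normalizer)
      exact ⟨c, hc, hc'.symm⟩)
  refine ⟨c * k, K.mul_mem hc.1 hk, ?_⟩
  have : A ≤ MulAction.stabilizer G ((c * k) • x) := by
    rw [← hsup, sup_le_iff]
    constructor
    · intro b hb
      rw [MulAction.mem_stabilizer_iff, mul_smul, ← mul_smul,
        Subgroup.mem_centralizer_iff.mp hc.2 b hb, mul_smul, hfix b hb]
    · intro a ha
      rw [MulAction.mem_stabilizer_iff, mul_smul, hfixc a ha]
  exact fun a ha => this ha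

/-- Fixed point lemma, solvable `A`. -/
theorem exists_fixed_of_solvable_left [Finite G] (A K : Subgroup G)
    (hAK : A ≤ Subgroup.normalizer (K : Set G)) (hA : Group.IsSolvable A)
    (hcop : (Nat.card A).Coprime (Nat.card K)) (x : X)
    (hx : ∀ a ∈ A, ∃ k ∈ K, a • x = k • x) :
    ∃ k ∈ K, ∀ a ∈ A, a • k • x = k • x := by
  obtain ⟨k, hk, h⟩ := exists_fixed_of_solvable_left_aux A hA K hAK hcop
    (QuotientGroup.mk 1 : G ⧸ MulAction.stabilizer G x) (by
      intro a ha
      obtain ⟨k, hk, h⟩ := hx a ha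
      refine ⟨k, hk, ?_⟩
      simp only [MulAction.Quotient.smul_mk, smul_eq_mul, QuotientGroup.eq, mul_one,
        MulAction.mem_stabilizer_iff, mul_smul, inv_smul_eq_iff]
      exact h.symm)
  refine ⟨k, hk, fun a ha => ?_⟩
  have := h a ha
  simp only [MulAction.Quotient.smul_mk, smul_eq_mul, QuotientGroup.eq, mul_one,
    MulAction.mem_stabilizer_iff, mul_smul, inv_smul_eq_iff] at this
  exact this.symm

/-- **Glauberman's lemma**, part (a): if `A` normalises `K`, the orders are coprime, one of the two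
is solvable, and the `K`-orbit of `x` is `A`-invariant, then `A` fixes a point of that orbit. -/
theorem exists_fixed_of_coprime [Finite G] (A K : Subgroup G)
    (hAK : A ≤ Subgroup.normalizer (K : Set G)) (hcop : (Nat.card A).Coprime (Nat.card K))
    (hsolv : Group.IsSolvable A ∨ Group.IsSolvable K) (x : X)
    (hx : ∀ a ∈ A, ∃ k ∈ K, a • x = k • x) :
    ∃ k ∈ K, ∀ a ∈ A, a • k • x = k • x := by
  rcases hsolv with h | h
  · exact exists_fixed_of_solvable_left A K hAK h hcop x hx
  · exact exists_fixed_of_solvable_right A K hAK h x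
      (hcop.coprime_dvd_right (Subgroup.relIndex_dvd_card _ _)) hx

theorem solvable_or_of_le {A K L : Subgroup G} (hLK : L ≤ K)
    (hsolv : Group.IsSolvable A ∨ Group.IsSolvable K) :
    Group.IsSolvable A ∨ Group.IsSolvable L :=
  hsolv.imp id (solvable_of_le hLK)

/-- **Glauberman's lemma**, part (b): two `A`-fixed points in one `K`-orbit are conjugate under
`C_K(A)`. -/
theorem fixed_conj_of_coprime [Finite G] (A K : Subgroup G)
    (hAK : A ≤ Subgroup.normalizer (K : Set G)) (hcop : (Nat.card A).Coprime (Nat.card K))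
    (hsolv : Group.IsSolvable A ∨ Group.IsSolvable K) (x : X) (k : G) (hk : k ∈ K)
    (hx : ∀ a ∈ A, a • x = x) (hy : ∀ a ∈ A, a • k • x = k • x) :
    ∃ c ∈ K ⊓ Subgroup.centralizer (A : Set G), c • x = k • x := by
  refine fixed_conj_of_exists_fixed A K hAK (Subgroup.disjoint_of_coprime_natCard hcop) x k hk
    hx hy fun z hz => ?_
  exact exists_fixed_of_coprime A _
    (le_normalizer_inf hAK (le_trans (fun b hb => hx b hb) Subgroup.le_normalizer))
    (hcop.coprime_dvd_right (Subgroup.card_dvd_of_le inf_le_left))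
    (solvable_or_of_le inf_le_left hsolv) z hz

/-- Group-theoretic form: if `A ⊆ K S` then some `K`-conjugate of `S` contains `A`. -/
theorem exists_conj_le_of_coprime [Finite G] (A K S : Subgroup G)
    (hAK : A ≤ Subgroup.normalizer (K : Set G)) (hcop : (Nat.card A).Coprime (Nat.card K))
    (hsolv : Group.IsSolvable A ∨ Group.IsSolvable K)
    (hx : ∀ a ∈ A, ∃ k ∈ K, ∃ s ∈ S, a = k * s) :
    ∃ k ∈ K, A ≤ MulAut.conj k • S := by
  obtain ⟨k, hk, h⟩ := exists_fixed_of_coprime A K hAK hcop hsolv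
    (QuotientGroup.mk 1 : G ⧸ S) (by
      intro a ha
      obtain ⟨k, hk, s, hs, rfl⟩ := hx a ha
      refine ⟨k, hk, ?_⟩
      simp only [MulAction.Quotient.smul_mk, smul_eq_mul, QuotientGroup.eq, mul_one]
      simpa using hs)
  refine ⟨k, hk, fun a ha => ?_⟩
  have := h a⁻¹ (A.inv_mem ha)
  simp only [MulAction.Quotient.smul_mk, smul_eq_mul, QuotientGroup.eq, mul_one] at this
  rw [Subgroup.mem_pointwise_smul_iff_inv_smul_mem]
  simpa [mul_assoc] using this

end H1
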