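import Mathlib
import Cfsg.Agent.H1.Glauberman
import Cfsg.Agent.H2.Cores

/-!
# Coprime action (ambient form) and the conjugacy half of Schur–Zassenhaus
-/

set_option autoImplicit false

open scoped Pointwise commutatorElement IsMulCommutative

namespace H1

universe u v

variable {G : Type u} [Group G]

theorem mem_conj_smul {g x : G} {S : Subgroup G} : x ∈ MulAut.conj g • S ↔ g⁻¹ * x * g ∈ S := by
  rw [Subgroup.mem_pointwise_smul_iff_inv_smul_mem]; simp

theorem conj_smul_eq_iff_mem_normalizer {g : G} {S : Subgroup G} :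
    MulAut.conj g • S = S ↔ g ∈ Subgroup.normalizer (S : Set G) :=
  Subgroup.mem_normalizer_iff_map_conj_eq.symm

theorem conj_smul_eq_map (g : G) (S : Subgroup G) :
    MulAut.conj g • S = S.map (MulAut.conj g).toMonoidHom := rfl

theorem conj_mul_smul (g h : G) (S : Subgroup G) :
    MulAut.conj (g * h) • S = MulAut.conj g • MulAut.conj h • S := by
  rw [map_mul, mul_smul]

theorem card_conj_smul (g : G) (S : Subgroup G) :
    Nat.card (MulAut.conj g • S : Subgroup G) = Nat.card S :=
  Subgroup.card_map_of_injective (MulAut.conj g).injective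

theorem relIndex_conj_smul_of_mem_normalizer {g : G} (S K : Subgroup G)
    (hg : g ∈ Subgroup.normalizer (K : Set G)) :
    (MulAut.conj g • S).relIndex K = S.relIndex K := by
  conv_lhs => rw [← conj_smul_eq_iff_mem_normalizer.mpr hg]
  exact Subgroup.relIndex_map_map_of_injective _ _ (MulAut.conj g).injective

theorem conj_smul_le_of_mem_normalizer {g : G} {S K : Subgroup G} (hSK : S ≤ K)
    (hg : g ∈ Subgroup.normalizer (K : Set G)) : MulAut.conj g • S ≤ K := by
  rw [← conj_smul_eq_iff_mem_normalizer.mpr hg]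
  exact Subgroup.pointwise_smul_le_pointwise_smul_iff.mpr hSK

theorem normalizer_conj_smul (g : G) (S : Subgroup G) :
    Subgroup.normalizer ((MulAut.conj g • S : Subgroup G) : Set G) =
      MulAut.conj g • Subgroup.normalizer (S : Set G) :=
  (Subgroup.map_equiv_normalizer_eq S (MulAut.conj g)).symm

theorem centralizer_conj_smul (g : G) (S : Subgroup G) :
    Subgroup.centralizer ((MulAut.conj g • S : Subgroup G) : Set G) =
      MulAut.conj g • Subgroup.centralizer (S : Set G) := by
  ext x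
  rw [mem_conj_smul, Subgroup.mem_centralizer_iff, Subgroup.mem_centralizer_iff]
  constructor
  · intro h s hs
    have := h (g * s * g⁻¹) (mem_conj_smul.mpr (by simpa [mul_assoc] using hs))
    calc s * (g⁻¹ * x * g) = g⁻¹ * (g * s * g⁻¹ * x) * g := by group
      _ = g⁻¹ * x * g * s := by rw [this]; group
  · intro h s hs
    have := h _ (mem_conj_smul.mp hs)
    calc s * x = g * (g⁻¹ * s * g * (g⁻¹ * x * g)) * g⁻¹ := by group
      _ = x * s := by rw [this]; group

/-- conjugation action of `G` on its subgroups (not an instance). -/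
@[reducible] def conjSubgroupAction (G : Type u) [Group G] : MulAction G (Subgroup G) :=
  MulAction.compHom (Subgroup G) (MulAut.conj : G →* MulAut G)

/-- conjugating a subgroup of `K` by an element normalising `K`. -/
theorem conj_smul_map_subtype (K : Subgroup G) (a : G) (ha : a ∈ Subgroup.normalizer (K : Set G))
    (P : Subgroup K) : MulAut.conj a • P.map K.subtype =
      (Subgroup.normalizerMonoidHom K ⟨a, ha⟩ • P).map K.subtype := by
  exact (Subgroup.map_map _ _ _).trans
    (Subgroup.map_map P K.subtype (Subgroup.normalizerMonoidHom K ⟨a, ha⟩).toMonoidHom).symm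

theorem conj_coe_smul_map_subtype (K : Subgroup G) (k : K) (P : Subgroup K) :
    MulAut.conj (k : G) • P.map K.subtype = (MulAut.conj k • P).map K.subtype := by
  exact (Subgroup.map_map _ _ _).trans
    (Subgroup.map_map P K.subtype (MulAut.conj k).toMonoidHom).symm

/-- a group normalising `K` normalises every characteristic subgroup of `K`. -/
theorem le_normalizer_map_subtype {A K : Subgroup G} (hAK : A ≤ Subgroup.normalizer (K : Set G))
    (H : Subgroup K) [hH : H.Characteristic] :
    A ≤ Subgroup.normalizer ((H.map K.subtype : Subgroup G) : Set G) := by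
  intro a ha
  rw [← conj_smul_eq_iff_mem_normalizer, conj_smul_map_subtype K a (hAK ha)]
  congr 1
  exact Subgroup.characteristic_iff_map_eq.mp hH _

/-- the normaliser condition, for subgroups of an ambient group. -/
theorem lt_inf_normalizer_of_nilpotent {H K : Subgroup G} (hK : Group.IsNilpotent K) (h : H < K) :
    H < K ⊓ Subgroup.normalizer (H : Set G) := by
  have h1 : H.subgroupOf K < ⊤ := by
    rw [lt_top_iff_ne_top, Ne, Subgroup.subgroupOf_eq_top]
    exact h.not_ge
  have h2 := Group.normalizerCondition_of_isNilpotent (G := K) _ h1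
  rw [← Subgroup.subgroupOf_normalizer_eq h.le] at h2
  refine lt_of_le_of_ne (le_inf h.le Subgroup.le_normalizer) fun e => h2.ne ?_
  rw [← Subgroup.inf_subgroupOf_left (Subgroup.normalizer (H : Set G)) K, ← e]

theorem eq_of_inf_normalizer_le {H K : Subgroup G} (hK : Group.IsNilpotent K) (hHK : H ≤ K)
    (h : K ⊓ Subgroup.normalizer (H : Set G) ≤ H) : H = K := by
  by_contra hne
  exact (lt_inf_normalizer_of_nilpotent hK (lt_of_le_of_ne hHK hne)).not_ge h

theorem mem_sup_of_le_normalizer {N H : Subgroup G} (h : H ≤ Subgroup.normalizer (N : Set G))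
    {g : G} : g ∈ N ⊔ H ↔ ∃ n ∈ N, ∃ x ∈ H, g = n * x := by
  rw [← SetLike.mem_coe, Subgroup.coe_mul_of_right_le_normalizer_left N H h, Set.mem_mul]
  simp only [SetLike.mem_coe, eq_comm]

theorem mem_sup_of_le_normalizer' {N H : Subgroup G} (h : H ≤ Subgroup.normalizer (N : Set G))
    {g : G} : g ∈ H ⊔ N ↔ ∃ x ∈ H, ∃ n ∈ N, g = x * n := by
  rw [← SetLike.mem_coe, Subgroup.coe_mul_of_left_le_normalizer_right H N h, Set.mem_mul]
  simp only [SetLike.mem_coe, eq_comm]

theorem solvable_of_isPGroup [Finite G] {p : ℕ} [Fact p.Prime] (h : IsPGroup p G) :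
    Group.IsSolvable G :=
  have := h.isNilpotent
  inferInstance

theorem card_coprime_of_isPGroup [Finite G] {p n : ℕ} (h : IsPGroup p G) (hn : n.Coprime p) :
    n.Coprime (Nat.card G) := by
  obtain ⟨k, hk⟩ := isPGroup_iff_card_dvd_pow.mp h
  exact (hn.pow_right k).coprime_dvd_right hk

variable [Finite G]

/-- If every `A`-conjugate of `S` is a `K`-conjugate, some `K`-conjugate of `S` is `A`-invariant. -/
theorem exists_conj_normalized (A K S : Subgroup G)
    (hAK : A ≤ Subgroup.normalizer (K : Set G)) (hcop : (Nat.card A).Coprime (Nat.card K))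
    (hsolv : Group.IsSolvable A ∨ Group.IsSolvable K)
    (hS : ∀ a ∈ A, ∃ k ∈ K, MulAut.conj a • S = MulAut.conj k • S) :
    ∃ k ∈ K, A ≤ Subgroup.normalizer ((MulAut.conj k • S : Subgroup G) : Set G) := by
  let := conjSubgroupAction G
  obtain ⟨k, hk, h⟩ := exists_fixed_of_coprime A K hAK hcop hsolv S hS
  exact ⟨k, hk, fun a ha => conj_smul_eq_iff_mem_normalizer.mp (h a ha)⟩

/-- Version of `exists_conj_normalized` for solvable `K`: only the number of `K`-conjugates
needs to be prime to `|A|`. -/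
theorem exists_conj_normalized_of_solvable (A K S : Subgroup G)
    (hAK : A ≤ Subgroup.normalizer (K : Set G)) (hK : Group.IsSolvable K)
    (hcop : (Nat.card A).Coprime ((Subgroup.normalizer (S : Set G)).relIndex K))
    (hS : ∀ a ∈ A, ∃ k ∈ K, MulAut.conj a • S = MulAut.conj k • S) :
    ∃ k ∈ K, A ≤ Subgroup.normalizer ((MulAut.conj k • S : Subgroup G) : Set G) := by
  let := conjSubgroupAction G
  have e : MulAction.stabilizer G S = Subgroup.normalizer (S : Set G) := by
    ext g
    exact conj_smul_eq_iff_mem_normalizer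
  obtain ⟨k, hk, h⟩ := exists_fixed_of_solvable_right A K hAK hK S (e ▸ hcop) hS
  exact ⟨k, hk, fun a ha => conj_smul_eq_iff_mem_normalizer.mp (h a ha)⟩

/-- Two `A`-invariant subgroups conjugate under `K` are conjugate under `C_K(A)`. -/
theorem exists_centralizer_conj (A K S : Subgroup G)
    (hAK : A ≤ Subgroup.normalizer (K : Set G)) (hcop : (Nat.card A).Coprime (Nat.card K))
    (hsolv : Group.IsSolvable A ∨ Group.IsSolvable K) (k : G) (hk : k ∈ K)
    (hS : A ≤ Subgroup.normalizer (S : Set G))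
    (hT : A ≤ Subgroup.normalizer ((MulAut.conj k • S : Subgroup G) : Set G)) :
    ∃ c ∈ K ⊓ Subgroup.centralizer (A : Set G), MulAut.conj c • S = MulAut.conj k • S := by
  let := conjSubgroupAction G
  exact fixed_conj_of_coprime A K hAK hcop hsolv S k hk
    (fun a ha => conj_smul_eq_iff_mem_normalizer.mpr (hS ha))
    (fun a ha => conj_smul_eq_iff_mem_normalizer.mpr (hT ha))

/-- Schur–Zassenhaus conjugacy, ambient form: `H` normalises `N` coprimely, `K ≤ N H` has the
order of `H`. -/
theorem exists_conj_eq_of_le_sup (N H K : Subgroup G)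
    (hHN : H ≤ Subgroup.normalizer (N : Set G)) (hKN : K ≤ Subgroup.normalizer (N : Set G))
    (hcop : (Nat.card K).Coprime (Nat.card N))
    (hsolv : Group.IsSolvable K ∨ Group.IsSolvable N) (hK : K ≤ N ⊔ H)
    (hcard : Nat.card H ≤ Nat.card K) : ∃ n ∈ N, MulAut.conj n • H = K := by
  obtain ⟨n, hn, h⟩ := exists_conj_le_of_coprime K N H hKN hcop hsolv
    fun a ha => (mem_sup_of_le_normalizer hHN).mp (hK ha)
  exact ⟨n, hn, (Subgroup.eq_of_le_of_card_ge h (by rwa [card_conj_smul])).symm⟩

/-- **Schur–Zassenhaus**, conjugacy of complements (by an element of `N`). -/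
theorem schur_zassenhaus_conj (N : Subgroup G) [N.Normal]
    (hN : (Nat.card N).Coprime N.index) (hsolv : Group.IsSolvable N ∨ Group.IsSolvable (G ⧸ N))
    (H K : Subgroup G) (hH : Subgroup.IsComplement' N H) (hK : Subgroup.IsComplement' N K) :
    ∃ g ∈ N, MulAut.conj g • H = K := by
  have h1 : Nat.card H = N.index := hH.symm.index_eq_card.symm
  have h2 : Nat.card K = N.index := hK.symm.index_eq_card.symm
  refine exists_conj_eq_of_le_sup N H K Subgroup.le_normalizer_of_normal
    Subgroup.le_normalizer_of_normal (h2 ▸ hN.symm) ?_ (by rw [hH.sup_eq_top]; exact le_top)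
    (by rw [h1, h2])
  rcases hsolv with h | h
  · exact Or.inr h
  · exact Or.inl (Group.isSolvable_of_surjective
      (f := (hK.symm.QuotientMulEquiv : G ⧸ N →* K)) hK.symm.QuotientMulEquiv.surjective)

/-- `N_{G/N}(A N / N)` is the image of `N_G(A)`. -/
theorem exists_mul_mem_normalizer (A N : Subgroup G)
    (hAN : A ≤ Subgroup.normalizer (N : Set G)) (hcop : (Nat.card A).Coprime (Nat.card N))
    (hsolv : Group.IsSolvable A ∨ Group.IsSolvable N) (g : G)
    (hg : ∀ a ∈ A, ∃ n ∈ N, g⁻¹ * n⁻¹ * a * g ∈ A) :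
    ∃ n ∈ N, n * g ∈ Subgroup.normalizer (A : Set G) := by
  obtain ⟨n, hn, h⟩ := exists_fixed_of_coprime A N hAN hcop hsolv (QuotientGroup.mk g : G ⧸ A) (by
    intro a ha
    obtain ⟨n, hn, h⟩ := hg a ha
    refine ⟨n, hn, ?_⟩
    simp only [MulAction.Quotient.smul_mk, smul_eq_mul]
    rw [eq_comm, QuotientGroup.eq]
    simpa [mul_assoc] using h)
  refine ⟨n, hn, ?_⟩
  rw [← inv_mem_iff]
  apply Subgroup.mem_normalizer_fintype
  intro a ha
  have := h a⁻¹ (A.inv_mem ha)
  simp only [MulAction.Quotient.smul_mk, smul_eq_mul, QuotientGroup.eq] at this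
  simpa [mul_assoc] using this

/-- `C_{G/N}(A)` is the image of `C_G(A)`: if `g` commutes with `A` modulo `N` then some `n g`
centralises `A`. -/
theorem exists_mul_mem_centralizer (A N : Subgroup G)
    (hAN : A ≤ Subgroup.normalizer (N : Set G)) (hcop : (Nat.card A).Coprime (Nat.card N))
    (hsolv : Group.IsSolvable A ∨ Group.IsSolvable N) (g : G)
    (hg : ∀ a ∈ A, a * g * a⁻¹ * g⁻¹ ∈ N) :
    ∃ n ∈ N, n * g ∈ Subgroup.centralizer (A : Set G) := by
  obtain ⟨n, hn, h⟩ := exists_mul_mem_normalizer A N hAN hcop hsolv g (by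
    intro a ha
    exact ⟨_, hg a ha, by simpa [mul_assoc] using ha⟩)
  refine ⟨n, hn, Subgroup.mem_centralizer_iff.mpr fun a ha => ?_⟩
  have h1 : a * (n * g) * a⁻¹ * (n * g)⁻¹ ∈ A := by
    have := A.mul_mem ha ((Subgroup.mem_normalizer_iff.mp h _).mp (A.inv_mem ha))
    simpa only [mul_assoc] using this
  have h2 : a * (n * g) * a⁻¹ * (n * g)⁻¹ ∈ N := by
    have := N.mul_mem (N.mul_mem (conj_mem_of_le_normalizer hAN ha hn) (hg a ha)) (N.inv_mem hn)
    simpa [mul_assoc] using this
  have h3 := Subgroup.disjoint_def.mp (Subgroup.disjoint_of_coprime_natCard hcop) h1 h2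
  exact commutatorElement_eq_one_iff_mul_comm.mp h3

/-- right-handed version of `exists_mul_mem_centralizer`. -/
theorem exists_mul_mem_centralizer' (A N : Subgroup G)
    (hAN : A ≤ Subgroup.normalizer (N : Set G)) (hcop : (Nat.card A).Coprime (Nat.card N))
    (hsolv : Group.IsSolvable A ∨ Group.IsSolvable N) (g : G)
    (hg : ∀ a ∈ A, g⁻¹ * (a * g * a⁻¹) ∈ N) :
    ∃ n ∈ N, g * n ∈ Subgroup.centralizer (A : Set G) := by
  obtain ⟨n, hn, h⟩ := exists_mul_mem_centralizer A N hAN hcop hsolv g⁻¹ (by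
    intro a ha
    have := N.inv_mem (hg a ha)
    simpa [mul_assoc] using this)
  exact ⟨n⁻¹, N.inv_mem hn, by simpa using Subgroup.inv_mem _ h⟩

/-- image of the centraliser in a quotient by a normal subgroup of coprime order. -/
theorem map_centralizer_mk' (A N : Subgroup G) [N.Normal]
    (hcop : (Nat.card A).Coprime (Nat.card N))
    (hsolv : Group.IsSolvable A ∨ Group.IsSolvable N) :
    (Subgroup.centralizer (A : Set G)).map (QuotientGroup.mk' N) =
      Subgroup.centralizer ((A.map (QuotientGroup.mk' N) : Subgroup (G ⧸ N)) : Set (G ⧸ N)) := by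
  apply le_antisymm
  · rintro _ ⟨c, hc, rfl⟩
    rw [Subgroup.mem_centralizer_iff]
    rintro _ ⟨a, ha, rfl⟩
    rw [← map_mul, ← map_mul, Subgroup.mem_centralizer_iff.mp hc a ha]
  · intro x hx
    obtain ⟨g, rfl⟩ := QuotientGroup.mk'_surjective N x
    obtain ⟨n, hn, h⟩ := exists_mul_mem_centralizer A N Subgroup.le_normalizer_of_normal hcop hsolv
      g (by
        intro a ha
        rw [← QuotientGroup.eq_one_iff]
        have := Subgroup.mem_centralizer_iff.mp hx _ ⟨a, ha, rfl⟩
        simp only [QuotientGroup.mk'_apply] at this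
        simp [this])
    refine ⟨n * g, h, ?_⟩
    simp [(QuotientGroup.eq_one_iff n).mpr hn]

/-- image of the normaliser in a quotient by a normal subgroup of coprime order. -/
theorem map_normalizer_mk' (A N : Subgroup G) [hN : N.Normal]
    (hcop : (Nat.card A).Coprime (Nat.card N))
    (hsolv : Group.IsSolvable A ∨ Group.IsSolvable N) :
    (Subgroup.normalizer (A : Set G)).map (QuotientGroup.mk' N) =
      Subgroup.normalizer ((A.map (QuotientGroup.mk' N) : Subgroup (G ⧸ N)) : Set (G ⧸ N)) := by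
  apply le_antisymm (Subgroup.le_normalizer_map _)
  intro x hx
  obtain ⟨g, rfl⟩ := QuotientGroup.mk'_surjective N x
  obtain ⟨n, hn, h⟩ := exists_mul_mem_normalizer A N Subgroup.le_normalizer_of_normal hcop hsolv
    g (by
      intro a ha
      obtain ⟨b, hb, e⟩ := (Subgroup.mem_normalizer_iff''.mp hx _).mp ⟨a, ha, rfl⟩
      simp only [QuotientGroup.mk'_apply, ← QuotientGroup.mk_inv, ← QuotientGroup.mk_mul,
        QuotientGroup.eq] at e
      refine ⟨g * (g⁻¹ * a * g * b⁻¹) * g⁻¹, hN.conj_mem _ ?_ g, ?_⟩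
      · have := hN.conj_mem _ e b
        simpa [mul_assoc] using this
      · simpa [mul_assoc] using hb)
  refine ⟨n * g, h, ?_⟩
  simp [(QuotientGroup.eq_one_iff n).mpr hn]

section Standard

variable (A K : Subgroup G) (hAK : A ≤ Subgroup.normalizer (K : Set G))
  (hcop : (Nat.card A).Coprime (Nat.card K)) (hsolv : Group.IsSolvable A ∨ Group.IsSolvable K)

include hAK hcop hsolv

/-- `K = [K, A] C_K(A)`, elementwise. -/
theorem exists_commutator_mul_centralizer (k : G) (hk : k ∈ K) :
    ∃ n ∈ ⁅K, A⁆, ∃ c ∈ K ⊓ Subgroup.centralizer (A : Set G), k = n * c := by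
  have hle : ⁅K, A⁆ ≤ K := Subgroup.le_normalizer_iff_commutator_le_left.mp hAK
  obtain ⟨n, hn, h⟩ := exists_mul_mem_centralizer A ⁅K, A⁆
    (Subgroup.normalizer_commutator_ge_right K A)
    (hcop.coprime_dvd_right (Subgroup.card_dvd_of_le hle)) (solvable_or_of_le hle hsolv) k
    (fun a ha => by
      rw [Subgroup.commutator_comm]
      exact Subgroup.commutator_mem_commutator ha hk)
  exact ⟨n⁻¹, Subgroup.inv_mem _ hn, n * k, ⟨K.mul_mem (hle hn) hk, h⟩, by simp⟩

/-- `K = [K, A] C_K(A)`. -/
theorem commutator_sup_centralizer : ⁅K, A⁆ ⊔ (K ⊓ Subgroup.centralizer (A : Set G)) = K := by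
  refine le_antisymm (sup_le (Subgroup.le_normalizer_iff_commutator_le_left.mp hAK) inf_le_left) ?_
  intro k hk
  obtain ⟨n, hn, c, hc, rfl⟩ := exists_commutator_mul_centralizer A K hAK hcop hsolv k hk
  exact Subgroup.mul_mem_sup hn hc

/-- `[K, A, A] = [K, A]`. -/
theorem commutator_commutator_eq : ⁅⁅K, A⁆, A⁆ = ⁅K, A⁆ := by
  refine le_antisymm (Subgroup.commutator_mono
    (Subgroup.le_normalizer_iff_commutator_le_left.mp hAK) le_rfl) ?_
  rw [Subgroup.commutator_le]
  intro k hk a ha
  obtain ⟨n, hn, c, hc, rfl⟩ := exists_commutator_mul_centralizer A K hAK hcop hsolv k hk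
  have : ⁅n * c, a⁆ = ⁅n, a⁆ := by
    have h := Subgroup.mem_centralizer_iff.mp hc.2 a ha
    calc ⁅n * c, a⁆ = n * (c * a) * c⁻¹ * n⁻¹ * a⁻¹ := by rw [commutatorElement_def]; group
      _ = ⁅n, a⁆ := by rw [← h, commutatorElement_def]; group
  rw [this]
  exact Subgroup.commutator_mem_commutator hn ha

/-- `[K, A, A] = 1` implies `[K, A] = 1`. -/
theorem le_centralizer_of_commutator_le_centralizer
    (h : ⁅K, A⁆ ≤ Subgroup.centralizer (A : Set G)) : K ≤ Subgroup.centralizer (A : Set G) := by
  rw [← Subgroup.commutator_eq_bot_iff_le_centralizer] at h ⊢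
  rw [← commutator_commutator_eq A K hAK hcop hsolv, h]

/-- there is an `A`-invariant Sylow subgroup. -/
theorem exists_invariant_sylow (p : ℕ) [Fact p.Prime] :
    ∃ P : Sylow p K,
      A ≤ Subgroup.normalizer (((P : Subgroup K).map K.subtype : Subgroup G) : Set G) := by
  obtain ⟨P⟩ : Nonempty (Sylow p K) := inferInstance
  obtain ⟨k, hk, h⟩ := exists_conj_normalized A K ((P : Subgroup K).map K.subtype) hAK hcop hsolv
    (by
      intro a ha
      obtain ⟨k, hk⟩ := MulAction.exists_smul_eq K P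
        (Subgroup.normalizerMonoidHom K ⟨a, hAK ha⟩ • P)
      refine ⟨k, k.2, ?_⟩
      rw [conj_smul_map_subtype K a (hAK ha), conj_coe_smul_map_subtype, ← Sylow.coe_subgroup_smul,
        hk, Sylow.pointwise_smul_def])
  refine ⟨(⟨k, hk⟩ : K) • P, ?_⟩
  rwa [Sylow.coe_subgroup_smul, ← conj_coe_smul_map_subtype]

/-- `A`-invariant Sylow subgroups are conjugate under `C_K(A)`. -/
theorem invariant_sylow_conj (p : ℕ) [Fact p.Prime] (P Q : Sylow p K)
    (hP : A ≤ Subgroup.normalizer (((P : Subgroup K).map K.subtype : Subgroup G) : Set G))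
    (hQ : A ≤ Subgroup.normalizer (((Q : Subgroup K).map K.subtype : Subgroup G) : Set G)) :
    ∃ c : K, (c : G) ∈ Subgroup.centralizer (A : Set G) ∧ MulAut.conj c • P = Q := by
  obtain ⟨k, rfl⟩ := MulAction.exists_smul_eq K P Q
  rw [Sylow.coe_subgroup_smul, ← conj_coe_smul_map_subtype] at hQ
  obtain ⟨c, hc, h⟩ := exists_centralizer_conj A K _ hAK hcop hsolv k k.2 hP hQ
  refine ⟨⟨c, hc.1⟩, hc.2, Sylow.ext ?_⟩
  apply Subgroup.map_injective K.subtype_injective
  rw [Sylow.coe_subgroup_smul, Sylow.pointwise_smul_def, ← conj_coe_smul_map_subtype,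
    ← conj_coe_smul_map_subtype]
  exact h

/-- an `A`-invariant `p`-subgroup lies in an `A`-invariant Sylow subgroup. -/
theorem exists_invariant_sylow_le (p : ℕ) [Fact p.Prime] (U : Subgroup G) (hUK : U ≤ K)
    (hU : IsPGroup p U) (hUA : A ≤ Subgroup.normalizer (U : Set G)) :
    ∃ P : Sylow p K, U ≤ (P : Subgroup K).map K.subtype ∧
      A ≤ Subgroup.normalizer (((P : Subgroup K).map K.subtype : Subgroup G) : Set G) := by
  induction U using WellFoundedGT.induction with | ind U ih
  obtain ⟨P, hP⟩ := (hU.comap_subtype (K := K)).exists_le_sylow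
  have hUP : U ≤ (P : Subgroup K).map K.subtype := by
    intro u hu
    exact ⟨⟨u, hUK hu⟩, hP hu, rfl⟩
  rcases hUP.eq_or_lt with e | hlt
  · exact ⟨P, hUP, e ▸ hUA⟩
  set N := K ⊓ Subgroup.normalizer (U : Set G) with hN
  obtain ⟨Q, hQ⟩ := exists_invariant_sylow A N
    (le_normalizer_inf hAK (le_normalizer_normalizer hUA))
    (hcop.coprime_dvd_right (Subgroup.card_dvd_of_le inf_le_left))
    (solvable_or_of_le inf_le_left hsolv) p
  have hUN : U ≤ N := le_inf hUK Subgroup.le_normalizer
  have hn : (U.comap N.subtype).Normal :=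
    (Subgroup.normal_subgroupOf_iff_le_normalizer hUN).mpr inf_le_right
  have hUQ : U ≤ (Q : Subgroup N).map N.subtype := by
    intro u hu
    exact ⟨⟨u, hUN hu⟩, (hU.comap_subtype (K := N)).le_sylow_of_normal Q hu, rfl⟩
  have hlt2 := lt_inf_normalizer_of_nilpotent (P.isPGroup'.map K.subtype).isNilpotent hlt
  have hlt3 : U < (Q : Subgroup N).map N.subtype := by
    refine lt_of_le_of_ne hUQ fun e => ?_
    set R := (P : Subgroup K).map K.subtype ⊓ Subgroup.normalizer (U : Set G) with hR
    have hRN : R ≤ N := inf_le_inf_right _ (Subgroup.map_subtype_le _)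
    have hRp : IsPGroup p R := (P.isPGroup'.map K.subtype).to_inf_left
    have := Q.is_maximal' (hRp.comap_subtype (K := N)) (by
      rw [← Subgroup.map_le_iff_le_comap, ← e]
      exact hlt2.le)
    apply hlt2.not_ge
    intro r hr
    rw [e, ← this]
    exact ⟨⟨r, hRN hr⟩, hr, rfl⟩
  obtain ⟨P', hP'1, hP'2⟩ := ih _ hlt3 ((Subgroup.map_subtype_le _).trans inf_le_left)
    (Q.isPGroup'.map _) hQ
  exact ⟨P', hlt3.le.trans hP'1, hP'2⟩

end Standard

/-- `C_{XY}(A) = C_X(A) C_Y(A)`; only `X ⊓ Y` has to be coprime to `A`. -/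
theorem exists_centralizer_mul_centralizer (A X Y : Subgroup G)
    (hXA : A ≤ Subgroup.normalizer (X : Set G)) (hYA : A ≤ Subgroup.normalizer (Y : Set G))
    (hcop : (Nat.card A).Coprime (Nat.card (X ⊓ Y : Subgroup G)))
    (hsolv : Group.IsSolvable A ∨ Group.IsSolvable (X ⊓ Y : Subgroup G))
    (x y : G) (hx : x ∈ X) (hy : y ∈ Y) (hk : x * y ∈ Subgroup.centralizer (A : Set G)) :
    ∃ x' ∈ X ⊓ Subgroup.centralizer (A : Set G), ∃ y' ∈ Y ⊓ Subgroup.centralizer (A : Set G),
      x * y = x' * y' := by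
  obtain ⟨d, hd, h⟩ := exists_mul_mem_centralizer' A (X ⊓ Y) (le_normalizer_inf hXA hYA) hcop hsolv
    x (by
      intro a ha
      refine ⟨X.mul_mem (X.inv_mem hx) (conj_mem_of_le_normalizer hXA ha hx), ?_⟩
      have e : x⁻¹ * (a * x * a⁻¹) = y * (a * y * a⁻¹)⁻¹ := by
        have := Subgroup.mem_centralizer_iff.mp hk a ha
        calc x⁻¹ * (a * x * a⁻¹) = x⁻¹ * (a * (x * y)) * y⁻¹ * a⁻¹ := by group
          _ = y * (a * y * a⁻¹)⁻¹ := by rw [this]; group
      rw [e]
      exact Y.mul_mem hy (Y.inv_mem (conj_mem_of_le_normalizer hYA ha hy)))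
  refine ⟨x * d, ⟨X.mul_mem hx hd.1, h⟩, d⁻¹ * y, ⟨Y.mul_mem (Y.inv_mem hd.2) hy, ?_⟩, by group⟩
  have := Subgroup.mul_mem _ (Subgroup.inv_mem _ h) hk
  simpa [mul_assoc] using this

/-- action trivial modulo the Frattini subgroup. -/
theorem le_centralizer_of_frattini (A K : Subgroup G)
    (hAK : A ≤ Subgroup.normalizer (K : Set G))
    (hcop : (Nat.card A).Coprime (Nat.card (frattini K)))
    (htriv : ∀ a ∈ A, ∀ k ∈ K, a * k * a⁻¹ * k⁻¹ ∈ (frattini K).map K.subtype) :
    A ≤ Subgroup.centralizer (K : Set G) := by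
  rw [Subgroup.le_centralizer_iff, ← Subgroup.subgroupOf_eq_top]
  apply frattini_nongenerating
  rw [eq_top_iff]
  rintro ⟨k, hk⟩ -
  have hs : Group.IsSolvable ((frattini K).map K.subtype) := by
    have := H2.isNilpotent_map (frattini_nilpotent (G := K)) K.subtype
    infer_instance
  obtain ⟨_, ⟨n, hn, rfl⟩, h⟩ := exists_mul_mem_centralizer' A ((frattini K).map K.subtype)
    (le_normalizer_map_subtype hAK _) (by rwa [H2.card_map_subtype]) (Or.inr hs) k (by
      intro a ha
      have := htriv a ha k⁻¹ (K.inv_mem hk)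
      simpa [mul_assoc] using Subgroup.inv_mem _ this)
  have : (⟨k, hk⟩ : K) = (⟨k, hk⟩ * n) * n⁻¹ := by simp
  rw [this]
  exact Subgroup.mul_mem_sup h (Subgroup.inv_mem _ hn)

/-- **Thompson's `P × Q` lemma**. -/
theorem p_times_q (p : ℕ) [Fact p.Prime]
    (P Q U : Subgroup G) (hP : IsPGroup p P) (hQ : (Nat.card Q).Coprime p) (hU : IsPGroup p U)
    (hPQ : P ≤ Subgroup.centralizer (Q : Set G))
    (hPU : P ≤ Subgroup.normalizer (U : Set G)) (hQU : Q ≤ Subgroup.normalizer (U : Set G))
    (hC : U ⊓ Subgroup.centralizer (P : Set G) ≤ Subgroup.centralizer (Q : Set G)) :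
    Q ≤ Subgroup.centralizer (U : Set G) := by
  set X := U ⊓ Subgroup.centralizer (Q : Set G) with hX
  have hQP : Q ≤ Subgroup.centralizer (P : Set G) := Subgroup.le_centralizer_iff.mp hPQ
  have hPX : P ≤ Subgroup.normalizer (X : Set G) :=
    le_normalizer_inf hPU (hPQ.trans Subgroup.le_normalizer)
  have hXP : X ⊔ P ≤ Subgroup.centralizer (Q : Set G) := sup_le inf_le_right hPQ
  set V := U ⊓ Subgroup.normalizer ((X ⊔ P : Subgroup G) : Set G) with hV
  have hQV : Q ≤ Subgroup.normalizer (V : Set G) :=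
    le_normalizer_inf hQU (le_normalizer_normalizer
      ((Subgroup.le_centralizer_iff.mp hXP).trans (Subgroup.centralizer_le_normalizer _)))
  have hVX : V ≤ Subgroup.centralizer (Q : Set G) := by
    apply le_centralizer_of_commutator_le_centralizer Q V hQV
      (card_coprime_of_isPGroup hU.to_inf_left hQ) (Or.inr (solvable_of_isPGroup hU.to_inf_left))
    refine le_trans (le_inf ?_ ?_) hC
    · exact (Subgroup.le_normalizer_iff_commutator_le_left.mp hQV).trans inf_le_left
    · rw [← Subgroup.commutator_eq_bot_iff_le_centralizer]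
      apply Subgroup.commutator_commutator_eq_bot_of_rotate
      · rw [Subgroup.commutator_eq_bot_iff_le_centralizer.mpr hQP, Subgroup.commutator_bot_left]
      · rw [Subgroup.commutator_eq_bot_iff_le_centralizer]
        refine le_trans ?_ hXP
        refine (Subgroup.commutator_mono (le_sup_right : P ≤ X ⊔ P) (inf_le_right : V ≤ _)).trans ?_
        exact Subgroup.le_normalizer_iff_commutator_le_left.mp le_rfl
  have hnil : Group.IsNilpotent (U ⊔ P : Subgroup G) :=
    (hU.to_sup_of_normal_left' hP hPU).isNilpotent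
  have e := eq_of_inf_normalizer_le hnil (sup_le_sup_right (inf_le_left : X ≤ U) P) (by
    intro g hg
    obtain ⟨u, hu, x, hx, rfl⟩ := (mem_sup_of_le_normalizer hPU).mp hg.1
    have hxN : x ∈ Subgroup.normalizer ((X ⊔ P : Subgroup G) : Set G) :=
      Subgroup.le_normalizer (Subgroup.mem_sup_right hx)
    have huV : u ∈ V := ⟨hu, (Subgroup.mul_mem_cancel_right _ hxN).mp hg.2⟩
    exact Subgroup.mul_mem_sup ⟨hu, hVX huV⟩ hx)
  rw [Subgroup.le_centralizer_iff]
  exact le_sup_left.trans (e ▸ hXP)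

end H1
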