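import Mathlib
import Cfsg.Agent.H1.Coprime

/-!
# Coprime action on abelian groups, and coprime action of abelian groups
-/

set_option autoImplicit false

open scoped Pointwise commutatorElement IsMulCommutative

namespace H1

universe u v

variable {G : Type u} [Group G]

theorem conjHom_mul (K : Subgroup G) (a b : G) (ha : a ∈ Subgroup.normalizer (K : Set G))
    (hb : b ∈ Subgroup.normalizer (K : Set G)) (k : K) :
    conjHom K (a * b) (Subgroup.mul_mem _ ha hb) k = conjHom K a ha (conjHom K b hb k) := by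
  ext; simp [mul_assoc]

theorem index_inf_of_coprime_index (H K : Subgroup G) [Finite G] (h : H.index.Coprime K.index) :
    (H ⊓ K).index = H.index * K.index :=
  le_antisymm Subgroup.index_inf_le (Nat.le_of_dvd
    (Nat.pos_of_ne_zero Subgroup.index_ne_zero_of_finite)
    (h.mul_dvd_of_dvd_of_dvd (Subgroup.index_dvd_of_le inf_le_left)
      (Subgroup.index_dvd_of_le inf_le_right)))

/-- subgroups of coprime index factorise the group. -/
theorem exists_mul_of_coprime_index [Finite G] (H K : Subgroup G) (h : H.index.Coprime K.index)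
    (g : G) : ∃ x ∈ H, ∃ y ∈ K, g = x * y := by
  have h1 : K.relIndex H = K.index := by
    have := index_inf_of_coprime_index H K h
    rw [← Subgroup.relIndex_mul_index (inf_le_left : H ⊓ K ≤ H), Subgroup.inf_relIndex_left,
      mul_comm] at this
    exact Nat.eq_of_mul_eq_mul_left (Nat.pos_of_ne_zero Subgroup.index_ne_zero_of_finite) this
  have h2 : MulAction.orbit H ((1 : G) : G ⧸ K) = Set.univ := by
    apply Set.eq_of_subset_of_ncard_le (Set.subset_univ _)
    rw [Set.ncard_univ, ← Nat.card_coe_set_eq,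
      Nat.card_congr (MulAction.orbitEquivQuotientStabilizer H _)]
    have : MulAction.stabilizer H ((1 : G) : G ⧸ K) = K.subgroupOf H := by
      ext x
      rw [Subgroup.mem_subgroupOf, MulAction.mem_stabilizer_iff]
      conv_rhs => rw [← MulAction.stabilizer_quotient K]
      rfl
    rw [this]
    exact h1.ge
  have h3 : (g : G ⧸ K) ∈ MulAction.orbit H ((1 : G) : G ⧸ K) := h2 ▸ Set.mem_univ _
  obtain ⟨x, hx⟩ := h3
  have h4 : ((x : G) : G ⧸ K) = g := by
    rw [← hx]
    change _ = (x : G) • ((1 : G) : G ⧸ K)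
    simp
  exact ⟨x, x.2, _, QuotientGroup.eq.mp h4, by simp⟩

/-- `C_V(A) ⊓ [V, A] = 1` for coprime action on an abelian group. -/
theorem centralizer_inf_commutator_eq_bot [Finite G] (A V : Subgroup G) [IsMulCommutative V]
    (hAV : A ≤ Subgroup.normalizer (V : Set G)) (hcop : (Nat.card A).Coprime (Nat.card V)) :
    (V ⊓ Subgroup.centralizer (A : Set G)) ⊓ ⁅V, A⁆ = ⊥ := by
  classical
  have : Fintype A := Fintype.ofFinite A
  let τ : V →* V := ∏ a : A, conjHom V a (hAV a.2)
  have hτ : ∀ v, τ v = ∏ a : A, conjHom V a (hAV a.2) v := fun v => MonoidHom.finsetProd_apply ..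
  have hinv : ∀ (b : A) (v : V), τ (conjHom V b (hAV b.2) v) = τ v := by
    intro b v
    rw [hτ, hτ]
    refine Fintype.prod_equiv (Equiv.mulRight b) _ _ fun a => ?_
    rw [← conjHom_mul]
    rfl
  have hker : ⁅V, A⁆ ≤ τ.ker.map V.subtype := by
    rw [Subgroup.commutator_le]
    intro v hv a ha
    refine ⟨⟨v, hv⟩ * (conjHom V a (hAV ha) ⟨v, hv⟩)⁻¹, ?_, ?_⟩
    · rw [SetLike.mem_coe, MonoidHom.mem_ker, map_mul, map_inv, hinv ⟨a, ha⟩, mul_inv_cancel]
    · simp [commutatorElement_def, mul_assoc]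
  rw [eq_bot_iff]
  rintro c ⟨⟨-, hcA⟩, hc⟩
  obtain ⟨v, hv, rfl⟩ := hker hc
  have h1 : τ v = v ^ Nat.card A := by
    rw [hτ, Nat.card_eq_fintype_card, ← Finset.card_univ, ← Finset.prod_const]
    refine Finset.prod_congr rfl fun a _ => Subtype.ext ?_
    have := Subgroup.mem_centralizer_iff.mp hcA a a.2
    simp only [Subgroup.coe_subtype] at this
    simp [this]
  have h2 : v = 1 := by
    apply (powCoprime hcop.symm).injective
    rw [powCoprime_apply, powCoprime_apply, ← h1, one_pow]
    exact hv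
  simp [h2]

/-- a coprime action on an abelian group fixing the elements of prime order is trivial. -/
theorem le_centralizer_of_prime_order [Finite G] (A V : Subgroup G) [IsMulCommutative V]
    (hAV : A ≤ Subgroup.normalizer (V : Set G)) (hcop : (Nat.card A).Coprime (Nat.card V))
    (hΩ : ∀ v ∈ V, (orderOf v).Prime → ∀ a ∈ A, a * v = v * a) :
    A ≤ Subgroup.centralizer (V : Set G) := by
  rw [Subgroup.le_centralizer_iff, ← Subgroup.commutator_eq_bot_iff_le_centralizer]
  by_contra hne
  obtain ⟨p, hp, hd⟩ := Nat.exists_prime_and_dvd (mt Subgroup.card_eq_one.mp hne)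
  have : Fact p.Prime := ⟨hp⟩
  obtain ⟨x, hx⟩ := exists_prime_orderOf_dvd_card' p hd
  have hxV : (x : G) ∈ V := Subgroup.le_normalizer_iff_commutator_le_left.mp hAV x.2
  rw [← Subgroup.orderOf_coe] at hx
  have h1 : (x : G) ∈ (V ⊓ Subgroup.centralizer (A : Set G)) ⊓ ⁅V, A⁆ :=
    ⟨⟨hxV, Subgroup.mem_centralizer_iff.mpr (hΩ x hxV (hx ▸ hp))⟩, x.2⟩
  rw [centralizer_inf_commutator_eq_bot A V hAV hcop, Subgroup.mem_bot] at h1
  rw [h1, orderOf_one] at hx
  exact hp.one_lt.ne hx

/-- An abelian group acting irreducibly on an abelian group acts as a cyclic group. -/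
theorem exists_generator_of_irreducible {A : Type u} {V : Type v} [Group A] [IsMulCommutative A]
    [Finite A] [AddCommGroup V] (ρ : A →* Module.End ℤ V)
    (hirr : ∀ W : AddSubgroup V, (∀ a, ∀ w ∈ W, ρ a w ∈ W) → W = ⊥ ∨ W = ⊤) :
    ∃ a : A, ∀ b : A, ∃ n : ℤ, ρ b = ρ (a ^ n) := by
  rcases subsingleton_or_nontrivial V with hV | hV
  · exact ⟨1, fun b => ⟨0, Subsingleton.elim _ _⟩⟩
  let s : Set (Module.End ℤ V) := Set.range ρ
  have hs : ∀ x ∈ s, ∀ y ∈ s, x * y = y * x := by
    rintro _ ⟨a, rfl⟩ _ ⟨b, rfl⟩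
    rw [← map_mul, ← map_mul, mul_comm]
  let R := Subring.closure s
  have hR : IsMulCommutative R := Subring.isMulCommutative_closure hs
  have hnz : NoZeroDivisors R := by
    constructor
    intro x y hxy
    rcases hirr (LinearMap.ker (x : Module.End ℤ V)).toAddSubgroup (by
      intro a w hw
      have h1 : (x : Module.End ℤ V) * ρ a = ρ a * x :=
        congrArg Subtype.val (hR.is_comm.comm x (⟨ρ a, Subring.subset_closure ⟨a, rfl⟩⟩ : R))
      have h2 : (x : Module.End ℤ V) w = 0 := hw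
      change ((x : Module.End ℤ V) * ρ a) w = 0
      rw [h1, Module.End.mul_apply, h2, map_zero]) with h | h
    · right
      ext v
      have : (y : Module.End ℤ V) v ∈ (LinearMap.ker (x : Module.End ℤ V)).toAddSubgroup :=
        LinearMap.congr_fun (congrArg Subtype.val hxy) v
      rw [h] at this
      exact this
    · left
      ext v
      have : v ∈ (LinearMap.ker (x : Module.End ℤ V)).toAddSubgroup := h ▸ AddSubgroup.mem_top v
      exact this
  have hdom : IsDomain R := NoZeroDivisors.to_isDomain R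
  let f : A →* R := ρ.codRestrict R fun a => Subring.subset_closure ⟨a, rfl⟩
  let f' : A →* Rˣ := f.toHomUnits
  have hcyc : IsCyclic f'.range := by
    let _ : CommRing R := { (inferInstance : Ring R) with mul_comm := hR.is_comm.comm }
    have : Finite f'.range := Finite.of_surjective _ f'.rangeRestrict_surjective
    exact isCyclic_subgroup_units _
  obtain ⟨⟨_, a, rfl⟩, hg⟩ := hcyc.exists_generator
  refine ⟨a, fun b => ?_⟩
  obtain ⟨n, hn⟩ := Subgroup.mem_zpowers_iff.mp (hg ⟨_, b, rfl⟩)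
  refine ⟨n, ?_⟩
  have h1 : f' (a ^ n) = f' b := by
    rw [map_zpow]
    exact congrArg Subtype.val hn
  exact (congrArg (fun u : Rˣ => ((u : R) : Module.End ℤ V)) h1).symm

/-- An abelian group `A` acting irreducibly on an abelian section `K / W` acts as a cyclic group:
`A = B ⟨a⟩` where `B` centralises `K / W`. -/
theorem exists_cyclic_of_irreducible_section [Finite G] (A K W : Subgroup G) [IsMulCommutative A]
    (hAK : A ≤ Subgroup.normalizer (K : Set G)) (hAW : A ≤ Subgroup.normalizer (W : Set G))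
    (hKW : ⁅K, K⁆ ≤ W) (hWK : W ≤ K)
    (hirr : ∀ U : Subgroup G, W ≤ U → U ≤ K → A ≤ Subgroup.normalizer (U : Set G) →
      U = W ∨ U = K) :
    ∃ B ≤ A, (∃ a ∈ A, A ≤ B ⊔ Subgroup.zpowers a) ∧ ∀ b ∈ B, ∀ k ∈ K, b * k * b⁻¹ * k⁻¹ ∈ W := by
  set S : Subgroup K := W.subgroupOf K with hS
  have hcS : commutator K ≤ S := by
    rw [commutator_def, Subgroup.commutator_le]
    intro g₁ _ g₂ _
    exact hKW (Subgroup.commutator_mem_commutator g₁.2 g₂.2)
  have hSn : S.Normal := Subgroup.Normal.of_commutator_le _ hcS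
  have hVc : IsMulCommutative (K ⧸ S) :=
    (Subgroup.Normal.quotient_commutative_iff_commutator_le).mpr hcS
  have hconjS : ∀ (a : A), S ≤ S.comap (conjHom K a (hAK a.2)) := fun a s hs =>
    conj_mem_of_le_normalizer hAW a.2 hs
  let ψ : A → (K ⧸ S →* K ⧸ S) := fun a => QuotientGroup.map S S _ (hconjS a)
  have hψ : ∀ (a : A) (k : K), ψ a (QuotientGroup.mk k) =
      QuotientGroup.mk (conjHom K a (hAK a.2) k) := fun a k => rfl
  let ρ : A →* Module.End ℤ (Additive (K ⧸ S)) :=
    { toFun := fun a => (MonoidHom.toAdditive (ψ a)).toIntLinearMap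
      map_one' := by
        refine LinearMap.ext fun v => ?_
        obtain ⟨k, hk⟩ := QuotientGroup.mk_surjective (Additive.toMul v)
        apply Additive.toMul.injective
        change ψ 1 (Additive.toMul v) = Additive.toMul v
        rw [← hk, hψ]
        congr 1
        ext; simp
      map_mul' := fun a b => by
        refine LinearMap.ext fun v => ?_
        obtain ⟨k, hk⟩ := QuotientGroup.mk_surjective (Additive.toMul v)
        apply Additive.toMul.injective
        change ψ (a * b) (Additive.toMul v) = ψ a (ψ b (Additive.toMul v))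
        rw [← hk, hψ, hψ, hψ, ← conjHom_mul]
        rfl }
  obtain ⟨a, ha⟩ := exists_generator_of_irreducible ρ (by
    intro U hU
    let U' : Subgroup G := ((AddSubgroup.toSubgroup' U).comap (QuotientGroup.mk' S)).map K.subtype
    have hmem : ∀ k : K, (k : G) ∈ U' ↔ Additive.ofMul (QuotientGroup.mk k : K ⧸ S) ∈ U := by
      intro k
      constructor
      · rintro ⟨k', hk', e⟩
        obtain rfl : k' = k := Subtype.ext e
        exact hk'
      · intro h
        exact ⟨k, h, rfl⟩
    rcases hirr U' (fun w hw => (hmem ⟨w, hWK hw⟩).mpr (by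
        rw [(QuotientGroup.eq_one_iff (⟨w, hWK hw⟩ : K)).mpr hw]
        exact U.zero_mem)) (Subgroup.map_subtype_le _) (by
        rw [Subgroup.le_normalizer_iff]
        rintro a ha _ ⟨k, hk, rfl⟩
        exact (hmem (conjHom K a (hAK ha) k)).mpr (hU ⟨a, ha⟩ _ hk)) with h | h
    · left
      rw [eq_bot_iff]
      intro v hv
      obtain ⟨k, hk⟩ := QuotientGroup.mk_surjective (Additive.toMul v)
      have : (k : G) ∈ W := h ▸ (hmem k).mpr (by rw [hk]; exact hv)
      rw [AddSubgroup.mem_bot]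
      apply Additive.toMul.injective
      rw [← hk]
      exact (QuotientGroup.eq_one_iff k).mpr this
    · right
      rw [eq_top_iff]
      intro v _
      obtain ⟨k, hk⟩ := QuotientGroup.mk_surjective (Additive.toMul v)
      have hk2 : (k : G) ∈ U' := by rw [h]; exact k.2
      have := (hmem k).mp hk2
      rwa [hk] at this)
  refine ⟨ρ.ker.map A.subtype, Subgroup.map_subtype_le _, ⟨a, a.2, fun b hb => ?_⟩, ?_⟩
  · obtain ⟨n, hn⟩ := ha ⟨b, hb⟩
    have e : b = ((⟨b, hb⟩ * (a ^ n)⁻¹ : A) : G) * (a : G) ^ n := by simp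
    rw [e]
    refine Subgroup.mul_mem_sup ⟨⟨b, hb⟩ * (a ^ n)⁻¹, ?_, rfl⟩ (Subgroup.zpow_mem_zpowers _ _)
    rw [SetLike.mem_coe, MonoidHom.mem_ker, map_mul, hn, ← map_mul, mul_inv_cancel, map_one]
  · rintro _ ⟨b, hb, rfl⟩ k hk
    have h1 : ρ b (Additive.ofMul (QuotientGroup.mk ⟨k⁻¹, K.inv_mem hk⟩)) =
        Additive.ofMul (QuotientGroup.mk ⟨k⁻¹, K.inv_mem hk⟩) := by
      rw [MonoidHom.mem_ker.mp hb]; rfl
    have h2 : ψ b (QuotientGroup.mk ⟨k⁻¹, K.inv_mem hk⟩) =
      QuotientGroup.mk ⟨k⁻¹, K.inv_mem hk⟩ := h1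
    rw [hψ, QuotientGroup.eq, hS, Subgroup.mem_subgroupOf] at h2
    simpa [mul_assoc] using h2

/-- BG 1.16(2): `K` is generated by the `C_K(B)` with `A / B` cyclic. -/
theorem le_of_centralizer_cocyclic_le [Finite G] (A K L : Subgroup G) [IsMulCommutative A]
    (hAK : A ≤ Subgroup.normalizer (K : Set G)) (hcop : (Nat.card A).Coprime (Nat.card K))
    (hL : ∀ B ≤ A, (∃ a ∈ A, A ≤ B ⊔ Subgroup.zpowers a) →
      K ⊓ Subgroup.centralizer (B : Set G) ≤ L) : K ≤ L := by
  have hAs : Group.IsSolvable A := H2.isSolvable_of_isMulCommutative A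
  induction K using WellFoundedLT.induction generalizing L with | ind K ih
  have ih' : ∀ K' < K, A ≤ Subgroup.normalizer (K' : Set G) → ∀ L : Subgroup G,
      (∀ B ≤ A, (∃ a ∈ A, A ≤ B ⊔ Subgroup.zpowers a) →
      K ⊓ Subgroup.centralizer (B : Set G) ≤ L) → K' ≤ L := fun K' h h' L hL =>
    ih K' h L h' (hcop.coprime_dvd_right (Subgroup.card_dvd_of_le h.le))
      fun B hB hB' => (inf_le_inf_right _ h.le).trans (hL B hB hB')
  by_cases hK : Group.IsSolvable K
  swap
  · refine H2.le_of_forall_sylow_le fun p _ => ?_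
    obtain ⟨P, hP⟩ := exists_invariant_sylow A K hAK hcop (Or.inl hAs) p
    refine ⟨P, ih' _ (lt_of_le_of_ne (Subgroup.map_subtype_le _) fun e => hK ?_) hP L hL⟩
    rw [← e]
    exact solvable_of_isPGroup (P.isPGroup'.map _)
  by_cases hK1 : K = ⊥
  · simp [hK1]
  let L₀ : Subgroup G := ⨆ B : {B : Subgroup G // B ≤ A ∧ ∃ a ∈ A, A ≤ B ⊔ Subgroup.zpowers a},
    K ⊓ Subgroup.centralizer (B.1 : Set G)
  have hL₀ : ∀ B ≤ A, (∃ a ∈ A, A ≤ B ⊔ Subgroup.zpowers a) →
      K ⊓ Subgroup.centralizer (B : Set G) ≤ L₀ := fun B h1 h2 =>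
    le_iSup (fun B : {B : Subgroup G // B ≤ A ∧ ∃ a ∈ A, A ≤ B ⊔ Subgroup.zpowers a} =>
      K ⊓ Subgroup.centralizer (B.1 : Set G)) ⟨B, h1, h2⟩
  refine le_trans ?_ (iSup_le fun B => hL B.1 B.2.1 B.2.2 : L₀ ≤ L)
  have hL₀K : L₀ ≤ K := iSup_le fun _ => inf_le_left
  have hAL₀ : A ≤ Subgroup.normalizer (L₀ : Set G) := by
    refine le_trans (le_iInf fun B => ?_) (Subgroup.iInf_normalizer_le_normalizer_iSup _)
    refine le_normalizer_inf hAK (le_normalizer_centralizer ?_)
    refine le_trans ?_ (Subgroup.centralizer_le_normalizer _)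
    exact (Subgroup.le_centralizer A).trans (Subgroup.centralizer_le B.2.1)
  have hcomm : ⁅K, K⁆ ≤ L₀ :=
    ih' _ (commutator_lt_of_solvable hK hK1) (le_normalizer_commutator hAK hAK) L₀ hL₀
  by_contra hne
  obtain ⟨W, ⟨hW1, hW2, hW3⟩, hmax⟩ := (wellFounded_gt (α := Subgroup G)).has_min
    {W | L₀ ≤ W ∧ W < K ∧ A ≤ Subgroup.normalizer (W : Set G)}
    ⟨L₀, le_rfl, lt_of_le_of_ne hL₀K fun e => hne e.ge, hAL₀⟩
  obtain ⟨B, hBA, hBc, hB⟩ := exists_cyclic_of_irreducible_section A K W hAK hW3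
    (hcomm.trans hW1) hW2.le (by
      intro U h1 h2 h3
      by_contra! h
      exact hmax U ⟨hW1.trans h1, lt_of_le_of_ne h2 h.2, h3⟩ (lt_of_le_of_ne h1 h.1.symm))
  apply hW2.not_ge
  intro k hk
  obtain ⟨w, hw, h⟩ := exists_mul_mem_centralizer B W (hBA.trans hW3)
    ((hcop.coprime_dvd_left (Subgroup.card_dvd_of_le hBA)).coprime_dvd_right
      (Subgroup.card_dvd_of_le hW2.le)) (Or.inl (solvable_of_le hBA hAs)) k
    fun b hb => hB b hb k hk
  exact (W.mul_mem_cancel_left hw).mp (hW1 (hL₀ B hBA hBc ⟨K.mul_mem (hW2.le hw) hk, h⟩))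

/-- BG 1.16(1): `K` is generated by the `C_K(a)`, `a ∈ A^#`, for `A` noncyclic abelian. -/
theorem le_of_centralizer_le [Finite G] (A K L : Subgroup G) [IsMulCommutative A]
    (hA : ¬ IsCyclic A)
    (hAK : A ≤ Subgroup.normalizer (K : Set G)) (hcop : (Nat.card A).Coprime (Nat.card K))
    (hL : ∀ a ∈ A, a ≠ 1 → K ⊓ Subgroup.centralizer {a} ≤ L) : K ≤ L := by
  refine le_of_centralizer_cocyclic_le A K L hAK hcop fun B hB ⟨a, ha, h⟩ => ?_
  have hB1 : B ≠ ⊥ := by
    rintro rfl
    rw [bot_sup_eq] at h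
    apply hA
    rw [le_antisymm h (Subgroup.zpowers_le.mpr ha)]
    infer_instance
  obtain ⟨⟨b, hb⟩, hb1⟩ := Subgroup.ne_bot_iff_exists_ne_one.mp hB1
  refine le_trans (inf_le_inf_left _ (Subgroup.centralizer_le ?_)) (hL b (hB hb) ?_)
  · simpa using hb
  · simpa using hb1

theorem iSup_centralizer_eq [Finite G] (A K : Subgroup G) [IsMulCommutative A]
    (hA : ¬ IsCyclic A)
    (hAK : A ≤ Subgroup.normalizer (K : Set G)) (hcop : (Nat.card A).Coprime (Nat.card K)) :
    (⨆ a ∈ {a : G | a ∈ A ∧ a ≠ 1}, K ⊓ Subgroup.centralizer {a}) = K := by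
  refine le_antisymm (iSup₂_le fun _ _ => inf_le_left) (le_of_centralizer_le A K _ hA hAK hcop ?_)
  intro a ha ha1
  exact le_iSup₂ (f := fun a (_ : a ∈ {a : G | a ∈ A ∧ a ≠ 1}) => K ⊓ Subgroup.centralizer {a})
    a ⟨ha, ha1⟩

/-- if `C_K(A)` has prime index `p` in `K` then `[K, A]` has order `p`. -/
theorem card_commutator_of_relIndex_prime [Finite G] (A K : Subgroup G)
    (hAK : A ≤ Subgroup.normalizer (K : Set G))
    (hcop : (Nat.card A).Coprime (Nat.card K)) (hsolv : Group.IsSolvable A ∨ Group.IsSolvable K)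
    (p : ℕ) (hp : p.Prime) (hidx : (K ⊓ Subgroup.centralizer (A : Set G)).relIndex K = p) :
    Nat.card (⁅K, A⁆ : Subgroup G) = p := by
  have : Fact p.Prime := ⟨hp⟩
  set C := K ⊓ Subgroup.centralizer (A : Set G) with hC
  set N := ⁅K, A⁆ with hN
  have hNK : N ≤ K := Subgroup.le_normalizer_iff_commutator_le_left.mp hAK
  have hKN : K ≤ Subgroup.normalizer (N : Set G) := Subgroup.normalizer_commutator_ge_left K A
  have hAN : A ≤ Subgroup.normalizer (N : Set G) := Subgroup.normalizer_commutator_ge_right K A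
  have hcopN : (Nat.card A).Coprime (Nat.card N) :=
    hcop.coprime_dvd_right (Subgroup.card_dvd_of_le hNK)
  -- `|N : C ⊓ N| = p`
  have hidxN : C.relIndex N = p := by
    have hBn : (N.subgroupOf K).Normal :=
      (Subgroup.normal_subgroupOf_iff_le_normalizer hNK).mpr hKN
    have e := relIndex_mul_index_sup (N.subgroupOf K) (C.subgroupOf K)
    rw [← Subgroup.subgroupOf_sup hNK inf_le_left, commutator_sup_centralizer A K hAK hcop hsolv,
      Subgroup.subgroupOf_self, Subgroup.index_top, mul_one, Subgroup.relIndex_subgroupOf hNK] at e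
    exact e.trans hidx
  -- `N` is a `p`-group
  have hNp : IsPGroup p N := by
    obtain ⟨P, hP⟩ := exists_invariant_sylow A K hAK hcop hsolv p
    refine (P.isPGroup'.map K.subtype).to_le ?_
    refine le_trans ?_ (Subgroup.le_normalizer_iff_commutator_le_left.mp hP)
    rw [hN, Subgroup.commutator_le]
    intro k hk a ha
    have hcop2 : (P : Subgroup K).index.Coprime (C.subgroupOf K).index := by
      change Nat.Coprime _ (C.relIndex K)
      rw [hidx]
      exact (hp.coprime_iff_not_dvd.mpr P.not_dvd_index).symm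
    obtain ⟨x, hx, c, hc, e⟩ := exists_mul_of_coprime_index _ _ hcop2 ⟨k, hk⟩
    have e' : k = x * c := congrArg Subtype.val e
    have h := Subgroup.mem_centralizer_iff.mp (show (c : G) ∈ C from hc).2 a ha
    have : ⁅k, a⁆ = ⁅(x : G), a⁆ :=
      calc ⁅k, a⁆ = x * (c * a) * (c : G)⁻¹ * (x : G)⁻¹ * a⁻¹ := by
            rw [e', commutatorElement_def]; group
        _ = ⁅(x : G), a⁆ := by rw [← h, commutatorElement_def]; group
    rw [this]
    exact Subgroup.commutator_mem_commutator ⟨x, hx, rfl⟩ ha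
  set D := N ⊓ Subgroup.centralizer (A : Set G) with hD
  have hidxD : D.relIndex N = p := by
    rw [← hidxN, ← Subgroup.inf_relIndex_left N C, hC, ← inf_assoc, inf_eq_left.mpr hNK]
  have hDlt : D < N := lt_of_le_of_ne inf_le_left fun e => by
    rw [e, Subgroup.relIndex_self] at hidxD
    exact hp.one_lt.ne hidxD
  have hmax : ∀ U : Subgroup G, D < U → U ≤ N → U = N := by
    intro U h1 h2
    have e := Subgroup.relIndex_mul_relIndex D U N h1.le h2
    rw [hidxD] at e
    rcases (Nat.dvd_prime hp).mp (Dvd.intro_left _ e) with h | h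
    · exact le_antisymm h2 (Subgroup.relIndex_eq_one.mp h)
    · rw [h] at e
      have : D.relIndex U = 1 := by
        apply Nat.eq_of_mul_eq_mul_right hp.pos
        rw [e, one_mul]
      exact absurd (Subgroup.relIndex_eq_one.mp this) h1.not_ge
  have hND : N ≤ Subgroup.normalizer (D : Set G) := by
    rw [← hmax _ (lt_inf_normalizer_of_nilpotent hNp.isNilpotent hDlt) inf_le_left]
    exact inf_le_right
  have hNA : ⁅N, A⁆ = N := commutator_commutator_eq A K hAK hcop hsolv
  have hcent : N ≤ Subgroup.centralizer (D : Set G) := by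
    rw [← Subgroup.commutator_eq_bot_iff_le_centralizer]
    conv_lhs => rw [← hNA]
    apply Subgroup.commutator_commutator_eq_bot_of_rotate
    · rw [Subgroup.commutator_comm A D,
        Subgroup.commutator_eq_bot_iff_le_centralizer.mpr (inf_le_right : D ≤ _),
        Subgroup.commutator_bot_left]
    · rw [Subgroup.commutator_eq_bot_iff_le_centralizer]
      exact (Subgroup.le_normalizer_iff_commutator_le_left.mp hND).trans inf_le_right
  have hcomm : IsMulCommutative N := by
    obtain ⟨x, hxN, hxD⟩ := SetLike.exists_of_lt hDlt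
    have h1 : N ⊓ Subgroup.centralizer {x} = N := by
      refine hmax _ (lt_of_le_of_ne (le_inf inf_le_left fun d hd => ?_) fun e => hxD ?_)
        inf_le_left
      · rw [Subgroup.mem_centralizer_singleton_iff]
        exact Subgroup.mem_centralizer_iff.mp (hcent hxN) d hd
      · rw [e]
        exact ⟨hxN, Subgroup.mem_centralizer_singleton_iff.mpr rfl⟩
    have h2 : N ⊓ Subgroup.centralizer (N : Set G) = N := by
      refine hmax _ (lt_of_le_of_ne (le_inf inf_le_left
        (Subgroup.le_centralizer_iff.mp hcent)) fun e => hxD ?_) inf_le_left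
      rw [e]
      refine ⟨hxN, Subgroup.mem_centralizer_iff.mpr fun n hn => ?_⟩
      rw [← h1] at hn
      exact Subgroup.mem_centralizer_singleton_iff.mp hn.2
    exact Subgroup.le_centralizer_iff_isMulCommutative.mp (inf_eq_left.mp h2)
  have hD1 : D = ⊥ := by
    have := centralizer_inf_commutator_eq_bot A N hAN hcopN
    rwa [hNA, inf_eq_left.mpr (inf_le_left : D ≤ N)] at this
  rw [← hidxD, hD1, Subgroup.relIndex_bot_left]

end H1
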