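import Mathlib
import Cfsg.Prelude.Def_OddOrderLocal
import Cfsg.Agent.H1.Coprime

/-!
# Hall's theorems for solvable subgroups of a finite group, and their `A`-invariant versions
-/

set_option autoImplicit false

open scoped Pointwise commutatorElement IsMulCommutative
open Cfsg

namespace H1

universe u v

variable {G : Type u} [Group G]

theorem coprime_of_pi {π : Set ℕ} {m n : ℕ} (hm : ∀ p : ℕ, p.Prime → p ∣ m → p ∈ π)
    (hn : ∀ p : ℕ, p.Prime → p ∈ π → ¬ p ∣ n) : m.Coprime n :=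
  Nat.coprime_of_dvd fun p hp h => hn p hp (hm p hp h)

theorem IsPiHallOf.coprime {π : Set ℕ} {H M : Subgroup G} (h : IsPiHallOf π H M) :
    (Nat.card H).Coprime (H.relIndex M) :=
  coprime_of_pi h.2.1 h.2.2

theorem isPiHallOf_of_coprime {H M : Subgroup G} (hle : H ≤ M)
    (h : (Nat.card H).Coprime (H.relIndex M)) : IsPiHallOf {p | p ∣ Nat.card H} H M :=
  ⟨hle, fun _ _ h => h, fun _ hp h1 h2 => hp.one_lt.ne' (Nat.eq_one_of_dvd_coprimes h h1 h2)⟩

theorem isPiHallOf_top_iff {π : Set ℕ} {H : Subgroup G} : IsPiHallOf π H ⊤ ↔ IsPiHall π H := by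
  simp [IsPiHallOf, IsPiHall]

theorem isPiHallOf_iff_subgroupOf {π : Set ℕ} {H M : Subgroup G} (hle : H ≤ M) :
    IsPiHallOf π H M ↔ IsPiHall π (H.subgroupOf M) := by
  simp only [IsPiHallOf, IsPiHall, hle, true_and, H2.card_subgroupOf_of_le hle]
  rfl

theorem isPiHallOf_map_subtype {π : Set ℕ} {M : Subgroup G} {H : Subgroup M} :
    IsPiHallOf π (H.map M.subtype) M ↔ IsPiHall π H := by
  rw [isPiHallOf_iff_subgroupOf (Subgroup.map_subtype_le _), Subgroup.subgroupOf,
    Subgroup.comap_map_eq_self_of_injective M.subtype_injective]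

theorem IsPiHallOf.conj {π : Set ℕ} {H M : Subgroup G} (h : IsPiHallOf π H M) {g : G}
    (hg : g ∈ Subgroup.normalizer (M : Set G)) : IsPiHallOf π (MulAut.conj g • H) M :=
  ⟨conj_smul_le_of_mem_normalizer h.1 hg, by rw [card_conj_smul]; exact h.2.1,
    by rw [relIndex_conj_smul_of_mem_normalizer _ _ hg]; exact h.2.2⟩

/-- a Hall subgroup of `M` is a Hall subgroup of every intermediate subgroup. -/
theorem IsPiHallOf.of_le {π : Set ℕ} {H L M : Subgroup G} (h : IsPiHallOf π H M) (hHL : H ≤ L)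
    (hLM : L ≤ M) : IsPiHallOf π H L :=
  ⟨hHL, h.2.1, fun p hp hπ hd => h.2.2 p hp hπ
    (hd.trans (Dvd.intro _ (Subgroup.relIndex_mul_relIndex H L M hHL hLM)))⟩

/-- a Hall `π`-subgroup is a maximal `π`-subgroup. -/
theorem IsPiHallOf.eq_of_le {π : Set ℕ} {H L M : Subgroup G} (h : IsPiHallOf π H M) (hHL : H ≤ L)
    (hLM : L ≤ M) (hL : ∀ p : ℕ, p.Prime → p ∣ Nat.card L → p ∈ π) : L = H := by
  refine le_antisymm ?_ hHL
  rw [← Subgroup.relIndex_eq_one]
  exact Nat.eq_one_of_dvd_coprimes (coprime_of_pi hL (IsPiHallOf.of_le h hHL hLM).2.2)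
    (Subgroup.relIndex_dvd_card _ _) dvd_rfl

/-- a `π`-subgroup of `M` normalising a Hall `π`-subgroup lies in it. -/
theorem IsPiHallOf.le_of_le_normalizer {π : Set ℕ} {H U M : Subgroup G} (h : IsPiHallOf π H M)
    (hUM : U ≤ M) (hU : ∀ p : ℕ, p.Prime → p ∣ Nat.card U → p ∈ π)
    (hUH : U ≤ Subgroup.normalizer (H : Set G)) : U ≤ H := by
  rw [← IsPiHallOf.eq_of_le h (le_sup_right : H ≤ U ⊔ H) (sup_le hUM h.1)]
  · exact le_sup_left
  · intro p hp hd
    rcases (hp.dvd_mul).mp (hd.trans (H2.card_sup_dvd_of_le_normalizer hUH)) with h1 | h1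
    · exact hU p hp h1
    · exact h.2.1 p hp h1

/-- a `π`-subgroup normalised by a Hall `π`-subgroup lies in it. -/
theorem IsPiHallOf.le_of_normalized {π : Set ℕ} {H U M : Subgroup G} (h : IsPiHallOf π H M)
    (hUM : U ≤ M) (hU : ∀ p : ℕ, p.Prime → p ∣ Nat.card U → p ∈ π)
    (hUH : H ≤ Subgroup.normalizer (U : Set G)) : U ≤ H := by
  rw [← IsPiHallOf.eq_of_le h (le_sup_left : H ≤ H ⊔ U) (sup_le h.1 hUM)]
  · exact le_sup_right
  · intro p hp hd
    rcases (hp.dvd_mul).mp (hd.trans (H2.card_sup_dvd_of_le_normalizer hUH)) with h1 | h1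
    · exact h.2.1 p hp h1
    · exact hU p hp h1

variable [Finite G]

/-- the intersection of a Hall subgroup with a normal subgroup. -/
theorem IsPiHallOf.inf_normal {π : Set ℕ} {H N M : Subgroup G} (h : IsPiHallOf π H M)
    (hNM : N ≤ M) (hn : M ≤ Subgroup.normalizer (N : Set G)) : IsPiHallOf π (H ⊓ N) N :=
  ⟨inf_le_right, fun p hp hd => h.2.1 p hp (hd.trans (Subgroup.card_dvd_of_le inf_le_left)),
    fun p hp hπ hd => h.2.2 p hp hπ (by
      rw [Subgroup.inf_relIndex_right] at hd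
      exact hd.trans (relIndex_dvd_of_le_normalizer H hNM hn))⟩

theorem exists_conj_le_of_solvable (A K S : Subgroup G)
    (hAK : A ≤ Subgroup.normalizer (K : Set G)) (hK : Group.IsSolvable K)
    (hcop : (Nat.card A).Coprime (S.relIndex K))
    (hx : ∀ a ∈ A, ∃ k ∈ K, ∃ s ∈ S, a = k * s) :
    ∃ k ∈ K, A ≤ MulAut.conj k • S := by
  obtain ⟨k, hk, h⟩ := exists_fixed_of_solvable_right A K hAK hK
    ((1 : G) : G ⧸ S) (by rwa [MulAction.stabilizer_quotient]) (by
      intro a ha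
      obtain ⟨k, hk, s, hs, rfl⟩ := hx a ha
      refine ⟨k, hk, ?_⟩
      simp only [MulAction.Quotient.smul_mk, smul_eq_mul, QuotientGroup.eq, mul_one]
      simpa using hs)
  refine ⟨k, hk, fun a ha => ?_⟩
  have := h a⁻¹ (A.inv_mem ha)
  simp only [MulAction.Quotient.smul_mk, smul_eq_mul, QuotientGroup.eq, mul_one] at this
  rw [mem_conj_smul]
  simpa [mul_assoc] using this

/-- In a solvable group `M`, a subgroup of order prime to `|M : S|` is conjugate into `S`. -/
theorem exists_conj_le_of_coprime_relIndex (M S K : Subgroup G) (hM : Group.IsSolvable M)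
    (hKM : K ≤ M) (hcop : (Nat.card K).Coprime (S.relIndex M)) :
    ∃ g ∈ M, K ≤ MulAut.conj g • S :=
  exists_conj_le_of_solvable K M S (hKM.trans Subgroup.le_normalizer) hM hcop
    fun a ha => ⟨a, hKM ha, 1, S.one_mem, (mul_one a).symm⟩

/-- **Hall D**: every `π`-subgroup is conjugate into a given Hall `π`-subgroup. -/
theorem hall_conj_le {π : Set ℕ} {M H K : Subgroup G} (hM : Group.IsSolvable M)
    (hH : IsPiHallOf π H M) (hKM : K ≤ M) (hK : ∀ p : ℕ, p.Prime → p ∣ Nat.card K → p ∈ π) :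
    ∃ g ∈ M, K ≤ MulAut.conj g • H :=
  exists_conj_le_of_coprime_relIndex M H K hM hKM (coprime_of_pi hK hH.2.2)

/-- **Hall C**. -/
theorem hall_conj {π : Set ℕ} {M H K : Subgroup G} (hM : Group.IsSolvable M)
    (hH : IsPiHallOf π H M) (hK : IsPiHallOf π K M) : ∃ g ∈ M, MulAut.conj g • H = K := by
  obtain ⟨g, hg, h⟩ := hall_conj_le hM hH hK.1 hK.2.1
  have h' := IsPiHallOf.conj hH (Subgroup.le_normalizer hg)
  exact ⟨g, hg, IsPiHallOf.eq_of_le hK h h'.1 h'.2.1⟩

/-- Frattini argument for Hall subgroups of a solvable normal subgroup. -/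
theorem hall_frattini {π : Set ℕ} {L H : Subgroup G} (hL : Group.IsSolvable L)
    (hH : IsPiHallOf π H L) {g : G} (hg : g ∈ Subgroup.normalizer (L : Set G)) :
    ∃ l ∈ L, ∃ n ∈ Subgroup.normalizer (H : Set G), g = l * n := by
  obtain ⟨l, hl, h⟩ := hall_conj hL hH (IsPiHallOf.conj hH hg)
  refine ⟨l, hl, l⁻¹ * g, ?_, by simp⟩
  rw [← conj_smul_eq_iff_mem_normalizer, conj_mul_smul, ← h, ← conj_mul_smul]
  simp

/-- **Hall E**. -/
theorem hall_exists (π : Set ℕ) (M : Subgroup G) (hM : Group.IsSolvable M) :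
    ∃ H : Subgroup G, IsPiHallOf π H M := by
  induction M using WellFoundedLT.induction with | ind M ih
  by_cases hM1 : M = ⊥
  · subst hM1
    refine ⟨⊥, le_rfl, fun p hp h => ?_, fun p hp _ h => ?_⟩
    · simp [hp.ne_one] at h
    · simp [hp.ne_one] at h
  obtain ⟨B, P, p, hp, hBM, hMB, hP, -, hsup, -⟩ := exists_normal_sup_pgroup M hM hM1
  have : Fact p.Prime := ⟨hp⟩
  have hB := solvable_of_le hBM.le hM
  obtain ⟨H, hH⟩ := ih B hBM hB
  have hPM : P ≤ M := hsup ▸ le_sup_right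
  have hidx : ∀ q : ℕ, q.Prime → q ∣ H.relIndex M → q = p ∨ q ∣ H.relIndex B := by
    intro q hq hd
    rw [← Subgroup.relIndex_mul_relIndex H B M hH.1 hBM.le, hq.dvd_mul] at hd
    refine hd.symm.imp_left fun hd => ?_
    rw [← hsup, sup_comm, H2.relIndex_sup_of_le_normalizer (hPM.trans hMB)] at hd
    obtain ⟨n, hn⟩ := hP.exists_card_eq
    exact (Nat.prime_dvd_prime_iff_eq hq hp).mp
      (hq.dvd_of_dvd_pow (hn ▸ hd.trans (Subgroup.relIndex_dvd_card _ _)))
  by_cases hpπ : p ∈ π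
  swap
  · refine ⟨H, hH.1.trans hBM.le, hH.2.1, fun q hq hqπ hd => ?_⟩
    rcases hidx q hq hd with rfl | h
    · exact hpπ hqπ
    · exact hH.2.2 q hq hqπ h
  set N := M ⊓ Subgroup.normalizer (H : Set G) with hN
  obtain ⟨Q⟩ : Nonempty (Sylow p N) := inferInstance
  set Q' := (Q : Subgroup N).map N.subtype with hQ'
  have hQN : Q' ≤ N := Subgroup.map_subtype_le _
  have hHN : H ≤ N := le_inf (hH.1.trans hBM.le) Subgroup.le_normalizer
  refine ⟨Q' ⊔ H, sup_le (hQN.trans inf_le_left) (hH.1.trans hBM.le), fun q hq hd => ?_,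
    fun q hq hqπ hd => ?_⟩
  · rcases hq.dvd_mul.mp (hd.trans (H2.card_sup_dvd_of_le_normalizer (hQN.trans inf_le_right)))
      with h | h
    · obtain ⟨n, hn⟩ := (Q.isPGroup'.map N.subtype).exists_card_eq
      rwa [(Nat.prime_dvd_prime_iff_eq hq hp).mp (hq.dvd_of_dvd_pow (hn ▸ h))]
    · exact hH.2.1 q hq h
  · rcases hidx q hq (hd.trans (Subgroup.relIndex_dvd_of_le_left _ le_sup_right)) with rfl | h
    · have h1 := hd.trans (Subgroup.relIndex_dvd_of_le_left M (le_sup_left : Q' ≤ Q' ⊔ H))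
      rw [← Subgroup.relIndex_mul_relIndex Q' N M hQN inf_le_left, hq.dvd_mul] at h1
      rcases h1 with h1 | h1
      · rw [hQ', Subgroup.relIndex, Subgroup.subgroupOf,
          Subgroup.comap_map_eq_self_of_injective N.subtype_injective] at h1
        exact Q.not_dvd_index h1
      · have hBn : (B.subgroupOf M).Normal :=
          (Subgroup.normal_subgroupOf_iff_le_normalizer hBM.le).mpr hMB
        have e := relIndex_mul_index_sup (B.subgroupOf M) (N.subgroupOf M)
        have e2 : B.subgroupOf M ⊔ N.subgroupOf M = ⊤ := by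
          rw [eq_top_iff]
          rintro ⟨g, hg⟩ -
          obtain ⟨l, hl, n, hn, rfl⟩ := hall_frattini hB hH (hMB hg)
          have hnM : n ∈ M := (M.mul_mem_cancel_left (hBM.le hl)).mp hg
          exact Subgroup.mul_mem_sup (x := (⟨l, hBM.le hl⟩ : M)) (y := (⟨n, hnM⟩ : M)) hl ⟨hnM, hn⟩
        rw [e2, Subgroup.index_top, mul_one, Subgroup.relIndex_subgroupOf hBM.le] at e
        refine hH.2.2 q hq hqπ ?_
        exact (h1.trans (dvd_of_eq e.symm)).trans (Subgroup.relIndex_dvd_of_le_left _ hHN)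
    · exact hH.2.2 q hq hqπ h

/-- **Hall D**: every `π`-subgroup lies in a Hall `π`-subgroup. -/
theorem hall_superset {π : Set ℕ} {M K : Subgroup G} (hM : Group.IsSolvable M)
    (hKM : K ≤ M) (hK : ∀ p : ℕ, p.Prime → p ∣ Nat.card K → p ∈ π) :
    ∃ H : Subgroup G, IsPiHallOf π H M ∧ K ≤ H := by
  obtain ⟨H, hH⟩ := hall_exists π M hM
  obtain ⟨g, hg, h⟩ := hall_conj_le hM hH hKM hK
  exact ⟨_, IsPiHallOf.conj hH (Subgroup.le_normalizer hg), h⟩

section Invariant

variable {π : Set ℕ} (A K : Subgroup G) (hAK : A ≤ Subgroup.normalizer (K : Set G))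
  (hcop : (Nat.card A).Coprime (Nat.card K)) (hK : Group.IsSolvable K)

include hAK hcop hK

/-- an `A`-invariant `π`-subgroup lies in an `A`-invariant Hall `π`-subgroup. -/
theorem coprime_hall_superset (U : Subgroup G) (hUK : U ≤ K)
    (hU : ∀ p : ℕ, p.Prime → p ∣ Nat.card U → p ∈ π) (hUA : A ≤ Subgroup.normalizer (U : Set G)) :
    ∃ H : Subgroup G, IsPiHallOf π H K ∧ A ≤ Subgroup.normalizer (H : Set G) ∧ U ≤ H := by
  obtain ⟨H, hH⟩ := hall_exists π K hK
  have hAUK : A ⊔ U ≤ Subgroup.normalizer (K : Set G) :=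
    sup_le hAK (hUK.trans Subgroup.le_normalizer)
  obtain ⟨k, hk, h⟩ := exists_conj_normalized_of_solvable (A ⊔ U) K H hAUK hK
    (by
      refine Nat.Coprime.coprime_dvd_left (H2.card_sup_dvd_of_le_normalizer hUA) ?_
      refine Nat.Coprime.mul_left (hcop.coprime_dvd_right (Subgroup.relIndex_dvd_card _ _)) ?_
      exact (coprime_of_pi hU hH.2.2).coprime_dvd_right
        (Subgroup.relIndex_dvd_of_le_left _ Subgroup.le_normalizer))
    (by
      intro a ha
      obtain ⟨k, hk, h⟩ := hall_conj hK hH (IsPiHallOf.conj hH (hAUK ha))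
      exact ⟨k, hk, h.symm⟩)
  have hH' := IsPiHallOf.conj hH (Subgroup.le_normalizer hk)
  exact ⟨_, hH', le_sup_left.trans h,
    IsPiHallOf.le_of_le_normalizer hH' hUK hU (le_sup_right.trans h)⟩

variable (π) in
/-- there is an `A`-invariant Hall `π`-subgroup. -/
theorem coprime_hall_exists :
    ∃ H : Subgroup G, IsPiHallOf π H K ∧ A ≤ Subgroup.normalizer (H : Set G) := by
  obtain ⟨H, h1, h2, -⟩ := coprime_hall_superset (π := π) A K hAK hcop hK ⊥ bot_le
    (fun p hp h => by simp [hp.ne_one] at h) Subgroup.le_normalizer_of_normal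
  exact ⟨H, h1, h2⟩

/-- `A`-invariant Hall `π`-subgroups are conjugate under `C_K(A)`. -/
theorem coprime_hall_conj {H L : Subgroup G} (hH : IsPiHallOf π H K) (hL : IsPiHallOf π L K)
    (hAH : A ≤ Subgroup.normalizer (H : Set G)) (hAL : A ≤ Subgroup.normalizer (L : Set G)) :
    ∃ c ∈ K ⊓ Subgroup.centralizer (A : Set G), MulAut.conj c • H = L := by
  obtain ⟨k, hk, rfl⟩ := hall_conj hK hH hL
  exact exists_centralizer_conj A K H hAK hcop (Or.inr hK) k hk hAH hAL

end Invariant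

section Card

omit [Finite G] in
theorem solvable_top [Group.IsSolvable G] : Group.IsSolvable (⊤ : Subgroup G) := inferInstance

omit [Finite G] in
theorem card_eq_of_isPiHall {m n : ℕ} (hG : Nat.card G = m * n) (hmn : m.Coprime n)
    {H : Subgroup G} (hH : IsPiHallOf {p | p ∣ m} H ⊤) : Nat.card H = m := by
  have h1 : Nat.card H * H.index = m * n := by rw [H.card_mul_index, hG]
  have h2 : (Nat.card H).Coprime n := coprime_of_pi hH.2.1
    fun p hp h1 h2 => hp.one_lt.ne' (Nat.eq_one_of_dvd_coprimes hmn h1 h2)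
  have h3 : m.Coprime H.index := by
    have := coprime_of_pi (π := {p | p ∣ m}) (m := m) (fun _ _ h => h) hH.2.2
    rwa [Subgroup.relIndex_top_right] at this
  exact Nat.dvd_antisymm (h2.dvd_of_dvd_mul_right (Dvd.intro _ h1))
    (h3.dvd_of_dvd_mul_right (Dvd.intro _ h1.symm))

theorem isPiHall_of_card_eq {m n : ℕ} (hG : Nat.card G = m * n) (hmn : m.Coprime n)
    {H : Subgroup G} (hH : Nat.card H = m) : IsPiHallOf {p | p ∣ m} H ⊤ := by
  subst hH
  apply isPiHallOf_of_coprime le_top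
  rw [Subgroup.relIndex_top_right]
  rwa [Nat.eq_of_mul_eq_mul_left Nat.card_pos (H.card_mul_index.trans hG)]

theorem hall_card_exists [Group.IsSolvable G] (m n : ℕ) (hG : Nat.card G = m * n)
    (hmn : m.Coprime n) : ∃ H : Subgroup G, Nat.card H = m := by
  obtain ⟨H, hH⟩ := hall_exists {p | p ∣ m} (⊤ : Subgroup G) solvable_top
  exact ⟨H, card_eq_of_isPiHall hG hmn hH⟩

theorem hall_card_conj [Group.IsSolvable G] (m n : ℕ) (hG : Nat.card G = m * n)
    (hmn : m.Coprime n) (H K : Subgroup G) (hH : Nat.card H = m) (hK : Nat.card K = m) :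
    ∃ g : G, MulAut.conj g • H = K := by
  obtain ⟨g, -, h⟩ := hall_conj solvable_top (isPiHall_of_card_eq hG hmn hH)
    (isPiHall_of_card_eq hG hmn hK)
  exact ⟨g, h⟩

theorem hall_card_superset [Group.IsSolvable G] (m n : ℕ) (hG : Nat.card G = m * n)
    (hmn : m.Coprime n) (K : Subgroup G) (hK : (Nat.card K).Coprime n) :
    ∃ H : Subgroup G, Nat.card H = m ∧ K ≤ H := by
  obtain ⟨H, hH, h⟩ := hall_superset (π := {p | p ∣ m}) solvable_top (le_top : K ≤ ⊤)
    fun p _ hd => hd.trans (hK.dvd_of_dvd_mul_right (hG ▸ K.card_subgroup_dvd_card))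
  exact ⟨H, card_eq_of_isPiHall hG hmn hH, h⟩

end Card

end H1
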