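import Mathlib
import Cfsg.Agent.H24.Base4
import Cfsg.Agent.H25.Rank2
import Cfsg.Agent.H26.Coprime
import Cfsg.Agent.H2.Frobenius

/-! # Semiregular and semiprime actions, Frobenius groups (MathComp `frobenius.v`), B & G 3.2 -/

set_option autoImplicit false

namespace H1

open Cfsg H24 Subgroup
open scoped commutatorElement

universe u

variable {G : Type u} [Group G]
variable {A H K L M N P R V X : Subgroup G} {p q : ℕ}

theorem semireg_iff : Semireg K H ↔ ∀ x ∈ H, x ≠ 1 → ∀ k ∈ K, k * x = x * k → k = 1 := by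
  refine forall₃_congr fun x _ _ => ?_
  rw [eq_bot_iff]
  exact ⟨fun h k hk e => h ⟨hk, mem_C1.2 e⟩, fun h k hk => h k hk.1 (mem_C1.1 hk.2)⟩

theorem semiregular_sym (h : Semireg K H) : Semireg H K := by
  rw [semireg_iff] at h ⊢
  intro x hx h1 k hk e
  by_contra hk1
  exact h1 (h k hk hk1 x hx e.symm)

theorem semiregularS (hK : L ≤ K) (hH : X ≤ H) (h : Semireg K H) : Semireg L X := fun x hx h1 =>
  eq_bot_of_le (h x (hH hx) h1) (inf_le_inf_right _ hK)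

theorem semiprime_prime [Finite G] (hp : (♯H).Prime) : Semiprime K H := fun x hx h1 => by
  rw [← C_zpowers, H25.eq_zpowers_of_card_prime hp rfl hx h1]

theorem semiprime_regular (h : Semiprime K H) (h1 : K ⊓ C[H] = ⊥) : Semireg K H :=
  fun x hx hx1 => (h x hx hx1).trans h1

theorem semiregular_prime [Finite G] (hp : (♯H).Prime) (h : K ⊓ C[H] = ⊥) : Semireg K H :=
  semiprime_regular (semiprime_prime hp) h

theorem cent_semiregular (h : Semireg K H) (hX : X ≤ H) (h1 : X ≠ ⊥) : K ⊓ C[X] = ⊥ := by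
  obtain ⟨x, hx, hx1⟩ := exists_ne_one h1
  exact eq_bot_of_le (h x (hX hx) hx1) (inf_le_inf_left _ (C_le_C1 hx))

theorem semiregular_semiprime (h : Semireg K H) : Semiprime K H := fun x hx h1 => by
  rw [h x hx h1, cent_semiregular h le_rfl (ne_bot_of_mem hx h1)]

theorem cent_semiprime (h : Semiprime K H) (hX : X ≤ H) (h1 : X ≠ ⊥) : K ⊓ C[X] = K ⊓ C[H] := by
  obtain ⟨x, hx, hx1⟩ := exists_ne_one h1
  refine le_antisymm ?_ (inf_le_inf_left _ (C_anti hX))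
  rw [← h x (hX hx) hx1]
  exact inf_le_inf_left _ (C_le_C1 hx)

theorem semiprimeS (hK : L ≤ K) (hH : X ≤ H) (h : Semiprime K H) : Semiprime L X := by
  intro x hx h1
  have h2 : K ⊓ C{x} = K ⊓ C[X] := by
    rw [h x (hH hx) h1, cent_semiprime h hH (ne_bot_of_mem hx h1)]
  calc L ⊓ C{x} = L ⊓ (K ⊓ C{x}) := by rw [← inf_assoc, inf_eq_left.2 hK]
    _ = L ⊓ C[X] := by rw [h2, ← inf_assoc, inf_eq_left.2 hK]

theorem stab_semiprime (h : Semiprime K H) (hX : X ≤ K) (h1 : H ⊓ C[X] ≠ ⊥) : H ⊓ C[X] = H := by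
  rw [inf_eq_left, centsC]
  have := cent_semiprime h inf_le_left h1
  have h2 : X ≤ K ⊓ C[H ⊓ C[X]] := le_inf hX (centsC.1 inf_le_right)
  rw [this] at h2
  exact h2.trans inf_le_right

theorem regular_norm_dvd_pred [Finite G] (hn : H ≤ N[K]) (h : Semireg K H) : ♯H ∣ ♯K - 1 :=
  H2.card_dvd_sub_one_of_fpf hn h

theorem regular_norm_coprime [Finite G] (hn : H ≤ N[K]) (h : Semireg K H) : (♯K).Coprime ♯H :=
  (H2.coprime_card_of_fpf hn h).symm

theorem semiregularJ (g : G) (h : Semireg K H) : Semireg (cj g K) (cj g H) := by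
  intro x hx h1
  obtain ⟨y, hy, rfl⟩ := mem_cj'.1 hx
  rw [← cj_C1, ← cj_inf, h y hy (fun e => h1 (by simp [e])), cj_bot]

theorem semiprimeJ (g : G) (h : Semiprime K H) : Semiprime (cj g K) (cj g H) := by
  intro x hx h1
  obtain ⟨y, hy, rfl⟩ := mem_cj'.1 hx
  rw [← cj_C1, ← cj_inf, h y hy (fun e => h1 (by simp [e])), cj_inf, cj_C]

theorem semireg_map {G' : Type*} [Group G'] {f : G →* G'} (hf : Function.Injective f)
    (h : Semireg K H) : Semireg (K.map f) (H.map f) := by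
  rw [semireg_iff] at h ⊢
  rintro _ ⟨x, hx, rfl⟩ h1 _ ⟨k, hk, rfl⟩ e
  rw [h x hx (fun e => h1 (by simp [e])) k hk (hf (by simpa using e)), map_one]

theorem semireg_of_map {G' : Type*} [Group G'] {f : G →* G'} (hf : Function.Injective f)
    (h : Semireg (K.map f) (H.map f)) : Semireg K H := by
  rw [semireg_iff] at h ⊢
  intro x hx h1 k hk e
  apply hf
  rw [map_one]
  exact h _ ⟨x, hx, rfl⟩ (fun e => h1 (hf (by simpa using e))) _ ⟨k, hk, rfl⟩
    (by rw [← map_mul, e, map_mul])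

/-- centralisers of coprime operator groups pass to quotients. -/
theorem quo_inf_C [Finite G] (hN : N ≤ K) (hAN : A ≤ N[N]) (hcop : (♯N).Coprime ♯A)
    (hs : Sol N ∨ Sol A) : quo (K ⊓ C[A]) N = quo K N ⊓ C[quo A N] := by
  refine le_antisymm (img_inf_C_le _ _ _) ?_
  rintro z ⟨hz, hc⟩
  obtain ⟨x, hx, hxN, rfl⟩ := mem_quo.1 hz
  have h1 : ∀ a ∈ A, a * x * a⁻¹ * x⁻¹ ∈ N := by
    intro a ha
    have haN := hAN ha
    rw [← cs_eq_one (mul_mem (mul_mem (mul_mem haN hxN) (inv_mem haN)) (inv_mem hxN)),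
      cs, ap_mul _ (mul_mem (mul_mem haN hxN) (inv_mem haN)) (inv_mem hxN), ap_conj _ haN hxN,
      ap_inv _ hxN, mem_C.1 hc _ (cs_mem_quo ha haN)]
    simp
  obtain ⟨v, hv, hvx⟩ := H26.coprime_lift_cent hAN hcop hs h1
  refine mem_quo.2 ⟨v * x, ⟨mul_mem (hN hv) hx, hvx⟩, mul_mem (norm_self N hv) hxN, ?_⟩
  rw [cs, ap_mul _ (norm_self N hv) hxN, ← cs, cs_of_mem hv, one_mul]

theorem quo_inf_C1 [Finite G] (hN : N ≤ K) {x : G} (hx : x ∈ N[N]) (hcop : (♯N).Coprime (orderOf x)) :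
    quo (K ⊓ C{x}) N = quo K N ⊓ C{cs N x} := by
  rw [← C_zpowers, ← C_zpowers, ← quo_zpowers hx]
  exact quo_inf_C hN (zpowers_le.2 hx) (by rwa [card_zpowers']) (Or.inr (cyc_zpowers x).sol)

theorem card_inf_C_quo [Finite G] (hN : N ⊴ K) (hAN : A ≤ N[N]) (hcop : (♯N).Coprime ♯A)
    (hs : Sol N ∨ Sol A) : ♯(K ⊓ C[A]) = ♯(N ⊓ C[A]) * ♯(quo K N ⊓ C[quo A N]) := by
  rw [← quo_inf_C hN.le hAN hcop hs, card_quo (inf_le_left.trans hN.norm),
    ← card_inf_mul_relIndex N (K ⊓ C[A]), ← inf_assoc, inf_eq_left.2 hN.le]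

/-- semiregularity passes to quotients by `H`-invariant subgroups (coprime action). -/
theorem semiregular_quo [Finite G] (hn : H ≤ N[K]) (hN : N ≤ K) (_hHN : H ≤ N[N]) (h : Semireg K H) :
    Semireg (quo K N) (quo H N) := by
  intro z hz h1
  obtain ⟨x, hx, hxN, rfl⟩ := mem_quo.1 hz
  have hx1 : x ≠ 1 := by rintro rfl; exact h1 (ap_one _)
  rw [← quo_inf_C1 hN hxN, h x hx hx1, quo, img_bot]
  exact ((regular_norm_coprime hn h).coprime_dvd_left (card_dvd hN)).coprime_dvd_right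
    (orderOf_dvd_card' hx)

theorem semiprime_quo [Finite G] (_hn : H ≤ N[K]) (hN : N ≤ K) (hHN : H ≤ N[N])
    (hc : (♯N).Coprime ♯H) (hs : Sol N ∨ Sol H) (h : Semiprime K H) :
    Semiprime (quo K N) (quo H N) := by
  intro z hz h1
  obtain ⟨x, hx, hxN, rfl⟩ := mem_quo.1 hz
  have hx1 : x ≠ 1 := by rintro rfl; exact h1 (ap_one _)
  rw [← quo_inf_C1 hN hxN (hc.coprime_dvd_right (orderOf_dvd_card' hx)), h x hx hx1,
    quo_inf_C hN hHN hc hs]

/-- If `x` acts fixed-point-freely on `K`, the coset `K x` is a single `K`-class. -/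
theorem exists_conj_eq_mul [Finite G] {x : G} (hx : x ∈ N[K]) (h : K ⊓ C{x} = ⊥) {k : G}
    (hk : k ∈ K) : ∃ u ∈ K, u * x * u⁻¹ = k * x := by
  let f : K → K := fun u => ⟨u * (x * (u : G)⁻¹ * x⁻¹), mul_mem u.2 (conj_mem hx (inv_mem u.2))⟩
  have hf : Function.Injective f := by
    intro u v e
    have e1 : (u : G) * (x * (u : G)⁻¹ * x⁻¹) = v * (x * (v : G)⁻¹ * x⁻¹) := congrArg Subtype.val e
    have h2 : (v : G)⁻¹ * u ∈ K ⊓ C{x} := by
      refine ⟨K.mul_mem (K.inv_mem v.2) u.2, mem_C1.2 ?_⟩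
      calc (v : G)⁻¹ * u * x = (v : G)⁻¹ * (u * (x * (u : G)⁻¹ * x⁻¹)) * (x * u) := by group
        _ = x * ((v : G)⁻¹ * u) := by rw [e1]; group
    rw [h, mem_bot, inv_mul_eq_one] at h2
    exact Subtype.ext h2.symm
  obtain ⟨u, hu⟩ := Finite.injective_iff_surjective.1 hf ⟨k, hk⟩
  have e1 : (u : G) * (x * (u : G)⁻¹ * x⁻¹) = k := congrArg Subtype.val hu
  exact ⟨u, u.2, by rw [← e1]; group⟩

theorem comm_eq_of_regular [Finite G] (hn : H ≤ N[K]) (h1 : H ≠ ⊥) (h : Semireg K H) :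
    ⁅K, H⁆ = K := by
  refine le_antisymm (comm_le_left hn) fun k hk => ?_
  obtain ⟨x, hx, hx1⟩ := exists_ne_one h1
  obtain ⟨u, hu, e⟩ := exists_conj_eq_mul (hn hx) (h x hx hx1) hk
  have : k = ⁅u, x⁆ := by rw [commutatorElement_def, e, mul_inv_cancel_right]
  rw [this]
  exact commutator_mem_commutator hu hx

section Frobenius

theorem Frobenius_coprime [Finite G] (h : Frob M K H) : (♯K).Coprime ♯H :=
  regular_norm_coprime h.sd.norm h.reg

theorem Frobenius_dvd_ker1 [Finite G] (h : Frob M K H) : ♯H ∣ ♯K - 1 :=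
  regular_norm_dvd_pred h.sd.norm h.reg

theorem ltn_odd_Frobenius_ker [Finite G] (h : Frob M K H) (hodd : Odd ♯M) : 2 * ♯H < ♯K := by
  obtain ⟨c, hc⟩ := Frobenius_dvd_ker1 h
  have h1 := one_lt_card h.ker_ne
  obtain ⟨a, ha⟩ := odd_of_le hodd h.sd.left_le
  obtain ⟨b, hb⟩ := odd_of_le hodd h.sd.right_le
  have hc0 : c ≠ 0 := by rintro rfl; omega
  have hc1 : c ≠ 1 := by rintro rfl; omega
  have : ♯H * 2 ≤ ♯H * c := Nat.mul_le_mul_left _ (by omega)
  omega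

theorem Frobenius_trivg_cent (h : Frob M K H) : K ⊓ C[H] = ⊥ :=
  cent_semiregular h.reg le_rfl h.compl_ne

theorem Frobenius_reg_compl (h : Frob M K H) : Semireg H K := semiregular_sym h.reg

theorem Frobenius_comm [Finite G] (h : Frob M K H) : ⁅K, H⁆ = K :=
  comm_eq_of_regular h.sd.norm h.compl_ne h.reg

/-- `Frobenius_partition`: every element outside the kernel is conjugate into the complement. -/
theorem Frobenius_partition [Finite G] (h : Frob M K H) {x : G} (hx : x ∈ M) (hK : x ∉ K) :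
    ∃ y ∈ K, y * x * y⁻¹ ∈ H := by
  obtain ⟨k, hk, r, hr, rfl⟩ := h.sd.isProd.mul x hx
  have hr1 : r ≠ 1 := by rintro rfl; exact hK (by simpa using hk)
  obtain ⟨u, hu, e⟩ := exists_conj_eq_mul (h.sd.norm hr) (h.reg r hr hr1) hk
  refine ⟨u⁻¹, inv_mem hu, ?_⟩
  rw [← e]; simpa [mul_assoc] using hr

theorem Frobenius_cent1_ker [Finite G] (h : Frob M K H) {x : G} (hx : x ∈ K) (h1 : x ≠ 1) :
    M ⊓ C{x} ≤ K := by
  rintro g ⟨hg, hc⟩
  by_contra hK
  obtain ⟨y, hy, hyg⟩ := Frobenius_partition h hg hK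
  have h2 : y * g * y⁻¹ ≠ 1 := by
    rw [Ne, conj_eq_one_iff']; rintro rfl; exact hK K.one_mem
  have := semireg_iff.1 h.reg _ hyg h2 (y * x * y⁻¹) (mul_mem (mul_mem hy hx) (inv_mem hy))
    (by
      have e := mem_C1.1 hc
      calc y * x * y⁻¹ * (y * g * y⁻¹) = y * (x * g) * y⁻¹ := by group
        _ = y * g * y⁻¹ * (y * x * y⁻¹) := by rw [← e]; group)
  exact h1 (conj_eq_one_iff'.1 this)

/-- the complement is a TI subgroup, self-normalising in `M`. -/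
theorem Frobenius_compl_TI (h : Frob M K H) {x g : G} (hx : x ∈ H) (h1 : x ≠ 1) (hg : g ∈ M)
    (hxg : g * x * g⁻¹ ∈ H) : g ∈ H := by
  obtain ⟨r, hr, k, hk, rfl⟩ := h.sd.isProd.symm.mul g hg
  have h2 : k * x * k⁻¹ ∈ H := by
    have := mul_mem (mul_mem (inv_mem hr) hxg) hr
    simpa [mul_assoc] using this
  have h3 : k * x * k⁻¹ * x⁻¹ ∈ K ⊓ H := by
    refine ⟨?_, H.mul_mem h2 (H.inv_mem hx)⟩
    have := mul_mem hk (conj_mem (h.sd.norm hx) (inv_mem hk))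
    simpa [mul_assoc] using this
  rw [h.sd.inf, mem_bot] at h3
  have h4 := semireg_iff.1 h.reg x hx h1 k hk (by
    calc k * x = k * x * k⁻¹ * x⁻¹ * (x * k) := by group
      _ = x * k := by rw [h3, one_mul])
  rw [h4, mul_one]; exact hr

theorem Frobenius_cent1_compl (h : Frob M K H) {x : G} (hx : x ∈ H) (h1 : x ≠ 1) :
    M ⊓ C{x} ≤ H := fun g hg =>
  Frobenius_compl_TI h hx h1 hg.1 (by rw [mem_C1_iff_conj.1 hg.2]; exact hx)

theorem Frobenius_ker_Hall [Finite G] (h : Frob M K H) : IsHall M K :=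
  h.sd.isHall_left (Frobenius_coprime h)

theorem Frobenius_compl_Hall [Finite G] (h : Frob M K H) : IsHall M H :=
  h.sd.isHall_right (Frobenius_coprime h)

theorem Frobenius_sub (h : Frob M K H) (h1 : L ≠ ⊥) (hL : L ≤ K) (h2 : X ≠ ⊥) (hX : X ≤ H)
    (hn : X ≤ N[L]) : Frob (L ⊔ X) L X :=
  ⟨h.sd.sub hL hX hn, h1, h2, semiregularS hL hX h.reg⟩

theorem Frobenius_subl (h : Frob M K H) (h1 : L ≠ ⊥) (hL : L ≤ K) (hn : H ≤ N[L]) :
    Frob (L ⊔ H) L H := Frobenius_sub h h1 hL h.compl_ne le_rfl hn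

theorem Frobenius_subr (h : Frob M K H) (h1 : X ≠ ⊥) (hX : X ≤ H) : Frob (K ⊔ X) K X :=
  Frobenius_sub h h.ker_ne le_rfl h1 hX (hX.trans h.sd.norm)

theorem Frobenius_mk [Finite G] (hn : H ≤ N[K]) (h1 : K ≠ ⊥) (h2 : H ≠ ⊥) (h : Semireg K H) :
    Frob (K ⊔ H) K H :=
  ⟨SD.mk_sup hn (inf_eq_bot_of_cop (regular_norm_coprime hn h)), h1, h2, h⟩

theorem FrobeniusJ (g : G) (h : Frob M K H) : Frob (cj g M) (cj g K) (cj g H) :=
  ⟨h.sd.cj g, by simpa [cj_eq_bot] using h.ker_ne, by simpa [cj_eq_bot] using h.compl_ne,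
    semiregularJ g h.reg⟩

theorem FrobeniusJcompl (h : Frob M K H) {g : G} (hg : g ∈ M) : Frob M K (cj g H) := by
  have := FrobeniusJ g h
  rwa [cj_of_mem hg, cj_of_mem_N (h.sd.nml.norm hg)] at this

theorem Frobenius_map {G' : Type*} [Group G'] {f : G →* G'} (hf : Function.Injective f)
    (h : Frob M K H) : Frob (M.map f) (K.map f) (H.map f) :=
  ⟨h.sd.map hf, by rw [Ne, map_eq_bot_iff_of_injective _ hf]; exact h.ker_ne,
    by rw [Ne, map_eq_bot_iff_of_injective _ hf]; exact h.compl_ne, semireg_map hf h.reg⟩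

theorem prime_FrobeniusP [Finite G] (h1 : K ≠ ⊥) (hp : (♯H).Prime) :
    Frob M K H ↔ SD K H M ∧ K ⊓ C[H] = ⊥ :=
  ⟨fun h => ⟨h.sd, Frobenius_trivg_cent h⟩, fun h =>
    ⟨h.1, h1, H25.ne_bot_of_card_prime hp rfl, semiregular_prime hp h.2⟩⟩

/-- Lemma 3.2. -/
theorem Frobenius_proper_quotient [Finite G] (h : Frob M K R) (hN : N ⊴ M) (hlt : N < K) :
    Frob (quo M N) (quo K N) (quo R N) := by
  have hRN := h.sd.right_le.trans hN.norm
  refine ⟨h.sd.quo_of_le hlt.le hN.norm, ?_, ?_, semiregular_quo h.sd.norm hlt.le hRN h.reg⟩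
  · rw [Ne, quo_eq_bot (h.sd.left_le.trans hN.norm)]; exact hlt.not_ge
  · rw [Ne, quo_eq_bot hRN]
    intro hR
    exact h.compl_ne (eq_bot_of_le h.sd.inf (le_inf (hR.trans hlt.le) le_rfl))

theorem Frobenius_normal_sub [Finite G] (h : Frob M K R) (hN : N ⊴ M) : N ≤ K ∨ K ≤ N := by
  by_contra hc
  rw [not_or] at hc
  obtain ⟨x, hx, hxK⟩ := SetLike.not_le_iff_exists.1 hc.1
  obtain ⟨y, hy, hyx⟩ := Frobenius_partition h (hN.le hx) hxK
  have h2 : y * x * y⁻¹ ≠ 1 := by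
    rw [Ne, conj_eq_one_iff']; rintro rfl; exact hxK K.one_mem
  have hr : y * x * y⁻¹ ∈ N := hN.conj_mem (h.sd.left_le hy) hx
  apply hc.2
  intro k hk
  obtain ⟨u, hu, e⟩ := exists_conj_eq_mul (h.sd.norm hyx) (h.reg _ hyx h2) hk
  have := hN.conj_mem (h.sd.left_le hu) hr
  rw [e] at this
  exact (N.mul_mem_cancel_right hr).1 this

theorem Frobenius_normal_proper_ker [Finite G] (h : Frob M K R) (_hK : Sol K) (hN : N ⊴ M)
    (hKN : ¬ K ≤ N) : N < K :=
  lt_of_le_not_ge ((Frobenius_normal_sub h hN).resolve_right hKN) hKN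

theorem Frobenius_quotient [Finite G] (h : Frob M K R) (hK : Sol K) (hN : N ⊴ M) (hKN : ¬ K ≤ N) :
    Frob (quo M N) (quo K N) (quo R N) :=
  Frobenius_proper_quotient h hN (Frobenius_normal_proper_ker h hK hN hKN)

end Frobenius

/-- A nontrivial solvable group has a nontrivial characteristic elementary abelian subgroup. -/
theorem exists_abelem_char [Finite G] (hV : Sol V) (h1 : V ≠ ⊥) :
    ∃ p N, p.Prime ∧ IsElementaryAbelian p N ∧ N ≠ ⊥ ∧ N ≤ V ∧ N[V] ≤ N[N] := by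
  obtain ⟨p, hp, hO⟩ := exists_pcore_ne_bot hV h1
  have hZ := ((pcore_pi {p} V).nil hp).center_ne_bot hO
  refine ⟨p, omegaOne p Z[O[{p}, V]], hp, H25.omegaOne_elem (abl_center _),
    H25.omegaOne_ne_bot_of_pgroup ((pcore_pi {p} V).inf_left _) hZ,
    (H25.omegaOne_le _ _).trans (inf_le_left.trans (pcore_le _ _)),
    H25.norm_omegaOne _ (norm_Z (N_le_N_pcore _ _))⟩

end H1
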