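import Mathlib
import Cfsg.Agent.H1.Frob
import Cfsg.Agent.H27.CF

/-! # B & G 3.3, 3.7, 3.9 and related results on semiregular actions -/

set_option autoImplicit false

namespace H1

open Cfsg H24 Subgroup
open H27 (fs mem_fs)
open scoped commutatorElement IsMulCommutative

universe u

variable {G : Type u} [Group G] [Finite G]
variable {A H K L M N P R V X : Subgroup G} {p q : ℕ}

section Sums

variable {T : Type*} [AddCommMonoid T]

theorem sum_prod_of_inf (h : IsProd K H M) (hi : K ⊓ H = ⊥) (f : G → T) :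
    ∑ g ∈ fs (M : Set G), f g = ∑ k ∈ fs (K : Set G), ∑ r ∈ fs (H : Set G), f (k * r) := by
  rw [← Finset.sum_product']
  symm
  refine Finset.sum_nbij (fun x => x.1 * x.2) ?_ ?_ ?_ fun _ _ => rfl
  · rintro ⟨k, r⟩ hx
    simp only [Finset.mem_product, mem_fs, SetLike.mem_coe] at hx ⊢
    exact mul_mem (h.left_le hx.1) (h.right_le hx.2)
  · rintro ⟨k, r⟩ hx ⟨k', r'⟩ hx' e
    simp only [Finset.coe_product, Set.mem_prod, mem_fs, SetLike.mem_coe] at hx hx'
    obtain ⟨e1, e2⟩ := mul_eq_mul_of_inf hi hx.1 hx'.1 hx.2 hx'.2 e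
    exact Prod.ext e1 e2
  · intro g hg
    simp only [mem_fs, SetLike.mem_coe] at hg
    obtain ⟨k, hk, r, hr, rfl⟩ := h.mul g hg
    exact ⟨(k, r), by simp [hk, hr], rfl⟩

theorem sum_conj_regular {x : G} (hx : x ∈ N[K]) (h : K ⊓ C{x} = ⊥) (f : G → T) :
    ∑ k ∈ fs (K : Set G), f (k * x * k⁻¹) = ∑ k ∈ fs (K : Set G), f (k * x) := by
  have hm : Set.MapsTo (fun u => u * x * u⁻¹ * x⁻¹) (K : Set G) K := by
    intro u hu
    have := K.mul_mem hu (conj_mem hx (K.inv_mem hu))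
    simpa [mul_assoc] using this
  have hs : Set.SurjOn (fun u => u * x * u⁻¹ * x⁻¹) (K : Set G) K := by
    intro k hk
    obtain ⟨u, hu, e⟩ := exists_conj_eq_mul hx h hk
    exact ⟨u, hu, by simp [e]⟩
  have hb : Set.BijOn (fun u => u * x * u⁻¹ * x⁻¹) (K : Set G) K :=
    ((Set.toFinite _).surjOn_iff_bijOn_of_mapsTo hm).1 hs
  rw [← H27.sum_fs_bij _ hb fun k => f (k * x)]
  simp

theorem sum_split_one (H : Subgroup G) (f : G → T) :
    ∑ x ∈ fs (H : Set G), f x = f 1 + ∑ x ∈ fs ((H : Set G) \ {1}), f x := by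
  rw [H27.sum_fs_diff (B := {1}) (by simp) f, H27.sum_fs_singleton, add_comm]

/-- The partition of a Frobenius group, as an identity of sums. -/
theorem frobenius_sum (hn : R ≤ N[K]) (h : Semireg K R) (f : G → T) :
    ∑ k ∈ fs (K : Set G), ∑ r ∈ fs (R : Set G), f (k * r * k⁻¹) + ∑ k ∈ fs (K : Set G), f k =
      ♯K • f 1 + ∑ k ∈ fs (K : Set G), ∑ r ∈ fs (R : Set G), f (k * r) := by
  rw [Finset.sum_comm, Finset.sum_comm (f := fun k r => f (k * r)), sum_split_one R,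
    sum_split_one R (fun r => ∑ k ∈ fs (K : Set G), f (k * r)),
    H27.sum_fs_congr (A := (R : Set G) \ {1}) fun r hr =>
      sum_conj_regular (hn hr.1) (h r hr.1 hr.2) f]
  simp only [mul_one, mul_inv_cancel, H27.sum_fs_const]
  have : Nat.card (K : Set G) = ♯K := rfl
  rw [this]
  abel

end Sums

/-- Lemma 3.3, group form: `V` abelian of order prime to `|K|` (not necessarily to `|R|`). -/
theorem cent_of_regular_abelian (hn : R ≤ N[K]) (h : Semireg K R) (hV : Abl V) (hKV : K ≤ N[V])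
    (hRV : R ≤ N[V]) (hc : (♯V).Coprime ♯K) (hR : V ⊓ C[R] = ⊥) : K ≤ C[V] := by
  let φ : N[V] →* MulAut V := V.normalizerMonoidHom
  let a : G → Additive V →+ Additive V := fun g => MonoidHom.toAdditive (ap φ g).toMonoidHom
  have ha : ∀ g ∈ N[V], ∀ v : Additive V,
      ((Additive.toMul (a g v) : V) : G) = g * (Additive.toMul v : V) * g⁻¹ := by
    intro g hg v
    simp only [a, ap_of_mem φ hg]
    rfl
  have hmul : ∀ g ∈ N[V], ∀ g' ∈ N[V], ∀ v, a (g * g') v = a g (a g' v) := by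
    intro g hg g' hg' v
    simp only [a, ap_mul φ hg hg']
    rfl
  have hone : ∀ v, a 1 v = v := by
    intro v
    simp only [a, ap_one]
    rfl
  have hfix : ∀ (B : Subgroup G), B ≤ N[V] → ∀ v w : Additive V,
      w = ∑ b ∈ fs (B : Set G), a b v → ((Additive.toMul w : V) : G) ∈ C[B] := by
    intro B hB v w hw
    refine mem_C.2 fun b hb => ?_
    have : a b w = w := by
      rw [hw, map_sum, ← H27.sum_fs_mul_left hb fun x => a x v]
      exact H27.sum_fs_congr fun x hx => (hmul b (hB hb) x (hB hx) v).symm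
    have h2 := ha b (hB hb) w
    rw [this] at h2
    exact (mul_inv_eq_iff_eq_mul.1 h2.symm)
  have hR0 : ∀ v, ∑ r ∈ fs (R : Set G), a r v = 0 := by
    intro v
    have h1 := hfix R hRV v _ rfl
    have h2 : ((Additive.toMul (∑ r ∈ fs (R : Set G), a r v) : V) : G) ∈ V ⊓ C[R] :=
      ⟨SetLike.coe_mem _, h1⟩
    rw [hR, mem_bot, OneMemClass.coe_eq_one] at h2
    exact h2
  rw [centsC]
  intro v hv
  have key := frobenius_sum hn h fun g => a g (Additive.ofMul ⟨v, hv⟩)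
  have e1 : ∀ k ∈ (K : Set G), ∑ r ∈ fs (R : Set G), a (k * r * k⁻¹) (Additive.ofMul ⟨v, hv⟩) = 0 := by
    intro k hk
    rw [H27.sum_fs_congr (g := fun r => a k (a r (a k⁻¹ (Additive.ofMul ⟨v, hv⟩)))) fun r hr => by
      rw [hmul _ (mul_mem (hKV hk) (hRV hr)) _ (inv_mem (hKV hk)), hmul _ (hKV hk) _ (hRV hr)],
      ← map_sum, hR0, map_zero]
  have e2 : ∀ k ∈ (K : Set G), ∑ r ∈ fs (R : Set G), a (k * r) (Additive.ofMul ⟨v, hv⟩) = 0 := by
    intro k hk
    rw [H27.sum_fs_congr (g := fun r => a k (a r (Additive.ofMul ⟨v, hv⟩))) fun r hr => by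
      rw [hmul _ (hKV hk) _ (hRV hr)], ← map_sum, hR0, map_zero]
  rw [H27.sum_fs_congr e1, H27.sum_fs_congr e2, Finset.sum_const_zero, zero_add, add_zero,
    hone] at key
  have h3 := hfix K hKV _ _ key.symm
  have h4 : v ^ ♯K ∈ C[K] := by simpa using h3
  have h5 : v ∈ zpowers (v ^ ♯K) := by
    rw [mem_zpowers_pow_iff, Nat.gcd_comm]
    exact hc.coprime_dvd_left (orderOf_dvd_card' hv)
  exact zpowers_le.2 h4 h5

/-- Lemma 3.3, group form: `V` abelian of order prime to `|K|` (not necessarily to `|R|`). -/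
theorem Frobenius_rfix_compl (h : Frob M K R) (hV : Abl V) (hMV : M ≤ N[V])
    (hc : (♯V).Coprime ♯K) (hK : ¬ K ≤ C[V]) : V ⊓ C[R] ≠ ⊥ := fun hR =>
  hK (cent_of_regular_abelian h.sd.norm h.reg hV (h.sd.left_le.trans hMV) (h.sd.right_le.trans hMV)
    hc hR)

/-- Induction along an `L`-invariant normal series with elementary abelian factors. -/
theorem invariant_series_ind (hV : Sol V) (hLV : L ≤ N[V]) (Q : Subgroup G → Prop) (h0 : Q ⊥)
    (hstep : ∀ (U W : Subgroup G) (p : ℕ), p.Prime → W < U → W ⊴ V → U ⊴ V → L ≤ N[W] → L ≤ N[U] →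
      IsElementaryAbelian p (quo U W) → Q W → Q U) : Q V := by
  obtain ⟨W, -, ⟨hW, hLW, hQ⟩, hmax⟩ := exists_max (P := fun W => W ⊴ V ∧ L ≤ N[W] ∧ Q W) (H := ⊥)
    ⟨Nml.bot V, by simp, h0⟩
  by_contra hne
  have h1 : quo V W ≠ ⊥ := by
    rw [Ne, quo_eq_bot hW.norm]
    intro hle
    exact hne (le_antisymm hW.le hle ▸ hQ)
  obtain ⟨p, E, hp, hE, hE1, hEV, hEn⟩ := exists_abelem_char (hV.quo W) h1
  have hU : coq W E ⊴ V := nml_coq_of hW ⟨hEV, (norm_self _).trans hEn⟩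
  have hLU : L ≤ N[coq W E] := norm_coq hLW ((quo_norm W hLV).trans hEn)
  have hlt : W < coq W E := by
    conv_lhs => rw [← coq_bot W]
    exact coq_lt_coq.2 (bot_lt_iff_ne_bot.2 hE1)
  exact hlt.ne' (hmax _ ⟨hU, hLU, hstep _ W p hp hlt hW hU hLW hLU (by rwa [quo_coq]) hQ⟩ hlt.le)

/-- A coprime operator group centralising all invariant elementary abelian sections of a solvable
group centralises it. -/
theorem cent_of_abelem_sections (hV : Sol V) (hLV : L ≤ N[V]) (hX : X ≤ L)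
    (hcop : (♯V).Coprime ♯X)
    (h : ∀ (U W : Subgroup G) (p : ℕ), p.Prime → W < U → W ⊴ V → U ⊴ V → L ≤ N[W] → L ≤ N[U] →
      IsElementaryAbelian p (quo U W) → quo X W ≤ C[quo U W]) : X ≤ C[V] := by
  refine invariant_series_ind hV hLV (fun W => X ≤ C[W]) (by simp) ?_
  intro U W p hp hlt hW hU hLW hLU hE hQ
  refine H26.stable_factor_cent hQ ?_ hlt.le (hcop.coprime_dvd_left (card_dvd hW.le))
    (Or.inl (hV.of_le hW.le))
  rw [commC, ← quo_cents (hX.trans hLW) (hU.le.trans hW.norm)]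
  exact h U W p hp hlt hW hU hLW hLU hE

omit [Finite G] in
theorem semiregular_quo_coprime (h : Semireg K R) (hi : N ⊓ (K ⊔ R) = ⊥) : Semireg (quo K N) (quo R N) := by
  rw [semireg_iff] at h ⊢
  intro z hz hz1 w hw e
  obtain ⟨x, hx, hxN, rfl⟩ := mem_quo.1 hz
  obtain ⟨k, hk, hkN, rfl⟩ := mem_quo.1 hw
  have hx1 : x ≠ 1 := by rintro rfl; exact hz1 (ap_one _)
  rw [cs, cs, ← ap_mul _ hkN hxN, ← ap_mul _ hxN hkN, cs_eq_cs (mul_mem hkN hxN) (mul_mem hxN hkN)]
    at e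
  have h2 : (k * x)⁻¹ * (x * k) ∈ N ⊓ (K ⊔ R) :=
    ⟨e, (K ⊔ R).mul_mem ((K ⊔ R).inv_mem (mul_mem (mem_sup_left hk) (mem_sup_right hx)))
      (mul_mem (mem_sup_right hx) (mem_sup_left hk))⟩
  rw [hi, mem_bot, inv_mul_eq_one] at h2
  rw [h x hx hx1 k hk h2]
  exact ap_one _

/-- Lemma 3.3 for solvable `V` of order prime to `|K R|`. -/
theorem cent_of_regular_sol (hn : R ≤ N[K]) (h : Semireg K R) (hV : Sol V) (hKV : K ≤ N[V])
    (hRV : R ≤ N[V]) (hc : (♯V).Coprime ♯(K ⊔ R)) (hR : V ⊓ C[R] = ⊥) : K ≤ C[V] := by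
  have hcK := hc.coprime_dvd_right (card_dvd (le_sup_left : K ≤ K ⊔ R))
  have hcR := hc.coprime_dvd_right (card_dvd (le_sup_right : R ≤ K ⊔ R))
  refine cent_of_abelem_sections hV (sup_le hKV hRV) le_sup_left hcK ?_
  intro U W p _ hlt hW hU hLW hLU hE
  have hKW := le_sup_left.trans hLW
  have hRW := le_sup_right.trans hLW
  refine cent_of_regular_abelian (quo_norm W hn)
    (semiregular_quo_coprime h
      (inf_eq_bot_of_cop (hc.coprime_dvd_left (card_dvd hW.le)))) hE.1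
    (quo_norm W (le_sup_left.trans hLU)) (quo_norm W (le_sup_right.trans hLU))
    (coprime_quo (hcK.coprime_dvd_left (card_dvd hU.le)) W) ?_
  rw [← quo_inf_C hlt.le hRW (hcR.coprime_dvd_left (card_dvd hW.le)) (Or.inl (hV.of_le hW.le)),
    eq_bot_of_le hR (inf_le_inf_right _ hU.le), quo, img_bot]

/-- Lemma 3.3 for solvable `V` of order prime to `|M|`. -/
theorem Frobenius_cent_compl_sol (h : Frob M K R) (hV : Sol V) (hMV : M ≤ N[V])
    (hc : (♯V).Coprime ♯M) (hR : V ⊓ C[R] = ⊥) : K ≤ C[V] :=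
  cent_of_regular_sol h.sd.norm h.reg hV (h.sd.left_le.trans hMV) (h.sd.right_le.trans hMV)
    (by rwa [h.sd.sup]) hR

/-- A group of order prime to a solvable operator group has an invariant nontrivial elementary
abelian subgroup. -/
theorem exists_abelem_invariant (hn : R ≤ N[H]) (hc : (♯H).Coprime ♯R) (hs : Sol R ∨ Sol H)
    (h1 : H ≠ ⊥) : ∃ p E, p.Prime ∧ IsElementaryAbelian p E ∧ E ≠ ⊥ ∧ E ≤ H ∧ R ≤ N[E] := by
  obtain ⟨p, hp, hd⟩ := exists_prime_dvd_card h1
  obtain ⟨P, hP, hRP⟩ := H26.sol_coprime_Sylow_exists hp hn hc hs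
  obtain ⟨q, E, hq, hE, hE1, hEP, hEn⟩ :=
    exists_abelem_char (hP.pi.sol hp) (hP.ne_bot hp rfl hd)
  exact ⟨q, E, hq, hE, hE1, hEP.trans hP.le, hRP.trans hEn⟩

/-- A Frobenius group with solvable complement-kernel product cannot act semiregularly. -/
theorem not_regular_of_Frobenius (h : Frob M K R) (hM : Sol M) (h1 : H ≠ ⊥) (hn : M ≤ N[H])
    (hreg : Semireg H M) : False := by
  obtain ⟨p, E, -, hE, hE1, hEH, hME⟩ :=
    exists_abelem_invariant hn (regular_norm_coprime hn hreg) (Or.inl hM) h1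
  have hreg' := semiregularS hEH le_rfl hreg
  have hc := regular_norm_coprime hME hreg'
  refine Frobenius_rfix_compl h hE.1 hME (hc.coprime_dvd_right (card_dvd h.sd.left_le)) ?_
    (cent_semiregular hreg' h.sd.right_le h.compl_ne)
  intro hK
  apply hE1
  rw [← cent_semiregular hreg' h.sd.left_le h.ker_ne, eq_comm, inf_eq_left]
  exact centsC.1 hK

/-- If `P`, `Q` have prime order, `P` normalises `Q` and `Q P` acts semiregularly then `P`
centralises `Q`. -/
theorem regular_prime_cent {Q : Subgroup G} (hP : (♯P).Prime) (hQ : (♯Q).Prime) (hPQ : P ≤ N[Q])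
    (h1 : H ≠ ⊥) (hn : Q ⊔ P ≤ N[H]) (hreg : Semireg H (Q ⊔ P)) : P ≤ C[Q] := by
  by_contra hc
  have h2 : Q ⊓ C[P] = ⊥ := H25.inf_eq_bot_of_card_prime hQ rfl fun h => hc (centsC.1 h)
  exact not_regular_of_Frobenius (Frobenius_mk hPQ (H25.ne_bot_of_card_prime hQ rfl)
    (H25.ne_bot_of_card_prime hP rfl) (semiregular_prime hP h2))
    ((cyc_of_prime hQ).sol.sup (cyc_of_prime hP).sol hPQ) h1 hn hreg

theorem hall_pcore_coreMod_Fitting (p : ℕ) (K : Subgroup G) :
    Hall {p}ᶜ (coreMod {p} K F[K]) O[{p}ᶜ, F[K]] :=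
  ((Fitting_nil K).pcore_hall _).of_idx (le_coreMod _ _ _)
    (by rw [compl_compl]; exact coreMod_idx _ _ _)

theorem coreMod_inf_C_le_Fitting (hp : p.Prime) (K : Subgroup G) :
    coreMod {p} K F[K] ⊓ C[O[{p}ᶜ, F[K]]] ≤ F[K] := by
  have hL := coreMod_nml {p} (Fitting_nml K)
  have hO := pcore_Fitting_nml {p}ᶜ K
  have hD : coreMod {p} K F[K] ⊓ C[O[{p}ᶜ, F[K]]] ⊴ K :=
    ⟨inf_le_left.trans hL.le, norm_inf hL.norm (norm_C hO.norm)⟩
  refine Fitting_max hD ?_
  obtain ⟨P, hP⟩ := Sylow_exists hp (coreMod {p} K F[K] ⊓ C[O[{p}ᶜ, F[K]]])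
  have hH := (hall_pcore_coreMod_Fitting p K).nml_inf (hL.le.trans hO.norm)
    (inf_le_left (b := C[O[{p}ᶜ, F[K]]]))
  refine CP.nil ⟨?_, (hP.isProd hH).sup_eq⟩ (hP.pi.nil hp)
    ((Fitting_nil K).of_le (inf_le_left.trans (pcore_le _ _)))
  exact centsC.1 (cents_of_le (hP.le.trans inf_le_right) inf_le_left)

/-- To show that `X` centralises `K / F(K)` it suffices to look at `X`-invariant `p`-subgroups
acting on `O_{p'}(F(K))`. -/
theorem le_Fitting_of_syl (hK : Sol K) (h : ∀ p, p.Prime → ∃ P, Syl p (coreMod {p} K F[K]) P ∧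
    P ≤ C[O[{p}ᶜ, F[K]]]) : Nil K := by
  by_contra hn
  have h1 : quo K F[K] ≠ ⊥ := by
    rw [Ne, quo_eq_bot (Fitting_nml K).norm]
    exact fun hle => hn ((Fitting_nil K).of_le hle)
  obtain ⟨p, hp, hO⟩ := exists_pcore_ne_bot (hK.quo _) h1
  obtain ⟨P, hP, hPC⟩ := h p hp
  apply hO
  rw [← quo_coreMod, ← (hP.isProd (hall_pcore_coreMod_Fitting p K)).sup_eq]
  exact quo_eq_bot_of_le (sup_le ((le_inf hP.le hPC).trans (coreMod_inf_C_le_Fitting hp K))
    (pcore_le _ _))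

/-- Theorem 3.7 in the form most used: a solvable group with a semiregular nontrivial
operator group is nilpotent. -/
theorem semiregular_sol_nil (hK : Sol K) (hn : H ≤ N[K]) (h1 : H ≠ ⊥) (h : Semireg K H) :
    Nil K := by
  have hc := regular_norm_coprime hn h
  refine le_Fitting_of_syl hK fun p hp => ?_
  have hL := coreMod_nml {p} (Fitting_nml K)
  have hO := pcore_Fitting_nml {p}ᶜ K
  obtain ⟨P, hP, hHP⟩ := H26.sol_coprime_Sylow_exists hp
    (norm_coreMod {p} (Fitting_nml K) hn (norm_Fitting hn)) (hc.coprime_dvd_left (card_dvd hL.le))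
    (Or.inr (hK.of_le hL.le))
  have hPK := hP.le.trans hL.le
  refine ⟨P, hP, cent_of_regular_sol hHP (semiregularS hPK le_rfl h) (hK.of_le hO.le)
    (hPK.trans hO.norm) (norm_pcore _ (norm_Fitting hn)) ?_
    (eq_bot_of_le (cent_semiregular h le_rfl h1) (inf_le_inf_right _ hO.le))⟩
  refine Nat.Coprime.coprime_dvd_right (isProd_sup hHP).card_dvd (Nat.Coprime.mul_right ?_ ?_)
  · exact (pcore_pi _ _).coprime' hP.pi
  · exact hc.coprime_dvd_left (card_dvd hO.le)

/-- Theorem 3.7. -/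
theorem prime_Frobenius_sol_kernel_nil (h : SD K R M) (hM : Sol M) (hR : (♯R).Prime)
    (hKR : K ⊓ C[R] = ⊥) : Nil K :=
  semiregular_sol_nil (hM.of_le h.left_le) h.norm (H25.ne_bot_of_card_prime hR rfl)
    (semiregular_prime hR hKR)

theorem Frobenius_sol_kernel_nil (h : Frob M K H) (hK : Sol K) : Nil K :=
  semiregular_sol_nil hK h.sd.norm h.compl_ne h.reg

/-- An abelian group acting semiregularly on a nontrivial group is cyclic. -/
theorem regular_abelian_cyclic (hR : Abl R) (h1 : H ≠ ⊥) (hn : R ≤ N[H]) (hreg : Semireg H R) :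
    Cyc R := by
  by_contra hc
  exact h1 (eq_bot_iff.2 (H26.coprime_abelian_gen_cent1 hR hc hn (regular_norm_coprime hn hreg)
    fun a ha h => (hreg a ha h).le))

/-- Proposition 3.9. -/
theorem odd_regular_pgroup_cyclic (hp : p.Prime) (hR : IsPi {p} R) (hodd : Odd ♯R) (h1 : H ≠ ⊥)
    (hn : R ≤ N[H]) (hreg : Semireg H R) : Cyc R := by
  by_contra hc
  obtain ⟨E, hE⟩ := (H25.prank_geP hp).1 (H25.odd_pgroup_two_le_prank hp hR hodd hc)
  exact H25.H24.PnElem.not_cyc hE hp le_rfl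
    (regular_abelian_cyclic hE.elem.1 h1 (hE.le.trans hn) (semiregularS le_rfl hE.le hreg))

omit [Finite G] in
theorem isZGroup_of_syl (h : ∀ p P, p.Prime → P ≤ R → IsPGroup p P → Cyc P) : IsZGroup R := by
  refine ⟨fun p hp S => ?_⟩
  have := h p ((S : Subgroup R).map R.subtype) hp (map_subtype_le _) (S.isPGroup'.map _)
  exact (cyc_map_iff R.subtype_injective).1 this

theorem cyc_of_isZGroup (hZ : IsZGroup R) (hp : p.Prime) (hP : IsPi {p} P) (hPR : P ≤ R) :
    Cyc P :=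
  H25.nil_Zgroup_cyclic (IsZGroup.of_injective (inclusion_injective hPR)) (hP.nil hp)

theorem odd_regular_Zgroup (hodd : Odd ♯R) (h1 : H ≠ ⊥) (hn : R ≤ N[H]) (hreg : Semireg H R) :
    IsZGroup R :=
  isZGroup_of_syl fun _ _ hp hP hpg => odd_regular_pgroup_cyclic hp (isPi_of_isPGroup hp hpg)
    (odd_of_le hodd hP) h1 (hP.trans hn) (semiregularS le_rfl hP hreg)

theorem isMetacyclic_of_isZGroup {T : Type u} [Group T] [Finite T] [IsZGroup T] : IsMetacyclic T :=
  ⟨commutator T, inferInstance, IsZGroup.isCyclic_commutator T,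
    IsZGroup.isCyclic_abelianization⟩

/-- Aschbacher (40.6)(4). -/
theorem odd_regular_metacyclic (hodd : Odd ♯R) (h1 : H ≠ ⊥) (hn : R ≤ N[H]) (hreg : Semireg H R) :
    IsMetacyclic R :=
  have := odd_regular_Zgroup hodd h1 hn hreg
  isMetacyclic_of_isZGroup

theorem Zgroup_der1_cyc (hZ : IsZGroup R) : Cyc ⁅R, R⁆ := by
  rw [← map_subtype_commutator]
  exact (cyc_map_iff R.subtype_injective).2 (IsZGroup.isCyclic_commutator R)

theorem Zgroup_der1_isHall (hZ : IsZGroup R) : IsHall R ⁅R, R⁆ := by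
  refine ⟨der1_le R, ?_⟩
  have := IsZGroup.coprime_commutator_index R
  rw [← map_subtype_commutator, card_map_of_injective R.subtype_injective, relIndex,
    subgroupOf_map_subtype']
  exact this

/-- In a semiregular operator group which is a Z-group, subgroups of prime order are normal. -/
theorem prime_Zgroup_regular_normal (hZ : IsZGroup R) (hP : (♯P).Prime) (hPR : P ≤ R) (h1 : H ≠ ⊥)
    (hn : R ≤ N[H]) (hreg : Semireg H R) : P ⊴ R := by
  have hc := Zgroup_der1_cyc hZ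
  have hD := der1_nml R
  by_cases hle : P ≤ ⁅R, R⁆
  · exact H25.H24.Nml.of_cyc hD hc hle
  have hi : P ⊓ ⁅R, R⁆ = ⊥ := H25.inf_eq_bot_of_card_prime hP rfl hle
  have hPp := isPi_of_card_prime hP rfl
  have hp' : IsPi {♯P}ᶜ ⁅R, R⁆ := by
    rw [isPi_compl_iff hP]
    intro hd
    exact hle ((Zgroup_der1_isHall hZ).hall.le_of_nml hD.norm
      (hPp.of_mem (mem_primesOf.2 ⟨hP, hd⟩)) hPR)
  have hcent : P ≤ C[⁅R, R⁆] := by
    refine H26.coprime_abelian_faithful_Ohm1 (hPR.trans hD.norm) (hp'.coprime' hPp) hc.abl ?_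
    intro x hx hxp
    have hQ : zpowers x ⊴ R := H25.H24.Nml.of_cyc hD hc (zpowers_le.2 hx)
    have := regular_prime_cent (Q := zpowers x) hP (by rwa [card_zpowers']) (hPR.trans hQ.norm) h1
      (sup_le (hQ.le.trans hn) (hPR.trans hn)) (semiregularS le_rfl (sup_le hQ.le hPR) hreg)
    exact centsC.1 this (mem_zpowers x)
  have hdp : DP P ⁅R, R⁆ (P ⊔ ⁅R, R⁆) := DP.mk_sup (centsC.1 hcent) hi
  have hn2 : P ⊔ ⁅R, R⁆ ⊴ R := nml_of_der1_le le_sup_right (sup_le hPR hD.le)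
  rw [← hdp.pcore_eq hPp hp']
  exact hn2.pcore _

/-- Huppert V.18.8 b. -/
theorem prime_odd_regular_normal (hP : (♯P).Prime) (hodd : Odd ♯R) (hPR : P ≤ R) (h1 : H ≠ ⊥)
    (hn : R ≤ N[H]) (hreg : Semireg H R) : P ⊴ R :=
  prime_Zgroup_regular_normal (odd_regular_Zgroup hodd h1 hn hreg) hP hPR h1 hn hreg

/-- Aschbacher (40.6)(3). -/
theorem regular_pq_group_cyclic (hp : p.Prime) (hq : q.Prime) (hpq : p ≠ q) (hR : ♯R = p * q)
    (h1 : H ≠ ⊥) (hn : R ≤ N[H]) (hreg : Semireg H R) : Cyc R := by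
  have hZ : IsZGroup R := IsZGroup.of_squarefree (by
    rw [hR, Nat.squarefree_mul ((Nat.coprime_primes hp hq).2 hpq)]
    exact ⟨hp.squarefree, hq.squarefree⟩)
  refine H25.nil_Zgroup_cyclic hZ (nil_of_exists_syl_nml fun r hr hd => ?_)
  obtain ⟨X, hXR, hX⟩ := exists_card_prime hr hd
  refine ⟨X, Syl.mk' hr hXR (isPi_of_card_prime hr hX) fun hd2 => ?_,
    (prime_Zgroup_regular_normal hZ (hX ▸ hr) hXR h1 hn hreg).norm⟩
  have h2 : r * r ∣ p * q := by
    rw [← hR, ← card_mul_relIndex hXR, hX]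
    exact Nat.mul_dvd_mul_left _ hd2
  have h3 : Squarefree (p * q) := by
    rw [Nat.squarefree_mul ((Nat.coprime_primes hp hq).2 hpq)]
    exact ⟨hp.squarefree, hq.squarefree⟩
  exact hr.not_isUnit (h3 r h2)

/-- Proposition 3.9 for an external action. -/
theorem ext_odd_regular_pgroup_cyclic {T : Type*} [Group T] [Finite T] [Nontrivial T]
    (hp : p.Prime) (hR : IsPi {p} R) (hodd : Odd ♯R) (φ : R →* MulAut T)
    (hreg : ∀ x : R, x ≠ 1 → ∀ t : T, φ x t = t → t = 1) : Cyc R := by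
  have : Finite (T ⋊[φ] R) := Finite.of_equiv _ SemidirectProduct.equivProd.symm
  let H' : Subgroup (T ⋊[φ] R) := (SemidirectProduct.inl : T →* T ⋊[φ] R).range
  let R' : Subgroup (T ⋊[φ] R) := (SemidirectProduct.inr : R →* T ⋊[φ] R).range
  let e : R ≃* R' := MonoidHom.ofInjective SemidirectProduct.inr_injective
  have hc : ♯R' = ♯R := (Nat.card_congr e.toEquiv).symm
  have hN : H'.Normal := by
    simp only [H', SemidirectProduct.range_inl_eq_ker_rightHom]
    infer_instance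
  have h1 : H' ≠ ⊥ := by
    obtain ⟨t, ht⟩ := exists_ne (1 : T)
    exact ne_bot_of_mem (x := SemidirectProduct.inl t) ⟨t, rfl⟩
      fun h => ht (SemidirectProduct.inl_injective (by rw [h, map_one]))
  have h2 : Cyc R' := by
    refine odd_regular_pgroup_cyclic hp (by rw [IsPi, hc]; exact hR) (by rwa [hc]) h1
      (norm_of_normal _ _) (semireg_iff.2 ?_)
    rintro _ ⟨x, rfl⟩ hx _ ⟨t, rfl⟩ h
    rw [hreg x (fun e => hx (by rw [e, map_one])) t, map_one]
    apply SemidirectProduct.inl_injective (φ := φ)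
    rw [SemidirectProduct.inl_aut, ← h, map_inv, mul_inv_cancel_right]
  exact isCyclic_of_surjective e.symm e.symm.surjective

end H1
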