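import Mathlib
import Cfsg.Agent.H1.Coprime

/-!
# Gaschütz's theorems
-/

set_option autoImplicit false

open scoped Pointwise commutatorElement IsMulCommutative

namespace H1

universe u v

variable {G : Type u} [Group G]

/-- conjugation on a normal subgroup, as a homomorphism `G →* Monoid.End K`. -/
def conjN (K : Subgroup G) [K.Normal] (g : G) : K →* K :=
  conjHom K g (Subgroup.le_normalizer_of_normal (Subgroup.mem_top g))

@[simp] theorem coe_conjN (K : Subgroup G) [K.Normal] (g : G) (k : K) :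
    ((conjN K g k : K) : G) = g * k * g⁻¹ := rfl

theorem conjN_mul (K : Subgroup G) [K.Normal] (g h : G) (k : K) :
    conjN K (g * h) k = conjN K g (conjN K h k) := by
  ext; simp [mul_assoc]

theorem conjN_of_mem (K : Subgroup G) [K.Normal] [IsMulCommutative K] (g k : K) :
    conjN K g k = k := by
  ext
  rw [coe_conjN, mul_inv_eq_iff_eq_mul]
  exact congrArg Subtype.val (mul_comm g k)

/-- a crossed homomorphism `G → K` that is injective on `K` gives a complement. -/
theorem exists_complement_of_crossed [Finite G] (K : Subgroup G) [K.Normal] [IsMulCommutative K]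
    (Δ : G → K) (hΔ : ∀ g h, Δ (g * h) = Δ g * conjN K g (Δ h))
    (hinj : Function.Injective fun k : K => Δ k) :
    ∃ H : Subgroup G, Subgroup.IsComplement' K H := by
  have h1 : Δ 1 = 1 := by
    have := hΔ 1 1
    rw [mul_one, show conjN K 1 (Δ 1) = Δ 1 from conjN_of_mem K 1 _] at this
    exact left_eq_mul.mp this
  let H : Subgroup G :=
    { carrier := {g | Δ g = 1}
      one_mem' := h1
      mul_mem' := fun {a b} ha hb => by
        simp only [Set.mem_ofPred_eq] at ha hb ⊢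
        rw [hΔ, ha, hb, map_one, mul_one]
      inv_mem' := fun {a} ha => by
        simp only [Set.mem_ofPred_eq] at ha ⊢
        have := hΔ a⁻¹ a
        rw [inv_mul_cancel, h1, ha, map_one, mul_one] at this
        exact this.symm }
  refine ⟨H, Subgroup.isComplement'_of_disjoint_and_mul_eq_univ ?_ ?_⟩
  · rw [Subgroup.disjoint_def]
    intro x hx hxH
    exact congrArg Subtype.val (@hinj ⟨x, hx⟩ 1 (hxH.trans h1.symm))
  · rw [Set.eq_univ_iff_forall]
    intro g
    obtain ⟨k, hk⟩ := Finite.surjective_of_injective hinj (Δ g)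
    refine ⟨k, k.2, (k : G)⁻¹ * g, ?_, by simp⟩
    have := hΔ k ((k : G)⁻¹ * g)
    rw [mul_inv_cancel_left, conjN_of_mem, ← show Δ k = Δ g from hk] at this
    exact left_eq_mul.mp this

/-- **Gaschütz**, existence. -/
theorem gaschutz_exists [Finite G] (K U : Subgroup G) [hKn : K.Normal] [IsMulCommutative K]
    (hKU : K ≤ U) (hcop : (Nat.card K).Coprime U.index)
    (A : Subgroup G) (hAK : A ⊓ K = ⊥) (hKA : K ⊔ A = U) :
    ∃ H : Subgroup G, Subgroup.IsComplement' K H := by
  classical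
  have hex : ∀ u ∈ U, ∃ k : K, (k : G)⁻¹ * u ∈ A := by
    intro u hu
    rw [← hKA] at hu
    obtain ⟨k, hk, a, ha, rfl⟩ := (mem_sup_of_le_normalizer Subgroup.le_normalizer_of_normal).mp hu
    exact ⟨⟨k, hk⟩, by simpa using ha⟩
  choose! δ hδ using hex
  have huniq : ∀ u ∈ U, ∀ k : K, (k : G)⁻¹ * u ∈ A → δ u = k := by
    intro u hu k hk
    have h1 : (k : G)⁻¹ * δ u ∈ A ⊓ K :=
      ⟨by simpa [mul_assoc] using A.mul_mem hk (A.inv_mem (hδ u hu)),
        K.mul_mem (K.inv_mem k.2) (δ u).2⟩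
    rw [hAK, Subgroup.mem_bot, inv_mul_eq_one] at h1
    exact Subtype.ext h1.symm
  have hδmul : ∀ u ∈ U, ∀ v ∈ U, δ (u * v) = δ u * conjN K u (δ v) := by
    intro u hu v hv
    apply huniq _ (U.mul_mem hu hv)
    rw [mul_comm]
    simpa [mul_assoc] using A.mul_mem (hδ u hu) (hδ v hv)
  have : Fintype (G ⧸ U) := Fintype.ofFinite _
  let t : G ⧸ U → G := Quotient.out
  have ht : ∀ q, (t q : G ⧸ U) = q := Quotient.out_eq'
  have hu : ∀ (g : G) (q : G ⧸ U), (t (g • q))⁻¹ * g * t q ∈ U := by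
    intro g q
    rw [mul_assoc, ← QuotientGroup.eq, ht, ← smul_eq_mul, ← MulAction.Quotient.smul_mk, ht]
  refine exists_complement_of_crossed K
    (fun g => ∏ q : G ⧸ U, conjN K (t (g • q)) (δ ((t (g • q))⁻¹ * g * t q))) ?_ ?_
  · intro g h
    rw [map_prod, ← Fintype.prod_equiv (MulAction.toPerm h)
      (fun q => conjN K (t (g • h • q)) (δ ((t (g • h • q))⁻¹ * g * t (h • q))))
      (fun q => conjN K (t (g • q)) (δ ((t (g • q))⁻¹ * g * t q))) (fun _ => rfl),
      ← Finset.prod_mul_distrib]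
    refine Finset.prod_congr rfl fun q _ => ?_
    rw [mul_smul, show (t (g • h • q))⁻¹ * (g * h) * t q =
      ((t (g • h • q))⁻¹ * g * t (h • q)) * ((t (h • q))⁻¹ * h * t q) by group,
      hδmul _ (hu g _) _ (hu h q), map_mul, ← conjN_mul, ← conjN_mul]
    congr 3
    group
  · have key : ∀ k : K, ∏ q : G ⧸ U, conjN K (t ((k : G) • q))
        (δ ((t ((k : G) • q))⁻¹ * k * t q)) = k ^ U.index := by
      intro k
      rw [Subgroup.index, Nat.card_eq_fintype_card, ← Finset.card_univ, ← Finset.prod_const]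
      refine Finset.prod_congr rfl fun q _ => ?_
      have hk' : (t q)⁻¹ * k * t q ∈ K := by simpa using hKn.conj_mem _ k.2 (t q)⁻¹
      have e : (k : G) • q = q := by
        conv_lhs => rw [← ht q]
        conv_rhs => rw [← ht q]
        rw [MulAction.Quotient.smul_mk, eq_comm, QuotientGroup.eq, smul_eq_mul, ← mul_assoc]
        exact hKU hk'
      rw [e, huniq _ (hKU hk') ⟨_, hk'⟩ (by rw [inv_mul_cancel]; exact A.one_mem)]
      ext
      simp [mul_assoc]
    intro k k' h
    simp only [key] at h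
    exact (powCoprime hcop).injective h

/-- **Gaschütz**, conjugacy. -/
theorem gaschutz_conj [Finite G] (K U : Subgroup G) [hKn : K.Normal] [IsMulCommutative K]
    (hKU : K ≤ U) (hcop : (Nat.card K).Coprime U.index)
    (H₀ H₁ : Subgroup G) (h₀ : Subgroup.IsComplement' K H₀) (h₁ : Subgroup.IsComplement' K H₁)
    (hU : H₀ ⊓ U = H₁ ⊓ U) : ∃ k ∈ K, MulAut.conj k • H₀ = H₁ := by
  classical
  have hex : ∀ H : Subgroup G, Subgroup.IsComplement' K H → ∃ δ : G → K,
      (∀ g, (δ g : G)⁻¹ * g ∈ H) ∧ (∀ g (k : K), (k : G)⁻¹ * g ∈ H → δ g = k) ∧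
      ∀ u v, δ (u * v) = δ u * conjN K u (δ v) := by
    intro H hH
    have hex : ∀ u, ∃ k : K, (k : G)⁻¹ * u ∈ H := by
      intro u
      have hu : u ∈ K ⊔ H := by rw [hH.sup_eq_top]; trivial
      obtain ⟨k, hk, a, ha, rfl⟩ :=
        (mem_sup_of_le_normalizer Subgroup.le_normalizer_of_normal).mp hu
      exact ⟨⟨k, hk⟩, by simpa using ha⟩
    choose δ hδ using hex
    have huniq : ∀ u, ∀ k : K, (k : G)⁻¹ * u ∈ H → δ u = k := by
      intro u k hk
      have h1 := Subgroup.disjoint_def.mp hH.disjoint (K.mul_mem (K.inv_mem k.2) (δ u).2)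
        (by simpa [mul_assoc] using H.mul_mem hk (H.inv_mem (hδ u)))
      rw [inv_mul_eq_one] at h1
      exact Subtype.ext h1.symm
    refine ⟨δ, hδ, huniq, fun u v => ?_⟩
    apply huniq
    rw [mul_comm]
    simpa [mul_assoc] using H.mul_mem (hδ u) (hδ v)
  obtain ⟨δ₀, a₀, b₀, c₀⟩ := hex H₀ h₀
  obtain ⟨δ₁, a₁, b₁, c₁⟩ := hex H₁ h₁
  let d : G → K := fun g => δ₀ g / δ₁ g
  have hd : ∀ g h, d (g * h) = d g * conjN K g (d h) := by
    intro g h
    simp only [d, c₀, c₁, map_div, div_mul_div_comm]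
  have hdU : ∀ u ∈ U, d u = 1 := by
    intro u hu
    have h1 : (δ₀ u : G)⁻¹ * u ∈ H₁ ⊓ U :=
      hU ▸ ⟨a₀ u, U.mul_mem (U.inv_mem (hKU (δ₀ u).2)) hu⟩
    simp only [d, b₁ u _ h1.1, div_self']
  have : Fintype (G ⧸ U) := Fintype.ofFinite _
  let t : G ⧸ U → G := Quotient.out
  have ht : ∀ q, (t q : G ⧸ U) = q := Quotient.out_eq'
  set C : K := ∏ q : G ⧸ U, d (t q) with hC
  have hCg : ∀ g, C = d g ^ U.index * conjN K g C := by
    intro g
    rw [hC, map_prod, Subgroup.index, Nat.card_eq_fintype_card, ← Finset.card_univ,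
      ← Finset.prod_const, ← Finset.prod_mul_distrib,
      ← Fintype.prod_equiv (MulAction.toPerm g) (fun q => d (t (g • q))) _ (fun _ => rfl)]
    refine Finset.prod_congr rfl fun q _ => ?_
    have hu : (g * t q)⁻¹ * t (g • q) ∈ U := by
      rw [← QuotientGroup.eq, ht, ← smul_eq_mul, ← MulAction.Quotient.smul_mk, ht]
    rw [← hd, ← mul_inv_cancel_left (g * t q) (t (g • q)), hd (g * t q), hdU _ hu, map_one, mul_one]
  obtain ⟨k, hk⟩ := (powCoprime hcop).surjective C
  rw [powCoprime_apply] at hk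
  have hkg : ∀ g, k = d g * conjN K g k := by
    intro g
    apply (powCoprime hcop).injective
    rw [powCoprime_apply, powCoprime_apply, mul_pow, ← map_pow, hk]
    exact hCg g
  refine ⟨k, k.2, (Subgroup.eq_of_le_of_card_ge ?_ ?_).symm⟩
  · intro h hh
    rw [mem_conj_smul]
    have e1 : δ₁ h = 1 := b₁ h 1 (by simpa using hh)
    have e2 := congrArg Subtype.val (hkg h)
    simp only [d, e1, div_one, Subgroup.coe_mul, coe_conjN] at e2
    have e3 : (k : G)⁻¹ * h * k = (((δ₀ h : G)⁻¹ * h⁻¹⁻¹)) := by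
      have e4 : (δ₀ h : G) = k * (h * k * h⁻¹)⁻¹ := eq_mul_inv_of_mul_eq e2.symm
      have e5 : (k : G) * (h * k * h⁻¹)⁻¹ = (h * k * h⁻¹)⁻¹ * k :=
        congrArg Subtype.val (mul_comm k (conjN K h k)⁻¹)
      rw [e4, e5]; group
    rw [e3, inv_inv]
    exact a₀ h
  · rw [card_conj_smul, ← h₀.symm.index_eq_card, ← h₁.symm.index_eq_card]

end H1
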