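import Mathlib
import Cfsg.Agent.H1.BG33
import Cfsg.Agent.H26.S01a
import Cfsg.Agent.H13.ZJApps
import Cfsg.Agent.S0117

/-! # Thompson's theorem: Frobenius kernels are nilpotent -/

set_option autoImplicit false

namespace H1

open Cfsg H24 Subgroup

universe u

/-- relative form of the Glauberman–Thompson normal `p`-complement theorem. -/
theorem ncompl_of_ncompl_NZJ {G : Type u} [Group G] [Finite G] {p : ℕ} (hp : p.Prime) (hp2 : p ≠ 2)
    {K P : Subgroup G} (hP : Syl p K P) (h : NCompl {p} (K ⊓ N[centerThompsonOf p P])) :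
    NCompl {p} K := by
  have : Fact p.Prime := ⟨hp⟩
  obtain ⟨S, hS⟩ := hP.exists_sylow hp
  rw [H26.ncompl_iff_hasNPC hp] at h ⊢
  rw [Cfsg.Agent.S0117.result hp2 S]
  have h1 : (S : Subgroup K) = P.subgroupOf K := by rw [← hS, subgroupOf_map_subtype']
  rw [h1, H13.normalizer_centerThompsonOf_subgroupOf hP.le]
  refine H3.HasNPC.of_equiv h ?_
  rw [← inf_subgroupOf_left]
  exact (subgroupOfEquivOfLe inf_le_left).symm

theorem semiregular_nil_aux (n : ℕ) : ∀ {G : Type u} [Group G] [Finite G] {K R : Subgroup G},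
    ♯K = n → (♯R).Prime → R ≤ N[K] → Semireg K R → Nil K := by
  induction n using Nat.strong_induction_on with
  | _ n ih =>
    intro G _ _ K R hn hR hRK h
    have hR1 := H25.ne_bot_of_card_prime hR rfl
    refine semiregular_sol_nil ?_ hRK hR1 h
    by_contra hs
    have hsub : ∀ L, L < K → R ≤ N[L] → Nil L := fun L hL hRL =>
      ih _ (hn ▸ card_lt hL) rfl hR hRL (semiregularS hL.le le_rfl h)
    have hsimp : ∀ L, L ⊴ K → R ≤ N[L] → L = ⊥ ∨ L = K := by
      intro L hL hRL
      by_contra hc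
      rw [not_or] at hc
      have hlt : L < K := lt_of_le_of_ne hL.le hc.2
      refine hs (sol_of_quo hL.norm (hsub L hlt hRL).sol ?_)
      have hi : L ⊓ R = ⊥ := inf_eq_bot_of_cop
        ((regular_norm_coprime hRK h).coprime_dvd_left (card_dvd hL.le))
      exact (ih _ (hn ▸ hL.card_quo_lt hc.1) rfl (by rwa [card_quo_of_inf hRL hi])
        (quo_norm L hRK) (semiregular_quo hRK hL.le hRL h)).sol
    obtain ⟨p, hp, hd, hp2⟩ : ∃ p, p.Prime ∧ p ∣ ♯K ∧ p ≠ 2 := by
      by_contra hc
      refine hs (IsPi.sol Nat.prime_two fun p hp hd => ?_)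
      by_contra h2
      exact hc ⟨p, hp, hd, h2⟩
    have : Fact p.Prime := ⟨hp⟩
    have hKp : ¬ IsPi {p} K := fun h => hs (h.sol hp)
    obtain ⟨P, hP, hRP⟩ := H26.sol_coprime_Sylow_exists hp hRK (regular_norm_coprime hRK h)
      (Or.inl (cyc_of_prime hR).sol)
    have hZP := H13.centerThompsonOf_le p P
    have hZ1 := H13.centerThompsonOf_ne_bot (Or.inr rfl) (hP.pi.isPGroup hp) (hP.ne_bot hp rfl hd)
    have hRZ : R ≤ N[centerThompsonOf p P] :=
      hRP.trans (H13.normalizer_le_normalizer_centerThompson p P)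
    have hlt : K ⊓ N[centerThompsonOf p P] < K := by
      refine lt_of_le_of_ne inf_le_left fun e => ?_
      rcases hsimp _ ⟨hZP.trans hP.le, inf_eq_left.1 e⟩ hRZ with h1 | h1
      · exact hZ1 h1
      · exact hKp (h1 ▸ hP.pi.of_le hZP)
    have hN := ncompl_of_ncompl_NZJ hp hp2 hP
      ((hsub _ hlt (norm_inf hRK (norm_N hRZ))).ncompl _)
    rcases hsimp _ (pcore_nml {p}ᶜ K) (norm_pcore _ hRK) with h1 | h1
    · apply hKp
      have := hN.isPi_compl_of_eq_bot h1
      rwa [compl_compl] at this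
    · exact (isPi_compl_iff hp).1 (isPi_of_pcore_eq h1) hd

variable {G : Type u} [Group G] [Finite G] {H K M : Subgroup G}

/-- **Thompson**: a group with a nontrivial semiregular operator group is nilpotent. -/
theorem semiregular_nil (hn : H ≤ N[K]) (h1 : H ≠ ⊥) (h : Semireg K H) : Nil K := by
  obtain ⟨R, hRH, hR⟩ := exists_card_isPrime h1
  exact semiregular_nil_aux _ rfl hR (hRH.trans hn) (semiregularS le_rfl hRH h)

/-- **Thompson**: Frobenius kernels are nilpotent. -/
theorem Frobenius_kernel_nil (h : Frob M K H) : Nil K :=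
  semiregular_nil h.sd.norm h.compl_ne h.reg

/-- **Thompson**, for an external semiregular action. -/
theorem nilpotent_of_regular_action {T : Type*} [Group T] [Finite T] {A : Type*} [Group A]
    [Finite A] [Nontrivial A] (φ : A →* MulAut T)
    (hreg : ∀ x : A, x ≠ 1 → ∀ t : T, φ x t = t → t = 1) : Group.IsNilpotent T := by
  have : Finite (T ⋊[φ] A) := Finite.of_equiv _ SemidirectProduct.equivProd.symm
  let H' : Subgroup (T ⋊[φ] A) := (SemidirectProduct.inl : T →* T ⋊[φ] A).range
  let R' : Subgroup (T ⋊[φ] A) := (SemidirectProduct.inr : A →* T ⋊[φ] A).range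
  let e : T ≃* H' := MonoidHom.ofInjective SemidirectProduct.inl_injective
  have hN : H'.Normal := by
    simp only [H', SemidirectProduct.range_inl_eq_ker_rightHom]
    infer_instance
  have h1 : R' ≠ ⊥ := by
    obtain ⟨t, ht⟩ := exists_ne (1 : A)
    exact ne_bot_of_mem (x := SemidirectProduct.inr t) ⟨t, rfl⟩
      fun h => ht (SemidirectProduct.inr_injective (by rw [h, map_one]))
  have h2 : Nil H' := by
    refine semiregular_nil (norm_of_normal _ _) h1 (semireg_iff.2 ?_)
    rintro _ ⟨x, rfl⟩ hx _ ⟨t, rfl⟩ h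
    rw [hreg x (fun e => hx (by rw [e, map_one])) t, map_one]
    apply SemidirectProduct.inl_injective (φ := φ)
    rw [SemidirectProduct.inl_aut, ← h, map_inv, mul_inv_cancel_right]
  exact Group.nilpotent_of_mulEquiv e.symm

end H1
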