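import Mathlib
import Cfsg.Prelude.Def_Transfer

/-!
# Lifting coprime actions on elementary abelian groups to complex representations
-/

set_option autoImplicit false

namespace H1

open Cardinal in
theorem exists_ringHom_padicInt_complex (p : ℕ) [Fact p.Prime] :
    ∃ φ : ℤ_[p] →+* ℂ, Function.Injective φ := by
  have h1 : #ℚ_[p] ≤ 𝔠 := by
    have : #ℚ_[p] ≤ #(ℕ → ℚ) := by
      refine le_trans (Cardinal.mk_quotient_le) ?_
      exact Cardinal.mk_subtype_le _
    refine this.trans ?_
    simp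
  have h2 : 𝔠 ≤ #ℚ_[p] := continuum_le_cardinal_of_nontriviallyNormedField ℚ_[p]
  let K := AlgebraicClosure ℚ_[p]
  have h3 : #K = 𝔠 := by
    apply le_antisymm
    · refine (Algebra.IsAlgebraic.cardinalMk_le_max ℚ_[p] K).trans ?_
      exact max_le h1 aleph0_le_continuum
    · exact h2.trans (Cardinal.mk_le_of_injective (algebraMap ℚ_[p] K).injective)
  have h4 : Nonempty (K ≃ ℂ) := by
    rw [← Cardinal.eq, h3, Cardinal.mk_complex]
  obtain ⟨e⟩ := IsAlgClosed.ringEquiv_of_equiv_of_charZero (K := K) (L := ℂ)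
    (by rw [h3]; exact aleph0_lt_continuum) h4
  refine ⟨e.toRingHom.comp ((algebraMap ℚ_[p] K).comp (PadicInt.Coe.ringHom)), ?_⟩
  exact e.injective.comp ((algebraMap ℚ_[p] K).injective.comp Subtype.val_injective)

section Approx

variable {Λ R L : Type*} [CommRing Λ] [Ring R] [Algebra Λ R] [Group L] [Fintype L]

/-- One step of the averaging procedure for approximate homomorphisms. -/
theorem approx_hom_step (c : Λ) (hc : c * (Fintype.card L : Λ) = 1) (t : Λ) (f : L → R)
    (hu : ∀ g, IsUnit (f g)) (hf : ∀ g h, ∃ y, f (g * h) - f g * f h = t • y) :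
    ∃ f' : L → R, (∀ g, ∃ y, f' g - f g = t • y) ∧
      ∀ g h, ∃ y, f' (g * h) - f' g * f' h = (t * t) • y := by
  classical
  choose u hu' using hu
  let a : L → L → R := fun g h => f (g * h) * ↑(u h)⁻¹
  let f' : L → R := fun g => c • ∑ h, a g h
  have havg : ∀ x : R, c • ∑ _h : L, x = x := by
    intro x
    rw [Finset.sum_const, Finset.card_univ, ← Nat.cast_smul_eq_nsmul Λ, smul_smul, hc, one_smul]
  have ha : ∀ g h, ∃ y, a g h - f g = t • y := by
    intro g h
    obtain ⟨y, hy⟩ := hf g h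
    refine ⟨y * ↑(u h)⁻¹, ?_⟩
    rw [← smul_mul_assoc, ← hy, sub_mul, mul_assoc, ← hu' h, Units.mul_inv, mul_one]
  choose y hy using ha
  have hf' : ∀ g, f' g - f g = t • (c • ∑ h, y g h) := by
    intro g
    have : f' g - f g = c • ∑ h, (a g h - f g) := by
      rw [Finset.sum_sub_distrib, smul_sub, havg]
    rw [this, smul_comm, Finset.smul_sum (r := t)]
    congr 1
    exact Finset.sum_congr rfl fun h _ => hy g h
  have ha' : ∀ g h, ∃ z, a g h - f' g = t • z := by
    intro g h
    refine ⟨y g h - c • ∑ h, y g h, ?_⟩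
    rw [smul_sub, ← hy, ← hf']; abel
  choose z hz using ha'
  refine ⟨f', fun g => ⟨_, hf' g⟩, fun g₁ g₂ => ⟨c • ∑ h, z g₁ (g₂ * h) * z g₂ h, ?_⟩⟩
  have hcoc : ∀ h, a g₁ (g₂ * h) * a g₂ h = a (g₁ * g₂) h := by
    intro h
    simp only [a]
    rw [mul_assoc, ← mul_assoc (↑(u (g₂ * h))⁻¹ : R), ← hu' (g₂ * h), Units.inv_mul, one_mul,
      mul_assoc g₁]
  have h1 : c • ∑ h, a g₁ (g₂ * h) = f' g₁ := by
    simp only [f']
    congr 1
    exact Fintype.sum_equiv (Equiv.mulLeft g₂) _ _ fun _ => rfl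
  have h2 : ∀ h, (t * t) • (z g₁ (g₂ * h) * z g₂ h) =
      a (g₁ * g₂) h - a g₁ (g₂ * h) * f' g₂ - f' g₁ * a g₂ h + f' g₁ * f' g₂ := by
    intro h
    rw [mul_smul, ← mul_smul_comm t (z g₁ (g₂ * h)), ← smul_mul_assoc, ← hz, ← hz, ← hcoc]
    noncomm_ring
  rw [smul_comm, Finset.smul_sum (r := t * t), Finset.sum_congr rfl fun h _ => h2 h]
  rw [Finset.sum_add_distrib, Finset.sum_sub_distrib, Finset.sum_sub_distrib, smul_add, smul_sub,
    smul_sub, havg, ← Finset.sum_mul, ← Finset.mul_sum, ← smul_mul_assoc, h1, ← mul_smul_comm]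
  simp only [f']
  abel

end Approx


section Padic

variable {p : ℕ} [Fact p.Prime] {ι : Type*} [Fintype ι] [DecidableEq ι]

theorem padic_toZMod_eq_zero_iff (x : ℤ_[p]) : PadicInt.toZMod x = 0 ↔ (p : ℤ_[p]) ∣ x := by
  rw [← RingHom.mem_ker, PadicInt.ker_toZMod, PadicInt.maximalIdeal_eq_span_p,
    Ideal.mem_span_singleton]

theorem padic_isUnit_of_toZMod_ne_zero {x : ℤ_[p]} (h : PadicInt.toZMod x ≠ 0) : IsUnit x := by
  by_contra hx
  apply h
  rw [← RingHom.mem_ker, PadicInt.ker_toZMod]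
  exact hx

omit [Fintype ι] [DecidableEq ι] in
theorem matrix_smul_iff (t : ℤ_[p]) (x : Matrix ι ι ℤ_[p]) :
    (∃ y, x = t • y) ↔ ∀ i j, t ∣ x i j := by
  constructor
  · rintro ⟨y, rfl⟩ i j
    exact ⟨y i j, rfl⟩
  · intro h
    choose y hy using h
    exact ⟨Matrix.of y, by ext i j; simp [hy]⟩

theorem matrix_map_eq_iff (x y : Matrix ι ι ℤ_[p]) :
    (PadicInt.toZMod (p := p)).mapMatrix x = (PadicInt.toZMod (p := p)).mapMatrix y ↔
      ∃ z, x - y = (p : ℤ_[p]) • z := by
  rw [matrix_smul_iff, ← Matrix.ext_iff]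
  refine forall_congr' fun i => forall_congr' fun j => ?_
  rw [← padic_toZMod_eq_zero_iff, Matrix.sub_apply, map_sub, sub_eq_zero]
  simp

theorem matrix_isUnit_of_map {x : Matrix ι ι ℤ_[p]}
    (h : IsUnit ((PadicInt.toZMod (p := p)).mapMatrix x)) : IsUnit x := by
  rw [Matrix.isUnit_iff_isUnit_det] at h ⊢
  rw [← RingHom.map_det] at h
  exact padic_isUnit_of_toZMod_ne_zero h.ne_zero

omit [Fintype ι] [DecidableEq ι] in
theorem isClosed_smul_range (t : ℤ_[p]) :
    IsClosed {x : Matrix ι ι ℤ_[p] | ∃ y, x = t • y} := by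
  have : {x : Matrix ι ι ℤ_[p] | ∃ y, x = t • y} = Set.range fun y : Matrix ι ι ℤ_[p] => t • y := by
    ext x; simp [eq_comm]
  rw [this]
  have : CompactSpace (Matrix ι ι ℤ_[p]) := inferInstanceAs (CompactSpace (ι → ι → ℤ_[p]))
  exact (isCompact_range (continuous_const_smul t)).isClosed

omit [Fintype ι] [DecidableEq ι] in
theorem matrix_eq_zero_of_forall {x : Matrix ι ι ℤ_[p]}
    (h : ∀ m : ℕ, ∃ y, x = ((p : ℤ_[p]) ^ 2 ^ m) • y) : x = 0 := by
  ext i j
  have h1 : ∀ m : ℕ, (p : ℤ_[p]) ^ m ∣ x i j := fun m =>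
    (pow_dvd_pow _ (Nat.lt_two_pow_self (n := m)).le).trans ((matrix_smul_iff _ _).1 (h m) i j)
  rw [Matrix.zero_apply, ← PadicInt.ext_of_toZModPow]
  intro n
  rw [map_zero, ← RingHom.mem_ker, PadicInt.ker_toZModPow, Ideal.mem_span_singleton]
  exact h1 n

/-- A representation of a `p'`-group over `ℤ/p` lifts to the `p`-adic integers. -/
theorem exists_padic_lift {L : Type*} [Group L] [Finite L] (hL : ¬ p ∣ Nat.card L)
    (ρ : L →* Matrix ι ι (ZMod p)) :
    ∃ f : L →* Matrix ι ι ℤ_[p], ∀ g, (PadicInt.toZMod (p := p)).mapMatrix (f g) = ρ g := by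
  classical
  let := Fintype.ofFinite L
  have hcu : IsUnit ((Fintype.card L : ℕ) : ℤ_[p]) := by
    apply padic_isUnit_of_toZMod_ne_zero
    rw [map_natCast, Ne, ZMod.natCast_eq_zero_iff, ← Nat.card_eq_fintype_card]
    exact hL
  obtain ⟨c, hc⟩ := hcu.exists_left_inv
  let f₀ : L → Matrix ι ι ℤ_[p] := fun g => (ρ g).map fun x => (x.val : ℤ_[p])
  have hf₀ : ∀ g, (PadicInt.toZMod (p := p)).mapMatrix (f₀ g) = ρ g := by
    intro g; ext i j; simp [f₀]
  let S : ℕ → Set (L → Matrix ι ι ℤ_[p]) := fun m =>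
    {f | (∀ g, ∃ z, f g - f₀ g = (p : ℤ_[p]) • z) ∧
      ∀ g h, ∃ y, f (g * h) - f g * f h = ((p : ℤ_[p]) ^ 2 ^ m) • y}
  have hred : ∀ f : L → Matrix ι ι ℤ_[p], (∀ g, ∃ z, f g - f₀ g = (p : ℤ_[p]) • z) →
      ∀ g, (PadicInt.toZMod (p := p)).mapMatrix (f g) = ρ g := fun f hf g => by
    rw [← hf₀, matrix_map_eq_iff]; exact hf g
  have hunit : ∀ f : L → Matrix ι ι ℤ_[p], (∀ g, ∃ z, f g - f₀ g = (p : ℤ_[p]) • z) →
      ∀ g, IsUnit (f g) := fun f hf g => by
    apply matrix_isUnit_of_map
    rw [hred f hf]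
    exact (Group.isUnit g).map ρ
  have hne : ∀ m, (S m).Nonempty := by
    intro m
    induction m with
    | zero =>
      refine ⟨f₀, fun g => ⟨0, by simp⟩, fun g h => ?_⟩
      rw [pow_zero, pow_one, ← matrix_map_eq_iff, map_mul, hf₀, hf₀, hf₀, map_mul]
    | succ m ih =>
      obtain ⟨f, hf1, hf2⟩ := ih
      obtain ⟨f', h1, h2⟩ := approx_hom_step c hc _ f (hunit f hf1) hf2
      refine ⟨f', fun g => ?_, fun g h => ?_⟩
      · obtain ⟨y, hy⟩ := h1 g
        obtain ⟨z, hz⟩ := hf1 g
        obtain ⟨k, hk⟩ : (p : ℤ_[p]) ∣ (p : ℤ_[p]) ^ 2 ^ m := dvd_pow_self _ (by positivity)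
        refine ⟨k • y + z, ?_⟩
        rw [smul_add, smul_smul, ← hk, ← hy, ← hz]; abel
      · rw [pow_succ, pow_mul, sq]
        exact h2 g h
  have hanti : ∀ m, S (m + 1) ⊆ S m := by
    rintro m f ⟨hf1, hf2⟩
    refine ⟨hf1, fun g h => ?_⟩
    obtain ⟨y, hy⟩ := hf2 g h
    exact ⟨_, by rw [hy, pow_succ, pow_mul, sq, mul_smul]⟩
  have hclosed : ∀ m, IsClosed (S m) := by
    intro m
    simp only [S, Set.ofPred_and, Set.ofPred_forall]
    refine IsClosed.inter (isClosed_iInter fun g => ?_)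
      (isClosed_iInter fun g => isClosed_iInter fun h => ?_)
    · exact (isClosed_smul_range (p : ℤ_[p])).preimage
        (f := fun f : L → Matrix ι ι ℤ_[p] => f g - f₀ g) (by fun_prop)
    · exact (isClosed_smul_range ((p : ℤ_[p]) ^ 2 ^ m)).preimage
        (f := fun f : L → Matrix ι ι ℤ_[p] => f (g * h) - f g * f h) (by fun_prop)
  have : CompactSpace (Matrix ι ι ℤ_[p]) := inferInstanceAs (CompactSpace (ι → ι → ℤ_[p]))
  obtain ⟨f, hf⟩ := IsCompact.nonempty_iInter_of_sequence_nonempty_isCompact_isClosed S hanti hne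
    (hclosed 0).isCompact hclosed
  rw [Set.mem_iInter] at hf
  have hmul : ∀ g h, f (g * h) = f g * f h := fun g h =>
    sub_eq_zero.1 (matrix_eq_zero_of_forall fun m => (hf m).2 g h)
  have hone : f 1 = 1 := by
    have := hmul 1 1
    rw [mul_one] at this
    exact (hunit f (hf 0).1 1).mul_left_cancel (by rw [← this, mul_one])
  exact ⟨⟨⟨f, hone⟩, hmul⟩, hred f (hf 0).1⟩

end Padic

section Rank

open Module Polynomial

variable {ι : Type*} [Fintype ι] [DecidableEq ι]

theorem finrank_ker_idem {K : Type*} [Field K] {e : Matrix ι ι K} (he : IsIdempotentElem e) :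
    finrank K (LinearMap.ker (Matrix.toLin' e)) = e.charpoly.natTrailingDegree := by
  rw [← Matrix.charpoly_toLin', ← LinearMap.finrank_maxGenEigenspace_zero_eq]
  suffices h : LinearMap.ker (Matrix.toLin' e) =
    Module.End.maxGenEigenspace (Matrix.toLin' e) 0 by rw [h]
  ext v
  simp only [LinearMap.mem_ker, Module.End.mem_maxGenEigenspace, zero_smul, sub_zero]
  constructor
  · intro h; exact ⟨1, by simpa using h⟩
  · rintro ⟨k, hk⟩
    rcases k with _ | k
    · simp only [pow_zero, Module.End.one_apply] at hk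
      rw [hk, map_zero]
    · have : (Matrix.toLin' e : Module.End K (ι → K)) ^ (k + 1) = Matrix.toLin' e := by
        have h2 : IsIdempotentElem (Matrix.toLin' e : Module.End K (ι → K)) := by
          unfold IsIdempotentElem
          rw [Module.End.mul_eq_comp, ← Matrix.toLin'_mul, he.eq]
        exact h2.pow_succ_eq k
      rwa [this] at hk

theorem finrank_ker_idem_add {K : Type*} [Field K] {e : Matrix ι ι K} (he : IsIdempotentElem e) :
    finrank K (LinearMap.ker (Matrix.toLin' e)) + finrank K (LinearMap.ker (Matrix.toLin' (1 - e)))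
      = Fintype.card ι := by
  have h : LinearMap.ker (Matrix.toLin' (1 - e)) = LinearMap.range (Matrix.toLin' e) := by
    ext v
    simp only [LinearMap.mem_ker, LinearMap.mem_range, map_sub, Matrix.toLin'_one,
      LinearMap.sub_apply, LinearMap.id_apply]
    constructor
    · intro h; exact ⟨v, (sub_eq_zero.1 h).symm⟩
    · rintro ⟨w, rfl⟩
      rw [← LinearMap.comp_apply, ← Matrix.toLin'_mul, he.eq, sub_self]
  rw [h, add_comm, LinearMap.finrank_range_add_finrank_ker, Module.finrank_fintype_fun_eq_card]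

theorem natTrailingDegree_le_map {R S : Type*} [CommRing R] [CommRing S] (φ : R →+* S) {q : R[X]}
    (h : q.map φ ≠ 0) : q.natTrailingDegree ≤ (q.map φ).natTrailingDegree := by
  apply Polynomial.le_natTrailingDegree h
  intro m hm
  rw [coeff_map, coeff_eq_zero_of_lt_natTrailingDegree hm, map_zero]

theorem natTrailingDegree_map_inj {R S : Type*} [CommRing R] [CommRing S] (φ : R →+* S)
    (hφ : Function.Injective φ) (q : R[X]) :
    (q.map φ).natTrailingDegree = q.natTrailingDegree := by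
  unfold natTrailingDegree trailingDegree
  rw [support_map_of_injective _ hφ]

/-- The rank of an idempotent matrix is the same under an injective map to a field and under any
map to a field. -/
theorem finrank_ker_idem_map {R K K' : Type*} [CommRing R] [Field K] [Field K'] (φ : R →+* K)
    (hφ : Function.Injective φ) (ψ : R →+* K') {e : Matrix ι ι R} (he : IsIdempotentElem e) :
    finrank K (LinearMap.ker (Matrix.toLin' (φ.mapMatrix e))) =
      finrank K' (LinearMap.ker (Matrix.toLin' (ψ.mapMatrix e))) := by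
  have key : ∀ {e : Matrix ι ι R}, IsIdempotentElem e →
      finrank K (LinearMap.ker (Matrix.toLin' (φ.mapMatrix e))) ≤
      finrank K' (LinearMap.ker (Matrix.toLin' (ψ.mapMatrix e))) := by
    intro e he
    rw [finrank_ker_idem (he.map φ.mapMatrix), finrank_ker_idem (he.map ψ.mapMatrix),
      RingHom.mapMatrix_apply, RingHom.mapMatrix_apply, Matrix.charpoly_map, Matrix.charpoly_map,
      natTrailingDegree_map_inj φ hφ]
    exact natTrailingDegree_le_map ψ ((Matrix.charpoly_monic e).map ψ).ne_zero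
  have h1 := key he
  have h2 := key he.one_sub
  have h3 := finrank_ker_idem_add (he.map φ.mapMatrix)
  have h4 := finrank_ker_idem_add (he.map ψ.mapMatrix)
  rw [map_sub φ.mapMatrix, map_sub ψ.mapMatrix, map_one φ.mapMatrix, map_one ψ.mapMatrix] at h2
  omega

end Rank


section Bridge

open Module

/-- The subspace fixed by a subgroup. -/
noncomputable def fixSp {K L V : Type*} [CommRing K] [Group L] [AddCommGroup V] [Module K V]
    (ρ : Representation K L V) (A : Subgroup L) : Submodule K V :=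
  Representation.invariants (ρ.comp A.subtype)

theorem mem_fixSp {K L V : Type*} [CommRing K] [Group L] [AddCommGroup V] [Module K V]
    {ρ : Representation K L V} {A : Subgroup L} {v : V} :
    v ∈ fixSp ρ A ↔ ∀ a ∈ A, ρ a v = v := by
  simp [fixSp, Representation.mem_invariants]

variable {ι : Type*} [Fintype ι] [DecidableEq ι]

/-- The representation on column vectors given by a matrix representation. -/
noncomputable def matRep {K L : Type*} [CommRing K] [Group L] (f : L →* Matrix ι ι K) :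
    Representation K L (ι → K) :=
  (Matrix.toLinAlgEquiv' (R := K) (n := ι)).toAlgHom.toMonoidHom.comp f

theorem matRep_apply {K L : Type*} [CommRing K] [Group L] (f : L →* Matrix ι ι K) (g : L) :
    matRep f g = Matrix.toLin' (f g) := rfl

theorem avg_mul {R L : Type*} [CommRing R] [Group L] (f : L →* Matrix ι ι R) (A : Subgroup L)
    [Fintype A] (c : R) {a : L} (ha : a ∈ A) :
    f a * (c • ∑ x : A, f x) = c • ∑ x : A, f x := by
  rw [mul_smul_comm, Finset.mul_sum]
  congr 1
  exact Fintype.sum_equiv (Equiv.mulLeft (⟨a, ha⟩ : A)) _ _ fun x => by simp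

theorem avg_idem {R L : Type*} [CommRing R] [Group L] (f : L →* Matrix ι ι R) (A : Subgroup L)
    [Fintype A] (c : R) (hc : c * (Fintype.card A : R) = 1) :
    IsIdempotentElem (c • ∑ x : A, f x) := by
  unfold IsIdempotentElem
  rw [smul_mul_assoc, Finset.sum_mul, Finset.sum_congr rfl fun x _ => avg_mul f A c x.2,
    Finset.sum_const, Finset.card_univ, ← Nat.cast_smul_eq_nsmul R, smul_smul, hc, one_smul]

theorem fixSp_eq_ker {K L : Type*} [CommRing K] [Group L] (f : L →* Matrix ι ι K) (A : Subgroup L)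
    [Fintype A] (c : K) (hc : c * (Fintype.card A : K) = 1) :
    fixSp (matRep f) A = LinearMap.ker (Matrix.toLin' (1 - c • ∑ x : A, f x)) := by
  ext v
  rw [mem_fixSp, LinearMap.mem_ker, map_sub, Matrix.toLin'_one, LinearMap.sub_apply,
    LinearMap.id_apply, sub_eq_zero]
  constructor
  · intro h
    rw [map_smul, map_sum, LinearMap.smul_apply, LinearMap.sum_apply,
      Finset.sum_congr rfl fun (x : A) _ => (show Matrix.toLin' (f x) v = v from h x x.2),
      Finset.sum_const, Finset.card_univ, ← Nat.cast_smul_eq_nsmul K, smul_smul, hc, one_smul]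
  · intro h a ha
    rw [matRep_apply]
    conv_lhs => rw [h]
    rw [← LinearMap.comp_apply, ← Matrix.toLin'_mul, avg_mul f A c ha, ← h]

theorem mapMatrix_one_sub_avg {R S L : Type*} [CommRing R] [CommRing S] [Group L]
    (θ : R →+* S) (f : L →* Matrix ι ι R) (A : Subgroup L) [Fintype A] (c : R) :
    θ.mapMatrix (1 - c • ∑ x : A, f x) =
      1 - θ c • ∑ x : A, (θ.mapMatrix.toMonoidHom.comp f) x := by
  rw [map_sub, map_one]
  congr 1
  ext i j
  simp [Matrix.sum_apply]

theorem finrank_fixSp_map {R K K' L : Type*} [CommRing R] [Field K] [Field K'] [Group L]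
    (φ : R →+* K) (hφ : Function.Injective φ) (ψ : R →+* K') (f : L →* Matrix ι ι R)
    (A : Subgroup L) [Fintype A] (hA : IsUnit (Fintype.card A : R)) :
    finrank K (fixSp (matRep (φ.mapMatrix.toMonoidHom.comp f)) A) =
      finrank K' (fixSp (matRep (ψ.mapMatrix.toMonoidHom.comp f)) A) := by
  obtain ⟨c, hc⟩ := hA.exists_left_inv
  rw [fixSp_eq_ker _ A (φ c) (by simpa using congrArg φ hc),
    fixSp_eq_ker _ A (ψ c) (by simpa using congrArg ψ hc), ← mapMatrix_one_sub_avg,
    ← mapMatrix_one_sub_avg]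
  exact finrank_ker_idem_map φ hφ ψ (avg_idem f A c hc).one_sub

/-- A representation of a `p'`-group over `ℤ/p` has a complex counterpart with fixed spaces of
the same dimensions. -/
theorem exists_complex_rep_of_zmod {p : ℕ} [Fact p.Prime] {L : Type*} [Group L] [Finite L]
    (hL : ¬ p ∣ Nat.card L) {W : Type*} [AddCommGroup W] [Module (ZMod p) W] [Finite W]
    (ρ : Representation (ZMod p) L W) :
    ∃ (n : ℕ) (σ : Representation ℂ L (Fin n → ℂ)), ∀ A : Subgroup L,
      finrank ℂ (fixSp σ A) = finrank (ZMod p) (fixSp ρ A) := by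
  classical
  have : Module.Finite (ZMod p) W := Module.Finite.of_finite
  let b := Module.finBasis (ZMod p) W
  let ρ' : L →* Matrix (Fin (finrank (ZMod p) W)) (Fin (finrank (ZMod p) W)) (ZMod p) :=
    (LinearMap.toMatrixAlgEquiv b).toAlgHom.toMonoidHom.comp ρ
  have hρ' : ∀ g, ρ' g = LinearMap.toMatrix b b (ρ g) := fun _ => rfl
  obtain ⟨f, hf⟩ := exists_padic_lift hL ρ'
  obtain ⟨φ, hφ⟩ := exists_ringHom_padicInt_complex p
  refine ⟨_, matRep (φ.mapMatrix.toMonoidHom.comp f), fun A => ?_⟩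
  let := Fintype.ofFinite A
  have hA : IsUnit ((Fintype.card A : ℕ) : ℤ_[p]) := by
    apply padic_isUnit_of_toZMod_ne_zero
    rw [map_natCast, Ne, ZMod.natCast_eq_zero_iff, ← Nat.card_eq_fintype_card]
    exact fun h => hL (h.trans (Subgroup.card_subgroup_dvd_card A))
  rw [finrank_fixSp_map φ hφ (PadicInt.toZMod (p := p)) f A hA]
  have h1 : (PadicInt.toZMod (p := p)).mapMatrix.toMonoidHom.comp f = ρ' := MonoidHom.ext hf
  rw [h1, ← LinearEquiv.finrank_map_eq b.equivFun (fixSp ρ A)]
  suffices h : fixSp (matRep ρ') A = (fixSp ρ A).map b.equivFun.toLinearMap by rw [h]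
  ext v
  obtain ⟨w, rfl⟩ := b.equivFun.surjective v
  have h2 : ∀ a, matRep ρ' a (b.equivFun w) = b.equivFun (ρ a w) := by
    intro a
    rw [matRep_apply, hρ', Matrix.toLin'_apply]
    exact LinearMap.toMatrix_mulVec_repr b b (ρ a) w
  rw [Submodule.mem_map_equiv, LinearEquiv.symm_apply_apply, mem_fixSp, mem_fixSp]
  simp only [h2, EmbeddingLike.apply_eq_iff_eq]

theorem card_submodule_zmod {p : ℕ} [Fact p.Prime] {W : Type*} [AddCommGroup W]
    [Module (ZMod p) W] [Finite W] (U : Submodule (ZMod p) W) :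
    Nat.card U = p ^ finrank (ZMod p) U := by
  have : Module.Finite (ZMod p) U := Module.Finite.of_finite
  have h1 := Module.natCard_eq_pow_finrank (K := ZMod p) (V := U)
  rwa [Nat.card_zmod] at h1

/-- The linear representation of an action on an elementary abelian `p`-group. -/
def zmodRep (p : ℕ) {L : Type*} [Group L] {T : Type*} [CommGroup T]
    [Module (ZMod p) (Additive T)] (φ : L →* MulAut T) : Representation (ZMod p) L (Additive T) where
  toFun a := (MonoidHom.toAdditive (φ a).toMonoidHom).toZModLinearMap p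
  map_one' := by ext v; simp
  map_mul' := fun a b => by ext v; simp

theorem zmodRep_apply (p : ℕ) {L : Type*} [Group L] {T : Type*} [CommGroup T]
    [Module (ZMod p) (Additive T)] (φ : L →* MulAut T) (a : L) (v : Additive T) :
    zmodRep p φ a v = Additive.ofMul (φ a (Additive.toMul v)) := rfl

/-- The complex counterpart of a coprime action on an elementary abelian `p`-group. -/
theorem exists_complex_rep_of_action {p : ℕ} (hp : p.Prime) {L : Type*} [Group L] [Finite L]
    (hL : ¬ p ∣ Nat.card L) {T : Type*} [CommGroup T] [Finite T] (hT : ∀ t : T, t ^ p = 1)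
    (φ : L →* MulAut T) :
    ∃ (n : ℕ) (σ : Representation ℂ L (Fin n → ℂ)), ∀ A : Subgroup L,
      Nat.card {t : T // ∀ a ∈ A, φ a t = t} = p ^ finrank ℂ (fixSp σ A) := by
  classical
  have : Fact p.Prime := ⟨hp⟩
  let : Module (ZMod p) (Additive T) := AddCommGroup.zmodModule fun x => hT (Additive.toMul x)
  obtain ⟨n, σ, h⟩ := exists_complex_rep_of_zmod hL (zmodRep p φ)
  refine ⟨n, σ, fun A => ?_⟩
  rw [h, ← card_submodule_zmod]
  refine Nat.card_congr (Equiv.subtypeEquiv Additive.ofMul fun t => ?_)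
  rw [mem_fixSp]
  simp [zmodRep_apply]

open scoped IsMulCommutative in
/-- **Lifting to characteristic zero.** If `L` normalises the elementary abelian `p`-group `V`
and `p ∤ |L|`, there is a complex representation `σ` of `L` with `|C_V(A)| = p ^ dim (fix σ A)`
for all `A ≤ L`. -/
theorem exists_complex_rep {G : Type*} [Group G] [Finite G] {p : ℕ} (hp : p.Prime)
    {V L : Subgroup G} (hV : Cfsg.IsElementaryAbelian p V)
    (hLV : L ≤ Subgroup.normalizer (V : Set G)) (hL : ¬ p ∣ Nat.card L) :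
    ∃ (n : ℕ) (σ : Representation ℂ L (Fin n → ℂ)), ∀ A : Subgroup G, A ≤ L →
      Nat.card ↥(V ⊓ Subgroup.centralizer (A : Set G)) =
        p ^ finrank ℂ (fixSp σ (A.subgroupOf L)) := by
  have := hV.1
  let φ : L →* MulAut V := V.normalizerMonoidHom.comp (Subgroup.inclusion hLV)
  have hφ : ∀ (a : L) (t : V), ((φ a t : V) : G) = a * t * (a : G)⁻¹ := fun _ _ => rfl
  obtain ⟨n, σ, h⟩ := exists_complex_rep_of_action hp hL (T := V)
    (fun t => Subtype.ext (hV.2 t t.2)) φ
  refine ⟨n, σ, fun A hA => ?_⟩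
  rw [← h]
  refine Nat.card_congr
    { toFun := fun x => ⟨⟨x, x.2.1⟩, fun a ha => Subtype.ext ?_⟩
      invFun := fun t => ⟨t.1, t.1.2, fun a ha => ?_⟩
      left_inv := fun _ => rfl
      right_inv := fun _ => rfl }
  · rw [hφ, x.2.2 a ha, mul_inv_cancel_right]
  · have := congrArg Subtype.val (t.2 ⟨a, hA ha⟩ ha)
    rw [hφ] at this
    exact mul_inv_eq_iff_eq_mul.1 this

end Bridge

end H1
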