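import Mathlib
import Cfsg.Agent.H1.BG33
import Cfsg.Agent.H1.Lift
import Cfsg.Agent.H27.Clifford
import Cfsg.Agent.H24.Base5
import Cfsg.Agent.H26.S01

/-! # The character of a coprime action; Wielandt's fixed point formula -/

set_option autoImplicit false

namespace H1

open Cfsg H24 Subgroup
open H27 (fs mem_fs IsChar cfdot cfOne cfker CF Irr deg cfRes)
open scoped commutatorElement IsMulCommutative

universe u

variable {G : Type u} [Group G] [Finite G]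
variable {A H K L M N P R V X : Subgroup G} {p q k : ℕ}

theorem card_mul_cfdot_cfOne (A : Subgroup G) (χ : G → ℂ) :
    (♯A : ℂ) * cfdot A χ (cfOne A) = ∑ x ∈ fs (A : Set G), χ x := by
  rw [H27.cfdot_def, ← mul_assoc, mul_inv_cancel₀ (H27.cardC_ne_zero A), one_mul]
  refine H27.sum_fs_congr fun x hx => ?_
  rw [H27.cfOne_of_mem hx, map_one, mul_one]

/-- The "Brauer character" of a coprime action on an elementary abelian group. -/
theorem exists_abelem_action_char (hk : k.Prime) (hV : IsElementaryAbelian k V) (hLV : L ≤ N[V])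
    (hL : IsPi {k}ᶜ L) : ∃ χ, IsChar L χ ∧
      ∀ A ≤ L, ∀ n : ℕ, cfdot A χ (cfOne A) = n → ♯(V ⊓ C[A]) = k ^ n := by
  classical
  obtain ⟨n, σ, h⟩ := exists_complex_rep hk hV hLV ((isPi_compl_iff hk).1 hL)
  refine ⟨extendByZero L σ.character, H27.isChar_ext0 (H4.isCharacter_of_rep σ), ?_⟩
  intro A hA m hm
  rw [h A hA]
  congr 1
  have := Fintype.ofFinite A
  rw [H27.cfdot_eq_classInner] at hm
  have e1 : (fun x : A => extendByZero L σ.character x) =
      Representation.character (σ.comp (Subgroup.inclusion hA)) := by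
    funext x
    rw [H27.ext0_of_mem _ (hA x.2)]
    rfl
  have e2 : (fun x : A => cfOne A (x : G)) = fun _ => 1 := by
    funext x
    exact H27.cfOne_of_mem x.2
  rw [e1, e2, H4.rep_classInner_one_eq_finrank] at hm
  have e3 : fixSp σ (A.subgroupOf L) = Representation.invariants (σ.comp (Subgroup.inclusion hA)) := by
    ext v
    rw [mem_fixSp, Representation.mem_invariants]
    constructor
    · intro hv a
      exact hv (Subgroup.inclusion hA a) a.2
    · intro hv a ha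
      exact hv ⟨a, ha⟩
  rw [e3]
  exact_mod_cast hm

theorem action_char_cent {χ : G → ℂ} (hχ : IsChar L χ)
    (h : ∀ A ≤ L, ∀ n : ℕ, cfdot A χ (cfOne A) = n → ♯(V ⊓ C[A]) = k ^ n)
    (hA : A ≤ cfker L χ) : A ≤ C[V] := by
  have h1 := h A (hA.trans (H27.cfker_le _ _)) (deg χ)
    (by rw [H27.cfdot_cfOne_of_le_cfker hA, hχ.one_eq])
  have h2 := h ⊥ bot_le (deg χ)
    (by rw [H27.cfdot_cfOne_of_le_cfker (bot_le : ⊥ ≤ cfker L χ), hχ.one_eq])
  rw [C_bot, inf_top_eq] at h2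
  have : V ⊓ C[A] = V := eq_of_card_eq inf_le_left (by rw [h1, h2])
  exact cents_symm (inf_eq_left.1 this)

theorem sum_quo_of_inf {T : Type*} [AddCommMonoid T] (hA : A ≤ N[N]) (hi : N ⊓ A = ⊥)
    (f : QN N → T) :
    ∑ x ∈ fs (A : Set G), f (cs N x) = ∑ y ∈ fs (quo A N : Set (QN N)), f y := by
  refine H27.sum_fs_bij (cs N) ⟨fun x hx => cs_mem_quo hx (hA hx), ?_, ?_⟩ f
  · intro x hx y hy e
    have h1 := (cs_eq_cs (hA hx) (hA hy)).1 e
    have h2 : x⁻¹ * y ∈ N ⊓ A := ⟨h1, A.mul_mem (A.inv_mem hx) hy⟩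
    rw [hi, mem_bot] at h2
    exact (inv_mul_eq_one.1 h2)
  · intro y hy
    obtain ⟨x, hx, -, rfl⟩ := mem_quo.1 hy
    exact ⟨x, hx, rfl⟩

/-- A real class function on `M` whose mean over `A` is `log |C_V(A)|`. -/
theorem exists_log_cf (hV : Sol V) (hMV : M ≤ N[V]) (hc : (♯V).Coprime ♯M) :
    ∃ f : G → ℝ, (∀ g ∈ M, ∀ x ∈ M, f (g * x * g⁻¹) = f x) ∧
      ∀ A ≤ M, ∑ x ∈ fs (A : Set G), f x = ♯A * Real.log ♯(V ⊓ C[A]) := by
  refine invariant_series_ind hV hMV (fun U => U ≤ V → ∃ f : G → ℝ,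
    (∀ g ∈ M, ∀ x ∈ M, f (g * x * g⁻¹) = f x) ∧
      ∀ A ≤ M, ∑ x ∈ fs (A : Set G), f x = ♯A * Real.log ♯(U ⊓ C[A])) ?_ ?_ le_rfl
  · intro _
    refine ⟨0, fun _ _ _ _ => rfl, fun A _ => ?_⟩
    simp
  · intro U W p hp hWU hW hU hMW hMU hE ih _
    obtain ⟨f, hf, hf'⟩ := ih hW.le
    have hWU' : W ⊴ U := hW.of_le hWU.le hU.le
    have hcW : (♯W).Coprime ♯M := hc.coprime_dvd_left (card_dvd hW.le)
    have hne : quo U W ≠ ⊥ := fun h => hWU.not_ge ((quo_eq_bot hWU'.norm).1 h)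
    have hpU : p ∣ ♯V :=
      ((IsPi.dvd_card (H25.Cfsg.IsElementaryAbelian.isPi hE hp) hne).trans
        (card_quo_dvd _ _)).trans (card_dvd hU.le)
    have hM' : IsPi {p}ᶜ M := PiNat.of_coprime hp hpU hc
    obtain ⟨χ, hχ, h⟩ := exists_abelem_action_char hp hE (quo_norm W hMU) (hM'.quo W)
    refine ⟨fun x => f x + Real.log p * (χ (cs W x)).re, ?_, ?_⟩
    · intro g hg x hx
      dsimp only
      have e : cs W (g * x * g⁻¹) = cs W g * cs W x * (cs W g)⁻¹ := ap_conj _ (hMW hg) (hMW hx)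
      rw [hf g hg x hx, e, H27.CF_conj hχ.CF (cs_mem_quo hg (hMW hg))]
    · intro A hA
      have hAW : A ≤ N[W] := hA.trans hMW
      have hi : W ⊓ A = ⊥ := inf_eq_bot_of_cop (hcW.coprime_dvd_right (card_dvd hA))
      obtain ⟨n, hn⟩ := hχ.dot_nat_of_le' (H27.isChar_cfOne _) (quo_mono W hA)
      have h1 := h _ (quo_mono W hA) n hn
      have h2 := card_mul_cfdot_cfOne (quo A W) χ
      rw [hn, card_quo_of_inf hAW hi, ← sum_quo_of_inf hAW hi] at h2
      have h3 : ∑ x ∈ fs (A : Set G), (χ (cs W x)).re = ♯A * n := by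
        rw [← Complex.re_sum, ← h2]; simp
      rw [Finset.sum_add_distrib, ← Finset.mul_sum, h3, hf' A hA,
        card_inf_C_quo hWU' hAW (hcW.coprime_dvd_right (card_dvd hA))
          (Or.inl (hV.of_le hW.le)), h1]
      have hp0 : (p : ℝ) ≠ 0 := by exact_mod_cast hp.ne_zero
      have hW0 : (♯(W ⊓ C[A]) : ℝ) ≠ 0 := by exact_mod_cast card_ne_zero _
      push_cast
      rw [Real.log_mul hW0 (pow_ne_zero _ hp0), Real.log_pow]
      ring

theorem nat_eq_of_log_eq {a b : ℕ} (ha : a ≠ 0) (hb : b ≠ 0) (h : Real.log a = Real.log b) :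
    a = b := by
  have h1 : (0 : ℝ) < a := by exact_mod_cast Nat.pos_of_ne_zero ha
  have h2 : (0 : ℝ) < b := by exact_mod_cast Nat.pos_of_ne_zero hb
  exact_mod_cast Real.log_injOn_pos h1 h2 h

open Classical in
/-- Wielandt's fixed point formula. -/
theorem solvable_Wielandt_fixpoint {ι : Type*} [Fintype ι] (A : ι → Subgroup G) (m n : ι → ℕ)
    (hA : ∀ i, 0 < m i + n i → A i ≤ M) (hMV : M ≤ N[V]) (hc : (♯V).Coprime ♯M) (hV : Sol V)
    (h : ∀ a ∈ M, ∑ i with a ∈ A i, m i = ∑ i with a ∈ A i, n i) :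
    ∏ i, ♯(V ⊓ C[A i]) ^ (m i * ♯(A i)) = ∏ i, ♯(V ⊓ C[A i]) ^ (n i * ♯(A i)) := by
  obtain ⟨f, -, hf⟩ := exists_log_cf hV hMV hc
  have key : ∀ m : ι → ℕ, (∀ i, 0 < m i → A i ≤ M) →
      Real.log (∏ i, ♯(V ⊓ C[A i]) ^ (m i * ♯(A i)) : ℕ) =
        ∑ a ∈ fs (M : Set G), (∑ i with a ∈ A i, m i : ℕ) * f a := by
    intro m hm
    push_cast
    rw [Real.log_prod (fun i _ => pow_ne_zero _ (by exact_mod_cast card_ne_zero _))]
    simp only [Finset.sum_filter, Finset.sum_mul]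
    rw [Finset.sum_comm]
    refine Finset.sum_congr rfl fun i _ => ?_
    rcases Nat.eq_zero_or_pos (m i) with h0 | h0
    · simp [h0]
    rw [Real.log_pow]
    push_cast
    rw [mul_assoc, ← hf _ (hm i h0), Finset.mul_sum,
      ← H27.sum_fs_subset (A := (A i : Set G)) (hm i h0) _ (fun x _ hx => by
        rw [if_neg (show x ∉ A i from hx), zero_mul])]
    refine H27.sum_fs_congr fun x hx => ?_
    rw [if_pos (show x ∈ A i from hx)]
  apply nat_eq_of_log_eq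
  · exact Finset.prod_ne_zero_iff.2 fun i _ => pow_ne_zero _ (card_ne_zero _)
  · exact Finset.prod_ne_zero_iff.2 fun i _ => pow_ne_zero _ (card_ne_zero _)
  rw [key m fun i hi => hA i (by omega), key n fun i hi => hA i (by omega)]
  exact H27.sum_fs_congr fun a ha => by rw [h a ha]

/-- The Frobenius relation for a class function. -/
theorem frobenius_class_sum {T : Type*} [Field T] [CharZero T] (hn : R ≤ N[K]) (h : Semireg K R)
    (f : G → T) (hf : ∀ g ∈ K, ∀ x ∈ R, f (g * x * g⁻¹) = f x) :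
    ♯K * ∑ r ∈ fs (R : Set G), f r + ∑ x ∈ fs (K : Set G), f x =
      ♯K * f 1 + ∑ x ∈ fs (K ⊔ R : Subgroup G), f x := by
  have h1 := frobenius_sum hn h f
  rw [← sum_prod_of_inf (isProd_sup hn) h.inf_eq_bot, nsmul_eq_mul,
    H27.sum_fs_congr (g := fun _ => ∑ r ∈ fs (R : Set G), f r)
      (fun k hk => H27.sum_fs_congr fun r hr => hf k hk r hr), H27.sum_fs_const,
    nsmul_eq_mul] at h1
  exact h1

theorem regular_Wielandt_fixpoint (hn : R ≤ N[K]) (h : Semireg K R) (hKV : K ≤ N[V])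
    (hRV : R ≤ N[V]) (hc : (♯V).Coprime ♯(K ⊔ R)) (hV : Sol V) :
    ♯(V ⊓ C[K ⊔ R]) ^ ♯R * ♯V = ♯(V ⊓ C[R]) ^ ♯R * ♯(V ⊓ C[K]) := by
  obtain ⟨f, hf, hf'⟩ := exists_log_cf hV (sup_le hKV hRV) hc
  have h1 := frobenius_class_sum hn h f fun g hg x hx =>
    hf g (le_sup_left (a := K) (b := R) hg) x (le_sup_right (a := K) (b := R) hx)
  have h2 := hf' ⊥ bot_le
  rw [C_bot, coe_bot, H27.sum_fs_singleton, inf_top_eq, card_bot] at h2
  rw [hf' R le_sup_right, hf' K le_sup_left, hf' _ le_rfl, h2,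
    card_sup_of_inf hn h.inf_eq_bot] at h1
  have hK : (♯K : ℝ) ≠ 0 := by exact_mod_cast card_ne_zero _
  have n0 : ∀ X : Subgroup G, (♯X : ℝ) ≠ 0 := fun X => by exact_mod_cast card_ne_zero _
  apply nat_eq_of_log_eq
  · exact mul_ne_zero (pow_ne_zero _ (card_ne_zero _)) (card_ne_zero _)
  · exact mul_ne_zero (pow_ne_zero _ (card_ne_zero _)) (card_ne_zero _)
  push_cast at h1 ⊢
  rw [Real.log_mul (pow_ne_zero _ (n0 _)) (n0 _), Real.log_mul (pow_ne_zero _ (n0 _)) (n0 _),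
    Real.log_pow, Real.log_pow]
  apply mul_left_cancel₀ hK
  linarith

/-- Peterfalvi (9.1). -/
theorem Frobenius_Wielandt_fixpoint (h : Frob M K R) (hMV : M ≤ N[V]) (hc : (♯V).Coprime ♯M)
    (hV : Sol V) :
    ♯(V ⊓ C[M]) ^ ♯R * ♯V = ♯(V ⊓ C[R]) ^ ♯R * ♯(V ⊓ C[K]) ∧ (V ⊓ C[R] = ⊥ → K ≤ C[V]) ∧
      (V ⊓ C[K] = ⊥ → ♯V = ♯(V ⊓ C[R]) ^ ♯R) := by
  have h1 := regular_Wielandt_fixpoint h.norm h.reg (h.ker_le.trans hMV) (h.compl_le.trans hMV)
    (by rw [h.sd.sup]; exact hc) hV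
  rw [h.sd.sup] at h1
  refine ⟨h1, Frobenius_cent_compl_sol h hV hMV hc, fun hK => ?_⟩
  have h2 : V ⊓ C[M] = ⊥ := eq_bot_of_le hK (inf_le_inf_left _ (C_anti h.ker_le))
  rwa [h2, hK, card_bot, one_pow, one_mul, mul_one] at h1

end H1
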