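import Mathlib
import Cfsg.Agent.H1.Wielandt

/-! # B & G 2.5, 3.4, 3.5 (via complex characters) -/

set_option autoImplicit false

namespace H1

open Cfsg H24 Subgroup
open H27 (fs mem_fs IsChar cfdot cfOne cfker CF Irr deg cfRes cfnorm)
open scoped commutatorElement IsMulCommutative

universe u

variable {G : Type u} [Group G] [Finite G]
variable {A H K L M N P R V X Z : Subgroup G} {p q k n : ℕ} {χ ψ φ : G → ℂ}

theorem sum_fs_const_sub {T : Type*} [Semiring T] (A : Subgroup G) {f : G → T} {c : T}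
    (h : ∀ x ∈ A, f x = c) : ∑ x ∈ fs (A : Set G), f x = ♯A * c := by
  rw [H27.sum_fs_congr (g := fun _ => c) h, H27.sum_fs_const, nsmul_eq_mul]
  rfl

theorem le_cfker_of_constt (hχ : IsChar M χ) (hX : X ≤ M)
    (h : ∀ ψ ∈ Irr M, cfdot M χ ψ ≠ 0 → X ≤ cfker M ψ) : X ≤ cfker M χ := by
  rw [H27.CF_eq_sum hχ.CF]
  refine H27.le_cfker_sum hX _ _ fun ψ hψ => ?_
  by_cases h0 : cfdot M χ ψ = 0
  · rw [h0, zero_smul]
    exact fun x hx => H27.mem_cfker.2 ⟨hX hx, fun _ => rfl⟩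
  · exact (h ψ hψ h0).trans (H27.cfker_smul_le _ _ _)

theorem constt_dot_le (hχ : IsChar M χ) (hψ : ψ ∈ Irr M) (h : cfdot M χ ψ ≠ 0) (hA : A ≤ M)
    (hφ : IsChar A φ) {a b : ℕ} (ha : cfdot A ψ φ = a) (hb : cfdot A χ φ = b) : a ≤ b := by
  obtain ⟨c, hc⟩ := (hχ.sub_irr hψ h).dot_nat_of_le' hφ hA
  rw [H27.cfdot_sub_left, ha, hb] at hc
  have : (b : ℂ) = a + c := by rw [← hc]; ring
  have : b = a + c := by exact_mod_cast this
  omega

theorem sum_irr_eq_zero (hK : K ⊴ M) (hψ : ψ ∈ Irr M) (h : ¬ K ≤ cfker M ψ) :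
    ∑ x ∈ fs (K : Set G), ψ x = 0 := by
  classical
  rw [← card_mul_cfdot_cfOne, H27.cfdot_cfOne_nml hK hψ, if_neg h, mul_zero]

/-- a regular action modulo `Z`. -/
theorem exists_conj_mod (hZ : Z ⊴ K) {x : G} (hxK : x ∈ N[K]) (hxZ : x ∈ N[Z])
    (hc : (♯K).Coprime (orderOf x)) (h : K ⊓ C{x} ≤ Z) {y : G} (hy : y ∈ K) :
    ∃ u ∈ K, ∃ z ∈ Z, y * x = u * (z * x) * u⁻¹ := by
  have h1 : quo K Z ⊓ C{cs Z x} = ⊥ := by
    rw [← quo_inf_C1 hZ.le hxZ (hc.coprime_dvd_left (card_dvd hZ.le))]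
    exact quo_eq_bot_of_le h
  obtain ⟨u', hu', e⟩ := exists_conj_eq_mul (ap_mem_N (coset Z) hxK hxZ) h1
    (cs_mem_quo hy (hZ.norm hy))
  obtain ⟨u, hu, huN, rfl⟩ := mem_quo.1 hu'
  have hyN := hZ.norm hy
  have e1 : cs Z (u * x * u⁻¹) = cs Z (y * x) := by
    have a : cs Z (u * x * u⁻¹) = cs Z u * cs Z x * (cs Z u)⁻¹ := ap_conj _ huN hxZ
    have b : cs Z (y * x) = cs Z y * cs Z x := ap_mul _ hyN hxZ
    rw [a, b]; exact e
  have h2 := (cs_eq_cs (mul_mem (mul_mem huN hxZ) (inv_mem huN)) (mul_mem hyN hxZ)).1 e1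
  refine ⟨u, hu, x * (u⁻¹ * ((u * x * u⁻¹)⁻¹ * (y * x)) * u) * x⁻¹,
    conj_mem hxZ (conj_mem' huN h2), by group⟩

/-- degree of an irreducible character of `K R` when `R` acts regularly on `K` modulo the kernel. -/
theorem irr_deg_regular_mod (hn : R ≤ N[K]) (hc : (♯K).Coprime ♯R) (hψ : ψ ∈ Irr (K ⊔ R))
    (hK : ¬ K ≤ cfker (K ⊔ R) ψ) (h : ∀ x ∈ R, x ≠ 1 → K ⊓ C{x} ≤ cfker (K ⊔ R) ψ) :
    ψ 1 = ♯R * cfdot R ψ (cfOne R) := by
  have hN := H27.cfker_nml (H27.irr_CF hψ)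
  have hKM : K ⊴ K ⊔ R := nml_sup_left hn
  have h1 := sum_irr_eq_zero hKM hψ hK
  have h2 := sum_irr_eq_zero (Nml.refl _) hψ (fun h => hK (le_sup_left.trans h))
  rw [sum_prod_of_inf (isProd_sup hn) (inf_eq_bot_of_cop hc), Finset.sum_comm,
    sum_split_one] at h2
  simp only [mul_one] at h2
  rw [h1, zero_add, H27.sum_fs_congr (g := fun r => (♯K : ℂ) * ψ r), ← Finset.mul_sum] at h2
  · rw [card_mul_cfdot_cfOne, sum_split_one, (mul_eq_zero.1 h2).resolve_left (H27.cardC_ne_zero K),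
      add_zero]
  · rintro r ⟨hr, hr1⟩
    refine sum_fs_const_sub K fun y hy => ?_
    obtain ⟨u, hu, z, hz, e⟩ := exists_conj_mod (Z := K ⊓ cfker (K ⊔ R) ψ)
      (hN.inf_left le_sup_left) (hn hr) ((hKM.inf hN).norm (le_sup_right (a := K) hr))
      (hc.coprime_dvd_right (orderOf_dvd_card' hr)) (le_inf inf_le_left (h r hr hr1)) hy
    rw [e, H27.CF_conj (H27.irr_CF hψ) (le_sup_left (b := R) hu), H27.cfker_mul_left hz.2]

/-- character form of Theorem 3.5 -/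
theorem prime_cent_prime_char (hn : R ≤ N[K]) (hR : (♯R).Prime) (hKR : K ⊓ C[R] = ⊥)
    (hχ : IsChar (K ⊔ R) χ) (h1 : cfdot R χ (cfOne R) = 1) : ⁅K, K⁆ ≤ cfker (K ⊔ R) χ := by
  have hKM : K ⊴ K ⊔ R := nml_sup_left hn
  have hreg := semiregular_prime hR hKR
  have hc := regular_norm_coprime hn hreg
  refine le_cfker_of_constt hχ ((der1_le K).trans le_sup_left) fun ψ hψ h0 => ?_
  by_cases hK : K ≤ cfker (K ⊔ R) ψ
  · exact (der1_le K).trans hK
  have h2 := irr_deg_regular_mod hn hc hψ hK fun x hx hx1 => by rw [hreg x hx hx1]; exact bot_le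
  obtain ⟨a, ha⟩ := (H27.irr_char hψ).dot_nat_of_le' (H27.isChar_cfOne R) le_sup_right
  have h3 : a ≤ 1 := constt_dot_le hχ hψ h0 le_sup_right (H27.isChar_cfOne R) ha
    (by rw [h1, Nat.cast_one])
  rw [ha, H27.irr_one_eq hψ] at h2
  have h4 : deg ψ = ♯R * a := by exact_mod_cast h2
  have h5 := H27.irr_deg_pos hψ
  have h6 : a = 1 := by
    rcases Nat.eq_zero_or_pos a with h | h
    · rw [h, mul_zero] at h4; omega
    · omega
  rw [h6, mul_one] at h4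
  obtain ⟨θ, hθ, h7⟩ := H27.exists_irr_under hKM.le hψ
  obtain ⟨e, he⟩ := (H27.irr_char hψ).dot_nat_of_le' (H27.irr_char hθ) hKM.le
  have h8 := H27.clifford_deg hKM hψ hθ (fun h => h7 (by rw [he, h, Nat.cast_zero])) he
  have h9 : deg θ = 1 :=
    Nat.eq_one_of_dvd_coprimes hc (H27.irr_deg_dvd_card hθ) (by rw [← h4, h8]; exact dvd_mul_left _ _)
  exact (H27.le_cfker_constt_res_iff hKM hKM.der1 (der1_le K) hψ hθ h7).1
    ((H27.irr_char hθ).isLin_of_deg h9).der_le_cfker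

/-- Theorem 3.5. -/
theorem Frobenius_prime_cent_prime (_hM : Sol M) (h : SD K R M) (hR : (♯R).Prime)
    (hKR : K ⊓ C[R] = ⊥) (hk : k.Prime) (hV : IsElementaryAbelian k V) (hMV : M ≤ N[V])
    (hk' : IsPi {k}ᶜ M) (hCV : ♯(V ⊓ C[R]) = k) : ⁅K, K⁆ ≤ K ⊓ C[V] := by
  obtain ⟨χ, hχ, hχ'⟩ := exists_abelem_action_char hk hV hMV hk'
  obtain ⟨n, hn⟩ := hχ.dot_nat_of_le' (H27.isChar_cfOne R) h.right_le
  have h1 := hχ' R h.right_le n hn
  have h2 : n = 1 := Nat.pow_right_injective hk.two_le (by simp only; rw [← h1, hCV, pow_one])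
  rw [h2, Nat.cast_one] at hn
  refine le_inf (der1_le K) (action_char_cent hχ hχ' ?_)
  obtain rfl := h.sup
  exact prime_cent_prime_char h.norm hR hKR hχ hn

theorem arith_mult {ι : Type*} (s : Finset ι) (n : ι → ℕ) {h d t : ℕ} (hs : s.card = h)
    (h0 : 0 < h) (hd : ∑ i ∈ s, n i = d) (ht : 0 < t)
    (he : h * ∑ i ∈ s, n i ^ 2 + t = d ^ 2 + h) :
    (∀ i ∈ s, n i = d / h ∨ n i = d / h + 1) ∧
      ((d % h = 0 ∧ t = h) ∨ (t = 1 ∧ (d % h = 1 ∨ d % h + 1 = h))) := by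
  have e1 := Nat.div_add_mod d h
  have e2 := Nat.mod_lt d h0
  set a := d / h
  set r := d % h
  have hnn : ∀ i, (0 : ℤ) ≤ ((n i : ℤ) - a) * ((n i : ℤ) - a - 1) := fun i => by
    rcases le_or_gt ((n i : ℤ) - a) 0 with h | h
    · exact mul_nonneg_of_nonpos_of_nonpos h (by omega)
    · exact mul_nonneg h.le (by omega)
  have hE : ∑ i ∈ s, ((n i : ℤ) - a) * ((n i : ℤ) - a - 1) =
      ∑ i ∈ s, (n i : ℤ) ^ 2 - (2 * a + 1) * d + h * (a * (a + 1)) := by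
    rw [← hd, ← hs]
    push_cast
    rw [Finset.mul_sum, ← nsmul_eq_mul, ← Finset.sum_const, ← Finset.sum_sub_distrib,
      ← Finset.sum_add_distrib]
    exact Finset.sum_congr rfl fun i _ => by ring
  set E := ∑ i ∈ s, ((n i : ℤ) - a) * ((n i : ℤ) - a - 1) with hEdef
  have hE0 : 0 ≤ E := Finset.sum_nonneg fun i _ => hnn i
  have he' : (h : ℤ) * ∑ i ∈ s, (n i : ℤ) ^ 2 + t = (d : ℤ) ^ 2 + h := by exact_mod_cast he
  have e1' : (d : ℤ) = h * a + r := by exact_mod_cast e1.symm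
  have key : (h : ℤ) - t = r * (h - r) + h * E := by
    rw [hE]; rw [e1'] at he' ⊢; linear_combination -he'
  have e2' : (r : ℤ) < h := by exact_mod_cast e2
  have hr0 : (0 : ℤ) ≤ r := Nat.cast_nonneg _
  have ht' : (0 : ℤ) < t := by exact_mod_cast ht
  have hrr : (0 : ℤ) ≤ r * (h - r) := mul_nonneg hr0 (by omega)
  have hE1 : E = 0 := by
    by_contra hne
    have : (1 : ℤ) ≤ E := by omega
    nlinarith
  constructor
  · intro i hi
    have := (Finset.sum_eq_zero_iff_of_nonneg fun i _ => hnn i).1 hE1 i hi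
    rcases mul_eq_zero.1 this with h | h
    · left; omega
    · right; omega
  · rw [hE1, mul_zero, add_zero] at key
    rcases Nat.eq_zero_or_pos r with hr | hr
    · left
      refine ⟨hr, ?_⟩
      rw [hr] at key
      omega
    · right
      have h' : (1 : ℤ) ≤ r := by exact_mod_cast hr
      have k2 : ((r : ℤ) - 1) * (h - r - 1) = 1 - t := by linear_combination -key
      have k3 : 0 ≤ ((r : ℤ) - 1) * (h - r - 1) := mul_nonneg (by omega) (by omega)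
      have k4 : t = 1 := by omega
      refine ⟨k4, ?_⟩
      rw [k4, Nat.cast_one, sub_self] at k2
      rcases mul_eq_zero.1 k2 with h | h
      · left; omega
      · right; omega

theorem card_mul_cfnorm (A : Subgroup G) (φ : G → ℂ) :
    (♯A : ℝ) * cfnorm A φ = ∑ x ∈ fs (A : Set G), ‖φ x‖ ^ 2 := by
  rw [cfnorm, ← mul_assoc, mul_inv_cancel₀ (H27.cardR_pos A).ne', one_mul]

/-- The key computation behind 2.5 and 3.4. -/
theorem irr_deg_special (hn : R ≤ N[K]) (hc : (♯K).Coprime ♯R) (hR : Abl R) (hR1 : R ≠ ⊥)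
    (hψ : ψ ∈ Irr (K ⊔ R)) (hZ : Z ≤ K) (hRZ : R ≤ N[Z]) (hKZ : ⁅K, K⁆ ≤ Z)
    (hZM : ⁅Z, K ⊔ R⁆ ≤ cfker (K ⊔ R) ψ)
    (hmax : ∀ x ∈ K, (∀ y ∈ K, ⁅x, y⁆ ∈ cfker (K ⊔ R) ψ) → x ∈ Z)
    (hreg : ∀ x ∈ R, x ≠ 1 → K ⊓ C{x} ≤ Z) :
    deg ψ ^ 2 = Z.relIndex K ∧ (deg ψ % ♯R = 1 ∨ deg ψ % ♯R + 1 = ♯R) ∧
      (cfdot R ψ (cfOne R) = 0 → deg ψ < ♯R) := by
  have hCF := H27.irr_CF hψ
  have hch := H27.irr_char hψ
  have hZK : Z ⊴ K := nml_of_der1_le hKZ hZ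
  obtain ⟨lam, hlam, -, hmul⟩ := H27.irr_res_central hψ (hZ.trans le_sup_left) fun z hz x hx => by
    rw [commC] at hZM
    exact hZM (commutator_mem_commutator hx hz)
  have hnorm : ∀ z ∈ Z, ∀ y, ‖ψ (z * y)‖ = ‖ψ y‖ := fun z hz y => by
    rw [hmul z hz, norm_mul, hlam.norm_apply hz, one_mul]
  have hvan : ∀ x ∈ K, x ∉ Z → ψ x = 0 := by
    intro x hx hxZ
    by_contra h0
    refine hxZ (hmax x hx fun y hy => ?_)
    have hw : ⁅y, x⁆ ∈ Z := hKZ (commutator_mem_commutator hy hx)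
    have e : ψ x = lam ⁅y, x⁆ * ψ x := by
      rw [← hmul _ hw, commutatorElement_def, inv_mul_cancel_right,
        H27.CF_conj hCF (le_sup_left (b := R) hy)]
    have e2 : lam ⁅y, x⁆ = 1 := by
      apply mul_right_cancel₀ h0
      rw [← e, one_mul]
    rw [← commutatorElement_inv]
    exact inv_mem (H27.mem_cfker.2 ⟨(hZ.trans le_sup_left) hw, fun v => by
      rw [hmul _ hw, e2, one_mul]⟩)
  have hd : ‖ψ 1‖ = deg ψ := by rw [H27.irr_one_eq hψ, Complex.norm_natCast]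
  -- the norm on `K`
  have s1 : ∑ x ∈ fs (K : Set G), ‖ψ x‖ ^ 2 = ♯Z * (deg ψ : ℝ) ^ 2 := by
    rw [← H27.sum_fs_subset (A := (Z : Set G)) hZ _ (fun x hx hx' => by
      rw [hvan x hx hx', norm_zero, zero_pow two_ne_zero])]
    refine sum_fs_const_sub Z fun z hz => ?_
    rw [← hd, ← hnorm z hz 1, mul_one]
  obtain ⟨t, ht⟩ := H27.char_dot_nat (hch.res le_sup_left) (hch.res (le_sup_left (b := R)))
  have ht' : cfnorm K ψ = t := by
    rw [← H27.cfnorm_cfRes]; exact H27.cfnorm_eq_of_cfdot (by rw [ht]; simp)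
  have s2 : t * Z.relIndex K = deg ψ ^ 2 := by
    have a := card_mul_cfnorm K ψ
    rw [s1, ht', ← card_mul_relIndex hZ] at a
    have b : (♯Z : ℝ) * (t * Z.relIndex K) = ♯Z * (deg ψ : ℝ) ^ 2 := by
      rw [← a]; push_cast; ring
    exact_mod_cast mul_left_cancel₀ (H27.cardR_pos Z).ne' b
  have hdpos := H27.irr_deg_pos hψ
  have htpos : 0 < t := by
    rcases Nat.eq_zero_or_pos t with h | h
    · rw [h, zero_mul] at s2; exact absurd s2 (pow_pos hdpos 2).ne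
    · exact h
  -- the norm on `M`
  have s3 := card_mul_cfnorm (K ⊔ R) ψ
  rw [H27.irr_norm hψ, mul_one, sum_prod_of_inf (isProd_sup hn) (inf_eq_bot_of_cop hc),
    Finset.sum_comm, sum_split_one, card_sup_of_inf hn (inf_eq_bot_of_cop hc)] at s3
  simp only [mul_one] at s3
  rw [← card_mul_cfnorm, ht', H27.sum_fs_congr (g := fun r => (♯K : ℝ) * ‖ψ r‖ ^ 2),
    ← Finset.mul_sum] at s3
  swap
  · rintro r ⟨hr, hr1⟩
    refine sum_fs_const_sub K fun y hy => ?_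
    obtain ⟨u, hu, z, hz, e⟩ := exists_conj_mod hZK (hn hr) (hRZ hr)
      (hc.coprime_dvd_right (orderOf_dvd_card' hr)) (hreg r hr hr1) hy
    rw [e, H27.CF_conj hCF (le_sup_left (b := R) hu), hnorm z hz]
  -- the norm on `R`
  obtain ⟨m, hm, hm'⟩ := (hch.res (le_sup_right (a := K))).eq_sum_nat
  have s4 : ∑ μ ∈ Irr R, m μ = deg ψ := by
    have a := congrFun hm' 1
    rw [H27.cfRes_apply_one, H27.irr_one_eq hψ, Finset.sum_apply,
      Finset.sum_congr rfl (g := fun μ => (m μ : ℂ)) (fun μ hμ => by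
        rw [Pi.smul_apply, (H27.irr_lin_of_abl hR hμ).one, smul_eq_mul, mul_one])] at a
    exact_mod_cast a.symm
  have s5 : cfnorm R ψ = (∑ μ ∈ Irr R, m μ ^ 2 : ℕ) := by
    rw [← H27.cfnorm_cfRes, H27.cfnorm_eq_sum (hch.res (le_sup_right (a := K))).CF]
    push_cast
    exact Finset.sum_congr rfl fun μ hμ => by rw [hm μ hμ, Complex.norm_natCast]
  have s6 := card_mul_cfnorm R ψ
  rw [s5, sum_split_one, hd] at s6
  have s7 : ♯R * ∑ μ ∈ Irr R, m μ ^ 2 + t = deg ψ ^ 2 + ♯R := by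
    have a : (♯K : ℝ) * ♯R = ♯K * (t + ∑ x ∈ fs ((R : Set G) \ {1}), ‖ψ x‖ ^ 2) := by
      rw [mul_add, ← s3]; push_cast; ring
    have b := mul_left_cancel₀ (H27.cardR_pos K).ne' a
    have c : (♯R : ℝ) * (∑ μ ∈ Irr R, m μ ^ 2 : ℕ) + t = (deg ψ : ℝ) ^ 2 + ♯R := by
      rw [s6]; linarith
    exact_mod_cast c
  obtain ⟨a1, a2⟩ := arith_mult (Irr R) m (H27.card_Irr_of_abl hR) (card_pos R) s4 htpos s7
  have hR2 := one_lt_card hR1
  rcases a2 with ⟨b1, b2⟩ | ⟨b1, b2⟩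
  · exfalso
    obtain ⟨c, hc'⟩ := Nat.dvd_of_mod_eq_zero b1
    rw [b2, hc', mul_pow, pow_two, mul_assoc] at s2
    have d1 : ♯R ∣ Z.relIndex K := ⟨_, Nat.eq_of_mul_eq_mul_left (card_pos R) s2⟩
    have d2 : ♯R ∣ ♯K := d1.trans (relIndex_dvd_card Z K)
    have := Nat.eq_one_of_dvd_coprimes hc d2 dvd_rfl
    omega
  · refine ⟨by rw [← s2, b1, one_mul], b2, fun h0 => ?_⟩
    have c1 := hm _ (H27.cfOne_mem_Irr R)
    rw [H27.cfdot_cfRes_left, h0] at c1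
    have c2 : m (cfOne R) = 0 := by exact_mod_cast c1.symm
    have c3 := a1 _ (H27.cfOne_mem_Irr R)
    rw [c2] at c3
    have c4 : deg ψ / ♯R = 0 := c3.elim Eq.symm fun h => absurd h.symm (Nat.succ_ne_zero _)
    exact (Nat.div_eq_zero_iff_lt (card_pos R)).1 c4

/-- Theorem 2.5 (first assertion). -/
theorem repr_extraspecial_prime_sdprod_cycle (hp : p.Prime) (hP : Extraspecial p P)
    (hHP : H ≤ N[P]) (hc : Cyc H) (hcard : ♯P = p ^ (2 * n + 1)) (hcop : p.Coprime ♯H)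
    (hreg : ∀ x ∈ H, x ≠ 1 → P ⊓ C{x} = Z[P]) : ♯H ∣ p ^ n + 1 ∨ ♯H ∣ p ^ n - 1 := by
  by_cases hH1 : H = ⊥
  · left; rw [hH1, card_bot]; exact one_dvd _
  have hZp : (♯Z[P]).Prime := by rw [hP.card]; exact hp
  have hZH : Z[P] ≤ C[H] := cents_symm fun x hx => by
    by_cases h1 : x = 1
    · rw [h1]; exact one_mem _
    · rw [mem_C_iff_le_C1, ← hreg x hx h1]; exact inf_le_right
  have hZM : Z[P] ≤ C[P ⊔ H] := cents_sup inf_le_right hZH
  obtain ⟨ψ, hψ⟩ := H27.irrKD_nonempty (K := P ⊔ H) (H := Z[P]) (Nml.bot _)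
    (fun h => ne_bot_of_prime hZp (le_bot_iff.1 h))
  obtain ⟨hψ, -, hψZ⟩ := H27.mem_irrKD.1 hψ
  have hi := prime_inf_of_not_le hZp hψZ
  obtain ⟨h1, h2, -⟩ := irr_deg_special (Z := Z[P]) hHP
    (by rw [hcard]; exact hcop.pow_left _) hc.abl hH1 hψ inf_le_left (norm_Z hHP) hP.der.le
    (by rw [comm_eq_bot.2 hZM]; exact bot_le)
    (fun x hx h => ⟨hx, mem_C'.2 fun y hy => by
      have a : ⁅x, y⁆ ∈ Z[P] ⊓ cfker (P ⊔ H) ψ :=
        ⟨hP.der.le (commutator_mem_commutator hx hy), h y hy⟩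
      rw [hi, mem_bot] at a
      exact commutatorElement_eq_one_iff_mul_comm.1 a⟩)
    (fun x hx h1 => (hreg x hx h1).le)
  have h3 := card_mul_relIndex (inf_le_left : Z[P] ≤ P)
  rw [hP.card, hcard, ← h1, pow_succ' p (2 * n)] at h3
  have h4 := Nat.eq_of_mul_eq_mul_left hp.pos h3
  rw [mul_comm 2 n, pow_mul] at h4
  have h5 : deg ψ = p ^ n := Nat.pow_left_injective two_ne_zero h4
  rw [h5] at h2
  have h6 := Nat.div_add_mod (p ^ n) ♯H
  rcases h2 with h2 | h2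
  · right
    exact ⟨p ^ n / ♯H, by omega⟩
  · left
    exact ⟨p ^ n / ♯H + 1, by rw [mul_add, mul_one]; omega⟩

/-- character form of Theorem 3.4 -/
theorem odd_prime_sdprod_char (hR : (♯R).Prime) (hoR : Odd ♯R) (K : Subgroup G) :
    R ≤ N[K] → (♯K).Coprime ♯R → Sol K → Odd ♯K → ∀ χ, IsChar (K ⊔ R) χ →
      cfdot R χ (cfOne R) = 0 → ⁅K, R⁆ ≤ cfker (K ⊔ R) χ := by
  refine subgroup_ind (P := fun K => R ≤ N[K] → (♯K).Coprime ♯R → Sol K → Odd ♯K →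
    ∀ χ, IsChar (K ⊔ R) χ → cfdot R χ (cfOne R) = 0 → ⁅K, R⁆ ≤ cfker (K ⊔ R) χ) ?_ K
  intro K ih hn hc hs ho χ hχ h0
  refine le_cfker_of_constt hχ (comm_le_of_le le_sup_left le_sup_right) fun ψ hψ hne => ?_
  have hch := H27.irr_char hψ
  obtain ⟨a, ha⟩ := hch.dot_nat_of_le' (H27.isChar_cfOne R) le_sup_right
  have ha0 : a ≤ 0 := constt_dot_le hχ hψ hne le_sup_right (H27.isChar_cfOne R) ha
    (by rw [h0, Nat.cast_zero])
  rw [Nat.le_zero.1 ha0, Nat.cast_zero] at ha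
  set N := cfker (K ⊔ R) ψ with hNdef
  have hN : N ⊴ K ⊔ R := H27.cfker_nml (H27.irr_CF hψ)
  have hKN : K ≤ N[N] := le_sup_left.trans hN.norm
  have hRN : R ≤ N[N] := le_sup_right.trans hN.norm
  have IH : ∀ L, L < K → R ≤ N[L] → ⁅L, R⁆ ≤ N := by
    intro L hL hRL
    have hle : L ⊔ R ≤ K ⊔ R := sup_le_sup_right hL.le _
    have := ih L hL hRL (hc.coprime_dvd_left (card_dvd hL.le)) (hs.of_le hL.le)
      (odd_of_le ho hL.le) _ (hch.res hle) (by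
        rw [← ha]; exact H27.cfdot_congr (fun x hx => H27.cfRes_of_mem _ (le_sup_right (a := L) hx))
          fun _ _ => rfl)
    rw [hch.cfker_res hle] at this
    exact this.trans inf_le_right
  by_contra hcon
  have hKR : ⁅K, R⁆ = K := by
    by_contra h
    refine hcon ?_
    rw [← H26.coprime_commGid hn hc hs]
    exact IH _ (lt_of_le_of_ne (comm_le_left hn) h) (norm_comm_right _ _)
  have hK : ¬ K ≤ N := by rw [← hKR]; exact hcon
  have hK1 : K ≠ ⊥ := fun h => hK (h ▸ bot_le)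
  have hC : ∀ x ∈ R, x ≠ 1 → C{x} = C[R] := fun x hx h1 => (C_eq_C1_of_prime hR hx h1).symm
  by_cases hab : ⁅K, K⁆ ≤ N
  · have h1 := irr_deg_regular_mod hn hc hψ hK fun x hx h1 => by
      rw [hC x hx h1]
      have b := H26.coprime_abel_cent_TI (quo_norm N hn) (coprime_quo hc N) ((abl_quo hKN).2 hab)
      rw [← quo_comm hKN hRN, hKR] at b
      exact (quo_eq_bot (inf_le_left.trans hKN)).1
        (eq_bot_of_le b (img_inf_C_le (coset N) K R))
    rw [ha, mul_zero] at h1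
    exact H27.irr_one_ne_zero hψ h1
  have hZlt : K ⊓ centQ K N < K := lt_of_le_of_ne inf_le_left fun h =>
    hab ((le_centQ hKN).1 (inf_eq_left.1 h)).2
  have hRZ : R ≤ N[K ⊓ centQ K N] := norm_inf hn (norm_centQ hn hRN)
  have hD : ⁅K, K⁆ ≤ K ⊓ centQ R N := le_inf (der1_le K) ((le_centQ hRN).2
    ⟨(der1_le K).trans hKN, IH _ (hs.der1_lt hK1) (norm_der1 hn)⟩)
  have hCZ : K ⊓ centQ R N ≤ K ⊓ centQ K N := by
    have c1 : ⁅K ⊓ centQ R N, R⁆ ≤ N := ((le_centQ hRN).1 inf_le_right).2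
    have c2 : K ⊓ centQ R N ⊴ K := nml_of_der1_le hD inf_le_left
    have c3 := three_subgroup_mod hKN (c2.le.trans hKN) hRN
      ((comm_mono_left (comm_le_right c2.norm)).trans c1)
      ((comm_mono_left c1).trans (comm_le_left hKN))
    rw [commC R K, hKR, commC] at c3
    exact le_inf inf_le_left ((le_centQ hKN).2 ⟨c2.le.trans hKN, c3⟩)
  obtain ⟨h1, h2, h3⟩ := irr_deg_special (Z := K ⊓ centQ K N) hn hc (abl_of_prime hR)
    (ne_bot_of_prime hR) hψ inf_le_left hRZ (hD.trans hCZ)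
    (by
      rw [commutator_le]
      intro z hz y hy
      obtain ⟨y1, hy1, y2, hy2, rfl⟩ := (mem_sup_of_norm hn).1 hy
      have e : ⁅z, y1 * y2⁆ = ⁅z, y1⁆ * (y1 * ⁅z, y2⁆ * y1⁻¹) := by
        simp only [commutatorElement_def]; group
      rw [e]
      exact N.mul_mem (((mem_centQ hKN).1 hz.2).2 y1 hy1)
        (conj_mem (hKN hy1) (IH _ hZlt hRZ (commutator_mem_commutator hz hy2))))
    (fun x hx h => ⟨hx, (mem_centQ hKN).2 ⟨hKN hx, h⟩⟩)
    (fun x hx h1 => by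
      rw [hC x hx h1]
      refine le_trans (le_inf inf_le_left ((le_centQ hRN).2 ⟨inf_le_left.trans hKN, ?_⟩)) hCZ
      rw [comm_eq_bot.2 inf_le_right]; exact bot_le)
  have h4 := h3 ha
  rw [Nat.mod_eq_of_lt h4] at h2
  rcases h2 with h2 | h2
  · rw [h2, one_pow] at h1
    exact hZlt.not_ge (relIndex_eq_one.1 h1.symm)
  · have h5 : Odd (deg ψ) := H27.irr_deg_odd (by
      rw [card_sup_of_inf hn (inf_eq_bot_of_cop hc)]; exact ho.mul hoR) hψ
    rw [← h2] at hoR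
    exact (Nat.not_even_iff_odd.2 hoR) h5.add_one

/-- Theorem 3.4. -/
theorem odd_prime_sdprod_abelem_cent1 (hM : Sol M) (hodd : Odd ♯M) (h : SD K R M)
    (hc : (♯K).Coprime ♯R) (hR : (♯R).Prime) (hk : k.Prime) (hV : IsElementaryAbelian k V)
    (hMV : M ≤ N[V]) (hk' : IsPi {k}ᶜ M) (hCV : V ⊓ C[R] = ⊥) : ⁅R, K⁆ ≤ K ⊓ C[V] := by
  obtain ⟨χ, hχ, hχ'⟩ := exists_abelem_action_char hk hV hMV hk'
  obtain ⟨n, hn⟩ := hχ.dot_nat_of_le' (H27.isChar_cfOne R) h.right_le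
  have h1 := hχ' R h.right_le n hn
  have h2 : n = 0 := Nat.pow_right_injective hk.two_le (by
    simp only; rw [← h1, hCV, pow_zero, card_bot])
  rw [h2, Nat.cast_zero] at hn
  refine le_inf (comm_le_right h.norm) (action_char_cent hχ hχ' ?_)
  have h3 := h.left_le
  have h4 := h.right_le
  obtain rfl := h.sup
  rw [commC]
  exact odd_prime_sdprod_char hR (odd_of_le hodd h4) K h.norm hc (hM.of_le h3) (odd_of_le hodd h3)
    χ hχ hn

end H1
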