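import Mathlib
import Cfsg.Agent.H1.BG34

/-! # B & G 3.8, 3.10 -/

set_option autoImplicit false

namespace H1

open Cfsg H24 Subgroup
open scoped commutatorElement IsMulCommutative

universe u

variable {G : Type u} [Group G] [Finite G]
variable {A H K L M N P R V X Z : Subgroup G} {p q k n : ℕ}

theorem section_pi_compl {U W : Subgroup G} (hp : p.Prime) (hWU : W < U) (hW : W ⊴ V) (hU : U ⊴ V)
    (hE : IsElementaryAbelian p (quo U W)) (hc : (♯V).Coprime ♯M) : IsPi {p}ᶜ M := by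
  have hWU' : W ⊴ U := hW.of_le hWU.le hU.le
  have hne : quo U W ≠ ⊥ := fun h => hWU.not_ge ((quo_eq_bot hWU'.norm).1 h)
  exact PiNat.of_coprime hp (((IsPi.dvd_card (H25.Cfsg.IsElementaryAbelian.isPi hE hp) hne).trans
        (card_quo_dvd _ _)).trans (card_dvd hU.le)) hc

/-- Theorem 3.4 for a solvable `V` of order prime to `|M|`. -/
theorem odd_prime_sdprod_sol_cent1 (hM : Sol M) (hodd : Odd ♯M) (h : SD K R M)
    (hc : (♯K).Coprime ♯R) (hR : (♯R).Prime) (hV : Sol V) (hMV : M ≤ N[V])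
    (hcV : (♯V).Coprime ♯M) (hCV : V ⊓ C[R] = ⊥) : ⁅R, K⁆ ≤ K ⊓ C[V] := by
  have hle : ⁅R, K⁆ ≤ M := comm_le_of_le h.right_le h.left_le
  refine le_inf (comm_le_right h.norm) (cent_of_abelem_sections hV hMV hle
    (hcV.coprime_dvd_right (card_dvd hle)) ?_)
  intro U W p hp hWU hW hU hMW hMU hE
  have hcW : (♯W).Coprime ♯R :=
    (hcV.coprime_dvd_left (card_dvd hW.le)).coprime_dvd_right (card_dvd h.right_le)
  have hRW := h.right_le.trans hMW
  rw [quo_comm hRW (h.left_le.trans hMW)]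
  refine (odd_prime_sdprod_abelem_cent1 (hM.quo W) (odd_quo hodd W) (h.quo_of_coprime hMW hc)
    (coprime_quo hc W) (by rwa [card_quo_of_inf hRW (inf_eq_bot_of_cop hcW)]) hp hE
    (quo_norm W hMU) ((section_pi_compl hp hWU hW hU hE hcV).quo W) ?_).trans inf_le_right
  rw [← quo_inf_C hWU.le hRW hcW (Or.inl (hV.of_le hW.le)),
    eq_bot_of_le hCV (inf_le_inf_right _ hU.le)]
  exact img_bot _

/-- Theorem 3.5 for a solvable `V` of order prime to `|M|`. -/
theorem Frobenius_prime_cent_cyc_sol (hM : Sol M) (h : SD K R M) (hR : (♯R).Prime)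
    (hKR : K ⊓ C[R] = ⊥) (hV : Sol V) (hMV : M ≤ N[V]) (hcV : (♯V).Coprime ♯M)
    (hCV : Cyc (V ⊓ C[R])) : ⁅K, K⁆ ≤ K ⊓ C[V] := by
  have hle : ⁅K, K⁆ ≤ M := (der1_le K).trans h.left_le
  have hreg := semiregular_prime hR hKR
  have hc := regular_norm_coprime h.norm hreg
  refine le_inf (der1_le K) (cent_of_abelem_sections hV hMV hle
    (hcV.coprime_dvd_right (card_dvd hle)) ?_)
  intro U W p hp hWU hW hU hMW hMU hE
  have hcW' : (♯W).Coprime ♯M := hcV.coprime_dvd_left (card_dvd hW.le)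
  have hcW : (♯W).Coprime ♯R := hcW'.coprime_dvd_right (card_dvd h.right_le)
  have hRW := h.right_le.trans hMW
  have hKW := h.left_le.trans hMW
  have hp' := (section_pi_compl hp hWU hW hU hE hcV).quo W
  have hreg' : Semireg (quo K W) (quo R W) :=
    semiregular_quo_coprime hreg (by rw [h.sup]; exact inf_eq_bot_of_cop hcW')
  have hsd := h.quo_of_coprime hMW hc
  have hR' : (♯(quo R W)).Prime := by rwa [card_quo_of_inf hRW (inf_eq_bot_of_cop hcW)]
  have hcyc : Cyc (quo U W ⊓ C[quo R W]) := by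
    rw [← quo_inf_C hWU.le hRW hcW (Or.inl (hV.of_le hW.le))]
    exact (hCV.of_le (inf_le_inf_right _ hU.le)).quo W
  have hd := H25.Cfsg.IsElementaryAbelian.card_dvd_of_cyc
    (H25.Cfsg.IsElementaryAbelian.mono hE inf_le_left) hcyc
  rw [quo_comm hKW hKW]
  rcases (Nat.dvd_prime hp).1 hd with h1 | h1
  · refine (der1_le _).trans (cent_of_regular_abelian hsd.norm hreg' hE.1
      (quo_norm W (h.left_le.trans hMU)) (quo_norm W (h.right_le.trans hMU)) ?_ (card_eq_one'.1 h1))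
    exact (H25.Cfsg.IsElementaryAbelian.isPi hE hp).coprime (hp'.of_le hsd.left_le)
  · exact (Frobenius_prime_cent_prime (hM.quo W) hsd hR'
      (cent_semiregular hreg' le_rfl (ne_bot_of_prime hR')) hp hE (quo_norm W hMU) hp' h1).trans
      inf_le_right

theorem odd_prime_commg_sub_Fitting (h : SD K R M) (hodd : Odd ♯M) (hM : Sol M)
    (hc : (♯K).Coprime ♯R) (hR : (♯R).Prime) (hF : F[K] ⊓ C[R] = ⊥) : ⁅K, R⁆ ≤ F[K] := by
  have hK := hM.of_le h.left_le
  have hn := h.norm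
  have hFK := Fitting_nml K
  have hRF := norm_Fitting hn
  rw [commC, ← quo_cents hRF hFK.norm]
  refine le_trans (le_inf le_rfl (cents_symm ?_))
    (H26.coprime_cent_Fitting (quo_norm _ hn) (coprime_quo hc _) (hK.quo _))
  refine Fitting_le_of_pcore_le fun p hp _ => ?_
  have hL := coreMod_nml {p} hFK
  have hO := pcore_Fitting_nml {p}ᶜ K
  obtain ⟨P, hP, hRP⟩ := H26.sol_coprime_Sylow_exists hp
    (norm_coreMod {p} hFK hn hRF) (hc.coprime_dvd_left (card_dvd hL.le))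
    (Or.inr (hK.of_le hL.le))
  have hPK := hP.le.trans hL.le
  have hcP : (♯P).Coprime ♯R := hc.coprime_dvd_left (card_dvd hPK)
  have hle : P ⊔ R ≤ M := sup_le (hPK.trans h.left_le) h.right_le
  have h1 := odd_prime_sdprod_sol_cent1 (hM.of_le hle) (odd_of_le hodd hle)
    (SD.mk_sup hRP (inf_eq_bot_of_cop hcP)) hcP hR (hK.of_le hO.le)
    (sup_le (hPK.trans hO.norm) (norm_pcore _ hRF))
    (Nat.Coprime.coprime_dvd_right (isProd_sup hRP).card_dvd (Nat.Coprime.mul_right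
      ((pcore_pi _ _).coprime' hP.pi) (hc.coprime_dvd_left (card_dvd hO.le))))
    (eq_bot_of_le hF (inf_le_inf_right _ (pcore_le _ _)))
  have h2 : ⁅R, P⁆ ≤ F[K] :=
    (h1.trans (inf_le_inf_right _ hP.le)).trans (coreMod_inf_C_le_Fitting hp K)
  rw [← quo_coreMod, ← (hP.isProd (hall_pcore_coreMod_Fitting p K)).sup_eq,
    quo_sup (hPK.trans hFK.norm) (hO.le.trans hFK.norm), quo_eq_bot_of_le (pcore_le _ _),
    sup_bot_eq, quo_cents (hPK.trans hFK.norm) hRF, commC]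
  exact h2

/-- Theorem 3.8. -/
theorem odd_sdprod_primact_commg_sub_Fitting (h : SD K R M) (hodd : Odd ♯M) (hM : Sol M)
    (hc : (♯K).Coprime ♯R) (hpr : Semiprime K R) (hF : F[K] ⊓ C[R] = ⊥) : ⁅K, R⁆ ≤ F[K] := by
  by_cases hR1 : R = ⊥
  · rw [hR1, commutator_bot_right]; exact bot_le
  obtain ⟨X, hX, hXp⟩ := exists_card_isPrime hR1
  have hC := cent_semiprime hpr hX (ne_bot_of_prime hXp)
  have hcX : (♯K).Coprime ♯X := hc.coprime_dvd_right (card_dvd hX)
  have hle : K ⊔ X ≤ M := sup_le h.left_le (hX.trans h.right_le)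
  have h1 := odd_prime_commg_sub_Fitting (SD.mk_sup (hX.trans h.norm) (inf_eq_bot_of_cop hcX))
    (odd_of_le hodd hle) (hM.of_le hle) hcX hXp (by
      rw [← hF, ← inf_eq_left.2 (Fitting_le K), inf_assoc, hC, inf_assoc])
  have h2 := H26.coprime_isProd_of_comm_le (norm_Fitting (hX.trans h.norm))
    (hcX.coprime_dvd_left (card_dvd (Fitting_le K))) (Or.inl (Fitting_nil K).sol) (Fitting_le K) h1
  rw [hC] at h2
  rw [h2.comm_left_of_cent inf_le_right]
  exact comm_le_left (norm_Fitting h.norm)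

/-- Theorem 3.10. -/
theorem Frobenius_primact (h : Frob M K R) (hM : Sol M) (_hodd : Odd ♯M) (hMV : M ≤ N[V])
    (hV : Sol V) (h1 : V ≠ ⊥) (hc : (♯V).Coprime ♯M) (hpr : Semiprime V R) (hK : V ⊓ C[K] = ⊥) :
    (♯R).Prime ∧ ♯V = ♯(V ⊓ C[R]) ^ ♯R ∧ (Cyc (V ⊓ C[R]) → ⁅K, K⁆ ≤ K ⊓ C[V]) := by
  have h2 := (Frobenius_Wielandt_fixpoint h hMV hc hV).2.2 hK
  obtain ⟨X, hX, hXp⟩ := exists_card_isPrime h.compl_ne
  have hle : K ⊔ X ≤ M := sup_le h.ker_le (hX.trans h.compl_le)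
  have h3 := (Frobenius_Wielandt_fixpoint (Frobenius_subr h (ne_bot_of_prime hXp) hX)
    (hle.trans hMV) (hc.coprime_dvd_right (card_dvd hle)) hV).2.2 hK
  rw [cent_semiprime hpr hX (ne_bot_of_prime hXp)] at h3
  have h4 : 2 ≤ ♯(V ⊓ C[R]) := one_lt_card fun h0 => h1 (by
    rw [h0, card_bot, one_pow] at h2; exact card_eq_one'.1 h2)
  have h5 : ♯R = ♯X := Nat.pow_right_injective h4 (h2.symm.trans h3)
  have hR : (♯R).Prime := h5 ▸ hXp
  exact ⟨hR, h2, Frobenius_prime_cent_cyc_sol hM h.sd hR h.inf_C hV hMV hc⟩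

end H1
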