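import Mathlib
import Cfsg.Agent.H27.JTG
import Cfsg.Agent.H16.PSL2Inv

/-! Groups with `C(t) = ⟨t⟩ × L⟨φ⟩`, `L ≅ PSL₂(q)`, `φ` a field automorphism. -/

set_option autoImplicit false
open Cfsg H24 Subgroup
open scoped MatrixGroups

namespace H1

/-- `C(t) = ⟨t⟩ × L⟨φ⟩` with `L = ι(PSL₂(F))` and `φ` acting on `L` as the field automorphism `σ`;
Sylow `2`-subgroups abelian, one class of involutions. -/
structure JR {G : Type*} [Group G] {F : Type*} [Field F] [Fintype F] (t : G)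
    (ι : PSL(2, F) →* G) (φ : G) (σ : F ≃+* F) : Prop where
  ab : ∀ P : Subgroup G, IsPGroup 2 P → ∀ g ∈ P, ∀ k ∈ P, g * k = k * g
  cnj : ∀ u : G, orderOf u = 2 → IsConj t u
  q8 : Fintype.card F % 8 = 3 ∨ Fintype.card F % 8 = 5
  ord : orderOf t = 2
  inj : Function.Injective ι
  mem : ∀ y, ι y ∈ C{t}
  ne : ∀ y, ι y ≠ t
  φt : φ ∈ C{t}
  act : ∀ y, φ * ι y * φ⁻¹ = ι (H16.pslMap (σ : F →+* F) y)
  oφ : orderOf φ = orderOf σ
  dec : ∀ g ∈ C{t}, ∃ y, ∃ k : ℕ, g = ι y * φ ^ k ∨ g = t * ι y * φ ^ k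

/-- the fixed field of `σ` -/
def fixF {F : Type*} [Field F] (σ : F ≃+* F) : Subfield F :=
  RingHom.eqLocusField (σ : F →+* F) (RingHom.id F)

theorem mem_fixF {F : Type*} [Field F] {σ : F ≃+* F} {x : F} : x ∈ fixF σ ↔ σ x = x := Iff.rfl

end H1
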