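import Mathlib
import Cfsg.Agent.H1.Hall
import Cfsg.Agent.H1.CoprimeAbelian
import Cfsg.Agent.H2.MinNormal

/-!
# Wielandt's three subgroups theorem, converse of Hall's theorem, Sylow systems, Brodkey
-/

set_option autoImplicit false

open scoped Pointwise commutatorElement IsMulCommutative
open Cfsg

namespace H1

universe u v

variable {G : Type u} [Group G]

/-- a `p`-subgroup of `K` is `K`-conjugate into any `S` with `p ∤ |K : K ⊓ S|`. -/
theorem exists_conj_le_of_isPGroup [Finite G] {p : ℕ} [Fact p.Prime] (A K S : Subgroup G)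
    (hA : IsPGroup p A) (hAK : A ≤ K) (h : ¬ p ∣ S.relIndex K) :
    ∃ k ∈ K, A ≤ MulAut.conj k • S := by
  obtain ⟨k, hk, h⟩ := exists_fixed_of_isPGroup A K hA (hAK.trans Subgroup.le_normalizer)
    ((1 : G) : G ⧸ S) (by rwa [MulAction.stabilizer_quotient]) fun a ha => ⟨a, hAK ha, rfl⟩
  refine ⟨k, hk, fun a ha => ?_⟩
  have := h a⁻¹ (A.inv_mem ha)
  simp only [MulAction.Quotient.smul_mk, smul_eq_mul, QuotientGroup.eq, mul_one] at this
  rw [mem_conj_smul]
  simpa [mul_assoc] using this

theorem normalCore_ne_bot_of_factorization [Finite G] {p : ℕ} [Fact p.Prime] (H₁ H₂ : Subgroup G)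
    (h12 : ∀ g : G, ∃ x ∈ H₁, ∃ y ∈ H₂, g = x * y) (hp : pCore p H₁ ≠ ⊥)
    (hd : ¬ p ∣ H₂.index) : H₂.normalCore ≠ ⊥ := by
  set A := (pCore p H₁).map H₁.subtype with hA
  have hn : H₁ ≤ Subgroup.normalizer (A : Set G) :=
    le_normalizer_map_subtype Subgroup.le_normalizer _
  obtain ⟨g, -, hg⟩ := exists_conj_le_of_isPGroup A ⊤ H₂ ((H2.pCore_isPGroup p H₁).map _) le_top
    (by rwa [Subgroup.relIndex_top_right])
  have hA2 : A ≤ H₂ := by
    obtain ⟨x, hx, y, hy, rfl⟩ := h12 g
    rw [conj_mul_smul, Subgroup.conj_smul_eq_self_of_mem hy] at hg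
    intro a ha
    have := mem_conj_smul.mp (hg (conj_mem_of_le_normalizer hn hx ha))
    simpa [mul_assoc] using this
  intro h
  apply hp
  rw [← Subgroup.map_eq_bot_iff_of_injective _ H₁.subtype_injective, eq_bot_iff, ← h]
  intro a ha g
  obtain ⟨x, hx, y, hy, e⟩ := h12 g⁻¹
  have := H₂.mul_mem (H₂.mul_mem (H₂.inv_mem hy) (hA2 (inv_conj_mem_of_le_normalizer hn hx ha))) hy
  rw [inv_eq_iff_eq_inv.mp e]
  simpa [mul_assoc] using this

theorem solvable_of_three_aux (n : ℕ) : ∀ (G : Type u) [Group G] [Finite G], Nat.card G = n →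
    ∀ (H₁ H₂ H₃ : Subgroup G), Group.IsSolvable H₁ → Group.IsSolvable H₂ → Group.IsSolvable H₃ →
    (∀ g : G, ∃ x ∈ H₁, ∃ y ∈ H₂, g = x * y) → (∀ g : G, ∃ x ∈ H₁, ∃ y ∈ H₃, g = x * y) →
    H₂.index.Coprime H₃.index → Group.IsSolvable G := by
  induction n using Nat.strong_induction_on with | _ n ih
  intro G _ _ hn H₁ H₂ H₃ h₁ h₂ h₃ h12 h13 hcop
  by_cases hb : H₁ = ⊥
  · have : H₂ = ⊤ := by
      rw [eq_top_iff]
      intro g _
      obtain ⟨x, hx, y, hy, rfl⟩ := h12 g
      rw [hb, Subgroup.mem_bot] at hx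
      simpa [hx] using hy
    rw [this] at h₂
    exact H2.isSolvable_top_iff.mp h₂
  have key : ∀ N : Subgroup G, N.Normal → N ≠ ⊥ → Group.IsSolvable N → Group.IsSolvable G := by
    intro N hN hN1 hNs
    refine H2.isSolvable_of_normal_quotient N hNs ?_
    refine ih _ (hn ▸ H2.card_quotient_lt hN1) (G ⧸ N) rfl (H₁.map (QuotientGroup.mk' N))
      (H₂.map (QuotientGroup.mk' N)) (H₃.map (QuotientGroup.mk' N)) (H2.isSolvable_map h₁ _)
      (H2.isSolvable_map h₂ _) (H2.isSolvable_map h₃ _) ?_ ?_ ?_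
    · intro q
      obtain ⟨g, rfl⟩ := QuotientGroup.mk'_surjective N q
      obtain ⟨x, hx, y, hy, rfl⟩ := h12 g
      exact ⟨_, ⟨x, hx, rfl⟩, _, ⟨y, hy, rfl⟩, map_mul _ _ _⟩
    · intro q
      obtain ⟨g, rfl⟩ := QuotientGroup.mk'_surjective N q
      obtain ⟨x, hx, y, hy, rfl⟩ := h13 g
      exact ⟨_, ⟨x, hx, rfl⟩, _, ⟨y, hy, rfl⟩, map_mul _ _ _⟩
    · exact (hcop.coprime_dvd_left (H₂.index_map_dvd (QuotientGroup.mk'_surjective N))).coprime_dvd_right
        (H₃.index_map_dvd (QuotientGroup.mk'_surjective N))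
  have : Nontrivial H₁ := (Subgroup.nontrivial_iff_ne_bot _).mpr hb
  obtain ⟨p, hp, hp1⟩ := H2.exists_prime_pCore_ne_bot (G := H₁) (N := ⊤) inferInstance
    inferInstance top_ne_bot
  rw [inf_top_eq] at hp1
  have : Fact p.Prime := ⟨hp⟩
  by_cases hd : p ∣ H₂.index
  · exact key _ inferInstance (normalCore_ne_bot_of_factorization H₁ H₃ h13 hp1
      fun hd' => hp.one_lt.ne' (Nat.eq_one_of_dvd_coprimes hcop hd hd'))
      (solvable_of_le H₃.normalCore_le h₃)
  · exact key _ inferInstance (normalCore_ne_bot_of_factorization H₁ H₂ h12 hp1 hd)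
      (solvable_of_le H₂.normalCore_le h₂)

/-- Wielandt: `G = H₁ H₂ = H₁ H₃` with solvable factors and coprime indices is solvable. -/
theorem solvable_of_three [Finite G] (H₁ H₂ H₃ : Subgroup G)
    (h₁ : Group.IsSolvable H₁) (h₂ : Group.IsSolvable H₂) (h₃ : Group.IsSolvable H₃)
    (h12 : ∀ g : G, ∃ x ∈ H₁, ∃ y ∈ H₂, g = x * y) (h13 : ∀ g : G, ∃ x ∈ H₁, ∃ y ∈ H₃, g = x * y)
    (hcop : H₂.index.Coprime H₃.index) : Group.IsSolvable G :=
  solvable_of_three_aux _ G rfl H₁ H₂ H₃ h₁ h₂ h₃ h12 h13 hcop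

theorem two_primes_or_three {n : ℕ} (hn : n ≠ 0) :
    (∃ p q a b : ℕ, p.Prime ∧ q.Prime ∧ n = p ^ a * q ^ b) ∨
      ∃ p q r : ℕ, p.Prime ∧ q.Prime ∧ r.Prime ∧ p ∣ n ∧ q ∣ n ∧ r ∣ n ∧ p ≠ q ∧ p ≠ r ∧ q ≠ r := by
  by_cases h : 2 < n.primeFactors.card
  · right
    obtain ⟨p, hp, q, hq, r, hr, h1, h2, h3⟩ := Finset.two_lt_card.mp h
    rw [Nat.mem_primeFactors] at hp hq hr
    exact ⟨p, q, r, hp.1, hq.1, hr.1, hp.2.1, hq.2.1, hr.2.1, h1, h2, h3⟩
  left
  have e : n = ∏ p ∈ n.primeFactors, p ^ n.factorization p :=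
    (Nat.prod_factorization_pow_eq_self hn).symm
  have h' : n.primeFactors.card = 0 ∨ n.primeFactors.card = 1 ∨ n.primeFactors.card = 2 := by omega
  rcases h' with h' | h' | h'
  · rw [Finset.card_eq_zero.mp h'] at e
    exact ⟨2, 2, 0, 0, Nat.prime_two, Nat.prime_two, by simpa using e⟩
  · obtain ⟨p, hp⟩ := Finset.card_eq_one.mp h'
    have h1 : p ∈ n.primeFactors := by simp [hp]
    rw [hp] at e
    exact ⟨p, 2, _, 0, Nat.prime_of_mem_primeFactors h1, Nat.prime_two, by simpa using e⟩
  · obtain ⟨p, q, hpq, hp⟩ := Finset.card_eq_two.mp h'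
    have h1 : p ∈ n.primeFactors := by simp [hp]
    have h2 : q ∈ n.primeFactors := by simp [hp]
    rw [hp, Finset.prod_pair hpq] at e
    exact ⟨p, q, _, _, Nat.prime_of_mem_primeFactors h1, Nat.prime_of_mem_primeFactors h2, e⟩

theorem relIndex_eq_index_of_coprime_index [Finite G] (H K : Subgroup G)
    (h : H.index.Coprime K.index) : K.relIndex H = K.index := by
  have := index_inf_of_coprime_index H K h
  rw [← Subgroup.relIndex_mul_index (inf_le_left : H ⊓ K ≤ H), Subgroup.inf_relIndex_left,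
    mul_comm] at this
  exact Nat.eq_of_mul_eq_mul_left (Nat.pos_of_ne_zero Subgroup.index_ne_zero_of_finite) this

/-- converse of Hall's theorem, from Burnside's theorem. -/
theorem solvable_of_hall_complements
    (burnside : ∀ (G : Type u) [Group G] [Finite G] (p q a b : ℕ), p.Prime → q.Prime →
      Nat.card G = p ^ a * q ^ b → Group.IsSolvable G) (n : ℕ) :
    ∀ (G : Type u) [Group G] [Finite G], Nat.card G = n →
    (∀ p : ℕ, p.Prime → ∃ H : Subgroup G, H.index = p ^ (Nat.card G).factorization p) →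
    Group.IsSolvable G := by
  induction n using Nat.strong_induction_on with | _ n ih
  intro G _ _ hn h
  rcases two_primes_or_three (Nat.card_pos (α := G)).ne' with ⟨p, q, a, b, hp, hq, e⟩ |
    ⟨p, q, r, hp, hq, hr, hpd, hqd, hrd, hpq, hpr, hqr⟩
  · exact burnside G p q a b hp hq e
  choose! H hH using h
  have hcop : ∀ p q : ℕ, p.Prime → q.Prime → p ≠ q → (H p).index.Coprime (H q).index := by
    intro p q hp hq hpq
    rw [hH p hp, hH q hq]
    exact Nat.Coprime.pow _ _ ((Nat.coprime_primes hp hq).mpr hpq)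
  have hsol : ∀ p : ℕ, p.Prime → p ∣ Nat.card G → Group.IsSolvable (H p) := by
    intro p hp hpd
    have hfac : ∀ q : ℕ, (Nat.card G).factorization q = (Nat.card (H p)).factorization q +
        if p = q then (Nat.card G).factorization p else 0 := by
      intro q
      conv_lhs => rw [← (H p).card_mul_index, hH p hp,
        Nat.factorization_mul Nat.card_pos.ne' (pow_pos hp.pos _).ne', hp.factorization_pow]
      simp [Finsupp.single_apply]
    refine ih _ (lt_of_lt_of_eq (H2.card_lt_of_ne_top (H := H p) ?_) hn) (H p) rfl fun q hq => ?_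
    · intro e
      have := hH p hp
      rw [e, Subgroup.index_top, eq_comm, pow_eq_one_iff] at this
      rcases this with h | h
      · exact hp.ne_one h
      · exact (hp.factorization_pos_of_dvd Nat.card_pos.ne' hpd).ne' h
    · by_cases hpq : p = q
      · subst hpq
        have := hfac p
        rw [if_pos rfl] at this
        exact ⟨⊤, by rw [Subgroup.index_top, show (Nat.card (H p)).factorization p = 0 by omega,
          pow_zero]⟩
      · have := hfac q
        rw [if_neg hpq, add_zero] at this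
        exact ⟨(H q).subgroupOf (H p), by
          rw [← this, ← hH q hq]
          exact relIndex_eq_index_of_coprime_index _ _ (hcop p q hp hq hpq)⟩
  exact solvable_of_three (H p) (H q) (H r) (hsol p hp hpd) (hsol q hq hqd) (hsol r hr hrd)
    (exists_mul_of_coprime_index _ _ (hcop p q hp hq hpq))
    (exists_mul_of_coprime_index _ _ (hcop p r hp hr hpr)) (hcop q r hq hr hqr)

theorem coe_sup_of_mul_comm {A B : Subgroup G} (h : (A : Set G) * B = B * A) :
    ((A ⊔ B : Subgroup G) : Set G) = A * B := by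
  let K : Subgroup G :=
    { carrier := A * B
      one_mem' := ⟨1, A.one_mem, 1, B.one_mem, mul_one 1⟩
      mul_mem' := by
        rintro _ _ ⟨a, ha, b, hb, rfl⟩ ⟨a', ha', b', hb', rfl⟩
        obtain ⟨a'', ha'', b'', hb'', e⟩ : b * a' ∈ (A : Set G) * B := h ▸ ⟨b, hb, a', ha', rfl⟩
        refine ⟨a * a'', A.mul_mem ha ha'', b'' * b', B.mul_mem hb'' hb', ?_⟩
        simp only at e ⊢
        rw [mul_assoc, ← mul_assoc a'', e]; group
      inv_mem' := by
        rintro _ ⟨a, ha, b, hb, rfl⟩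
        rw [h]
        exact ⟨b⁻¹, B.inv_mem hb, a⁻¹, A.inv_mem ha, by simp⟩ }
  apply le_antisymm
  · change A ⊔ B ≤ K
    exact sup_le (fun a ha => ⟨a, ha, 1, B.one_mem, mul_one a⟩)
      fun b hb => ⟨1, A.one_mem, b, hb, one_mul b⟩
  · rintro _ ⟨a, ha, b, hb, rfl⟩
    exact Subgroup.mul_mem_sup ha hb

theorem card_sup_of_mul_comm [Finite G] {A B : Subgroup G} (h : (A : Set G) * B = B * A)
    (hcop : (Nat.card A).Coprime (Nat.card B)) :
    Nat.card (A ⊔ B : Subgroup G) = Nat.card A * Nat.card B := by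
  apply le_antisymm
  · have := Set.natCard_mul_le (s := (A : Set G)) (t := (B : Set G))
    rw [← coe_sup_of_mul_comm h] at this
    exact this
  · exact Nat.le_of_dvd Nat.card_pos (hcop.mul_dvd_of_dvd_of_dvd
      (Subgroup.card_dvd_of_le le_sup_left) (Subgroup.card_dvd_of_le le_sup_right))

theorem index_eq_pow_factorization [Finite G] {p : ℕ} (hp : p.Prime) (H : Subgroup G)
    (h1 : ¬ p ∣ Nat.card H) (h2 : ∀ q : ℕ, q.Prime → q ∣ H.index → q = p) :
    H.index = p ^ (Nat.card G).factorization p := by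
  have h3 := Nat.eq_prime_pow_of_unique_prime_dvd (n := H.index) (p := p)
    Subgroup.index_ne_zero_of_finite fun {q} hq hd => h2 q hq hd
  rw [← H.card_mul_index, Nat.factorization_mul Nat.card_pos.ne' Subgroup.index_ne_zero_of_finite,
    Finsupp.add_apply, Nat.factorization_eq_zero_of_not_dvd h1, zero_add]
  conv_rhs => rw [h3, hp.factorization_pow, Finsupp.single_eq_same]
  exact h3

/-- pairwise permuting Sylow subgroups give Hall complements. -/
theorem exists_hall_complement_of_sylow_system [Finite G]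
    (S : (p : Nat.Primes) → Sylow (p : ℕ) G)
    (hS : ∀ p q : Nat.Primes, (S p : Set G) * (S q : Set G) = (S q : Set G) * (S p : Set G))
    (p : ℕ) (hp : p.Prime) : ∃ H : Subgroup G, H.index = p ^ (Nat.card G).factorization p := by
  classical
  have key : ∀ T : Finset Nat.Primes, ∃ K : Subgroup G, (∀ q ∈ T, (S q : Subgroup G) ≤ K) ∧
      (∀ r : Nat.Primes, (r : ℕ) ∣ Nat.card K → r ∈ T) ∧
      ∀ r : Nat.Primes, (S r : Set G) * K = K * (S r : Set G) := by
    intro T
    induction T using Finset.induction_on with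
    | empty =>
      refine ⟨⊥, by simp, fun r hr => ?_, by simp⟩
      simp [r.2.ne_one] at hr
    | insert q T hq ih =>
      obtain ⟨K, h1, h2, h3⟩ := ih
      have : Fact (q : ℕ).Prime := ⟨q.2⟩
      obtain ⟨n, hn⟩ := (S q).isPGroup'.exists_card_eq
      have e : ((S q : Subgroup G) : Set G) * K = K * (S q : Subgroup G) := h3 q
      refine ⟨S q ⊔ K, ?_, fun r hr => ?_, fun r => ?_⟩
      · intro r hr
        rcases Finset.mem_insert.mp hr with rfl | hr
        · exact le_sup_left
        · exact (h1 r hr).trans le_sup_right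
      · rw [card_sup_of_mul_comm e (by
          rw [hn]
          exact ((Nat.Prime.coprime_iff_not_dvd q.2).mpr fun h => hq (h2 q h)).pow_left _),
          r.2.dvd_mul] at hr
        rcases hr with hr | hr
        · rw [hn] at hr
          rw [Subtype.ext ((Nat.prime_dvd_prime_iff_eq r.2 q.2).mp (r.2.dvd_of_dvd_pow hr))]
          exact Finset.mem_insert_self _ _
        · exact Finset.mem_insert_of_mem (h2 r hr)
      · rw [coe_sup_of_mul_comm e, ← mul_assoc, Sylow.coe_coe, hS r q, mul_assoc, h3 r, mul_assoc]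
  obtain ⟨K, h1, h2, -⟩ := key (((Nat.card G).primeFactors.erase p).subtype Nat.Prime)
  refine ⟨K, index_eq_pow_factorization hp K (fun h => ?_) fun q hq hd => ?_⟩
  · have := Finset.mem_subtype.mp (h2 ⟨p, hp⟩ h)
    simp at this
  · by_contra hne
    have : Fact q.Prime := ⟨hq⟩
    have h3 := h1 ⟨q, hq⟩ (Finset.mem_subtype.mpr (by
      simp [hne, hq, hd.trans K.index_dvd_card, Nat.card_pos.ne']))
    exact (S ⟨q, hq⟩).not_dvd_index (hd.trans (Subgroup.index_dvd_of_le h3))

/-- a finite solvable group has a Sylow system. -/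
theorem exists_sylow_system [Finite G] [Group.IsSolvable G] :
    ∃ S : (p : Nat.Primes) → Sylow (p : ℕ) G,
      ∀ p q : Nat.Primes, (S p : Set G) * (S q : Set G) = (S q : Set G) * (S p : Set G) := by
  classical
  choose H hH using fun q : ℕ => hall_exists {q}ᶜ (⊤ : Subgroup G) solvable_top
  have hidx : ∀ (T : Finset ℕ) (r : ℕ), r.Prime → r ∣ (⨅ q ∈ T, H q).index → r ∈ T := by
    intro T
    induction T using Finset.induction_on with
    | empty => intro r hr h; simp [hr.ne_one] at h
    | insert q T hq ih =>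
      intro r hr h
      have h1 : ∀ s : ℕ, s.Prime → s ∣ (H q).index → s = q := by
        intro s hs hd
        by_contra hne
        exact (hH q).2.2 s hs hne (by rwa [Subgroup.relIndex_top_right])
      rw [Finset.iInf_insert, index_inf_of_coprime_index _ _ (Nat.coprime_of_dvd
        fun s hs hd hd' => hq (h1 s hs hd ▸ ih s hs hd')), hr.dvd_mul] at h
      rcases h with h | h
      · rw [h1 r hr h]; exact Finset.mem_insert_self _ _
      · exact Finset.mem_insert_of_mem (ih r hr h)
  have hcard : ∀ (T : Finset ℕ) (r : ℕ), r.Prime → r ∣ Nat.card (⨅ q ∈ T, H q : Subgroup G) →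
      r ∉ T := by
    intro T r hr h hT
    exact (hH r).2.1 r hr (h.trans (Subgroup.card_dvd_of_le (biInf_le _ hT))) rfl
  let P : ℕ → Subgroup G := fun p => ⨅ q ∈ (Nat.card G).primeFactors.erase p, H q
  have hP1 : ∀ p r : ℕ, r.Prime → r ∣ Nat.card (P p) → r = p := by
    intro p r hr h
    have := hcard _ r hr h
    by_contra hne
    exact this (by simp [hne, hr, h.trans (P p).card_subgroup_dvd_card, Nat.card_pos.ne'])
  have hP2 : ∀ p : ℕ, p.Prime → ¬ p ∣ (P p).index := fun p hp h => by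
    simpa using hidx _ p hp h
  have hPp : ∀ p : ℕ, IsPGroup p (P p) := fun p =>
    IsPGroup.of_card (Nat.eq_prime_pow_of_unique_prime_dvd Nat.card_pos.ne'
      fun {r} hr hd => hP1 p r hr hd)
  have key : ∀ p q : ℕ, p.Prime → q.Prime → p ≠ q → (P q : Set G) * P p ⊆ P p * P q := by
    intro p q hp hq hpq
    let K : Subgroup G := ⨅ r ∈ ((Nat.card G).primeFactors.erase p).erase q, H r
    have h1 : P p ≤ K := biInf_mono fun r hr => Finset.mem_of_mem_erase hr
    have h2 : P q ≤ K := biInf_mono fun r hr => by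
      rw [Finset.erase_right_comm] at hr
      exact Finset.mem_of_mem_erase hr
    rintro _ ⟨x, hx, y, hy, rfl⟩
    obtain ⟨a, ha, b, hb, e⟩ := exists_mul_of_coprime_index ((P p).subgroupOf K)
      ((P q).subgroupOf K) (Nat.coprime_of_dvd fun s hs hd hd' => by
        have h3 := hcard _ s hs (hd.trans (Subgroup.index_dvd_card _))
        have h4 : s ≠ p := by
          rintro rfl
          exact hP2 s hs (hd.trans (Subgroup.relIndex_dvd_index_of_le h1))
        have h5 : s ≠ q := by
          rintro rfl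
          exact hP2 s hs (hd'.trans (Subgroup.relIndex_dvd_index_of_le h2))
        exact h3 (by simp [h4, h5, hs, Nat.card_pos.ne',
          (hd.trans (Subgroup.index_dvd_card _)).trans K.card_subgroup_dvd_card]))
      ⟨x * y, K.mul_mem (h2 hx) (h1 hy)⟩
    exact ⟨a, ha, b, hb, (congrArg Subtype.val e).symm⟩
  refine ⟨fun p => haveI : Fact (p : ℕ).Prime := ⟨p.2⟩; (hPp p).toSylow (hP2 p p.2), fun p q => ?_⟩
  by_cases hpq : p = q
  · subst hpq; rfl
  · have hpq' : (p : ℕ) ≠ q := fun e => hpq (Subtype.ext e)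
    exact Set.Subset.antisymm (key q p q.2 p.2 hpq'.symm) (key p q p.2 q.2 hpq')

/-- **Brodkey's theorem**. -/
theorem brodkey [Finite G] (p : ℕ) [Fact p.Prime] (S : Sylow p G) (hS : IsMulCommutative S) :
    ∃ g : G, (S : Subgroup G) ⊓ MulAut.conj g • (S : Subgroup G) = pCore p G := by
  obtain ⟨g, hg⟩ := exists_minimalFor_of_wellFoundedLT (fun _ : G => True)
    (fun g => (S : Subgroup G) ⊓ MulAut.conj g • (S : Subgroup G)) ⟨1, trivial⟩
  refine ⟨g, le_antisymm ?_ (le_inf (H2.pCore_le_sylow S) (H2.pCore_le_sylow (g • S)))⟩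
  set D := (S : Subgroup G) ⊓ MulAut.conj g • (S : Subgroup G) with hD
  have hS1 : (S : Subgroup G) ≤ Subgroup.centralizer ((S : Subgroup G) : Set G) :=
    Subgroup.le_centralizer_iff_isMulCommutative.mpr hS
  have h1 : (S : Subgroup G) ≤ Subgroup.normalizer (D : Set G) :=
    (hS1.trans (Subgroup.centralizer_le inf_le_left)).trans (Subgroup.centralizer_le_normalizer _)
  have h2 : MulAut.conj g • (S : Subgroup G) ≤ Subgroup.normalizer (D : Set G) := by
    refine le_trans ?_ ((H2.centralizer_anti inf_le_right).trans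
      (Subgroup.centralizer_le_normalizer _))
    rw [centralizer_conj_smul]
    exact Subgroup.pointwise_smul_le_pointwise_smul_iff.mpr hS1
  rw [H2.pCore_eq_iInf_sylow, le_iInf_iff]
  intro U
  obtain ⟨n, hn, h⟩ := exists_conj_le_of_isPGroup (U ⊓ Subgroup.normalizer (D : Set G)) _
    (MulAut.conj g • (S : Subgroup G)) U.isPGroup'.to_inf_left inf_le_right
    fun hd => (g • S).not_dvd_index (hd.trans (Subgroup.relIndex_dvd_index_of_le h2))
  obtain ⟨u, rfl⟩ := MulAction.exists_smul_eq G S U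
  have h3 : D ≤ (S : Subgroup G) ⊓ MulAut.conj (n⁻¹ * u) • (S : Subgroup G) := by
    refine hg.2 trivial (le_inf inf_le_left ?_)
    rintro x ⟨hx1, hx2⟩
    have hx3 : n * x * n⁻¹ ∈ MulAut.conj n • MulAut.conj g • (S : Subgroup G) := by
      apply h
      refine ⟨?_, Subgroup.mul_mem _ (Subgroup.mul_mem _ hn (h1 hx1)) (Subgroup.inv_mem _ hn)⟩
      have := mem_conj_smul.mp hx2
      exact mem_conj_smul.mpr (by simpa [mul_assoc] using this)
    simpa [mul_assoc] using mem_conj_smul.mp hx3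
  intro x hx
  have := mem_conj_smul.mp (h3 ((Subgroup.mem_normalizer_iff''.mp hn x).mp hx)).2
  exact mem_conj_smul.mpr (by simpa [mul_assoc] using this)

end H1
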