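import Mathlib
import Cfsg.Agent.H16.KG1
import Cfsg.Agent.H22.QTCox0
import Cfsg.Agent.H2.Quaternion

/-! Generic criteria for elementary abelian subgroups of order `p ^ 2` (quasithin project). -/

set_option autoImplicit false
set_option linter.all false

namespace H1.QT

open H16.QT Subgroup

section

variable {G : Type*} [Group G] {H : Type*} [Group H]

theorem mem_zpowers_of_cyclic [Finite G] [IsCyclic G] {p : ℕ} (hp : p.Prime) {x y : G}
    (hx : x ^ p = 1) (h1 : x ≠ 1) (hy : y ^ p = 1) : y ∈ zpowers x := by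
  classical
  haveI := Fact.mk hp
  haveI := Fintype.ofFinite G
  have ho : orderOf x = p := orderOf_eq_prime hx h1
  have h2 := IsCyclic.card_pow_eq_one_le (α := G) hp.pos
  have h3 : (Finset.univ.filter fun a : G => a ∈ zpowers x) ⊆
      Finset.univ.filter fun a : G => a ^ p = 1 := by
    intro a ha
    obtain ⟨k, rfl⟩ := (Finset.mem_filter.1 ha).2
    refine Finset.mem_filter.2 ⟨Finset.mem_univ _, ?_⟩
    change (x ^ k) ^ p = 1
    rw [← zpow_natCast, ← zpow_mul, mul_comm, zpow_mul, zpow_natCast, hx, one_zpow]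
  have h4 : (Finset.univ.filter fun a : G => a ∈ zpowers x).card = p := by
    rw [← ho, ← Nat.card_zpowers, Nat.card_eq_fintype_card, Fintype.card_subtype]
  have h5 := Finset.eq_of_subset_of_card_le h3 (by rw [h4]; exact h2)
  have : y ∈ Finset.univ.filter fun a : G => a ∈ zpowers x := by
    rw [h5]; exact Finset.mem_filter.2 ⟨Finset.mem_univ _, hy⟩
  exact (Finset.mem_filter.1 this).2

theorem not_nc_of_cyclic [Finite G] [IsCyclic G] {p : ℕ} (hp : p.Prime) : ¬ NC p G := by
  rintro ⟨x, y, hx, hy, -, h1, h2⟩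
  exact h2 (mem_zpowers_of_cyclic hp hx h1 hy)

theorem cyclic_of_not_nc [Finite G] {p : ℕ} (hp : p.Prime) (hp2 : p ≠ 2) (hG : IsPGroup p G)
    (h : ¬ NC p G) : IsCyclic G := by
  haveI := Fact.mk hp
  rcases subsingleton_or_nontrivial G with h0 | h0
  · infer_instance
  haveI := hG.center_nontrivial
  obtain ⟨z, hz⟩ : ∃ z : center G, orderOf z = p := by
    refine exists_prime_orderOf_dvd_card' p ?_
    obtain ⟨n, hn0, hn⟩ := (hG.to_subgroup (center G)).nontrivial_iff_card.1 inferInstance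
    rw [hn]; exact dvd_pow_self _ hn0.ne'
  have hz' : orderOf (z : G) = p := by rw [Subgroup.orderOf_coe, hz]
  have key : ∀ A : Subgroup G, Nat.card A = p → A = zpowers (z : G) := by
    intro A hA
    refine Subgroup.eq_of_le_of_card_ge (fun a ha => ?_) (by rw [Nat.card_zpowers, hz', hA])
    by_contra h2
    refine h ⟨z, a, by rw [← hz', pow_orderOf_eq_one], ?_,
      (mem_center_iff.1 z.2 a).symm, ?_, h2⟩
    · have := pow_card_eq_one' (x := (⟨a, ha⟩ : A))
      rw [hA] at this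
      exact congrArg Subtype.val this
    · intro e
      rw [e, orderOf_one] at hz'
      exact hp.one_lt.ne hz'
  rcases (H2.uniqueOrderP_of_card (p := p) (G := G) fun A B hA hB => by
    rw [key A hA, key B hB]).isCyclic_or_quaternion hG with h3 | ⟨h3, -⟩
  · exact h3
  · exact absurd h3 hp2

theorem exists_orderOf_of_not_nc [Finite G] {p k : ℕ} (hp : p.Prime) (hp2 : p ≠ 2)
    (hk : p ^ k ∣ Nat.card G) (h : ¬ NC p G) : ∃ x : G, orderOf x = p ^ k := by
  haveI := Fact.mk hp
  obtain ⟨P, hP⟩ := Sylow.exists_subgroup_card_pow_prime p hk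
  haveI := cyclic_of_not_nc hp hp2 (IsPGroup.of_card hP) fun h' => h (h'.of_subgroup P)
  obtain ⟨x, hx⟩ := IsCyclic.exists_ofOrder_eq_natCard (α := P)
  exact ⟨x, by rw [Subgroup.orderOf_coe, hx, hP]⟩

/-- Elementary abelian subgroups of a quotient, `p` odd. -/
theorem nc_of_surj [Finite G] {p : ℕ} (hp : p.Prime) (hp2 : p ≠ 2) (f : G →* H)
    (hf : Function.Surjective f) (h : NC p H) : NC p G := by
  haveI := Fact.mk hp
  haveI : Finite H := Finite.of_surjective f hf
  by_contra hG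
  obtain ⟨x, y, hx, hy, hc, h1, h2⟩ := h
  have hE : IsPGroup p (closure {x, y} : Subgroup H) := by
    intro g
    refine ⟨1, Subtype.ext ?_⟩
    obtain ⟨g, hg⟩ := g
    change g ^ p ^ 1 = 1
    rw [pow_one]
    have key : g ^ p = 1 ∧ Commute g x ∧ Commute g y := by
      induction hg using closure_induction with
      | mem a ha =>
        rcases ha with rfl | rfl
        · exact ⟨hx, Commute.refl _, hc⟩
        · exact ⟨hy, hc.symm, Commute.refl _⟩
      | one => simp
      | mul a b ha hb iha ihb =>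
        have hab : Commute a b := by
          have : closure {x, y} ≤ centralizer {a} := by
            rw [closure_le]
            rintro c (rfl | rfl)
            · exact mem_centralizer_singleton_iff.2 iha.2.1.symm
            · exact mem_centralizer_singleton_iff.2 iha.2.2.symm
          exact (mem_centralizer_singleton_iff.1 (this hb)).symm
        exact ⟨by rw [hab.mul_pow, iha.1, ihb.1, one_mul], iha.2.1.mul_left ihb.2.1,
          iha.2.2.mul_left ihb.2.2⟩
      | inv a _ iha => exact ⟨by rw [inv_pow, iha.1, inv_one], iha.2.1.inv_left, iha.2.2.inv_left⟩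
    exact key.1
  obtain ⟨Q, hQ⟩ := hE.exists_le_sylow
  obtain ⟨P, rfl⟩ := Sylow.mapSurjective_surjective hf p Q
  haveI := cyclic_of_not_nc hp hp2 P.isPGroup' fun h' => hG (h'.of_subgroup P)
  haveI : IsCyclic ((P : Subgroup G).map f) :=
    isCyclic_of_surjective (f.subgroupMap P) (f.subgroupMap_surjective P)
  have hx' : x ∈ (P : Subgroup G).map f := hQ (subset_closure (by simp))
  have hy' : y ∈ (P : Subgroup G).map f := hQ (subset_closure (by simp))
  obtain ⟨k, hk⟩ := mem_zpowers_of_cyclic hp (x := (⟨x, hx'⟩ : (P : Subgroup G).map f))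
    (y := ⟨y, hy'⟩) (Subtype.ext hx) (fun e => h1 (congrArg Subtype.val e)) (Subtype.ext hy)
  exact h2 ⟨k, congrArg Subtype.val hk⟩

/-- The image under a homomorphism whose kernel has no element of order `p`. -/
theorem nc_map_of_ker {p : ℕ} (f : G →* H) (hf : ∀ g, f g = 1 → g ^ p = 1 → g = 1)
    (h : NC p G) : NC p H := by
  obtain ⟨x, y, hx, hy, hc, h1, h2⟩ := h
  refine ⟨f x, f y, by rw [← map_pow, hx, map_one], by rw [← map_pow, hy, map_one], hc.map f,
    fun e => h1 (hf x e hx), ?_⟩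
  rintro ⟨k, hk⟩
  refine h2 ⟨k, ?_⟩
  have := hf (x ^ k * y⁻¹) (by simp only at hk; rw [map_mul, map_inv, map_zpow, hk, mul_inv_cancel])
    (by
      rw [((hc.zpow_left k).inv_right).mul_pow, inv_pow, hy, inv_one, mul_one, ← zpow_natCast,
        ← zpow_mul, mul_comm, zpow_mul, zpow_natCast, hx, one_zpow])
  exact mul_inv_eq_one.1 this

theorem nc_quot {p : ℕ} (N : Subgroup G) [N.Normal] (hN : (Nat.card N).Coprime p) (h : NC p G) :
    NC p (G ⧸ N) := by
  refine nc_map_of_ker (QuotientGroup.mk' N) (fun g h1 h2 => ?_) h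
  have h3 : g ∈ N := (QuotientGroup.eq_one_iff g).1 h1
  have h4 : orderOf g ∣ Nat.card N := by
    rw [← Subgroup.orderOf_mk g h3]; exact orderOf_dvd_natCard _
  exact orderOf_eq_one_iff.1 (Nat.eq_one_of_dvd_coprimes hN h4 (orderOf_dvd_of_pow_eq_one h2))

/-- A faithful action on fewer than `p ^ k` points. -/
theorem nc_of_action [Finite G] {p k : ℕ} (hp : p.Prime) (hp2 : p ≠ 2)
    (hk : p ^ k ∣ Nat.card G) {X : Type*} [Finite X] [MulAction G X]
    (hf : ∀ g : G, (∀ a : X, g • a = a) → g = 1) (hX : Nat.card X < p ^ k) (hk0 : k ≠ 0) :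
    NC p G := by
  classical
  by_contra h
  obtain ⟨x, hx⟩ := exists_orderOf_of_not_nc hp hp2 hk h
  obtain ⟨j, rfl⟩ := Nat.exists_eq_succ_of_ne_zero hk0
  haveI := Fintype.ofFinite X
  have : x ^ p ^ j = 1 := by
    refine hf _ fun a => ?_
    rw [MulAction.pow_smul_eq_iff_period_dvd]
    have h1 : MulAction.period x a ∣ p ^ (j + 1) := hx ▸ MulAction.period_dvd_orderOf x a
    obtain ⟨i, hi, h2⟩ := (Nat.dvd_prime_pow hp).1 h1
    have h3 : MulAction.period x a ≤ Nat.card X := by
      rw [MulAction.period_eq_minimalPeriod, Nat.card_eq_fintype_card]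
      exact Function.minimalPeriod_le_card
    rw [h2] at h3 ⊢
    have h4 := (Nat.pow_lt_pow_iff_right hp.one_lt).1 (h3.trans_lt hX)
    exact pow_dvd_pow _ (by omega)
  have h5 := orderOf_dvd_of_pow_eq_one this
  rw [hx] at h5
  have := (Nat.pow_dvd_pow_iff_le_right hp.one_lt).1 h5
  omega

/-- A simple group with a proper subgroup of index less than `p ^ k`. -/
theorem nc_of_index [Finite G] [IsSimpleGroup G] {p k : ℕ} (hp : p.Prime) (hp2 : p ≠ 2)
    (hk : p ^ k ∣ Nat.card G) (A : Subgroup G) (h1 : A.index ≠ 1) (hA : A.index < p ^ k)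
    (hk0 : k ≠ 0) : NC p G := by
  refine nc_of_action hp hp2 hk (X := G ⧸ A) (fun g hg => ?_) hA hk0
  have h2 : g ∈ A.normalCore := by
    rw [normalCore_eq_ker, MonoidHom.mem_ker]
    ext a
    exact hg a
  rcases (normalCore_normal A).eq_bot_or_eq_top with h3 | h3
  · rwa [h3, mem_bot] at h2
  · exact absurd (index_eq_one.2 (top_le_iff.1 (h3 ▸ A.normalCore_le))) h1

/-- The numerical case with all side conditions decidable. -/
theorem ka_num [Finite G] {n : ℕ} (hn : Nat.card G = n) (h3 : NC 3 G) (l : List ℕ)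
    (hl : n ∣ l.prod ^ 50) (hp : ∀ r ∈ l, r.Prime)
    (h1 : ∀ r ∈ l, r - 1 ∣ n ^ 8 ∧ (r ^ 2 ∣ n → r + 1 ∣ n ^ 8))
    (h2 : ∀ r ∈ l, r ≠ 5 → ∀ k < r - 1, k % 2 = 1 → (4 ^ k + 1) % r = 0 →
      ¬ 2 ^ (Nat.gcd k (r - 1)) - 1 ∣ n ^ r) : KA G :=
  KA.of_NUM ⟨hn ▸ N1.of_list l hl hp h1, h3, NoSz.of_list hn l hl hp h2⟩

theorem ka_num5 [Finite G] {n : ℕ} (hn : Nat.card G = n) (h3 : NC 3 G) (h5 : NC 5 G) (l : List ℕ)
    (hl : n ∣ l.prod ^ 50) (hp : ∀ r ∈ l, r.Prime)
    (h1 : ∀ r ∈ l, r - 1 ∣ n ^ 8 ∧ (r ^ 2 ∣ n → r + 1 ∣ n ^ 8)) : KA G :=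
  KA.of_NUM ⟨hn ▸ N1.of_list l hl hp h1, h3, NoSz.of_five h5⟩

end

end H1.QT
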