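import Mathlib
import Cfsg.Prelude.Def_Spor_Mathieu
import Cfsg.Prelude.Def_Spor_Conway
import Cfsg.Agent.H1.QTGen
import Cfsg.Agent.H9.M24
import Cfsg.Agent.H10.Conway

/-! Piece MAT of the quasithin project: Mathieu and Conway groups, `HS`, `McL`. -/

set_option autoImplicit false
set_option linter.all false

namespace H1.QT

open Cfsg H16.QT H22.QT Subgroup H9 H10

theorem nc_of_le {G : Type*} [Group G] {p : ℕ} {A B : Subgroup G} (h : A ≤ B) (hA : NC p A) :
    NC p B := hA.map (inclusion h) (inclusion_injective h)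

theorem nc3_stab {pts sets : List ℕ} (c d i j k l : ℕ)
    (h : (inStab pts sets c && inStab pts sets d && Nat.beq (powP c 3) idP &&
      Nat.beq (powP d 3) idP && Nat.beq (mulP c d) (mulP d c)) = true)
    (h' : (i < 24 ∧ dig c i ≠ dig idP i) ∧ (j < 24 ∧ dig d j ≠ dig idP j) ∧
      (k < 24 ∧ dig d k ≠ dig c k) ∧ (l < 24 ∧ dig d l ≠ dig (mulP c c) l)) :
    NC 3 (Stab pts sets) := by
  simp only [Bool.and_eq_true, Nat.beq_eq] at h
  obtain ⟨⟨⟨⟨hc, hd⟩, h1⟩, h2⟩, h3⟩ := h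
  have vc := validP_of_inStab hc
  have vd := validP_of_inStab hd
  refine NC3_of_ne (x := ⟨pm c, mem_Stab_of_inStab hc⟩) (y := ⟨pm d, mem_Stab_of_inStab hd⟩)
    (Subtype.ext (pm_pow_eq_one vc h1)) (Subtype.ext (pm_pow_eq_one vd h2))
    (Subtype.ext ?_) (fun e => ?_) (fun e => ?_) (fun e => ?_) (fun e => ?_)
  · change pm c * pm d = pm d * pm c
    rw [← pm_mulP vc vd, h3, pm_mulP vd vc]
  · exact h'.1.2 (pm_inj vc validP_idP (by rw [pm_idP]; exact congrArg Subtype.val e) h'.1.1)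
  · exact h'.2.1.2 (pm_inj vd validP_idP (by rw [pm_idP]; exact congrArg Subtype.val e) h'.2.1.1)
  · exact h'.2.2.1.2 (pm_inj vd vc (congrArg Subtype.val e) h'.2.2.1.1)
  · exact h'.2.2.2.2 (pm_inj vd (validP_mulP vc vc)
      (by rw [pm_mulP vc vc]; exact congrArg Subtype.val e) h'.2.2.2.1)

theorem nc3_M11 : NC 3 Spor.M11 := by
  rw [M11_eq]
  exact nc3_stab 487607080158395075740321133224921120 929000492124499343650182431580424224
    3 3 3 3 (by decide +kernel) (by decide +kernel)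

theorem nc3_s2 : NC 3 (Stab [0, 23] []) :=
  nc3_stab 964967665544096084716827196662417440 975723668250699767139433971581666336
    3 3 3 3 (by decide +kernel) (by decide +kernel)

theorem nc3_M22 : NC 3 Spor.M22 := by rw [M22_eq]; exact nc3_s2
theorem nc3_M12 : NC 3 Spor.M12 := nc_of_le inf_le_left nc3_M11
theorem nc3_M23 : NC 3 Spor.M23 := nc_of_le inf_le_left nc3_M22
theorem nc3_M24 : NC 3 M24 := nc_of_le inf_le_left nc3_M23

theorem nc3_H22 : NC 3 H22 := by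
  obtain ⟨e⟩ := equiv_H22
  exact nc3_s2.of_equiv e.symm

theorem nc5_Hs : NC 5 Hs := by
  haveI := simple_Hs
  haveI : Finite Hs := Nat.finite_of_card_ne_zero (by rw [card_Hs]; norm_num)
  have hi : (H22.subgroupOf Hs).index = 100 := by
    have h1 := (H22.subgroupOf Hs).card_mul_index
    rw [Nat.card_congr (subgroupOfEquivOfLe H22_le_Hs).toEquiv, card_H22, card_Hs] at h1
    omega
  exact nc_of_index (k := 3) (by norm_num) (by norm_num) (by rw [card_Hs]; norm_num)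
    (H22.subgroupOf Hs) (by rw [hi]; norm_num) (by rw [hi]; norm_num) (by norm_num)

theorem equiv_Mc : Nonempty (Spor.McL ≃* Mc) :=
  ⟨((MulEquiv.subgroupCongr (by
    ext g; exact ⟨fun h => ⟨⟨g.2, h.2⟩, h.1⟩, fun h => ⟨h.2, h.1.2⟩⟩)).trans
    (subgroupOfEquivOfLe (show Spor.McL ≤ Co0 from fun g h => h.1.1))).symm⟩

theorem equiv_Hs : Nonempty (Spor.HS ≃* Hs) :=
  ⟨((MulEquiv.subgroupCongr (by
    ext g; exact ⟨fun h => ⟨⟨g.2, h.2⟩, h.1⟩, fun h => ⟨h.2, h.1.2⟩⟩)).trans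
    (subgroupOfEquivOfLe (show Spor.HS ≤ Co0 from fun g h => h.1.1))).symm⟩

theorem equiv_C3 : Nonempty (Spor.Co3 ≃* C3) :=
  ⟨((MulEquiv.subgroupCongr (by
    ext g; exact ⟨fun h => ⟨g.2, h⟩, fun h => h.2⟩)).trans
    (subgroupOfEquivOfLe (show Spor.Co3 ≤ Co0 from fun g h => h.1))).symm⟩

theorem equiv_C2 : Nonempty (Spor.Co2 ≃* C2) :=
  ⟨((MulEquiv.subgroupCongr (by
    ext g; exact ⟨fun h => ⟨g.2, h⟩, fun h => h.2⟩)).trans
    (subgroupOfEquivOfLe (show Spor.Co2 ≤ Co0 from fun g h => h.1))).symm⟩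

theorem nc3_HS : NC 3 Spor.HS := by
  obtain ⟨e⟩ := equiv_Hs
  exact (nc_of_le H22_le_Hs nc3_H22).of_equiv e

theorem ka_of_card {K G : Type*} [Group K] [Finite K] [Group G] (e : K ≃* G) {n : ℕ}
    (hn : Nat.card G = n) (h3 : NC 3 G) (l : List ℕ)
    (hl : n ∣ l.prod ^ 50) (hp : ∀ r ∈ l, r.Prime)
    (h1 : ∀ r ∈ l, r - 1 ∣ n ^ 8 ∧ (r ^ 2 ∣ n → r + 1 ∣ n ^ 8))
    (h2 : ∀ r ∈ l, r ≠ 5 → ∀ k < r - 1, k % 2 = 1 → (4 ^ k + 1) % r = 0 →
      ¬ 2 ^ (Nat.gcd k (r - 1)) - 1 ∣ n ^ r) : KA K :=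
  ka_num ((Nat.card_congr e.toEquiv).trans hn) (h3.of_equiv e) l hl hp h1 h2

end H1.QT

namespace H16.QT

open Cfsg H1.QT H9 H10

variable {K : Type*} [Group K] [Finite K] [IsSimpleGroup K]

theorem ka_M11 (h : Spor.IsoM11 K) : KA K := by
  obtain ⟨e⟩ := h
  exact ka_of_card e card_M11 nc3_M11 [2, 3, 5, 11] (by decide +kernel) (by simp; norm_num)
    (by decide +kernel) (by decide +kernel)

theorem ka_M12 (h : Spor.IsoM12 K) : KA K := by
  obtain ⟨e⟩ := h
  exact ka_of_card e card_M12 nc3_M12 [2, 3, 5, 11] (by decide +kernel) (by simp; norm_num)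
    (by decide +kernel) (by decide +kernel)

theorem ka_M22 (h : Spor.IsoM22 K) : KA K := by
  obtain ⟨e⟩ := h
  exact ka_of_card e card_M22 nc3_M22 [2, 3, 5, 7, 11] (by decide +kernel) (by simp; norm_num)
    (by decide +kernel) (by decide +kernel)

theorem ka_M23 (h : Spor.IsoM23 K) : KA K := by
  obtain ⟨e⟩ := h
  exact ka_of_card e card_M23 nc3_M23 [2, 3, 5, 7, 11, 23] (by decide +kernel) (by simp; norm_num)
    (by decide +kernel) (by decide +kernel)

theorem ka_M24 (h : Spor.IsoM24 K) : KA K := by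
  obtain ⟨e⟩ := h
  exact ka_of_card e card_M24 nc3_M24 [2, 3, 5, 7, 11, 23] (by decide +kernel) (by simp; norm_num)
    (by decide +kernel) (by decide +kernel)

theorem ka_HS (h : Spor.IsoHS K) : KA K := by
  obtain ⟨e⟩ := h
  obtain ⟨f⟩ := equiv_Hs
  exact ka_of_card (e.trans f) card_Hs (nc_of_le H22_le_Hs nc3_H22) [2, 3, 5, 7, 11]
    (by decide +kernel) (by simp; norm_num) (by decide +kernel) (by decide +kernel)

theorem ka_McL (h : Spor.IsoMcL K) : KA K := by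
  obtain ⟨e⟩ := h
  obtain ⟨f⟩ := equiv_Mc
  exact ka_of_card (e.trans f) card_Mc (nc_of_le H22_le_Mc nc3_H22) [2, 3, 5, 7, 11]
    (by decide +kernel) (by simp; norm_num) (by decide +kernel) (by decide +kernel)

theorem ka_Co3 (h : Spor.IsoCo3 K) : KA K := by
  obtain ⟨e⟩ := h
  obtain ⟨f⟩ := equiv_C3
  exact ka_of_card (e.trans f) card_C3 (nc_of_le H22_le_C3 nc3_H22) [2, 3, 5, 7, 11, 23]
    (by decide +kernel) (by simp; norm_num) (by decide +kernel) (by decide +kernel)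

theorem ka_Co2 (h : Spor.IsoCo2 K) : KA K := by
  obtain ⟨e⟩ := h
  obtain ⟨f⟩ := equiv_C2
  exact ka_of_card (e.trans f) card_C2 (nc_of_le H22_le_C2 nc3_H22) [2, 3, 5, 7, 11, 23]
    (by decide +kernel) (by simp; norm_num) (by decide +kernel) (by decide +kernel)

theorem ka_Co1 (h : Spor.IsoCo1 K) : KA K := by
  obtain ⟨e⟩ := h
  exact ka_num5 ((Nat.card_congr e.toEquiv).trans card_Co1)
    ((nc_quot _ (by rw [H10.card_center]; norm_num) (nc3_H22.of_subgroup _)).of_equiv e)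
    ((nc_quot _ (by rw [H10.card_center]; norm_num) (nc5_Hs.of_subgroup _)).of_equiv e)
    [2, 3, 5, 7, 11, 13, 23] (by decide +kernel) (by simp; norm_num) (by decide +kernel)

end H16.QT
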