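import Mathlib
import Cfsg.Agent.H1.BG38

/-! # B & G 3.6 -/

set_option autoImplicit false

namespace H1

open Cfsg H24 Subgroup
open scoped commutatorElement IsMulCommutative

universe u

variable {G : Type u} [Group G] [Finite G]
variable {A H K L M N P R R₀ V X Z : Subgroup G} {p q k n : ℕ}

theorem card_le_cent_of_indep {U W : Subgroup G} (hV : Abl V) (hRV : R ≤ N[V]) (hU : U ≤ V)
    (hi : U ⊓ W = ⊥) (h : ∀ x ∈ R, x ≠ 1 → cj x U ≤ W) : ♯U ≤ ♯(V ⊓ C[R]) := by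
  classical
  have := Fintype.ofFinite R
  let φ : R →* MulAut V := H12.conjAct' hRV
  let n : V →* V := ∏ x : R, (φ x).toMonoidHom
  have hn : ∀ v, n v = ∏ x : R, φ x v := fun v => MonoidHom.finsetProd_apply _ _ _
  have h1 : ∀ v, (n v : G) ∈ C[R] := fun v => mem_C.2 fun y hy => by
    have a : φ ⟨y, hy⟩ (n v) = n v := by
      rw [hn, map_prod]
      exact Fintype.prod_equiv (Equiv.mulLeft ⟨y, hy⟩) _ _ fun x => by
        rw [Equiv.coe_mulLeft, map_mul]; rfl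
    have b := congrArg Subtype.val a
    rw [H12.coe_conjAct'] at b
    exact mul_inv_eq_iff_eq_mul.1 b
  have h2 : ∀ v : V, (v : G) ∈ U → n v = 1 → v = 1 := by
    intro v hv h0
    rw [hn, ← Finset.mul_prod_erase _ _ (Finset.mem_univ 1), map_one, MulAut.one_apply] at h0
    have a : ∏ x ∈ Finset.univ.erase 1, φ x v ∈ W.subgroupOf V :=
      Subgroup.prod_mem _ fun x hx =>
        h x x.2 (fun e => (Finset.mem_erase.1 hx).1 (Subtype.ext e)) (conj_mem_cj _ hv)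
    rw [eq_inv_of_mul_eq_one_right h0, inv_mem_iff] at a
    have b : (v : G) ∈ U ⊓ W := ⟨hv, a⟩
    rw [hi, mem_bot] at b
    exact Subtype.ext b
  refine Nat.card_le_card_of_injective
    (fun u : U => (⟨n ⟨u, hU u.2⟩, (n _).2, h1 _⟩ : ↥(V ⊓ C[R]))) fun u u' e => ?_
  have e1 : n ⟨u, hU u.2⟩ = n ⟨u', hU u'.2⟩ := Subtype.ext (congrArg (fun z : ↥(V ⊓ C[R]) => (z : G)) e)
  have e2 := h2 (⟨u, hU u.2⟩ * ⟨u', hU u'.2⟩⁻¹) (U.mul_mem u.2 (U.inv_mem u'.2))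
    (by rw [map_mul, map_inv, e1, mul_inv_cancel])
  exact Subtype.ext (congrArg (fun z : V => (z : G)) (mul_inv_eq_one.1 e2))

theorem bg36_count (hp : p.Prime) (hq : q.Prime) (hV : IsElementaryAbelian p V)
    (hK : IsElementaryAbelian q K) (hcVK : (♯V).Coprime ♯K) (hKV : K ≤ N[V]) (hPV : P ≤ N[V])
    (hRV : R ≤ N[V]) (hPK : P ≤ N[K]) (hRK : R ≤ N[K]) (hRP : R ≤ N[P]) (hP : IsPi {p} P)
    (hR : (♯R).Prime) (hRp : IsPi {p}ᶜ R) (hodd : Odd ♯(P ⊔ R)) (hKC : K ⊓ C[V] = ⊥)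
    (hPC : P ⊓ C[V] = ⊥) (hVK : V ⊓ C[K] = ⊥) (hVR : ♯(V ⊓ C[R]) = p) (hA : A ≤ K)
    (hAq : A.relIndex K = q) (hRA : R ≤ N[A]) (hreg : A ⊓ C[R] = ⊥) (hPA : ¬ P ≤ N[A]) : False := by
  have hVa : Abl V := hV.1
  have hKa : Abl K := hK.1
  let I : Set (Subgroup G) := {L | L ≤ K ∧ L.relIndex K = q ∧ V ⊓ C[L] ≠ ⊥}
  have cov : ∀ L, L ≤ K → L.relIndex K = q → L ⋖ K := fun L h1 h2 =>
    covBy_of_relIndex_prime h1 (h2 ▸ hq)
  have g0 : ∀ L L', L ≤ K → L.relIndex K = q → L' ≤ K → L'.relIndex K = q → L ≠ L' →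
      V ⊓ C[L] ⊓ C[L'] = ⊥ := by
    intro L L' h1 h2 h3 h4 hne
    have : L ⊔ L' = K := by
      rcases covBy_eq_or (cov L h1 h2) le_sup_left (sup_le h1 h3) with h | h
      · rcases covBy_eq_or (cov L' h3 h4) (sup_eq_left.1 h) h1 with h' | h'
        · exact absurd h' hne
        · exact absurd h' (cov L h1 h2).lt.ne
      · exact h
    rw [inf_assoc, ← C_sup, this, hVK]
  have nK : ∀ L, L ≤ K → K ≤ N[V ⊓ C[L]] := fun L h => norm_inf hKV (norm_C (hKa.norm le_rfl h))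
  have g1 : ∀ W Y : Subgroup G, W ≤ V → K ≤ N[W] → (∀ L ∈ I, W ⊓ C[L] ≤ Y) → W ≤ Y := by
    intro W Y hW hKW h
    refine H26.coprime_abelian_gen_cent hKa hKW (hcVK.coprime_dvd_left (card_dvd hW)) ?_
    rintro B hB ⟨a, ha, hBa⟩
    by_cases h0 : V ⊓ C[B] = ⊥
    · exact (inf_le_inf_right _ hW).trans (h0.le.trans bot_le)
    refine h B ⟨hB, ?_, h0⟩
    have e : B ⊔ zpowers a = K := le_antisymm (sup_le hB (zpowers_le.2 ha)) hBa
    have d := (isProd_sup (hKa.norm (zpowers_le.2 ha) hB)).relIndex_dvd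
    rw [e, card_zpowers'] at d
    refine ((Nat.dvd_prime hq).1 (d.trans (orderOf_dvd_of_pow_eq_one
      (H25.Cfsg.IsElementaryAbelian.pow hK ha)))).resolve_left fun h1 => h0 ?_
    rw [le_antisymm hB (relIndex_eq_one.1 h1), hVK]
  have g2 : ∀ L ∈ I, ∀ L' ∈ I, L ≠ L' → V ⊓ C[L] ≤ ⁅V, L'⁆ := by
    intro L hL L' hL' hne
    have a := H26.coprime_cent_prod (hL'.1.trans (nK L hL.1))
      ((hcVK.coprime_dvd_left (card_dvd inf_le_left)).coprime_dvd_right (card_dvd hL'.1))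
      (hVa.sol.of_le inf_le_left)
    rw [← a.sup_eq, g0 L L' hL.1 hL.2.1 hL'.1 hL'.2.1 hne, sup_bot_eq]
    exact comm_mono_left inf_le_left
  have g3 : ∀ L, L ≤ K → ⁅V, L⁆ ⊓ C[L] = ⊥ := fun L h =>
    H26.coprime_abel_cent_TI (h.trans hKV) (hcVK.coprime_dvd_right (card_dvd h)) hVa
  let W : Set (Subgroup G) → Subgroup G := fun S => ⨆ L ∈ S, V ⊓ C[L]
  have WV : ∀ S, W S ≤ V := fun S => iSup₂_le fun _ _ => inf_le_left
  have WK : ∀ S, S ⊆ I → K ≤ N[W S] := fun S hS =>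
    norm_iSup fun L => norm_iSup fun hL => nK L (hS hL).1
  have g4 : ∀ S T, S ⊆ I → T ⊆ I → Disjoint S T → W S ⊓ W T = ⊥ := by
    intro S T hS hT hd
    refine le_bot_iff.1 (g1 _ _ (inf_le_left.trans (WV S)) (norm_inf (WK S hS) (WK T hT)) ?_)
    intro L hL
    rw [← g3 L hL.1]
    refine inf_le_inf_right _ ?_
    by_cases h : L ∈ S
    · exact inf_le_right.trans (iSup₂_le fun L' hL' => g2 L' (hT hL') L hL
        fun e => Set.disjoint_left.1 hd h (e ▸ hL'))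
    · exact inf_le_left.trans (iSup₂_le fun L' hL' => g2 L' (hS hL') L hL fun e => h (e ▸ hL'))
  have cjC : ∀ g ∈ N[V], ∀ L, cj g (V ⊓ C[L]) = V ⊓ C[cj g L] := fun g hg L => by
    rw [cj_inf, cj_C, cj_of_mem_N hg]
  have cjI : ∀ g ∈ P ⊔ R, ∀ L ∈ I, cj g L ∈ I := by
    intro g hg L hL
    have a := sup_le hPK hRK hg
    refine ⟨cj_le_of_mem_N hL.1 a, ?_, ?_⟩
    · rw [← hL.2.1, ← relIndex_cj g L K, cj_of_mem_N a]
    · rw [← cjC g (sup_le hPV hRV hg), Ne, cj_eq_bot]; exact hL.2.2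
  let O : Subgroup G → Set (Subgroup G) := fun L => {L' | ∃ x ∈ R, L' = cj x L}
  have OI : ∀ L ∈ I, O L ⊆ I := by
    rintro L hL _ ⟨x, hx, rfl⟩
    exact cjI x (le_sup_right (a := P) hx) L hL
  have hVRp : (♯(V ⊓ C[R])).Prime := hVR ▸ hp
  have g5 : ∀ L ∈ I, L ≠ A → V ⊓ C[R] ≤ W (O L) := by
    intro L hL hne
    refine prime_le_of_inf_ne hVRp fun h0 => hL.2.2 ?_
    have a : R ≤ N[W (O L)] := fun x hx => mem_N_of_cj_le (by
      rw [cj_le_iff]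
      refine iSup₂_le ?_
      rintro _ ⟨y, hy, rfl⟩
      rw [← cj_le_iff, cjC x (hRV hx), ← cj_mul]
      exact le_iSup₂_of_le (f := fun L' (_ : L' ∈ O L) => V ⊓ C[L']) (cj (x * y) L)
        ⟨x * y, mul_mem hx hy, rfl⟩ le_rfl)
    have b := cent_of_regular_abelian hRA (semiregular_prime hR hreg) (hVa.of_le (WV _))
      (hA.trans (WK _ (OI L hL))) a
      ((hcVK.coprime_dvd_left (card_dvd (WV _))).coprime_dvd_right (card_dvd hA))
      (eq_bot_of_le h0 (le_inf (inf_le_inf_right _ (WV _)) inf_le_left))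
    have c : V ⊓ C[L] ≤ W (O L) :=
      le_iSup₂_of_le (f := fun L' (_ : L' ∈ O L) => V ⊓ C[L']) L ⟨1, one_mem _, (cj_one L).symm⟩
        le_rfl
    exact eq_bot_of_le (g0 L A hL.1 hL.2.1 hA hAq hne) (le_inf le_rfl (c.trans (cents_symm b)))
  have g6 : ∀ L ∈ I, ∀ L' ∈ I, L ≠ A → L' ≠ A → ∃ x ∈ R, L' = cj x L := by
    intro L hL L' hL' h1 h2
    by_contra hcon
    refine ne_bot_of_prime hVRp (eq_bot_of_le (g4 _ _ (OI L hL) (OI L' hL') ?_)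
      (le_inf (g5 L hL h1) (g5 L' hL' h2)))
    rw [Set.disjoint_left]
    rintro _ ⟨x, hx, rfl⟩ ⟨y, hy, e⟩
    exact hcon ⟨y⁻¹ * x, mul_mem (inv_mem hy) hx, by rw [cj_mul, e, cj_inv_cj]⟩
  by_cases hAI : A ∈ I
  · apply hPA
    intro g hg
    by_contra hgA
    have hg' : g ∈ P ⊔ R := le_sup_left (b := R) hg
    obtain ⟨x, hx, e⟩ := g6 _ (cjI g hg' A hAI) _ (cjI g⁻¹ (inv_mem hg') A hAI)
      (fun e => hgA (mem_N_iff_cj.2 e)) (fun e => hgA (inv_mem_iff.1 (mem_N_iff_cj.2 e)))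
    have a : (x * g) ^ 2 ∈ N[A] := by
      rw [mem_N_iff_cj, pow_two, cj_mul, cj_mul x g A, ← e, cj_mul, cj_cj_inv, cj_of_mem_N (hRA hx)]
    have b : x * g ∈ zpowers ((x * g) ^ 2) := by
      rw [mem_zpowers_pow_iff]
      exact Nat.coprime_two_left.2 (hodd.of_dvd_nat
        (orderOf_dvd_card' (mul_mem (le_sup_right (a := P) hx) hg')))
    have c := zpowers_le.2 a b
    exact hgA ((mul_mem_cancel_left (hRA hx)).1 c)
  have hne : ∀ L ∈ I, L ≠ A := fun L hL e => hAI (e ▸ hL)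
  have g7 : ∀ L ∈ I, P ≤ N[L] := by
    intro L hL
    have a : IsProd R ((P ⊔ R) ⊓ N[L]) (P ⊔ R) := isProd_of_trans le_sup_right fun m hm =>
      g6 L hL _ (cjI m hm L hL) (hne L hL) (hne _ (cjI m hm L hL))
    obtain ⟨Q, hQ⟩ := Sylow_exists hp ((P ⊔ R) ⊓ N[L])
    have b := hQ.of_idx inf_le_left (PiNat.dvd hRp a.symm.relIndex_dvd)
    exact (b.nml_le hP (nml_sup_left hRP)).trans (hQ.le.trans inf_le_right)
  have g8 : ∀ L ∈ I, ¬ R ≤ N[L] := by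
    intro L hL hRL
    have a : V ≤ C[L] := g1 _ _ le_rfl hKV fun L' hL' => by
      obtain ⟨x, hx, e⟩ := g6 L hL L' hL' (hne L hL) (hne L' hL')
      rw [e, cj_of_mem_N (hRL hx)]; exact inf_le_right
    have b : L = ⊥ := eq_bot_of_le hKC (le_inf hL.1 (cents_symm a))
    rcases covBy_eq_or (cov L hL.1 hL.2.1) (b ▸ bot_le) hA with h | h
    · exact hne L hL h.symm
    · exact (cov A hA hAq).lt.ne h
  have g9 : V ≤ C[P] := g1 _ _ le_rfl hKV fun L hL => by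
    have a := card_le_cent_of_indep (U := V ⊓ C[L]) (W := ⁅V, L⁆) hVa hRV inf_le_left
      (eq_bot_of_le (g3 L hL.1) (le_inf inf_le_right (inf_le_left.trans inf_le_right)))
      fun x hx h1 => by
        rw [cjC x (hRV hx)]
        refine g2 _ (cjI x (le_sup_right (a := P) hx) L hL) L hL fun e => g8 L hL ?_
        rw [← zpowers_eq_of_prime hR hx h1]
        exact zpowers_le.2 (mem_N_iff_cj.2 e)
    have b : IsPi {p} (V ⊓ C[L]) := (H25.Cfsg.IsElementaryAbelian.isPi hV hp).of_le inf_le_left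
    have c : ♯(V ⊓ C[L]) = p :=
      le_antisymm (hVR ▸ a) (Nat.le_of_dvd (card_pos _) (b.dvd_card hL.2.2))
    exact prime_le_of_inf_ne (c ▸ hp)
      (IsPi.inf_C_ne_bot hp hP b (norm_inf hPV (norm_C (g7 L hL))) hL.2.2)
  apply hPA
  rw [eq_bot_of_le hPC (le_inf le_rfl (cents_symm g9))]
  exact bot_le

omit [Finite G] in
theorem isZGroup_of_le (h : IsZGroup H) (hK : K ≤ H) : IsZGroup K :=
  IsZGroup.of_injective (f := inclusion hK) (inclusion_injective hK)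

theorem isZGroup_img {G' : Type*} [Group G'] {D : Subgroup G} (h : IsZGroup H) (f : D →* G') :
    IsZGroup (img f H) := by
  have : IsZGroup (H.subgroupOf D) :=
    IsZGroup.of_injective (f := (D.subtype.comp (H.subgroupOf D).subtype).codRestrict H
      fun x => x.2) fun x y e => Subtype.ext (Subtype.ext (congrArg (fun z : H => (z : G)) e))
  exact IsZGroup.of_surjective (f := f.subgroupMap (H.subgroupOf D)) (f.subgroupMap_surjective _)

theorem bg36_core (hp : p.Prime) (hV : IsElementaryAbelian p V) (hKn : Nil K) (hKp : IsPi {p}ᶜ K)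
    (hKV : K ≤ N[V]) (hPV : P ≤ N[V]) (hRV : R ≤ N[V]) (hPK : P ≤ N[K]) (hRK : R ≤ N[K])
    (hRP : R ≤ N[P]) (hP : IsPi {p} P) (hR : (♯R).Prime) (hRp : IsPi {p}ᶜ R)
    (hcKR : (♯K).Coprime ♯R) (hoK : Odd ♯K) (hodd : Odd ♯(P ⊔ R)) (hKC : K ⊓ C[V] = ⊥)
    (hPC : P ⊓ C[V] = ⊥) (hVK : V ⊓ C[K] = ⊥) (hVR : ♯(V ⊓ C[R]) = p) (hPR : P ⊓ C[R] = ⊥)
    (hZ : IsZGroup ↥(K ⊓ C[R])) (hPK' : ¬ P ≤ C[K])
    (hmin : ∀ X, X < K → P ≤ N[X] → R ≤ N[X] → P ≤ C[X]) : False := by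
  have hmin' : ∀ X, X ≤ K → P ⊔ R ≤ N[X] → ¬ P ≤ C[X] → X = K := fun X h1 h2 h3 => by
    by_contra h
    exact h3 (hmin X (lt_of_le_of_ne h1 h) (le_sup_left.trans h2) (le_sup_right.trans h2))
  have hMK : P ⊔ R ≤ N[K] := sup_le hPK hRK
  have hcKP : (♯K).Coprime ♯P := hKp.coprime' hP
  have hcKM : (♯K).Coprime ♯(P ⊔ R) :=
    (hcKP.mul_right hcKR).coprime_dvd_right (isProd_sup hRP).card_dvd
  have hK1 : K ≠ ⊥ := fun h => hPK' (by rw [h, C_bot]; exact le_top)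
  obtain ⟨q, hq, hKq⟩ : ∃ q, q.Prime ∧ IsPi {q} K := by
    by_contra h
    refine hPK' (cents_symm (hKn.le_of_pcore_le fun q hq _ => cents_symm ?_))
    by_contra h'
    exact h ⟨q, hq, isPi_of_pcore_eq (hmin' _ (pcore_le _ _) (norm_pcore _ hMK) h')⟩
  have hM' : IsPi {q}ᶜ (P ⊔ R) := PiNat.of_coprime hq (hKq.dvd_card hK1) hcKM
  have hKP : ⁅K, P⁆ = K := hmin' _ (comm_le_left hPK)
    (norm_comm hMK (sup_le (norm_self P) hRP)) fun h => hPK'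
      (H26.coprime_commGG1P hPK hcKP hKn.sol (comm_eq_bot'.2 h))
  obtain ⟨D, hD, hD1, -, hD2, hD3⟩ := H26.critical_odd hq hKq hoK hK1
  obtain rfl : D = K := hmin' _ hD.le (hD.norm hMK) fun h =>
    hPK' (hD3 P hPK (hM'.of_le le_sup_left) h)
  have hreg := semiregular_prime hR hPR
  have hPRP : ⁅P, R⁆ = P := comm_eq_of_regular hRP (ne_bot_of_prime hR) hreg
  have sub : ∀ X, X ≤ D → P ⊔ R ≤ N[X] → ⁅D, D⁆ ≤ X → X.relIndex D ∣ q ^ 2 → D ≤ X := by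
    intro X h1 h2 h3 h4
    have a : D ≤ N[X] := norm_of_der1_le h3 h1
    have b := H26.p'_odd_abelem2_der1_cent hq (quo_norm X hMK)
      ((elem_quo_iff a).2 ⟨h3, fun x hx => by rw [hD2 x hx]; exact one_mem _⟩)
      (by rwa [card_quo a]) (odd_quo hodd X) (hM'.quo X)
    rw [← quo_comm h2 h2] at b
    have c : P ≤ ⁅P ⊔ R, P ⊔ R⁆ := hPRP.ge.trans (commutator_mono le_sup_left le_sup_right)
    have d := (quo_cents (le_sup_left.trans h2) a).1 ((quo_mono X c).trans b)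
    rwa [commC, hKP] at d
  -- `C_K(R)` has order `q` and is not contained in `[K, R]`
  have hDD : D ≤ N[⁅D, D⁆] := (der1_nml D).norm
  have hMD : P ⊔ R ≤ N[⁅D, D⁆] := norm_der1 hMK
  have hRD : R ≤ N[⁅D, D⁆] := le_sup_right.trans hMD
  have hc1 : (♯⁅D, D⁆).Coprime ♯(P ⊔ R) := hcKM.coprime_dvd_left (card_dvd (der1_le D))
  have hC1 : ¬ D ⊓ C[R] ≤ ⁅D, R⁆ := by
    intro h
    have a := H26.coprime_abel_cent_TI (quo_norm ⁅D, D⁆ hRK) (coprime_quo hcKR _) (abl_quo_der1 D)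
    have b : quo D ⁅D, D⁆ ⊓ C[quo R ⁅D, D⁆] = ⊥ := by
      refine eq_bot_of_le a (le_inf ?_ inf_le_right)
      rw [← quo_inf_C (der1_le D) hRD (hcKR.coprime_dvd_left (card_dvd (der1_le D)))
        (Or.inl (hKn.sol.of_le (der1_le D))), ← quo_comm hDD hRD]
      exact quo_mono _ h
    have c := cent_of_regular_abelian (quo_norm _ hRP)
      (semiregular_quo_coprime hreg (inf_eq_bot_of_cop hc1)) (abl_quo_der1 D) (quo_norm _ hPK)
      (quo_norm _ hRK) (coprime_quo hcKP _) b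
    rw [quo_cents (le_sup_left.trans hMD) hDD, commC, hKP] at c
    exact (hKn.sol.der1_lt hK1).not_ge c
  have hcyc : Cyc (D ⊓ C[R]) := cyc_of_isZGroup hZ hq (hKq.of_le inf_le_left) le_rfl
  have hCq : ♯(D ⊓ C[R]) = q := ((Nat.dvd_prime hq).1
    (H25.Cfsg.IsElementaryAbelian.card_dvd_of_cyc ⟨hcyc.abl, fun x hx => hD2 _ hx.1⟩
      hcyc)).resolve_left fun h => hC1 (by rw [card_eq_one'.1 h]; exact bot_le)
  have hi := prime_inf_of_not_le (hCq ▸ hq) hC1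
  have hA : ⁅D, R⁆ ≤ D := comm_le_left hRK
  have hAR : ⁅D, R⁆ ⊓ C[R] = ⊥ := eq_bot_of_le hi (le_inf (inf_le_inf_right _ hA) inf_le_left)
  have hAq : ⁅D, R⁆.relIndex D = q := by
    have a := (H26.coprime_cent_prod hRK hcKR hKn.sol).card
    rw [inf_comm ⁅D, R⁆, hi, card_bot, mul_one, hCq, ← card_mul_relIndex hA] at a
    exact Nat.eq_of_mul_eq_mul_left (card_pos _) a
  have hRA : R ≤ N[⁅D, R⁆] := norm_comm_right _ _
  have hAn : ⁅D, R⁆ ⊴ D := ⟨hA, norm_comm_left _ _⟩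
  have hAlt : ¬ D ≤ ⁅D, R⁆ := fun h => hq.one_lt.ne' (hAq ▸ relIndex_eq_one.2 h)
  have hAa : Abl ⁅D, R⁆ := by
    have a := Frobenius_prime_cent_prime ((hKn.sol.of_le hA).sup (cyc_of_prime hR).sol hRA)
      (SD.mk_sup hRA (inf_eq_bot_of_cop (hcKR.coprime_dvd_left (card_dvd hA)))) hR hAR hp hV
      (sup_le (hA.trans hKV) hRV) ((hKp.of_le hA).sup hRp hRA) hVR
    exact der1_eq_bot.1 (eq_bot_of_le hKC (a.trans (inf_le_inf_right _ hA)))
  have hPA : ¬ P ≤ N[⁅D, R⁆] := fun h => hAlt (sub _ hA (sup_le h hRA)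
    (der1_le_of_relIndex_prime hAn (hAq ▸ hq)) (hAq ▸ dvd_pow_self q two_ne_zero))
  have hKa : Abl D := by
    obtain ⟨g, hg, hgA⟩ := SetLike.not_le_iff_exists.1 hPA
    have b1 : cj g ⁅D, R⁆ ≤ D := cj_le_of_mem_N hA (hPK hg)
    have b2 : (cj g ⁅D, R⁆).relIndex D = q := by
      rw [← hAq, ← relIndex_cj g ⁅D, R⁆ D, cj_of_mem_N (hPK hg)]
    have b3 : ⁅D, R⁆ ⊔ cj g ⁅D, R⁆ = D :=
      (covBy_eq_or (covBy_of_relIndex_prime hA (hAq ▸ hq)) le_sup_left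
        (sup_le hA b1)).resolve_left fun h => hgA (mem_N_of_cj_le (sup_eq_left.1 h))
    have b4 : ⁅D, R⁆ ⊓ cj g ⁅D, R⁆ ≤ Z[D] := by
      refine le_inf (inf_le_left.trans hA) ?_
      conv_rhs => rw [← b3]
      exact cents_sup (inf_le_left.trans hAa.le_C) (inf_le_right.trans (hAa.cj g).le_C)
    have b5 : (⁅D, R⁆ ⊓ cj g ⁅D, R⁆).relIndex D ∣ q ^ 2 := by
      rw [← relIndex_mul_relIndex _ _ _ inf_le_right b1, b2, pow_two, inf_relIndex_right]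
      exact mul_dvd_mul_right (hAq ▸ relIndex_dvd_of_nml hAn b1) _
    exact abl_iff.2 ((sub _ inf_le_left (norm_Z hMK) hD1
      ((relIndex_dvd_of_le_left D b4).trans b5)).trans inf_le_right)
  exact bg36_count hp hq hV ⟨hKa, hD2⟩
    ((H25.Cfsg.IsElementaryAbelian.isPi hV hp).coprime hKp) hKV hPV hRV hPK hRK hRP hP hR hRp hodd
    hKC hPC hVK hVR hA hAq hRA hAR hPA

theorem bg36_aux (hp : p.Prime) (n : ℕ) : ∀ {G : Type u} [Group G] [Finite G]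
    {H R R₀ : Subgroup G}, ♯H = n → Sol H → Odd ♯H → R ≤ N[H] → (♯H).Coprime ♯R → R₀ ≤ R →
    (♯R₀).Prime → Odd ♯R₀ → IsZGroup ↥(H ⊓ C[R₀]) → PLen1 p ⁅H, R⁆ := by
  induction n using Nat.strong_induction_on with
  | _ n ih =>
  intro G _ _ H R R₀ hn hs ho hRH hc hR₀ hpr hoR hZ
  have IHsub : ∀ H₁ R₁ : Subgroup G, H₁ < H → R₀ ≤ R₁ → R₁ ≤ R → R₁ ≤ N[H₁] →
      PLen1 p ⁅H₁, R₁⁆ := fun H₁ R₁ h1 h2 h3 h4 =>
    ih _ (hn ▸ card_lt h1) rfl (hs.of_le h1.le) (odd_of_le ho h1.le) h4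
      ((hc.coprime_dvd_left (card_dvd h1.le)).coprime_dvd_right (card_dvd h3)) h2 hpr hoR
      (isZGroup_of_le hZ (inf_le_inf_right _ h1.le))
  by_cases hHR : ⁅H, R⁆ = H
  swap
  · rw [← H26.coprime_commGid hRH hc hs]
    exact IHsub _ R (lt_of_le_of_ne (comm_le_left hRH) hHR) hR₀ le_rfl (norm_comm_right _ _)
  rw [hHR]
  have hc₀ : (♯H).Coprime ♯R₀ := hc.coprime_dvd_right (card_dvd hR₀)
  have IHquo : ∀ X : Subgroup G, X ≠ ⊥ → X ⊴ H → R ≤ N[X] → PLen1 p (quo H X) := by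
    intro X h1 h2 h3
    have hcX : (♯X).Coprime ♯R₀ := hc₀.coprime_dvd_left (card_dvd h2.le)
    have e := card_quo_of_inf (hR₀.trans h3) (inf_eq_bot_of_cop hcX)
    have := ih _ (hn ▸ h2.card_quo_lt h1) rfl (hs.quo X) (odd_quo ho X) (quo_norm X hRH)
      (coprime_quo hc X) (quo_mono X hR₀) (e ▸ hpr) (e ▸ hoR) (by
        rw [← quo_inf_C h2.le (hR₀.trans h3) hcX (Or.inl (hs.of_le h2.le))]
        exact isZGroup_img hZ _)
    rwa [← quo_comm h2.norm h3, hHR] at this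
  by_contra hcon
  have hO : O[{p}ᶜ, H] = ⊥ := by
    by_contra h
    exact hcon ((H26.p'quo_plength1 hp (pcore_nml _ _) (pcore_pi _ _)).1
      (IHquo _ h (pcore_nml _ _) (norm_pcore _ hRH)))
  obtain ⟨V, hVdef⟩ : ∃ V, V = O[{p}, H] := ⟨_, rfl⟩
  have hVn : V ⊴ H := hVdef ▸ pcore_nml _ _
  have hVp : IsPi {p} V := hVdef ▸ pcore_pi _ _
  have hRV : R ≤ N[V] := hVdef ▸ norm_pcore _ hRH
  have hCV : H ⊓ C[V] ≤ V := hVdef ▸ cent_sub_pcore hp hs hO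
  have hCV' : ∀ T : Subgroup G, T ≤ H → IsPi {p}ᶜ T → T ≤ C[V] → T = ⊥ := fun T h1 h2 h3 =>
    (hVp.of_le ((le_inf h1 h3).trans hCV)).eq_bot h2
  have hV : IsElementaryAbelian p V := by
    rw [← trivg_Phi hp hVp]
    by_contra h
    refine hcon ((H26.pquo_plength1 hp hVn.Phi (hVp.of_le (Phi_le V)) ?_).1
      (IHquo _ h hVn.Phi (norm_Phi hRV)))
    have a1 : coq (Phi V) O[{p}ᶜ, quo H (Phi V)] ≤ H := coq_le_of_le_quo hVn.Phi (pcore_le _ _)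
    obtain ⟨T, hT⟩ := H26.Hall_exists {p}ᶜ (hs.of_le a1)
    have a2 := hT.quo (coq_le_N _)
    rw [quo_coq] at a2
    have a3 := a2.eq_self (pcore_pi _ _)
    have a4 : quo T (Phi V) ≤ C[quo V (Phi V)] :=
      a3.le.trans (pcore_compl_cents (hVp.quo _) (hVn.quo _))
    rw [quo_cents (hT.le.trans (coq_le_N _)) (Phi_nml V).norm, commC] at a4
    rw [← a3, hCV' T (hT.le.trans a1) hT.pi (H26.coprime_cent_Phi (hVp.coprime hT.pi) a4)]
    exact img_bot _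
  have hVa : Abl V := hV.1
  have hUn : coq V F[quo H V] ⊴ H := nml_coq_of hVn (Fitting_nml _)
  have hRU : R ≤ N[coq V F[quo H V]] := norm_coq hRV (norm_Fitting (quo_norm V hRH))
  have hF' : IsPi {p}ᶜ F[quo H V] := ((Fitting_nil _).pcore_hall {p}).isPi_compl_of_eq_bot (by
    rw [p_core_Fitting hp, hVdef, pcore_quo_pcore])
  obtain ⟨K, hK, hRK⟩ := H26.coprime_Hall_exists {p}ᶜ hRU
    (hc.coprime_dvd_left (card_dvd hUn.le)) (hs.of_le hUn.le)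
  have hVU : SD V K (coq V F[quo H V]) :=
    Hall.sd (Hall.mk' (le_coq _) hVp (by rw [relIndex_coq_self]; exact hF')) hK (coq_le_N _)
  have hKH : K ≤ H := hK.le.trans hUn.le
  have hKV : K ≤ N[V] := hVU.norm
  have hqK : quo K V = F[quo H V] := by rw [← hVU.quo_eq, quo_coq]
  have hKn : Nil K := nil_of_quo hKV hVU.inf (hqK ▸ Fitting_nil _)
  obtain ⟨L, hLdef⟩ : ∃ L, L = H ⊓ N[K] := ⟨_, rfl⟩
  have hLH : L ≤ H := hLdef ▸ inf_le_left
  have hLK : L ≤ N[K] := hLdef ▸ inf_le_right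
  have hKL : K ≤ L := hLdef ▸ le_inf hKH (norm_self K)
  have hRL : R ≤ N[L] := hLdef ▸ norm_inf hRH (norm_N hRK)
  have hLV : L ≤ N[V] := hLH.trans hVn.norm
  have hVL : V ⊔ L = H := by
    have a := (H26.Hall_Frattini_arg (hs.of_le hUn.le) hUn hK).sup_eq
    rw [← hLdef, ← hVU.sup, sup_assoc, sup_eq_right.2 hKL] at a
    exact a
  have hK1 : K ≠ ⊥ := by
    intro h
    rw [h, show quo ⊥ V = ⊥ from img_bot _, eq_comm, trivg_Fitting (hs.quo V),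
      quo_eq_bot hVn.norm] at hqK
    exact hcon (plen1_of_pi (hVp.of_le hqK))
  have hcVK : (♯V).Coprime ♯K := hVp.coprime hK.pi
  have hVK : V ⊓ C[K] = ⊥ := by
    by_contra h
    have d := H26.coprime_abelian_cent_dprod hKV hcVK hVa
    have n1 : ⁅V, K⁆ ⊴ H := ⟨d.left_le.trans hVn.le, hVL.ge.trans
      (sup_le (hVa.norm le_rfl d.left_le) (norm_comm hLV hLK))⟩
    have n2 : V ⊓ C[K] ⊴ H := ⟨inf_le_left.trans hVn.le, hVL.ge.trans
      (sup_le (hVa.norm le_rfl inf_le_left) (norm_inf hLV (norm_C hLK)))⟩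
    exact hcon ((H26.quo2_plength1 hp n1 n2 d.inf).1
      ⟨IHquo _ (fun e => hK1 (hCV' K hKH hK.pi (comm_eq_bot'.1 e))) n1 (norm_comm hRV hRK),
        IHquo _ h n2 (norm_inf hRV (norm_C hRK))⟩)
  have hVL1 : V ⊓ L = ⊥ := eq_bot_of_le ((H26.coprime_norm_cent hKV hcVK).trans hVK)
    (inf_le_inf_left _ hLK)
  have hmod : ∀ X, X ≤ L → L ⊓ (X ⊔ V) = X := fun X hX => by
    rw [inf_comm, ← group_modl' (hX.trans hLV) hX, hVL1, sup_bot_eq]
  have hCK : L ⊓ C[K] ≤ K := by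
    have a : quo (L ⊓ C[K]) V ≤ quo K V := by
      refine (img_inf_C_le _ _ _).trans ?_
      change quo L V ⊓ C[quo K V] ≤ _
      rw [hqK]
      exact (inf_le_inf_right _ (quo_mono V hLH)).trans (cent_sub_Fitting (hs.quo V))
    rw [quo_le_quo_iff (inf_le_left.trans hLV) hKV] at a
    exact (le_inf inf_le_left a).trans (hmod K hKL).le
  obtain ⟨P, hP, hRP⟩ := H26.sol_coprime_Sylow_exists hp hRL (hc.coprime_dvd_left (card_dvd hLH))
    (Or.inr (hs.of_le hLH))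
  have hPH : P ≤ H := hP.le.trans hLH
  have hPK : P ≤ N[K] := hP.le.trans hLK
  have hPV : P ≤ N[V] := hP.le.trans hLV
  have hPK' : ¬ P ≤ C[K] := by
    intro h
    have a : P = ⊥ := hP.pi.eq_bot (hK.pi.of_le ((le_inf hP.le h).trans hCK))
    have b := (isProd_sup hLV).hall_left hVp (hP.isPi_compl_of_eq_bot a)
    rw [hVL] at b
    exact hcon (plen1_of_syl_nml b hVn.norm)
  have hR₀K : ¬ R₀ ≤ C[K] := by
    intro h
    have a : Cyc K := H25.nil_Zgroup_cyclic (isZGroup_of_le hZ (le_inf hKH (cents_symm h))) hKn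
    have b : quo L V ≤ quo ⁅L, R⁆ V := by
      rw [quo_comm hLV hRV, ← quo_sup_left hLV, hVL, ← quo_comm hVn.norm hRV, hHR]
    rw [quo_le_quo_iff hLV ((comm_le_left hRL).trans hLV)] at b
    have c := (le_inf le_rfl b).trans (hmod _ (comm_le_left hRL)).le
    exact hPK' (hP.le.trans (c.trans ((commutator_mono hLK hRK).trans
      (H25.cyc_der1_norm_le_cent a le_rfl))))
  have hV1 : V ≠ ⊥ := fun h => hK1 (hCV' K hKH hK.pi (by rw [h, C_bot]; exact le_top))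
  have hR₀p : IsPi {p}ᶜ R₀ :=
    PiNat.of_coprime hp ((hVp.dvd_card hV1).trans (card_dvd hVn.le)) hc₀
  have hcKR : (♯K).Coprime ♯R₀ := hc₀.coprime_dvd_left (card_dvd hKH)
  have hKC : K ⊓ C[V] = ⊥ := hCV' _ (inf_le_left.trans hKH) (hK.pi.of_le inf_le_left) inf_le_right
  have hoM : ∀ X, X ≤ H → R₀ ≤ N[X] → Odd ♯(X ⊔ R₀) := fun X h1 h2 =>
    ((odd_of_le ho h1).mul hoR).of_dvd_nat (isProd_sup h2).card_dvd
  have hVR : ♯(V ⊓ C[R₀]) = p := by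
    refine ((Nat.dvd_prime hp).1 (H25.Cfsg.IsElementaryAbelian.card_dvd_of_cyc
      (H25.Cfsg.IsElementaryAbelian.mono hV inf_le_left) (cyc_of_isZGroup hZ hp
        (hVp.of_le inf_le_left) (inf_le_inf_right _ hVn.le)))).resolve_left fun h => hR₀K ?_
    have a := odd_prime_sdprod_abelem_cent1 (hKn.sol.sup (cyc_of_prime hpr).sol (hR₀.trans hRK))
      (hoM K hKH (hR₀.trans hRK)) (SD.mk_sup (hR₀.trans hRK) (inf_eq_bot_of_cop hcKR)) hcKR hpr hp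
      hV (sup_le hKV (hR₀.trans hRV)) (hK.pi.sup hR₀p (hR₀.trans hRK)) (card_eq_one'.1 h)
    exact comm_eq_bot.1 (eq_bot_of_le hKC a)
  have hVP : V ⊓ P = ⊥ := eq_bot_of_le hVL1 (inf_le_inf_left _ hP.le)
  have hPR : P ⊓ C[R₀] = ⊥ := by
    by_contra h
    obtain ⟨X, hX, hXp⟩ := exists_card_prime hp ((hP.pi.of_le inf_le_left).dvd_card h)
    have a : Cyc ((V ⊔ P) ⊓ C[R₀]) := cyc_of_isZGroup hZ hp
      ((hVp.sup hP.pi hPV).of_le inf_le_left) (inf_le_inf_right _ (sup_le hVn.le hPH))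
    have b := H25.cyc_eq_of_card_eq a (hX.trans (inf_le_inf_right _ le_sup_right))
      (inf_le_inf_right _ le_sup_left) (hXp.trans hVR.symm)
    exact ne_bot_of_prime (hXp ▸ hp) (eq_bot_of_le hVP
      (le_inf (b.le.trans inf_le_left) (hX.trans inf_le_left)))
  have hPRP : ⁅P, R₀⁆ = P :=
    comm_eq_of_regular (hR₀.trans hRP) (ne_bot_of_prime hpr) (semiregular_prime hpr hPR)
  refine bg36_core hp hV hKn hK.pi hKV hPV (hR₀.trans hRV) hPK (hR₀.trans hRK) (hR₀.trans hRP)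
    hP.pi hpr hR₀p hcKR (odd_of_le ho hKH) (hoM P hPH (hR₀.trans hRP)) hKC
    (eq_bot_of_le hVP (le_inf ((inf_le_inf_right _ hPH).trans hCV) inf_le_left)) hVK hVR hPR
    (isZGroup_of_le hZ (inf_le_inf_right _ hKH)) hPK' ?_
  intro X hX hPX hRX
  have hXL : X ⊔ P ≤ L := sup_le (hX.le.trans hKL) hP.le
  have hX' : IsPi {p}ᶜ X := hK.pi.of_le hX.le
  have h1 : (X ⊔ P) ⊔ V ≤ H := sup_le (hXL.trans hLH) hVn.le
  have h2 : (X ⊔ P) ⊔ V < H := lt_of_le_of_ne h1 fun e => by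
    have a : K ≤ X ⊔ P := (le_inf hKL (hKH.trans e.ge)).trans (hmod _ hXL).le
    exact hX.not_ge (((isProd_sup hPX).hall_left hX' (by rw [compl_compl]; exact hP.pi)).le_of_nml
      (nml_sup_left hPX).norm hK.pi a)
  have h3 : R₀ ≤ N[(X ⊔ P) ⊔ V] := norm_sup (norm_sup hRX (hR₀.trans hRP)) (hR₀.trans hRV)
  have h4 := IHsub _ R₀ h2 le_rfl hR₀ h3
  have h5 : ⁅(X ⊔ P) ⊔ V, R₀⁆ ⊴ (X ⊔ P) ⊔ V := ⟨comm_le_left h3, norm_comm_left _ _⟩
  have h6 : O[{p}ᶜ, ⁅(X ⊔ P) ⊔ V, R₀⁆] = ⊥ :=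
    hCV' _ ((h5.pcore _).le.trans h1) (pcore_pi _ _) (cents_of_coprime_nml (h5.pcore _)
      (hVn.of_le le_sup_right h1) ((pcore_pi _ _).coprime' hVp))
  have h7 : P ≤ O[{p}, ⁅(X ⊔ P) ⊔ V, R₀⁆] :=
    ((H26.plength1_pcore_Sylow h6).1 h4).le_pcore hP.pi
      (hPRP.ge.trans (comm_mono_left (le_sup_right.trans le_sup_left)))
  refine comm_eq_bot.1 (eq_bot_of_le ((pcore_pi {p} ⁅(X ⊔ P) ⊔ V, R₀⁆).inf_eq_bot hX')
    (le_inf ((comm_mono_left h7).trans (comm_le_left ?_)) (comm_le_right hPX)))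
  exact (le_sup_left.trans le_sup_left).trans (h5.pcore _).norm

/-- Theorem 3.6. -/
theorem odd_sdprod_Zgroup_cent_prime_plength1 (hp : p.Prime) (hM : Sol M) (hodd : Odd ♯M)
    (h : SD H R M) (hc : (♯H).Coprime ♯R) (hR₀ : R₀ ≤ R) (hpr : (♯R₀).Prime)
    (hZ : IsZGroup ↥(H ⊓ C[R₀])) : PLen1 p ⁅H, R⁆ :=
  bg36_aux hp _ rfl (hM.of_le h.left_le) (odd_of_le hodd h.left_le) h.norm hc hR₀ hpr
    (odd_of_le hodd (hR₀.trans h.right_le)) hZ

end H1
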