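import Mathlib
import Cfsg.Agent.H23.T0
import Cfsg.Agent.H25.Pump
import Cfsg.Agent.H2.Quaternion
import Cfsg.Agent.H7.SyG

/-!
# Intrinsic 2-components with a unique involution: Sylow subgroups and the diagonal
-/

set_option autoImplicit false
set_option linter.unusedSectionVars false
set_option linter.unusedVariables false
set_option linter.style.haveILetI false

namespace H1.CI

open Cfsg H24 H26 H26.Gold H23 H23.TC H25.LB Subgroup
open scoped commutatorElement

universe u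

variable {G : Type u} [Group G] [Finite G]
  {A B D H J K L M P Q S T X : Subgroup G} {a b c d e f g i j k q s t u v w x y z : G}

local instance fact2 : Fact (Nat.Prime 2) := ⟨Nat.prime_two⟩

/-- the core of the centraliser. -/
abbrev Oc (z : G) : Subgroup G := opp 2 C{z}

/-- `L` is a 2-component of the centraliser of its unique involution `z`. -/
structure Om (L : Subgroup G) (z : G) : Prop where
  mem : z ∈ L
  sq : z * z = 1
  ne : z ≠ 1
  uniq : ∀ t ∈ L, t * t = 1 → t = 1 ∨ t = z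
  pc : IsPCompOf 2 L C{z}

theorem cj_Oc (g z : G) : cj g (Oc z) = Oc (g * z * g⁻¹) := by
  rw [Oc, Oc, ← cj_C1, cj_def, cj_def]
  exact map_opp_of_injective 2 _ (MulAut.conj g).injective

theorem Oc_odd (z : G) : OddG (Oc z) := by
  rw [OddG, isPi_compl_iff p2]; exact cop_iff_not_dvd.1 (opp_cop 2 _)

theorem Oc_norm (z : G) : C{z} ≤ N[Oc z] := le_normalizer_opp 2 (norm_self _)

theorem Oc_conj (hg : g ∈ C{z}) (hx : x ∈ Oc z) : g * x * g⁻¹ ∈ Oc z :=
  (mem_normalizer_iff.1 (Oc_norm z hg) x).1 hx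

theorem Oc_eq_one (hx : x ∈ Oc z) (h : TwoE x) : x = 1 := h.eq_one ((Oc_odd z).piElt hx)

theorem Oc_isConj (hx : x * x = 1) (hy : y * y = 1) (h : x * y ∈ Oc z) : IsConj x y :=
  H6.isConj_of_odd hx hy (oddE_iff.1 ((Oc_odd z).piElt h))

namespace Om

theorem le (h : Om L z) : L ≤ C{z} := h.pc.1

theorem comm (h : Om L z) (hx : x ∈ L) : x * z = z * x := mem_C1.1 (h.le hx)

theorem inv (h : Om L z) : z⁻¹ = z := inv_sq h.sq

theorem notMem (h : Om L z) : z ∉ Oc w := fun hz => h.ne (Oc_eq_one hz (twoE_of_sq h.sq))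

theorem cj (h : Om L z) (g : G) : Om (cj g L) (g * z * g⁻¹) where
  mem := conj_mem_cj g h.mem
  sq := H7.SJ.conj_sq h.sq g
  ne := fun e => h.ne (by simpa using e)
  uniq := fun t ht h2 => by
    obtain ⟨y, hy, rfl⟩ := mem_cj'.1 ht
    have : y * y = 1 := by
      have := H7.SJ.conj_sq h2 g⁻¹
      simpa [mul_assoc] using this
    rcases h.uniq y hy this with rfl | rfl
    · left; simp
    · right; rfl
  pc := by rw [← cj_C1]; exact h.pc.conj g

theorem cj' (h : Om L z) (hg : g ∈ C{z}) : Om (H24.cj g L) z := by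
  have := h.cj g
  rwa [mem_C1_iff_conj.1 hg] at this

theorem perf (h : Om L z) : ⁅L, L⁆ = L := h.pc.perfect

theorem play_le (h : Om L z) : play 2 C{z} ≤ N[L] := play_le_normalizer_pcomp h.pc

theorem Oc_le (h : Om L z) : Oc z ≤ N[L] := opp_le_normalizer_pcomp h.pc

theorem le_N (h : Om L z) (h' : Om K z) : K ≤ N[L] := h'.pc.le_play.trans h.play_le

theorem comm_mem (h : Om L z) (h' : Om K z) (hne : L ≠ K) (hx : x ∈ L) (hy : y ∈ K) :
    x * y * x⁻¹ * y⁻¹ ∈ Oc z :=
  ((pcomp_eq_or_comm_le h.pc h'.pc).resolve_left hne) (commutator_mem_commutator hx hy)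

theorem comm_of_two (h : Om L z) (h' : Om K z) (hne : L ≠ K) (hS : TwoG S) (hx : x ∈ L)
    (hy : y ∈ K) (hxS : x ∈ S) (hyS : y ∈ S) : x * y = y * x := by
  have := Oc_eq_one (h.comm_mem h' hne hx hy)
    (hS.piElt (mul_mem (mul_mem (mul_mem hxS hyS) (inv_mem hxS)) (inv_mem hyS)))
  rwa [mul_inv_eq_one, mul_inv_eq_iff_eq_mul] at this

theorem mem_C (h : Om L z) (hg : g ∈ N[L]) : g ∈ C{z} := by
  rw [mem_C1_iff_conj]
  refine (h.uniq _ ((mem_normalizer_iff.1 hg z).1 h.mem) (H7.SJ.conj_sq h.sq g)).resolve_left ?_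
  intro e; exact h.ne (by simpa using e)

theorem syl (h : Om L z) (hS : Syl 2 C{z} S) : Syl 2 L (S ⊓ L) := by
  have h1 : play 2 C{z} ⊴ C{z} :=
    ⟨H23.play_le 2 _, (norm_self _).trans (normalizer_le_normalizer_play _)⟩
  have h2 := (hS.inf_nml h1).inf_nml ⟨h.pc.le_play, h.play_le⟩
  rwa [inf_assoc, inf_eq_right.2 h.pc.le_play] at h2

/-- an element whose square lies in an odd subgroup -/
theorem of_sq_mem (h : Om L z) (hu : u ∈ L) (h2 : u * u ∈ Oc z) : u ∈ Oc z ∨ u * z ∈ Oc z := by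
  obtain ⟨m, hm⟩ := oddE_iff.1 ((Oc_odd z).piElt h2)
  have e1 : u ^ (2 * m + 1) = (u * u) ^ m * u := by rw [pow_succ, pow_mul, pow_two]
  have e2 : u ^ (2 * m + 1) * u ^ (2 * m + 1) = 1 := by
    rw [← (Commute.refl u).mul_pow, ← hm, pow_orderOf_eq_one]
  rcases h.uniq _ (pow_mem hu _) e2 with e | e
  · left
    have : u = ((u * u) ^ m)⁻¹ := by
      rw [eq_inv_iff_mul_eq_one, ← e, e1]; exact (((Commute.refl u).mul_right (Commute.refl u)).pow_right m).eq
    rw [this]; exact inv_mem (pow_mem h2 m)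
  · right
    have : u * z = ((u * u) ^ m)⁻¹ := by
      rw [eq_inv_iff_mul_eq_one, ← h.sq]
      calc u * z * (u * u) ^ m = z * ((u * u) ^ m * u) := by
            rw [h.comm hu, mul_assoc, (((Commute.refl u).mul_right (Commute.refl u)).pow_right m).eq]
        _ = z * z := by rw [← e1, e]
    rw [this]; exact inv_mem (pow_mem h2 m)

/-- a 2-element of order at least four has a power of order four -/
theorem exists_pow (h : Om L z) (hx : x ∈ L) (h2 : TwoE x) (hn : x * x ≠ 1) :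
    ∃ n : ℕ, x ^ n * x ^ n = z := by
  obtain ⟨y, hy, y1, y2⟩ := TwoG.exists_inv (h2.mul h2 rfl).isPi (by simpa using hn)
  obtain ⟨n, rfl⟩ := (Submonoid.mem_powers_iff _ _).1 (mem_powers_iff_mem_zpowers.2 hy)
  refine ⟨n, ?_⟩
  rw [← (Commute.refl x).mul_pow]
  exact (h.uniq _ (pow_mem (mul_mem hx hx) n) y2).resolve_left y1

theorem exists_pow' (h : Om L z) (hx : x ∈ L) (h2 : TwoE x) (hn : x ≠ 1) : z ∈ zpowers x := by
  obtain ⟨y, hy, y1, y2⟩ := TwoG.exists_inv h2.isPi (by simpa using hn)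
  rwa [← (h.uniq _ (zpowers_le.2 hx hy) y2).resolve_left y1]

theorem mem_syl (h : Om L z) (hP : Syl 2 L P) : z ∈ P := by
  have : zpowers z ≤ P := hP.nml_le (twoE_of_sq h.sq).isPi
    ⟨zpowers_le.2 h.mem, norm_zpowers_of_cent h.le⟩
  exact this (mem_zpowers z)

/-- the Sylow 2-subgroups are generalised quaternion -/
theorem quat (h : Om L z) (hP : Syl 2 L P) : ∃ a ∈ P, ∃ b ∈ P, ∃ c ∈ zpowers a, c * c = z ∧
    b * b = z ∧ b * a * b⁻¹ = a⁻¹ ∧ ∀ g ∈ P, g ∈ zpowers a ∨ b⁻¹ * g ∈ zpowers a := by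
  have hU : H2.UniqueOrderP 2 P := by
    intro x y x1 x2 y2
    have hx : (x : G) = z := (h.uniq x (hP.le x.2) (by rw [← pow_two]; exact congrArg Subtype.val x2)).resolve_left
      fun e => x1 (Subtype.ext e)
    rcases h.uniq y (hP.le y.2) (by rw [← pow_two]; exact congrArg Subtype.val y2) with e | e
    · rw [show y = 1 from Subtype.ext e]; exact one_mem _
    · rw [show y = x from Subtype.ext (e.trans hx.symm)]; exact mem_zpowers x
  rcases hU.isCyclic_or_quaternion (hP.pi.isPGroup p2) with hc | ⟨-, n, ⟨φ⟩⟩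
  · exfalso
    exact h.ne (tz_abl h.perf hP (inferInstance) (h.mem_syl hP)
      (mem_C_iff_le_C1.2 h.le))
  · let ψ : QuaternionGroup (2 ^ (n + 1)) →* G := P.subtype.comp φ.symm.toMonoidHom
    have hψ : Function.Injective ψ := P.subtype_injective.comp φ.symm.injective
    have hm : ∀ y, ψ y ∈ P := fun y => (φ.symm y).2
    have hpow : ∀ i : ZMod (2 * 2 ^ (n + 1)), ψ (.a i) ∈ zpowers (ψ (.a 1)) := fun i => by
      haveI : NeZero (2 * 2 ^ (n + 1)) := ⟨by positivity⟩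
      rw [← ZMod.natCast_zmod_val i, ← QuaternionGroup.a_one_pow, map_pow]
      exact pow_mem (mem_zpowers _) _
    have hz : ψ (.a ((2 ^ (n + 1) : ℕ) : ZMod (2 * 2 ^ (n + 1)))) = z := by
      refine (h.uniq _ (hP.le (hm _)) ?_).resolve_left fun e => ?_
      · rw [← map_mul, QuaternionGroup.a_mul_a, ← Nat.cast_add, ← two_mul, ZMod.natCast_self,
          ← QuaternionGroup.one_def, map_one]
      · rw [← map_one ψ, QuaternionGroup.one_def] at e
        have := QuaternionGroup.a.inj (hψ e)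
        rw [ZMod.natCast_eq_zero_iff] at this
        have := Nat.le_of_dvd (by positivity) this
        have h0 : 0 < 2 ^ (n + 1) := by positivity
        omega
    refine ⟨ψ (.a 1), hm _, ψ (.xa 0), hm _, ψ (.a ((2 ^ n : ℕ) : ZMod _)), hpow _, ?_, ?_, ?_, ?_⟩
    · rw [← map_mul, QuaternionGroup.a_mul_a, ← Nat.cast_add, ← hz,
        show 2 ^ n + 2 ^ n = 2 ^ (n + 1) by ring]
    · rw [← map_mul, QuaternionGroup.xa_mul_xa, add_zero, sub_zero, hz]
    · rw [mul_inv_eq_iff_eq_mul, eq_inv_mul_iff_mul_eq, ← map_mul, ← map_mul,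
        QuaternionGroup.xa_mul_a, QuaternionGroup.a_mul_xa, zero_add, sub_self]
    · intro g hg
      have : g = ψ (φ ⟨g, hg⟩) := by simp [ψ]
      rw [this]
      rcases φ ⟨g, hg⟩ with i | i
      · exact Or.inl (hpow i)
      · right
        have : ψ (.xa i) = ψ (.xa 0) * ψ (.a i) := by
          rw [← map_mul, QuaternionGroup.xa_mul_a, zero_add]
        rw [this, inv_mul_cancel_left]; exact hpow i

theorem conj_zp (hb : b * a * b⁻¹ = a⁻¹) (hx : x ∈ zpowers a) : b * x * b⁻¹ = x⁻¹ := by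
  obtain ⟨n, rfl⟩ := mem_zpowers_iff.1 hx
  rw [← conj_zpow, hb, inv_zpow]

theorem inv_of_sq (h : Om L z) (hx : x * x = z) : x⁻¹ = x * z := by
  rw [inv_eq_iff_mul_eq_one, ← mul_assoc, hx, h.sq]

/-- an element of order at least four of a Sylow subgroup is inverted by an element of order 4 -/
theorem exists_inv (h : Om L z) (hP : Syl 2 L P) (hx : x ∈ P) :
    ∃ v ∈ P, v * v = z ∧ v * x * v⁻¹ = x⁻¹ := by
  obtain ⟨a, ha, b, hb, c, hc, c2, b2, hba, hg⟩ := h.quat hP
  rcases hg x hx with h1 | h1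
  · exact ⟨b, hb, b2, conj_zp hba h1⟩
  · refine ⟨c, zpowers_le.2 ha hc, c2, ?_⟩
    obtain ⟨y, hy, rfl⟩ : ∃ y ∈ zpowers a, x = b * y := ⟨_, h1, by group⟩
    have e1 := conj_zp hba hc
    have e2 := conj_zp hba hy
    have e3 : c * y = y * c := (abl_zpowers a).comm hc hy
    have e4 : b * y * (b * y) = z := by
      calc b * y * (b * y) = (b * y * b⁻¹) * (b * b) * y := by group
        _ = y⁻¹ * (z * y) := by rw [e2, b2, mul_assoc]
        _ = z := by rw [← h.comm (hP.le (zpowers_le.2 ha hy))]; group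
    have e5 : c * b = b * c⁻¹ := by
      have := conj_zp hba (inv_mem hc)
      rw [inv_inv] at this
      calc c * b = (b * c⁻¹ * b⁻¹) * b := by rw [this]
        _ = b * c⁻¹ := by group
    rw [h.inv_of_sq e4]
    calc c * (b * y) * c⁻¹ = (c * b) * (y * c⁻¹) := by group
      _ = b * (c⁻¹ * y) * c⁻¹ := by rw [e5]; group
      _ = b * (y * c⁻¹) * c⁻¹ := by rw [(show Commute c y from e3).inv_left.eq]
      _ = b * y * (c * c)⁻¹ := by group
      _ = b * y * z := by rw [c2, h.inv]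

theorem exists_four (h : Om L z) (hP : Syl 2 L P) : ∃ v ∈ P, v * v = z := by
  obtain ⟨v, hv, h1, -⟩ := h.exists_inv hP (one_mem _)
  exact ⟨v, hv, h1⟩

/-- an involution acting nontrivially on a Sylow subgroup inverts an element of order four -/
theorem exists_inverted (h : Om L z) (hP : Syl 2 L P) (hs : s ∈ N[P]) (s2 : s * s = 1)
    (hc : s ∉ C[P]) : ∃ v ∈ P, v * v = z ∧ s * v * s⁻¹ = v⁻¹ := by
  obtain ⟨q, hq, q2, hn⟩ : ∃ q ∈ P, q * q = z ∧ s * q * s⁻¹ ≠ q := by
    by_contra hh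
    push Not at hh
    obtain ⟨a, ha, b, hb, c, hc', c2, b2, hba, hg⟩ := h.quat hP
    have e1 := mem_C1_iff_conj.2 (hh b hb b2)
    have e2 := mem_C1_iff_conj.2 (hh (b * a) (mul_mem hb ha) (by
      calc b * a * (b * a) = (b * a * b⁻¹) * (b * b) * a := by group
        _ = a⁻¹ * (z * a) := by rw [hba, b2, mul_assoc]
        _ = z := by rw [← h.comm (hP.le ha)]; group))
    rw [mem_C1_comm] at e1 e2
    have e3 : a ∈ C{s} := by simpa using mul_mem (inv_mem e1) e2
    refine hc (mem_C_iff_le_C1.2 fun g hg' => ?_)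
    rcases hg g hg' with h1 | h1
    · exact zpowers_le.2 e3 h1
    · simpa using mul_mem e1 (zpowers_le.2 e3 h1)
  have hc : q⁻¹ * (s * q * s⁻¹) ∈ P := mul_mem (inv_mem hq) ((mem_normalizer_iff.1 hs q).1 hq)
  have e : s * (q⁻¹ * (s * q * s⁻¹)) * s⁻¹ = (q⁻¹ * (s * q * s⁻¹))⁻¹ := by
    calc _ = s * q⁻¹ * s⁻¹ * ((s * s) * q * (s * s)⁻¹) := by group
      _ = _ := by rw [s2]; group
  by_cases h2 : q⁻¹ * (s * q * s⁻¹) * (q⁻¹ * (s * q * s⁻¹)) = 1
  · rcases h.uniq _ (hP.le hc) h2 with e1 | e1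
    · exact absurd (inv_mul_eq_one.1 e1).symm hn
    · exact ⟨q, hq, q2, by rw [h.inv_of_sq q2, ← e1]; group⟩
  · obtain ⟨n, hn⟩ := h.exists_pow (hP.le hc) (hP.pi.piElt hc) h2
    exact ⟨_, pow_mem hc n, hn, by rw [← conj_pow, e, inv_pow]⟩

/-- one class of elements of order four -/
theorem conj_four (h : Om L z) (hu : u ∈ L) (u2 : u * u = z) (hw : w ∈ L) (w2 : w * w = z) :
    ∃ k ∈ L, k * u * k⁻¹ = w := by
  obtain ⟨P, hP⟩ := Sylow_exists p2 L
  obtain ⟨a, ha, b, hb, c, hc, c2, b2, hba, hg⟩ := h.quat hP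
  have hz : z ∈ zpowers a := c2 ▸ mul_mem hc hc
  have hN : L ≤ N[zpowers z] := norm_zpowers_of_cent h.le
  have key : ∀ u ∈ L, u * u = z → ∃ k ∈ L, k * u * k⁻¹ = c := by
    intro u hu u2
    have t2 : TwoE u := piElt_of_pow_eq_one (n := 2 ^ 2) ((piNat_self p2).pow 2) (by
      rw [show u ^ 2 ^ 2 = u * u * (u * u) by norm_num [pow_succ, mul_assoc], u2, h.sq])
    obtain ⟨g, hgL, hgu⟩ := Sylow_Jsub p2 hP t2.isPi (zpowers_le.2 hu)
    have h1 : g * u * g⁻¹ ∈ P := hgu (conj_mem_cj g (mem_zpowers u))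
    have h2 : g * u * g⁻¹ * (g * u * g⁻¹) = z := by
      rw [← mem_C1_iff_conj.1 (h.le hgL), ← u2]; group
    have hA : zpowers z ⊴ zpowers a := (abl_zpowers a).nml (zpowers_le.2 hz)
    have hPn : zpowers z ⊴ P := ⟨zpowers_le.2 (h.mem_syl hP), hP.le.trans hN⟩
    have hI : Ix2 (zpowers a) P := by
      intro x hx y hy x1 y1
      obtain ⟨x', hx', rfl⟩ : ∃ y ∈ zpowers a, x = b * y := ⟨_, (hg x hx).resolve_left x1, by group⟩
      obtain ⟨y', hy', rfl⟩ : ∃ x ∈ zpowers a, y = b * x := ⟨_, (hg y hy).resolve_left y1, by group⟩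
      have : b * x' * (b * y') = (b * x' * b⁻¹) * (b * b) * y' := by group
      rw [this, conj_zp hba hx', b2]
      exact mul_mem (mul_mem (inv_mem hx') hz) hy'
    have hI' : Ix2 (quo (zpowers a) (zpowers z)) (quo P (zpowers z)) := by
      intro x hx y hy x1 y1
      obtain ⟨x', hx', xn, rfl⟩ := mem_quo.1 hx
      obtain ⟨y', hy', yn, rfl⟩ := mem_quo.1 hy
      rw [← ap_mul _ xn yn]
      exact cs_mem_quo (hI x' hx' y' hy' (fun e => x1 (cs_mem_quo e xn))
        fun e => y1 (cs_mem_quo e yn)) (mul_mem xn yn)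
    obtain ⟨k', hk', hk2⟩ := thompson (L := quo L (zpowers z)) (by rw [← quo_comm hN hN, h.perf])
      (hP.quo hN) hI' (cs_mem_quo h1 (hPn.norm h1))
      ((H7.SJ.cs_sq (hPn.norm h1)).2 (h2 ▸ mem_zpowers z))
    obtain ⟨k, hk, kn, rfl⟩ := mem_quo.1 hk'
    rw [H7.SJ.conj_quo hA kn (hPn.norm h1)] at hk2
    set y := k * (g * u * g⁻¹) * k⁻¹ with hy
    have y2 : y * y = z := by rw [← mem_C1_iff_conj.1 (h.le hk), ← h2, hy]; group
    have yc : y * c = c * y := (abl_zpowers a).comm hk2 hc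
    have yL : y ∈ L := hP.le (zpowers_le.2 ha hk2)
    have cL : c ∈ L := hP.le (zpowers_le.2 ha hc)
    rcases h.uniq (y * c) (mul_mem yL cL) (by
      calc y * c * (y * c) = y * (c * y) * c := by group
        _ = y * y * (c * c) := by rw [← yc]; group
        _ = 1 := by rw [y2, c2, h.sq]) with e | e
    · refine ⟨b * k * g, mul_mem (mul_mem (hP.le hb) hk) hgL, ?_⟩
      calc _ = b * y * b⁻¹ := by rw [hy]; group
        _ = c := by rw [conj_zp hba hk2, inv_eq_iff_mul_eq_one, e]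
    · refine ⟨k * g, mul_mem hk hgL, ?_⟩
      calc _ = y := by rw [hy]; group
        _ = c := by rw [← c2] at e; exact mul_right_cancel e
  obtain ⟨k, hk, e⟩ := key u hu u2
  obtain ⟨k', hk', e'⟩ := key w hw w2
  refine ⟨k'⁻¹ * k, mul_mem (inv_mem hk') hk, ?_⟩
  calc _ = k'⁻¹ * (k * u * k⁻¹) * k' := by group
    _ = w := by rw [e, ← e']; group

/-- an involution centralising a Sylow subgroup centralises `L` modulo the core -/
theorem cent_of_syl (h : Om L z) (hP : Syl 2 L P) (hs : s ∈ N[L]) (s2 : s * s = 1)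
    (hc : s ∈ C[P]) : ⁅L, zpowers s⁆ ≤ Oc z := by
  have hsz := h.mem_C hs
  by_cases hsL : s ∈ L
  · rcases h.uniq s hsL s2 with rfl | rfl
    · rw [zpowers_one_eq_bot, commutator_bot_right]; exact bot_le
    · rw [comm_eq_bot.2 (by rw [C_zpowers]; exact h.le)]; exact bot_le
  have s1 : s ≠ 1 := fun e => hsL (e ▸ one_mem _)
  have hn : zpowers s ≤ N[L] := zpowers_le.2 hs
  have hPs : zpowers s ≤ N[P] := zpowers_le.2 (C_le_N _ hc)
  have t2 := (twoE_of_sq s2).isPi
  -- a Sylow subgroup of `L⟨s⟩`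
  obtain ⟨R, hR, hPR⟩ := Sylow_superset p2 (hP.pi.sup t2 hPs) (sup_le_sup_right hP.le _)
  have hRL : R ⊓ L = P := hP.eq_of_le (hR.pi.of_le inf_le_left)
    (le_inf (le_sup_left.trans hPR) hP.le) inf_le_right
  have hsR : s ∈ R := hPR (mem_sup_right (mem_zpowers s))
  have hidx : ¬ 2 ∣ (L ⊓ C{s}).relIndex L := fun hd =>
    hP.not_dvd p2 (hd.trans (relIndex_dvd_of_le_left L (le_inf hP.le (mem_C_iff_le_C1.1 hc))))
  have key : ∀ l ∈ L, l * s * l⁻¹ ∈ R → l * s * l⁻¹ = s := by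
    intro l hl hlR
    have h1 : l * s * l⁻¹ * s⁻¹ ∈ P := by
      rw [← hRL]
      refine ⟨R.mul_mem hlR (R.inv_mem hsR), ?_⟩
      have := mul_mem hl (conj_mem hs (inv_mem hl))
      simpa [mul_assoc] using this
    have h2 : l * s * l⁻¹ * s⁻¹ * (l * s * l⁻¹ * s⁻¹) = 1 := by
      have e := (H24.mem_C.1 hc) _ h1
      have e' : l * s * l⁻¹ * s = s * (l * s * l⁻¹) := by
        have : l * s * l⁻¹ = s * (l * s * l⁻¹ * s⁻¹) := by rw [← e]; group
        calc l * s * l⁻¹ * s = s * (l * s * l⁻¹ * s⁻¹) * s := by rw [← this]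
          _ = _ := by group
      rw [inv_sq s2]
      calc l * s * l⁻¹ * s * (l * s * l⁻¹ * s) = l * s * l⁻¹ * (s * (l * s * l⁻¹)) * s := by group
        _ = l * s * l⁻¹ * (l * s * l⁻¹) * (s * s) := by rw [← e']; group
        _ = 1 := by rw [H7.SJ.conj_sq s2, s2, one_mul]
    rcases h.uniq _ (hP.le h1) h2 with e | e
    · exact mul_inv_eq_one.1 e
    · exfalso
      have el : l * s * l⁻¹ = z * s := by rw [← e]; group
      have zs : z * s = s * z := (mem_C1.1 hsz).symm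
      have hzs : ∀ g ∈ C{z}, g * (z * s) * g⁻¹ = z * (g * s * g⁻¹) := fun g hg => by
        rw [← mem_C1_iff_conj.1 hg, mem_C1_iff_conj.1 hg]
        calc g * (z * s) * g⁻¹ = (g * z * g⁻¹) * (g * s * g⁻¹) := by group
          _ = _ := by rw [mem_C1_iff_conj.1 hg]
      let M : Subgroup G :=
        { carrier := {g | g ∈ L ∧ (g * s * g⁻¹ = s ∨ g * s * g⁻¹ = z * s)}
          one_mem' := ⟨one_mem _, Or.inl (by simp)⟩
          mul_mem' := by
            rintro x y ⟨hx, ex⟩ ⟨hy, ey⟩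
            refine ⟨mul_mem hx hy, ?_⟩
            have : x * y * s * (x * y)⁻¹ = x * (y * s * y⁻¹) * x⁻¹ := by group
            rw [this]
            rcases ey with ey | ey <;> rw [ey]
            · exact ex
            · rw [hzs x (h.le hx)]
              rcases ex with ex | ex <;> rw [ex]
              · exact Or.inr rfl
              · left; rw [← mul_assoc, h.sq, one_mul]
          inv_mem' := by
            rintro x ⟨hx, ex⟩
            refine ⟨inv_mem hx, ?_⟩
            rcases ex with ex | ex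
            · left; rw [← ex, ex]
              calc x⁻¹ * s * x⁻¹⁻¹ = x⁻¹ * (x * s * x⁻¹) * x := by rw [ex]; group
                _ = s := by group
            · right
              have := hzs x⁻¹ (inv_mem (h.le hx))
              rw [← ex] at this
              have e2 : x⁻¹ * (x * s * x⁻¹) * x⁻¹⁻¹ = s := by group
              rw [e2] at this
              calc x⁻¹ * s * x⁻¹⁻¹ = z * (z * (x⁻¹ * s * x⁻¹⁻¹)) := by
                    rw [← mul_assoc, h.sq, one_mul]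
                _ = z * s := by rw [← this] }
      have hne : z * s ≠ s := fun e => h.ne (by simpa using e)
      have hI : Ix2 (L ⊓ C{s}) M := by
        rintro x ⟨hx, ex⟩ y ⟨hy, ey⟩ x1 y1
        have ex := ex.resolve_left fun e => x1 ⟨hx, mem_C1_iff_conj.2 e⟩
        have ey := ey.resolve_left fun e => y1 ⟨hy, mem_C1_iff_conj.2 e⟩
        refine ⟨mul_mem hx hy, mem_C1_iff_conj.2 ?_⟩
        calc x * y * s * (x * y)⁻¹ = x * (y * s * y⁻¹) * x⁻¹ := by group
          _ = s := by rw [ey, hzs x (h.le hx), ex, ← mul_assoc, h.sq, one_mul]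
      have h2 := hI.relIndex (x := l) ⟨hl, Or.inr el⟩
        fun e => hne (el.symm.trans (mem_C1_iff_conj.1 e.2))
      refine hidx ?_
      rw [← relIndex_mul_relIndex (L ⊓ C{s}) M L
        (fun x hx => ⟨hx.1, Or.inl (mem_C1_iff_conj.1 hx.2)⟩) (fun x hx => hx.1), h2]
      exact dvd_mul_right _ _
  have hZ := zstar_sub hR hsR s1 s2 fun g hg hgR => by
    obtain ⟨l, hl, y, hy, rfl⟩ := (mem_sup_of_norm hn).1 hg
    have : l * y * s * (l * y)⁻¹ = l * s * l⁻¹ := by
      calc _ = l * (y * s * y⁻¹) * l⁻¹ := by group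
        _ = _ := by rw [mem_C1_iff_conj.1 (zpowers_le_C1 s hy)]
    rw [this] at hgR ⊢
    exact key l hl hgR
  have h1 : ⁅L, zpowers s⁆ ≤ L ⊓ Od[L ⊔ zpowers s] :=
    le_inf (comm_le_left hn) (by rw [commC]; exact (comm_mono_right le_sup_left).trans hZ)
  refine h1.trans ?_
  have h2 : L ⊓ Od[L ⊔ zpowers s] ≤ opp 2 L :=
    le_opp inf_le_left (norm_inf (norm_self _) (le_sup_left.trans (pcore_nml _ _).norm))
      (cop_iff_not_dvd.2 ((isPi_compl_iff p2).1 ((Od_odd _).of_le inf_le_right)))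
  rw [pcomp_opp_eq h.pc] at h2
  exact h2.trans inf_le_left

theorem exists_inverted' (h : Om L z) (hS : Syl 2 C{z} S) (hsS : s ∈ S) (hs : s ∈ N[L])
    (s2 : s * s = 1) (hc : ¬ ⁅L, zpowers s⁆ ≤ Oc z) :
    ∃ v ∈ S, v ∈ L ∧ v * v = z ∧ s * v * s⁻¹ = v⁻¹ := by
  obtain ⟨v, hv, h1⟩ := h.exists_inverted (h.syl hS)
    (norm_inf (zpowers_le.2 (norm_self S hsS)) (zpowers_le.2 hs) (mem_zpowers s)) s2
    fun e => hc (h.cent_of_syl (h.syl hS) hs s2 e)
  exact ⟨v, hv.1, hv.2, h1⟩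

end Om

theorem exists_pcomp_map {G' : Type u} [Group G'] [Finite G'] {φ : G →* G'}
    (hk : (Nat.card φ.ker).Coprime 2) {K' : Subgroup G'} (h : IsPCompOf 2 K' (H.map φ)) :
    ∃ K, IsPCompOf 2 K H ∧ K.map φ = K' := by
  by_contra hh
  push Not at hh
  have h1 : play 2 H ≤ (cmod K' (opp 2 (H.map φ))).comap φ := by
    refine play_le_of fun K hK => ?_
    have hK' := pcomp_map_of_cop_ker hk hK
    rw [← map_le_iff_le_comap]
    exact le_cmod ((pcomp_eq_or_comm_le h hK').resolve_left (hh K hK).symm)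
      (hK'.1.trans (le_normalizer_opp 2 le_normalizer))
  rw [← map_le_iff_le_comap, map_play_of_cop_ker H hk] at h1
  have h2 := comm_le_of_le_cmod (h.le_play.trans h1)
  rw [h.perfect] at h2
  exact pcomp_not_le_cop h (opp_cop 2 _) h2

/-- the diagonal component -/
theorem diag_top (hL : IsPComponent 2 L) (s2 : s * s = 1) (hs : s ∉ N[L]) :
    ∃ D, IsPCompOf 2 D C{s} ∧
      ∀ q ∈ L, TwoE (q * (s * q * s⁻¹)) → q * (s * q * s⁻¹) ∈ C{s} → q * (s * q * s⁻¹) ∈ D := by
  set φ := piO 2 G with hφ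
  have h1 := (isPComponent_iff'.1 hL).2.2
  have hso : φ s ≠ 1 := fun e =>
    hs (IsPComponent.pPrimeCore_le_normalizer hL (by rw [← ker_piO]; exact e))
  have ho : orderOf (φ s) = 2 := ord2 hso (by rw [← map_mul, s2, map_one])
  have h2 := IsComponent.conj h1 (φ s)
  have hne : L.map φ ≠ (L.map φ).map (MulAut.conj (φ s)).toMonoidHom := fun e => by
    refine hs (mem_N_iff_cj.2 (IsPComponent.eq_of_map_eq (IsPComponent.conj hL s) hL ?_))
    exact (map_cj φ s L).trans e.symm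
  obtain ⟨π, p1, p2', -⟩ := exists_diag ho h1.2 ((IsComponent.eq_or_comm h1 h2).resolve_left hne)
  have h3 : IsCompOf π.range C{φ s} := by
    refine p2'.trans inf_le_right ?_
    rw [inf_subgroupOf_right]
    refine IsSubnormal.subgroupOf (IsSubnormal.trans (sup_le (le_layer h1)
      (le_layer h2)) (isSubnormal_subgroupOf_of_le_normalizer (le_normalizer_sup
      (layer_le_normalizer_of_isSubnormal h1.1) (layer_le_normalizer_of_isSubnormal h2.1)))
      (Normal.isSubnormal inferInstance))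
  have hz : IsPGroup 2 (zpowers s) := isPGroup_zpowers_of_pow (by rw [pow_two, s2])
  rw [← map_centralizer_singleton_of_cop_ker (piO_surj 2 G) (cop_ker_piO 2 G) hz] at h3
  obtain ⟨D, hD, e⟩ := exists_pcomp_map (cop_ker_piO 2 G)
    (h3.isPCompOf (two_dvd_card_of_quasisimple h3.quasisimple))
  refine ⟨D, hD, fun q hq t2 hc => ?_⟩
  have h4 : φ (q * (s * q * s⁻¹)) ∈ D.map φ := by
    rw [e]; exact ⟨⟨φ q, mem_map_of_mem φ hq⟩, by rw [p1]; simp⟩
  obtain ⟨d, hd, ed⟩ := h4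
  have h5 : d⁻¹ * (q * (s * q * s⁻¹)) ∈ opp 2 C{s} := by
    refine pPrimeCore_inf_le_opp 2 _ ⟨?_, Subgroup.mul_mem _ (Subgroup.inv_mem _ (hD.1 hd)) hc⟩
    rw [← ker_piO]; change φ _ = 1
    rw [map_mul, map_inv, ed, inv_mul_cancel]
  refine le_of_isPGroup_of_le_sup_cop (opp_le_normalizer_pcomp hD) (opp_cop 2 _)
    (t2.isPi.isPGroup p2) (zpowers_le.2 ?_) (mem_zpowers _)
  have := mul_mem (mem_sup_left (T := opp 2 C{s}) hd) (mem_sup_right h5)
  rwa [mul_inv_cancel_left] at this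

theorem Om.diag (h : Om L z) (hsz : s ∈ C{z}) (s2 : s * s = 1) (hs : s ∉ N[L]) :
    ∃ D, IsPCompOf 2 D (C{z} ⊓ C{s}) ∧
      ∀ q ∈ L, TwoE (q * (s * q * s⁻¹)) → q * (s * q * s⁻¹) ∈ C{s} → q * (s * q * s⁻¹) ∈ D := by
  obtain ⟨D, hD, h1⟩ := diag_top (s := (⟨s, hsz⟩ : C{z})) h.pc.2 (Subtype.ext s2) fun e =>
    hs (le_normalizer_of_subgroupOf h.le (zpowers_le.2 hsz) (by
      intro x hx
      have : zpowers (⟨s, hsz⟩ : C{z}) ≤ _ := zpowers_le.2 e
      refine this ?_
      obtain ⟨n, hn⟩ := mem_zpowers_iff.1 (mem_subgroupOf.1 hx)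
      exact mem_zpowers_iff.2 ⟨n, Subtype.ext hn⟩) (mem_zpowers s))
  have h2 := hD.map_of_injective (Subgroup.subtype_injective _)
  rw [map_subtype_centralizer_singleton] at h2
  refine ⟨_, h2, fun q hq t2 hc => ?_⟩
  refine ⟨_, h1 ⟨q, h.le hq⟩ hq ?_ (mem_C1.2 (Subtype.ext (mem_C1.1 hc))), rfl⟩
  unfold TwoE PiElt at t2 ⊢
  rw [← orderOf_coe]; exact t2

end H1.CI
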