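import Mathlib
import Cfsg.Agent.H1.CI1

/-!
# Intrinsic 2-components with a unique involution normalise each other
-/

set_option autoImplicit false
set_option linter.unusedSectionVars false
set_option linter.unusedVariables false
set_option linter.style.haveILetI false

namespace H1.CI

open Cfsg H24 H26 H26.Gold H23 H23.TC H25.LB Subgroup
open scoped commutatorElement

universe u

variable {G : Type u} [Group G] [Finite G]
  {A B D H J K L M P Q S T X : Subgroup G} {a b c d e f g i j k q s t u v w x y z : G}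

local instance fact2' : Fact (Nat.Prime 2) := ⟨Nat.prime_two⟩

theorem bal (hD : IsPCompOf 2 D (C{z} ⊓ C{s})) (hs : s ∈ C{z}) (s2 : s * s = 1) :
    D ≤ play 2 C{z} := by
  refine hD.le_play.trans ?_
  rw [← C_zpowers s]
  exact l_balance_rel (zpowers_le.2 hs) ((twoE_of_sq s2).isPi.isPGroup p2)

theorem lemN (hJ : Om J z) (hK : Om K i) (hc : z ∈ C{i}) (h : ⁅K, zpowers z⁆ ≤ Oc i) :
    (∀ x ∈ K, TwoE x → x ∈ C{z} → x ∈ N[J]) ∧ ⁅J, zpowers i⁆ ≤ Oc z := by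
  have h1 := (pcomp_centralizer hK.pc (zpowers_le.2 hc) ((twoE_of_sq hJ.sq).isPi.isPGroup p2) h).1
  rw [C_zpowers, inf_comm C{i}] at h1
  have hi := mem_C1_comm.1 hc
  have h2 := (bal h1 hi hK.sq).trans hJ.play_le
  have h3 : ∀ x ∈ K, TwoE x → x ∈ C{z} → x ∈ pGen 2 (K ⊓ C{z}) := fun x hx t2 hxz =>
    le_pGen (zpowers_le.2 (mem_inf.2 ⟨hx, hxz⟩)) (t2.isPi.isPGroup p2) (mem_zpowers x)
  have h4 := h3 i hK.mem (twoE_of_sq hK.sq) hi
  refine ⟨fun x hx t2 hxz => h2 (h3 x hx t2 hxz), ?_⟩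
  rcases pump_rel hi (by rw [pow_two, hK.sq]) h1 hJ.pc (h2 h4) with h5 | h5
  · rw [(hJ.uniq i (h5 h4) hK.sq).resolve_left hK.ne,
      comm_eq_bot.2 (by rw [C_zpowers]; exact hJ.le)]
    exact bot_le
  · rw [commC]; exact (comm_mono_left (zpowers_le.2 h4)).trans h5

/-- statement (ii) -/
theorem two (hJ : Om J z) (hK : Om K t) (h : z ∈ N[K]) : t ∈ N[J] := by
  by_contra hn
  have hzt : z ∈ C{t} := hK.mem_C h
  have htz : t ∈ C{z} := mem_C1_comm.1 hzt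
  have zt : z * t = t * z := mem_C1.1 hzt
  by_cases hA : ⁅K, zpowers z⁆ ≤ Oc t
  · exact hn ((lemN hJ hK hzt hA).1 t hK.mem (twoE_of_sq hK.sq) htz)
  obtain ⟨S, hS, htS⟩ := Sylow_superset p2 (twoE_of_sq hK.sq).isPi (zpowers_le.2 htz)
  replace htS := htS (mem_zpowers t)
  obtain ⟨j, hj, j2⟩ := hJ.exists_four (hJ.syl hS)
  obtain ⟨j', hj', -, jj⟩ := hJ.exists_inv (hJ.syl hS) hj
  have hJ' := hJ.cj' htz
  have hne : J ≠ cj t J := fun e => hn (mem_N_iff_cj.2 e.symm)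
  obtain ⟨j1, e1⟩ : ∃ j1, j1 = t * j * t⁻¹ := ⟨_, rfl⟩
  have j1J : j1 ∈ cj t J := e1 ▸ conj_mem_cj t hj.2
  have j1S : j1 ∈ S := e1 ▸ mul_mem (mul_mem htS hj.1) (inv_mem htS)
  have c1 : j * j1 = j1 * j := hJ.comm_of_two hJ' hne hS.pi hj.2 j1J hj.1 j1S
  have c2 : j' * j1 = j1 * j' := hJ.comm_of_two hJ' hne hS.pi hj'.2 j1J hj'.1 j1S
  have j12 : j1 * j1 = z := by rw [e1, ← mem_C1_iff_conj.1 htz, ← j2]; group
  have j1z : j1 * z = z * j1 := hJ'.comm j1J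
  obtain ⟨i, ei⟩ : ∃ i, i = j * j1 := ⟨_, rfl⟩
  have i2 : i * i = 1 := by
    calc i * i = j * (j1 * j) * j1 := by rw [ei]; group
      _ = j * j * (j1 * j1) := by rw [← c1]; group
      _ = 1 := by rw [j2, j12, hJ.sq]
  have it : i ∈ C{t} := by
    rw [mem_C1_comm, mem_C1_iff_conj]
    calc t * i * t⁻¹ = (t * j * t⁻¹) * ((t * t) * j * (t * t)⁻¹) := by rw [ei, e1]; group
      _ = i := by rw [hK.sq, ← e1, ei, c1]; group
  have iz : i ∈ C{z} := ei ▸ mul_mem (hJ.le hj.2) (hJ'.le j1J)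
  have hi : j' * i * j'⁻¹ = i * z := by
    calc j' * i * j'⁻¹ = (j' * j * j'⁻¹) * (j' * j1) * j'⁻¹ := by rw [ei]; group
      _ = j * (z * j1) := by rw [jj, c2, hJ.inv_of_sq j2]; group
      _ = i * z := by rw [← j1z, ei, mul_assoc]
  obtain ⟨D, hD, hd⟩ := hJ.diag htz hK.sq hn
  have iD : i ∈ D := by
    have := hd j hj.2
    rw [← e1, ← ei] at this
    exact this (twoE_of_sq i2) it
  rw [inf_comm] at hD
  rcases pump_rel hzt (by rw [pow_two, hJ.sq]) hD hK.pc h with h1 | h1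
  · rcases hK.uniq i (h1 iD) i2 with e | e
    · rw [e] at hi; exact hJ.ne (by simpa using hi.symm)
    · exact hn (by rw [← e, ei]; exact mul_mem (norm_self J hj.2) (hJ.le_N hJ' j1J))
  obtain ⟨T, hT, hle⟩ := Sylow_superset p2 ((twoE_of_sq i2).isPi.sup (twoE_of_sq hJ.sq).isPi
    (norm_zpowers_of_cent (zpowers_le.2 (mem_C1_comm.1 iz))))
    (sup_le (zpowers_le.2 it) (zpowers_le.2 hzt))
  have iT : i ∈ T := hle (mem_sup_left (mem_zpowers i))
  obtain ⟨v, vT, vK, v2, zv⟩ := hK.exists_inverted' hT (hle (mem_sup_right (mem_zpowers z))) h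
    hJ.sq hA
  have iv : v * i * v⁻¹ = i := by
    have := Oc_eq_one (h1 (commutator_mem_commutator iD vK))
      (hT.pi.piElt (mul_mem (mul_mem (mul_mem iT vT) (inv_mem iT)) (inv_mem vT)))
    rw [commutatorElement_eq_one_iff_mul_comm] at this
    rw [← this]; group
  have vt : v * t * v⁻¹ = t := mem_C1_iff_conj.1 (hK.le vK)
  have vz : v * z * v⁻¹ = t * z := by
    have : z * v⁻¹ * z⁻¹ = v := by
      calc z * v⁻¹ * z⁻¹ = (z * v * z⁻¹)⁻¹ := by group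
        _ = v := by rw [zv, inv_inv]
    calc v * z * v⁻¹ = v * (z * v⁻¹ * z⁻¹) * z := by group
      _ = t * z := by rw [this, v2]
  have jt : j * t * j⁻¹ = i * z * t := by
    calc j * t * j⁻¹ = j * (t * j * t⁻¹)⁻¹ * t := by group
      _ = _ := by rw [← e1, hJ.inv_of_sq j12, ei]; group
  have ji : j * i * j⁻¹ = i := by rw [ei, mul_inv_eq_iff_eq_mul, mul_assoc j j1 j, ← c1]
  have j'z : j' * z * j'⁻¹ = z := mem_C1_iff_conj.1 (hJ.le hj'.2)
  have g1 : j' * v * j * t * (j' * v * j)⁻¹ = i := by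
    calc _ = j' * (v * (j * t * j⁻¹) * v⁻¹) * j'⁻¹ := by group
      _ = j' * ((v * i * v⁻¹) * (v * z * v⁻¹) * (v * t * v⁻¹)) * j'⁻¹ := by rw [jt]; group
      _ = j' * (i * (t * (z * t))) * j'⁻¹ := by rw [iv, vz, vt]; group
      _ = (j' * i * j'⁻¹) * (j' * z * j'⁻¹) := by rw [zt, ← mul_assoc t, hK.sq]; group
      _ = i := by rw [hi, j'z, mul_assoc, hJ.sq, mul_one]
  have g2 : j' * v * j * (i * t) * (j' * v * j)⁻¹ = z := by
    calc _ = j' * (v * ((j * i * j⁻¹) * (j * t * j⁻¹)) * v⁻¹) * j'⁻¹ := by group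
      _ = j' * (v * ((i * i) * z * t) * v⁻¹) * j'⁻¹ := by rw [jt, ji]; group
      _ = j' * ((v * z * v⁻¹) * (v * t * v⁻¹)) * j'⁻¹ := by rw [i2]; group
      _ = z := by rw [vz, vt, ← zt, mul_assoc z, hK.sq, mul_one, j'z]
  have hc : ⁅K, zpowers (i * t)⁆ ≤ Oc t := by
    refine comm_le_of_le_cmod (zpowers_le.2 (mul_mem ?_ ?_))
    · exact le_cmod (by rw [commC]; exact h1) ((hD.1.trans inf_le_left).trans (Oc_norm t)) iD
    · refine le_cmod (A := zpowers t) ?_ ((zpowers_le_C1 t).trans (Oc_norm t)) (mem_zpowers t)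
      rw [comm_eq_bot.2 (by rw [C_zpowers]; exact hK.le)]; exact bot_le
  have hc' := cj_mono (j' * v * j) hc
  have hK' := hK.cj (j' * v * j)
  rw [cj_comm, cj_zpowers, cj_Oc, g1, g2] at hc'
  rw [g1] at hK'
  have := (lemN hJ hK' (mem_C1_comm.1 iz) hc').2
    (commutator_mem_commutator hj'.2 (mem_zpowers i))
  rw [commutatorElement_def, hi, mem_C1_iff_conj.1 iz] at this
  exact hJ.notMem this

theorem final (hJ : Om J z) (hK : Om K t) (i2 : i * i = 1) (it : i ∈ C{t}) (iz : i ∈ C{z})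
    (iJ : i ∈ N[J]) (iK : i ∉ N[K]) (hx : x ∈ K) (e : x * (i * x * i⁻¹) = z * t)
    (zt : z ∈ C{t}) (hc : IsConj t i) : False := by
  obtain ⟨g, rfl⟩ := isConj_iff.1 hc
  have hL := hK.cj g
  obtain ⟨D, hD, hd⟩ := hK.diag it i2 iK
  have h1 := hd x hx
  rw [e] at h1
  have h2 := h1 ((twoE_of_sq hJ.sq).mul (twoE_of_sq hK.sq) (mem_C1.1 zt))
    (mul_mem (mem_C1_comm.1 iz) (mem_C1_comm.1 it))
  rw [inf_comm] at hD
  have h3 := ((bal hD (mem_C1_comm.1 it) hK.sq).trans hL.play_le) h2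
  have h4 := mul_mem (inv_mem (two hL hJ iJ)) h3
  rw [inv_mul_cancel_left] at h4
  exact iK (two hK hL h4)

theorem factor (hJ : Om J z) (hJ' : Om L z) (hne : J ≠ L) {a' b' : G} (ha : a ∈ J) (ha' : a' ∈ J)
    (hb : b ∈ L) (hb' : b' ∈ L) (a2 : a * a = z) (a2' : a' * a' = z) (e : a' * b' = a * b) :
    a⁻¹ * a' ∈ Oc z ∨ a⁻¹ * a' * z ∈ Oc z := by
  refine hJ.of_sq_mem (mul_mem (inv_mem ha) ha') ?_
  have h1 : a⁻¹ * a' = b * b'⁻¹ := by
    calc a⁻¹ * a' = a⁻¹ * (a' * b') * b'⁻¹ := by group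
      _ = _ := by rw [e]; group
  have h2 := inv_mem (hJ.comm_mem hJ' hne (inv_mem ha) (h1 ▸ mul_mem hb (inv_mem hb')))
  have h3 : a⁻¹ * a' * (a⁻¹ * a') = (a⁻¹ * (a⁻¹ * a') * a⁻¹⁻¹ * (a⁻¹ * a')⁻¹)⁻¹ := by
    calc a⁻¹ * a' * (a⁻¹ * a') = a⁻¹ * a' * a⁻¹ * a'⁻¹ * (a' * a') := by group
      _ = a⁻¹ * a' * a⁻¹ * a'⁻¹ * (a * a) := by rw [a2', a2]
      _ = _ := by simp only [mul_inv_rev, inv_inv, mul_assoc]
  rw [h3]; exact h2

theorem core (hJ : Om J z) (hK : Om K t) (hne : z ≠ t) (zK : z ∈ N[K]) (tJ : t ∈ N[J])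
    (hA : ¬ ⁅J, zpowers t⁆ ≤ Oc z) (hx : x ∈ K) (x2 : TwoE x) (x1 : x * x ≠ 1) (xz : x ∈ C{z})
    (xx : x * x ∈ N[J]) : x ∈ N[J] := by
  by_contra hn
  have hzt : z ∈ C{t} := hK.mem_C zK
  have htz : t ∈ C{z} := mem_C1_comm.1 hzt
  have zt : z * t = t * z := mem_C1.1 hzt
  have ht : t ∈ zpowers (x * x) := hK.exists_pow' (mul_mem hx hx) (x2.mul x2 rfl) x1
  obtain ⟨S, hS, xS⟩ := Sylow_superset p2 x2.isPi (zpowers_le.2 xz)
  replace xS := xS (mem_zpowers x)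
  have tS : t ∈ S := zpowers_le.2 (mul_mem xS xS) ht
  obtain ⟨a, aS, aJ, a2, ta⟩ := hJ.exists_inverted' hS tS tJ hK.sq hA
  have hJ' := hJ.cj' xz
  have hJJ : J ≠ cj x J := fun e => hn (mem_N_iff_cj.2 e.symm)
  obtain ⟨b, eb⟩ : ∃ b, b = x * a * x⁻¹ := ⟨_, rfl⟩
  have bJ : b ∈ cj x J := eb ▸ conj_mem_cj x aJ
  have bS : b ∈ S := eb ▸ mul_mem (mul_mem xS aS) (inv_mem xS)
  have b2 : b * b = z := by rw [eb, ← mem_C1_iff_conj.1 xz, ← a2]; group
  have xt : x * t = t * x := hK.comm hx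
  have tb : t * b * t⁻¹ = b⁻¹ := by
    calc t * b * t⁻¹ = (t * x) * a * (t * x)⁻¹ := by rw [eb]; group
      _ = x * (t * a * t⁻¹) * x⁻¹ := by rw [← xt]; group
      _ = b⁻¹ := by rw [ta, eb]; group
  have ab : a * b = b * a := hJ.comm_of_two hJ' hJJ hS.pi aJ bJ aS bS
  have az : a * z = z * a := hJ.comm aJ
  have bz : b * z = z * b := hJ'.comm bJ
  obtain ⟨e, ee⟩ : ∃ e, e = a * b := ⟨_, rfl⟩
  have e2 : e * e = 1 := by
    calc e * e = a * (b * a) * b := by rw [ee]; group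
      _ = a * a * (b * b) := by rw [← ab]; group
      _ = 1 := by rw [a2, b2, hJ.sq]
  have ei : e⁻¹ = e := inv_sq e2
  have et : e ∈ C{t} := by
    rw [mem_C1_comm, mem_C1_iff_conj]
    calc t * e * t⁻¹ = (t * a * t⁻¹) * (t * b * t⁻¹) := by rw [ee]; group
      _ = (b * a)⁻¹ := by rw [ta, tb]; group
      _ = e := by rw [← ab, ← ee, ei]
  have ez : e ∈ C{z} := ee ▸ mul_mem (hJ.le aJ) (hJ'.le bJ)
  have eS : e ∈ S := ee ▸ mul_mem aS bS
  have eJ : e ∈ N[J] := ee ▸ mul_mem (norm_self J aJ) (hJ.le_N hJ' bJ)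
  have nc : x * x * a * (x * x)⁻¹ ≠ a := fun h => by
    have h1 : t ∈ C{a} := zpowers_le.2 (mem_C1_iff_conj.2 h) ht
    rw [mem_C1_iff_conj, ta, hJ.inv_of_sq a2] at h1
    exact hJ.ne (by simpa using h1)
  obtain ⟨x', ex'⟩ : ∃ x', x' = e * x * e⁻¹ := ⟨_, rfl⟩
  have hc : x' * x⁻¹ = a⁻¹ * (x * x * a * (x * x)⁻¹) := by
    calc x' * x⁻¹ = e⁻¹ * (x * e * x⁻¹) := by rw [ex', ei]; group
      _ = (b * a)⁻¹ * (b * (x * x * a * (x * x)⁻¹)) := by rw [ee, ← ab, eb]; group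
      _ = _ := by group
  have cJ : x' * x⁻¹ ∈ J := hc ▸ mul_mem (inv_mem aJ) (conj_mem xx aJ)
  have cS : x' * x⁻¹ ∈ S := ex' ▸ mul_mem (mul_mem (mul_mem eS xS) (inv_mem eS)) (inv_mem xS)
  have eK : e ∉ N[K] := fun h => by
    have h1 : x' * x⁻¹ ∈ K := ex' ▸ mul_mem (conj_mem h hx) (inv_mem hx)
    have h2 := hJ.exists_pow' cJ (hS.pi.piElt cS) fun h => nc (by
      rw [hc] at h; exact (inv_mul_eq_one.1 h).symm)
    exact hne ((hK.uniq z (zpowers_le.2 h1 h2) hJ.sq).resolve_left hJ.ne)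
  have hK' := hK.cj' et
  have hKK : K ≠ cj e K := fun h => eK (mem_N_iff_cj.2 h.symm)
  obtain ⟨T, hT, hle⟩ := Sylow_superset p2 (hS.pi.of_le (inf_le_left : S ⊓ C{t} ≤ S)) inf_le_right
  have xT : x ∈ T := hle ⟨xS, hK.le hx⟩
  have eT : e ∈ T := hle ⟨eS, et⟩
  have cm : ∀ p ∈ T, p ∈ K → ∀ q ∈ T, q ∈ K → Commute p (e * q * e⁻¹) := fun p pT pK q qT qK =>
    hK.comm_of_two hK' hKK hT.pi pK (conj_mem_cj e qK) pT (mul_mem (mul_mem eT qT) (inv_mem eT))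
  obtain ⟨n, y2⟩ := hK.exists_pow hx x2 x1
  obtain ⟨v, ⟨vT, vK⟩, v2, vx⟩ := hK.exists_inv (hK.syl hT) (⟨xT, hx⟩ : x ∈ T ⊓ K)
  obtain ⟨y, ey⟩ : ∃ y, y = x ^ n := ⟨_, rfl⟩
  rw [← ey] at y2
  have yT : y ∈ T := ey ▸ pow_mem xT n
  have yK : y ∈ K := ey ▸ pow_mem hx n
  have vy : v * y * v⁻¹ = y⁻¹ := by rw [ey, ← conj_pow, vx, inv_pow]
  obtain ⟨y', ey'⟩ : ∃ y', y' = e * y * e⁻¹ := ⟨_, rfl⟩
  obtain ⟨v', ev'⟩ : ∃ v', v' = e * v * e⁻¹ := ⟨_, rfl⟩
  have yy : Commute y y' := ey' ▸ cm y yT yK y yT yK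
  have vy' : Commute v y' := ey' ▸ cm v vT vK y yT yK
  have yv' : Commute y v' := ev' ▸ cm y yT yK v vT vK
  have xv' : Commute x v' := ev' ▸ cm x xT hx v vT vK
  have vv' : Commute v v' := ev' ▸ cm v vT vK v vT vK
  have y2' : y' * y' = t := by rw [ey', ← mem_C1_iff_conj.1 et, ← y2]; group
  have v2' : v' * v' = t := by rw [ev', ← mem_C1_iff_conj.1 et, ← v2]; group
  have vy'' : v' * y' * v'⁻¹ = y'⁻¹ := by
    calc v' * y' * v'⁻¹ = e * (v * y * v⁻¹) * e⁻¹ := by rw [ev', ey']; group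
      _ = _ := by rw [vy, ey']; group
  have hz : y' * y⁻¹ = z := by
    have h1 : y' * y⁻¹ = (x' * x⁻¹) ^ n := by
      rw [(ex' ▸ cm x xT hx x xT hx : Commute x x').symm.inv_right.mul_pow, ey', ey, ex', conj_pow,
        inv_pow]
    refine (hJ.uniq _ (h1 ▸ pow_mem cJ n) ?_).resolve_left fun h => ?_
    · calc y' * y⁻¹ * (y' * y⁻¹) = y' * (y⁻¹ * y') * y⁻¹ := by group
        _ = y' * y' * (y * y)⁻¹ := by rw [yy.inv_left.eq]; group
        _ = 1 := by rw [y2, y2', mul_inv_cancel]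
    · rw [mul_inv_eq_one] at h
      rw [h] at vy'
      rw [vy'.eq, mul_inv_cancel_right, hK.inv_of_sq y2] at vy
      exact hK.ne (by simpa using vy)
  have hzt' : y * y' = z * t := by rw [yy.eq, ← hz, ← y2]; group
  obtain ⟨f, ef⟩ : ∃ f, f = v * v' := ⟨_, rfl⟩
  have f2 : f * f = 1 := by
    calc f * f = v * (v' * v) * v' := by rw [ef]; group
      _ = v * v * (v' * v') := by rw [← vv'.eq]; group
      _ = 1 := by rw [v2, v2', hK.sq]
  have fi : f⁻¹ = f := inv_sq f2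
  have fe : f * e * f⁻¹ = e := by
    rw [← mem_C1_iff_conj, mem_C1_comm, mem_C1_iff_conj]
    calc e * f * e⁻¹ = (e * v * e⁻¹) * ((e * e) * v * (e * e)⁻¹) := by rw [ef, ev']; group
      _ = f := by rw [e2, ← ev', ef, vv'.eq]; group
  have ft : f ∈ C{t} := ef ▸ mul_mem (hK.le vK) (hK'.le (ev' ▸ conj_mem_cj e vK))
  have fz : f ∈ C{z} := by
    rw [mem_C1_iff_conj]
    calc f * z * f⁻¹ = v * ((v' * y' * v'⁻¹) * (v' * y⁻¹) * v'⁻¹) * v⁻¹ := by rw [← hz, ef]; group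
      _ = (v * y'⁻¹) * v⁻¹ * (v * y * v⁻¹)⁻¹ := by rw [vy'', ← yv'.inv_left.eq]; group
      _ = y'⁻¹ * y := by rw [vy'.inv_right.eq, vy]; group
      _ = z := by rw [← yy.inv_right.eq, ← hJ.inv, ← hz]; group
  have fx : f * x * f⁻¹ = x⁻¹ := by
    calc f * x * f⁻¹ = v * (v' * x) * v'⁻¹ * v⁻¹ := by rw [ef]; group
      _ = _ := by rw [← xv'.eq, ← vx]; group
  have fa2 : f * a * f⁻¹ * (f * a * f⁻¹) = z := by rw [← mem_C1_iff_conj.1 fz, ← a2]; group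
  have fb2 : f * b * f⁻¹ * (f * b * f⁻¹) = z := by rw [← mem_C1_iff_conj.1 fz, ← b2]; group
  have fab : f * a * f⁻¹ * (f * b * f⁻¹) = a * b := by rw [← ee, ← fe, ee]; group
  have fba : f * b * f⁻¹ * (f * a * f⁻¹) = a * b := by rw [← ee, ← fe, ee, ab]; group
  have fJ' : cj f (cj x J) = cj x (cj (x * x)⁻¹ (cj f J)) := by
    rw [← cj_mul, ← cj_mul, ← cj_mul]
    congr 1
    calc f * x = (f * x * f⁻¹) * f := by group
      _ = _ := by rw [fx]; group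
  have hF := hJ.cj' fz
  by_cases h1 : cj f J = J
  · rw [h1, cj_of_mem_N (inv_mem xx)] at fJ'
    have e1 : f * b * f⁻¹ = x⁻¹ * (f * a * f⁻¹) * x := by
      calc f * b * f⁻¹ = (f * x * f⁻¹) * (f * a * f⁻¹) * (f * x * f⁻¹)⁻¹ := by rw [eb]; group
        _ = _ := by rw [fx]; group
    have key : ∀ o ∈ Oc z, ∀ w, (∀ g ∈ C{z}, g * w = w * g) → w * w = 1 →
        f * a * f⁻¹ = a * o * w → False := by
      intro o ho w wx w2 h
      have h2 : x * x * a * (x * x)⁻¹ * a⁻¹ = (x * o * x⁻¹) * (a * o * a⁻¹) := by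
        rw [e1, h, eb] at fab
        have h3 : x * a * x⁻¹ = o * x⁻¹ * a * o * x := by
          calc x * a * x⁻¹ = a⁻¹ * (a * (x * a * x⁻¹)) := by group
            _ = o * w * (x⁻¹ * a * o * w) * x := by rw [← fab]; group
            _ = o * (w * w) * x⁻¹ * a * o * x := by
              rw [wx _ (mul_mem (mul_mem (inv_mem xz) (hJ.le aJ)) (opp_le 2 _ ho))]; group
            _ = _ := by rw [w2, mul_one]
        calc x * x * a * (x * x)⁻¹ * a⁻¹ = x * (x * a * x⁻¹) * x⁻¹ * a⁻¹ := by group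
          _ = _ := by rw [h3]; group
      have h3 := Oc_eq_one (h2 ▸ mul_mem (Oc_conj xz ho) (Oc_conj (hJ.le aJ) ho))
        (hS.pi.piElt (mul_mem (mul_mem (mul_mem (mul_mem xS xS) aS) (inv_mem (mul_mem xS xS)))
          (inv_mem aS)))
      exact nc (mul_inv_eq_one.1 h3)
    rcases factor hJ hJ' hJJ aJ (h1 ▸ conj_mem_cj f aJ) bJ (fJ' ▸ conj_mem_cj f bJ) a2 fa2 fab
      with h | h
    · exact key _ h 1 (by simp) (by simp) (by group)
    · exact key _ h z (fun g hg => mem_C1.1 hg) hJ.sq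
        (by rw [mul_assoc a, mul_assoc _ z, hJ.sq]; group)
  by_cases h2 : cj f J = cj x J
  swap
  · obtain ⟨a', ⟨aS', aJ'⟩, -, aa⟩ := hJ.exists_inv (hJ.syl hS) (⟨aS, aJ⟩ : a ∈ S ⊓ J)
    have k1 := hF.comm_mem hJ h1 (conj_mem_cj f aJ') aJ
    have k2 := hF.comm_mem hJ' h2 (conj_mem_cj f aJ') bJ
    have a'b : a' * b = b * a' := hJ.comm_of_two hJ' hJJ hS.pi aJ' bJ aS' bS
    have k3 := mul_mem k1 (Oc_conj (hJ.le aJ) k2)
    refine hJ.notMem (w := z) ?_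
    convert k3 using 1
    symm
    calc _ = f * a' * f⁻¹ * (a * b) * (f * a' * f⁻¹)⁻¹ * (a * b)⁻¹ := by group
      _ = f * (a' * e * a'⁻¹ * e⁻¹) * f⁻¹ := by rw [← ee, ← fe, fe]; nth_rewrite 1 [← fe]; nth_rewrite 2 [← fe]; group
      _ = f * ((a' * a * a'⁻¹) * (a' * b) * a'⁻¹ * b⁻¹ * a⁻¹) * f⁻¹ := by rw [ee]; group
      _ = f * (a * a)⁻¹ * f⁻¹ := by rw [aa, a'b]; group
      _ = z := by rw [a2, hJ.inv, mem_C1_iff_conj.1 fz]
  have h3 : cj f (cj x J) = J := by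
    rw [fJ', h2, ← cj_mul, ← cj_mul, show x * (x * x)⁻¹ * x = 1 by group, cj_one]
  -- `f` is conjugate to `t`
  have c1 : IsConj t f := by
    obtain ⟨k, kK, hk⟩ := hK.conj_four vK v2 yK y2
    obtain ⟨k', ek'⟩ : ∃ k', k' = e * k * e⁻¹ := ⟨_, rfl⟩
    have kK' : k' ∈ cj e K := ek' ▸ conj_mem_cj e kK
    have hk' : k' * v' * k'⁻¹ = y' := by rw [ek', ev', ey', ← hk]; group
    have o1 := hK.comm_mem hK' hKK kK (ev' ▸ conj_mem_cj e vK : v' ∈ cj e K)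
    have o2 := hK'.comm_mem hK hKK.symm kK' yK
    have zt2 : z * t * (z * t) = 1 := by
      rw [mul_assoc, ← mul_assoc t, ← zt, mul_assoc, hK.sq, mul_one, hJ.sq]
    have d1 : IsConj (k' * k * f * (k' * k)⁻¹) (z * t) := by
      refine Oc_isConj (z := t) (H7.SJ.conj_sq f2 _) zt2 ?_
      have := mul_mem o2 (Oc_conj (mul_mem (hK.le yK) (hK'.le kK')) o1)
      convert this using 1
      calc _ = k' * (k * v * k⁻¹) * (k * v' * k⁻¹) * k'⁻¹ * (z * t) := by rw [ef]; group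
        _ = _ := by rw [hk, ← inv_sq zt2, ← hzt', ← hk']; group
    have d2 : IsConj t (z * t) := isConj_iff.2 ⟨a, by
      calc a * t * a⁻¹ = a * (t * a * t⁻¹)⁻¹ * t := by group
        _ = z * t := by rw [ta, inv_inv, a2]⟩
    exact d2.trans (d1.symm.trans (isConj_iff.2 ⟨k' * k, rfl⟩ : IsConj f _).symm)
  have ve : v * e * v⁻¹ = f * t * e := by
    calc v * e * v⁻¹ = v * (e * v * e⁻¹)⁻¹ * e := by group
      _ = _ := by rw [← ev', hK.inv_of_sq v2', ef]; group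
  have fe' : f * e = e * f := by rw [← fe, fe]; exact mem_C1.1 (mem_C1_iff_conj.2 fe)
  have cfe : Commute f e := fe'
  have cfz : Commute f z := mem_C1.1 fz
  have cft : Commute f t := mem_C1.1 ft
  have cez : Commute e z := mem_C1.1 ez
  have cet : Commute e t := mem_C1.1 et
  have fe2 : f * e * (f * e) = 1 := by rw [← pow_two, cfe.mul_pow, pow_two, pow_two, f2, e2, one_mul]
  have fa : a⁻¹ * f * a = f * (b⁻¹ * (a⁻¹ * (f * b * f⁻¹))) * a := by
    have : f * a * f⁻¹ = (f * b * f⁻¹)⁻¹ * (a * b) := by rw [← fba]; group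
    have h4 : f⁻¹ * a⁻¹ * f = (f * a * f⁻¹)⁻¹ := by
      rw [mul_inv_rev, mul_inv_rev, inv_inv, fi, mul_assoc]
    calc a⁻¹ * f * a = f * (f⁻¹ * a⁻¹ * f) * a := by group
      _ = _ := by rw [h4, this]; group
  have af2 : a⁻¹ * f * a * (a⁻¹ * f * a) = 1 := by
    calc _ = a⁻¹ * (f * f) * a := by group
      _ = 1 := by rw [f2]; group
  have caf : IsConj f (a⁻¹ * f * a) := isConj_iff.2 ⟨a⁻¹, by group⟩
  rcases factor hJ hJ' hJJ aJ (h3 ▸ conj_mem_cj f bJ) bJ (h2 ▸ conj_mem_cj f aJ) a2 fb2 fba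
    with h | h
  · have ba : b⁻¹ * a = e * z := by rw [hJ.inv_of_sq b2, ee, ab, mul_assoc, ← az, mul_assoc]
    have fez2 : f * e * z * (f * e * z) = 1 := by
      rw [← pow_two, (cfz.mul_left cez).mul_pow, pow_two, pow_two, fe2, hJ.sq, one_mul]
    have d1 : IsConj (a⁻¹ * f * a) (f * e * z) := by
      refine Oc_isConj (z := z) af2 fez2 ?_
      have := Oc_conj (mul_mem (mul_mem fz ez) (self_mem_C1 z)) (Oc_conj (inv_mem (hJ.le aJ)) h)
      rw [inv_sq fez2] at this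
      convert this using 2
      rw [fa, mul_assoc f e, ← ba]; group
    have d2 : IsConj e (f * e * z) := isConj_iff.2 ⟨v * y, by
      have ye : y * e * y⁻¹ = z * e := by
        calc y * e * y⁻¹ = y * (e * y * e⁻¹)⁻¹ * e := by group
          _ = _ := by rw [← ey', yy.inv_right.eq, ← hJ.inv, ← hz, mul_inv_rev, inv_inv, yy.inv_right.eq]
      have vz : v * z * v⁻¹ = z * t := by
        calc v * z * v⁻¹ = (v * y') * v⁻¹ * (v * y * v⁻¹)⁻¹ := by rw [← hz]; group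
          _ = _ := by rw [vy'.eq, vy, ← hzt', yy.eq]; group
      calc v * y * e * (v * y)⁻¹ = v * (y * e * y⁻¹) * v⁻¹ := by group
        _ = (v * z * v⁻¹) * (v * e * v⁻¹) := by rw [ye]; group
        _ = z * (t * (f * t)) * e := by rw [vz, ve]; group
        _ = (z * f) * e := by rw [cft.eq, ← mul_assoc t, hK.sq, one_mul]
        _ = _ := by rw [← cfz.eq, mul_assoc, ← cez.eq, mul_assoc]⟩
    exact final hJ hK e2 et ez eJ eK yK (by rw [← ey', hzt']) hzt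
      (c1.trans (caf.trans (d1.trans d2.symm)))
  · have d1 : IsConj (a⁻¹ * f * a) (f * e) := by
      refine Oc_isConj (z := z) af2 fe2 ?_
      have := Oc_conj (mul_mem fz ez) (Oc_conj (inv_mem (hJ.le aJ)) h)
      rw [inv_sq fe2] at this
      convert this using 2
      have h5 := mem_C1.1 (opp_le 2 _ h)
      have h6 : b⁻¹ * z = b := by rw [hJ.inv_of_sq b2, mul_assoc, hJ.sq, mul_one]
      calc a⁻¹ * f * a = f * (b⁻¹ * (a⁻¹ * (f * b * f⁻¹) * z * z)) * a := by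
            rw [fa, mul_assoc _ z z, hJ.sq, mul_one]
        _ = f * (b⁻¹ * z) * (a⁻¹ * (f * b * f⁻¹) * z) * a := by rw [h5]; group
        _ = _ := by rw [h6, ee, ab]; group
    have d2 : IsConj (e * t) (f * e) := isConj_iff.2 ⟨v, by
      calc v * (e * t) * v⁻¹ = (v * e * v⁻¹) * (v * t * v⁻¹) := by group
        _ = f * (t * (e * t)) := by rw [ve, mem_C1_iff_conj.1 (hK.le vK)]; group
        _ = _ := by rw [cet.eq, ← mul_assoc t, hK.sq, one_mul]⟩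
    refine final hJ hK (i := e * t) ?_ (mul_mem et (self_mem_C1 t)) (mul_mem ez htz) (mul_mem eJ tJ)
      (fun h => eK (by simpa using mul_mem h (inv_mem (norm_self K hK.mem)))) yK ?_ hzt
      (c1.trans (caf.trans (d1.trans d2.symm)))
    · rw [← pow_two, cet.mul_pow, pow_two, pow_two, e2, hK.sq, one_mul]
    · rw [← hzt', ey']
      calc y * (e * t * y * (e * t)⁻¹) = y * (e * (t * y) * t⁻¹ * e⁻¹) := by group
        _ = _ := by rw [← hK.comm yK]; group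

/-- statement (i) -/
theorem one (hJ : Om J z) (hK : Om K t) (hy : y ∈ K) (y2 : TwoE y) (y1 : y * y ≠ 1)
    (yz : y ∈ C{z}) : y ∈ N[J] := by
  by_cases hne : z = t
  · subst hne; exact hJ.le_N hK hy
  have htz : t ∈ C{z} := zpowers_le.2 yz (hK.exists_pow' hy y2 fun e => y1 (by simp [e]))
  have hzt := mem_C1_comm.1 htz
  have zK : z ∈ N[K] := by
    by_contra hn
    have hK' := hK.cj' hzt
    obtain ⟨T, hT, yT⟩ := Sylow_superset p2 y2.isPi (zpowers_le.2 (hK.le hy))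
    replace yT := yT (mem_zpowers y)
    obtain ⟨n, h2⟩ := hK.exists_pow hy y2 y1
    obtain ⟨v, ⟨vT, vK⟩, -, vy⟩ := hK.exists_inv (hK.syl hT)
      (⟨pow_mem yT n, pow_mem hy n⟩ : y ^ n ∈ T ⊓ K)
    have h1 : y ∈ cj z K := by
      have := conj_mem_cj z hy
      rwa [mem_C1_iff_conj.1 (mem_C1_comm.1 yz)] at this
    rw [hK.comm_of_two hK' (fun e => hn (mem_N_iff_cj.2 e.symm)) hT.pi vK (pow_mem h1 n) vT
      (pow_mem yT n), mul_inv_cancel_right, hK.inv_of_sq h2] at vy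
    exact hK.ne (by simpa using vy)
  have tJ := two hJ hK zK
  by_cases hA : ⁅J, zpowers t⁆ ≤ Oc z
  · exact (lemN hJ hK hzt (lemN hK hJ htz hA).2).1 y hy y2 yz
  have key : ∀ n, ∀ y ∈ K, orderOf y = n → TwoE y → y ∈ C{z} → y ∈ N[J] := by
    intro n
    induction n using Nat.strong_induction_on with
    | _ n ih =>
      intro y hy hn y2 yz
      by_cases y1 : y * y = 1
      · rcases hK.uniq y hy y1 with rfl | rfl
        · exact one_mem _
        · exact tJ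
      refine core hJ hK hne zK tJ hA hy y2 y1 yz
        (ih _ ?_ _ (mul_mem hy hy) rfl (y2.mul y2 rfl) (mul_mem yz yz))
      have hd : 2 ∣ orderOf y := y2.dvd_orderOf fun e => y1 (by simp [e])
      rw [← pow_two, orderOf_pow_of_dvd two_ne_zero hd, ← hn]
      exact Nat.div_lt_self (orderOf_pos y) one_lt_two
  exact key _ y hy rfl y2 yz

end H1.CI
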