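import Mathlib

/-!
# Linear algebra for Theorem B of Hall and Higman
-/

set_option autoImplicit false

namespace H1.HH

open Finset Module

section Ring

variable {R : Type*} [Ring R] {p k : ℕ}

theorem choose_pred (hp : p.Prime) (h0 : (p : R) = 0) :
    ∀ i < p ^ k, ((p ^ k - 1).choose i : R) = (-1) ^ i := by
  intro i
  induction i with
  | zero => simp
  | succ i ih =>
    intro hi
    obtain ⟨c, hc⟩ := hp.dvd_choose_pow (k := i + 1) (n := k) i.succ_ne_zero hi.ne
    have h1 : (p ^ k).choose (i + 1) = (p ^ k - 1).choose i + (p ^ k - 1).choose (i + 1) := by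
      rw [← Nat.choose_succ_succ', Nat.sub_add_cancel (by omega)]
    have h2 : ((p ^ k - 1).choose i : R) + (p ^ k - 1).choose (i + 1) = 0 := by
      rw [← Nat.cast_add, ← h1, hc, Nat.cast_mul, h0, zero_mul]
    rw [ih (by omega)] at h2
    rw [pow_succ, mul_neg_one]
    exact eq_neg_of_add_eq_zero_right h2

theorem geom_char (hp : p.Prime) (h0 : (p : R) = 0) {A B : R} (h : Commute A B) :
    ∑ i ∈ range (p ^ k), A ^ i * B ^ (p ^ k - 1 - i) = (A - B) ^ (p ^ k - 1) := by
  have hP : 0 < p ^ k := pow_pos hp.pos k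
  have h1 : (-1 : R) ^ (p ^ k - 1) = 1 := by
    rcases hp.eq_two_or_odd' with rfl | h2
    · rw [show (-1 : R) = 1 from neg_eq_of_add_eq_zero_left (by rw [one_add_one_eq_two]; exact h0),
        one_pow]
    · exact (Nat.Odd.sub_odd h2.pow odd_one).neg_one_pow
  rw [sub_eq_add_neg, h.neg_right.add_pow, Nat.sub_add_cancel hP]
  refine Finset.sum_congr rfl fun i hi => ?_
  have hi := mem_range.1 hi
  rw [choose_pred hp h0 i hi, neg_pow B, mul_assoc, mul_assoc,
    ← ((Commute.neg_one_left B).pow_pow i _).eq, ← mul_assoc ((-1) ^ _), ← pow_add,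
    Nat.sub_add_cancel (by omega), h1, one_mul]

/-- the "norm" of `ψ` -/
def TT (N : R) (s : ℕ) (ψ : R) : R := ∑ i ∈ range s, N ^ i * ψ * N ^ (s - 1 - i)

theorem TT_comm {N : R} {s : ℕ} (h : N ^ s = 0) (ψ : R) : N * TT N s ψ = TT N s ψ * N := by
  have := Finset.sum_range_sub (fun i => N ^ i * ψ * N ^ (s - i)) s
  rw [h, zero_mul, zero_mul, Nat.sub_zero, h, mul_zero, sub_zero] at this
  rw [← sub_eq_zero, ← this, TT, Finset.mul_sum, Finset.sum_mul, ← Finset.sum_sub_distrib]
  refine Finset.sum_congr rfl fun i hi => ?_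
  have hi := mem_range.1 hi
  rw [mul_assoc _ _ N, ← pow_succ, ← mul_assoc, ← mul_assoc, ← pow_succ',
    show s - 1 - i + 1 = s - i by omega, show s - 1 - i = s - (i + 1) by omega]

theorem TT_add {N : R} {s : ℕ} (h : N ^ s = 0) (k : ℕ) (ψ : R) :
    TT N (k + s) ψ = N ^ k * TT N s ψ := by
  rw [TT, TT, Finset.sum_range_add, Finset.sum_eq_zero, zero_add, Finset.mul_sum]
  · refine Finset.sum_congr rfl fun i _ => ?_
    rw [pow_add, show k + s - 1 - (k + i) = s - 1 - i by omega, mul_assoc, mul_assoc, mul_assoc]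
  · intro i hi
    have hi := mem_range.1 hi
    rw [show k + s - 1 - i = s + (k - 1 - i) by omega, pow_add, h, zero_mul, mul_zero]

theorem TT_sub_one {F : Type*} [Field F] [Algebra F R] [CharP F p] (hp : p.Prime) (a ψ : R) :
    TT (a - 1) (p ^ k) ψ = TT a (p ^ k) ψ := by
  have h0 : ((p : ℕ) : End F R) = 0 := by
    rw [← map_natCast (algebraMap F _), CharP.cast_eq_zero, map_zero]
  have key : ∀ b : R, TT b (p ^ k) ψ =
      ((LinearMap.mulLeft F b - LinearMap.mulRight F b : End F R) ^ (p ^ k - 1)) ψ := fun b => by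
    rw [← geom_char hp h0 (LinearMap.commute_mulLeft_right b b), LinearMap.sum_apply, TT]
    refine Finset.sum_congr rfl fun i _ => ?_
    simp [mul_assoc]
  rw [key, key]
  congr 2
  ext x
  simp [sub_mul, mul_sub]

end Ring

variable {F U : Type*} [Field F] [AddCommGroup U] [Module F U] [FiniteDimensional F U]
  [Nontrivial U]

theorem nil_core {N : End F U} {s : ℕ} (hs : N ^ (s + 1) = 0) (hN : N ≠ 0)
    (h : ∀ φ, N * φ = φ * N → ∃ (c : F) (ψ : End F U), φ = algebraMap F _ c + TT N (s + 2) ψ) :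
    N ^ s ≠ 0 ∧ finrank F U = s + 1 := by
  have hnil : IsNilpotent N := ⟨_, hs⟩
  have h1 : N ^ s ≠ 0 := by
    intro h0
    obtain ⟨c, ψ, e⟩ := h N rfl
    rw [add_comm s, TT_add h0] at e
    have hc : Commute N (TT N s ψ) := TT_comm h0 ψ
    have e1 : algebraMap F _ c = N * (1 - N * TT N s ψ) := by
      rw [mul_sub, mul_one, ← mul_assoc, ← sq]
      exact eq_sub_of_add_eq e.symm
    have e2 : IsNilpotent (algebraMap F (End F U) c) := by
      rw [e1]
      exact Commute.isNilpotent_mul_right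
        ((Commute.one_right N).sub_right ((Commute.refl N).mul_right hc)) hnil
    have e3 : c = 0 := by
      obtain ⟨m, hm⟩ := e2
      rw [← map_pow, map_eq_zero_iff _ (algebraMap F (End F U)).injective] at hm
      exact eq_zero_of_pow_eq_zero hm
    rw [e3, map_zero] at e1
    exact hN ((hc.isNilpotent_mul_right hnil).isUnit_one_sub.mul_left_eq_zero.1 e1.symm)
  refine ⟨h1, le_antisymm ?_ ?_⟩
  · obtain ⟨u, hu⟩ : ∃ u, (N ^ s) u ≠ 0 := by
      by_contra! h2
      exact h1 (LinearMap.ext h2)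
    let W : Submodule F U := Submodule.span F (Set.range fun i : Fin (s + 1) => (N ^ (i : ℕ)) u)
    have h2 : ∀ k ≤ s + 1, ∀ φ, N * φ = φ * N → (N ^ (s + 1 - k) * φ) u ∈ W := by
      intro k
      induction k with
      | zero => intro _ φ _; rw [Nat.sub_zero, hs, zero_mul]; exact W.zero_mem
      | succ k ih =>
        intro hk φ hφ
        obtain ⟨c, ψ, e⟩ := h φ hφ
        rw [show s + 2 = 1 + (s + 1) by omega, TT_add hs, pow_one] at e
        rw [e, mul_add, ← mul_assoc, ← pow_succ, show s + 1 - (k + 1) + 1 = s + 1 - k by omega,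
          LinearMap.add_apply]
        refine W.add_mem ?_ (ih (by omega) _ (TT_comm hs ψ))
        rw [Module.End.mul_apply, Module.algebraMap_end_apply, map_smul]
        exact W.smul_mem c (Submodule.subset_span ⟨⟨s + 1 - (k + 1), by omega⟩, rfl⟩)
    obtain ⟨l, hl⟩ : ∃ l : Dual F U, l ((N ^ s) u) ≠ 0 := by
      by_contra! h3
      exact hu ((Module.forall_dual_apply_eq_zero_iff F _).1 h3)
    let E : End F U := ∑ i ∈ range (s + 1), l ((N ^ (s - i)) u) • N ^ i
    have h3 : IsUnit E := by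
      simp only [E]
      rw [Finset.sum_range_succ', pow_zero, Nat.sub_zero]
      refine IsNilpotent.isUnit_add_right_of_commute ?_ (isUnit_one.smul (Units.mk0 _ hl))
        ((Commute.one_right _).smul_right _)
      exact Commute.isNilpotent_sum (fun i _ => (hnil.pow_succ i).smul _)
        fun i j _ _ => (((Commute.refl N).pow_pow _ _).smul_left _).smul_right _
    have h4 : W = ⊤ := by
      refine eq_top_iff.2 fun v _ => ?_
      obtain ⟨w, rfl⟩ := ((Module.End.isUnit_iff E).1 h3).2 v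
      have := h2 (s + 1) le_rfl _ (TT_comm hs (l.smulRight w))
      rw [Nat.sub_self, pow_zero, one_mul] at this
      convert this using 1
      simp [E, TT, LinearMap.sum_apply]
    rw [← finrank_top, ← h4]
    exact (finrank_range_le_card _).trans_eq (Fintype.card_fin _)
  · by_contra! h2
    have h3 := Module.End.ker_pow_le_ker_pow_finrank N (s + 1)
    rw [hs, LinearMap.ker_zero, top_le_iff, LinearMap.ker_eq_top] at h3
    exact h1 (pow_eq_zero_of_le (by omega) h3)

theorem free_sum {X M : Type*} [AddCommMonoid M] (σ : Equiv.Perm X) {P : ℕ} (hP : 0 < P)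
    (hσ : σ ^ P = 1) (f : X → M) (W : AddSubmonoid M)
    (hW : ∀ x, ∑ i ∈ range P, f ((σ ^ i) x) ∈ W) (S : Finset X) (h1 : ∀ x ∈ S, σ x ∈ S)
    (h2 : ∀ x ∈ S, ∀ i, 0 < i → i < P → (σ ^ i) x ≠ x) : ∑ x ∈ S, f x ∈ W := by
  classical
  induction S using Finset.strongInduction with | H S ih
  rcases S.eq_empty_or_nonempty with rfl | ⟨x, hx⟩
  · exact W.zero_mem
  have h3 : ∀ i, (σ ^ i) x ∈ S := fun i => by
    induction i with
    | zero => exact hx
    | succ i ih => rw [pow_succ', Equiv.Perm.mul_apply]; exact h1 _ ih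
  have h4 : ∀ i j, i < j → j < P → (σ ^ i) x ≠ (σ ^ j) x := fun i j hij hj e => by
    refine h2 x hx (j - i) (by omega) (by omega) ((σ ^ i).injective ?_)
    rw [← Equiv.Perm.mul_apply, ← pow_add, Nat.add_sub_cancel' hij.le, e]
  have h5 : Set.InjOn (fun i => (σ ^ i) x) (range P : Set ℕ) := fun i hi j hj e => by
    rcases lt_trichotomy i j with h | h | h
    · exact absurd e (h4 i j h (mem_range.1 hj))
    · exact h
    · exact absurd e.symm (h4 j i h (mem_range.1 hi))
  have h6 : (range P).image (fun i => (σ ^ i) x) ⊆ S := fun y hy => by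
    obtain ⟨i, -, rfl⟩ := mem_image.1 hy
    exact h3 i
  rw [← Finset.sum_sdiff h6, Finset.sum_image h5]
  refine W.add_mem (ih _ (sdiff_ssubset h6 ⟨x, mem_image.2 ⟨0, mem_range.2 hP, rfl⟩⟩) ?_
    fun y hy => h2 y (mem_sdiff.1 hy).1) (hW x)
  intro y hy
  refine mem_sdiff.2 ⟨h1 y (mem_sdiff.1 hy).1, fun h => (mem_sdiff.1 hy).2 ?_⟩
  obtain ⟨i, hi, e⟩ := mem_image.1 h
  refine mem_image.2 ⟨(i + (P - 1)) % P, mem_range.2 (Nat.mod_lt _ hP), σ.injective ?_⟩
  rw [← pow_eq_pow_mod _ hσ, ← Equiv.Perm.mul_apply, ← pow_succ',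
    show i + (P - 1) + 1 = i + P by omega, pow_add, hσ, mul_one, e]

end H1.HH
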