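import Mathlib
import Cfsg.Agent.H1.HH1

/-!
# Irreducible modules of groups of class two and their unipotent normalisers
-/

set_option autoImplicit false
set_option linter.unusedSectionVars false

namespace H1.HH

open Finset Module

variable {F U Q : Type*} [Field F] [IsAlgClosed F] [AddCommGroup U] [Module F U]
  [FiniteDimensional F U] [Nontrivial U] [Group Q] [Fintype Q]

/-- an irreducible representation in which commutators are scalars -/
structure Irr (τ : Q →* End F U) : Prop where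
  irr : ∀ W : Submodule F U, (∀ g, ∀ w ∈ W, τ g w ∈ W) → W = ⊥ ∨ W = ⊤
  comm : ∀ g h, ∃ c : F, τ (h * g * h⁻¹) = c • τ g
  card : (Nat.card Q : F) ≠ 0

theorem schur {τ : Q →* End F U}
    (irr : ∀ W : Submodule F U, (∀ g, ∀ w ∈ W, τ g w ∈ W) → W = ⊥ ∨ W = ⊤) (φ : End F U)
    (h : ∀ g, τ g * φ = φ * τ g) : ∃ c : F, φ = algebraMap F _ c := by
  obtain ⟨c, hc⟩ := Module.End.exists_eigenvalue φ
  refine ⟨c, LinearMap.ext fun v => ?_⟩
  rcases irr (φ.eigenspace c) (fun g w hw => by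
    rw [Module.End.mem_eigenspace_iff] at hw ⊢
    rw [← Module.End.mul_apply, ← h, Module.End.mul_apply, hw, map_smul]) with e | e
  · exact absurd e hc
  · exact Module.End.mem_eigenspace_iff.1 (e ▸ Submodule.mem_top)

/-- the elements acting as scalars -/
def sc (τ : Q →* End F U) : Subgroup Q where
  carrier := {g | ∃ c : F, τ g = algebraMap F _ c}
  one_mem' := ⟨1, by simp⟩
  mul_mem' := by
    rintro a b ⟨c, hc⟩ ⟨d, hd⟩
    exact ⟨c * d, by rw [map_mul, map_mul, hc, hd]⟩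
  inv_mem' := by
    rintro a ⟨c, hc⟩
    have h1 : τ a⁻¹ * τ a = 1 := by rw [← map_mul, inv_mul_cancel, map_one]
    have h0 : c ≠ 0 := by
      rintro rfl
      rw [hc, map_zero, mul_zero] at h1
      exact zero_ne_one h1
    refine ⟨c⁻¹, ?_⟩
    rw [← one_mul (algebraMap F _ c⁻¹), ← h1, hc, mul_assoc, ← map_mul, mul_inv_cancel₀ h0, map_one,
      mul_one]

variable {τ : Q →* End F U}

theorem mem_sc {g : Q} : g ∈ sc τ ↔ ∃ c : F, τ g = algebraMap F _ c := Iff.rfl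

theorem sc_conj {g : Q} (hg : g ∈ sc τ) (h : Q) : τ (h * g * h⁻¹) = τ g := by
  obtain ⟨c, hc⟩ := hg
  rw [map_mul, map_mul, hc, ← Algebra.commutes, mul_assoc, ← map_mul, mul_inv_cancel, map_one,
    mul_one]

theorem SS_mem {g : Q} (hg : g ∈ sc τ) : ∑ h, τ (h * g * h⁻¹) = (Nat.card Q : F) • τ g := by
  simp [sc_conj hg, Nat.cast_smul_eq_nsmul]

theorem Irr.SS_not (hτ : Irr τ) {g : Q} (hg : g ∉ sc τ) : ∑ h, τ (h * g * h⁻¹) = 0 := by
  choose c hc using hτ.comm g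
  have h1 : ∑ h, τ (h * g * h⁻¹) = (∑ h, c h) • τ g := by simp only [hc, Finset.sum_smul]
  obtain ⟨d, hd⟩ := schur hτ.irr (∑ h, τ (h * g * h⁻¹)) fun k => by
    rw [Finset.mul_sum, Finset.sum_mul, ← Equiv.sum_comp (Equiv.mulLeft k)
      fun h => τ (h * g * h⁻¹) * τ k]
    refine Finset.sum_congr rfl fun h _ => ?_
    rw [← map_mul, ← map_mul]
    congr 1
    simp [mul_assoc]
  by_contra h0
  have h2 : ∑ h, c h ≠ 0 := fun e => h0 (by rw [h1, e, zero_smul])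
  refine hg ⟨(∑ h, c h)⁻¹ * d, ?_⟩
  rw [map_mul, ← hd, h1, ← Algebra.smul_def, smul_smul, inv_mul_cancel₀ h2, one_smul]

variable (τ) in
/-- twisted averaging -/
def Phi (σ : Q ≃* Q) (ψ : End F U) : End F U := ∑ h, τ (σ h) * ψ * τ h⁻¹

theorem Phi_spec (σ : Q ≃* Q) (ψ : End F U) (g : Q) : τ (σ g) * Phi τ σ ψ = Phi τ σ ψ * τ g := by
  rw [Phi, Finset.mul_sum, Finset.sum_mul, ← Equiv.sum_comp (Equiv.mulLeft g)
    fun h => τ (σ h) * ψ * τ h⁻¹ * τ g]
  refine Finset.sum_congr rfl fun h _ => ?_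
  rw [mul_assoc _ _ (τ g), ← map_mul, ← mul_assoc, ← mul_assoc, ← map_mul, ← map_mul]
  simp

theorem Irr.Phi_sum (hτ : Irr τ) (σ : Q ≃* Q) (h1 : ∀ g, σ g ∈ sc τ ↔ g ∈ sc τ)
    (h2 : ∀ g ∈ sc τ, τ (σ g) = τ g) (ψ : End F U) :
    ∑ g, τ (σ g) * Phi τ σ (τ (σ g)⁻¹ * ψ) = ((Nat.card Q : F) * Nat.card (sc τ)) • ψ := by
  classical
  have h3 : ∀ h, ∑ g, τ (σ g) * (τ (σ h) * (τ (σ g)⁻¹ * ψ) * τ h⁻¹) =
      if h ∈ sc τ then (Nat.card Q : F) • ψ else 0 := by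
    intro h
    have : ∑ g, τ (σ g) * (τ (σ h) * (τ (σ g)⁻¹ * ψ) * τ h⁻¹) =
        (∑ g, τ (g * σ h * g⁻¹)) * ψ * τ h⁻¹ := by
      rw [Finset.sum_mul, Finset.sum_mul, ← Equiv.sum_comp σ.toEquiv
        fun g => τ (g * σ h * g⁻¹) * ψ * τ h⁻¹]
      refine Finset.sum_congr rfl fun g _ => ?_
      simp only [map_mul, mul_assoc, MulEquiv.toEquiv_eq_coe, EquivLike.coe_coe]
    rw [this]
    split_ifs with hh
    · obtain ⟨c, hc⟩ := id hh
      rw [SS_mem ((h1 h).2 hh), h2 h hh, smul_mul_assoc, smul_mul_assoc, hc, Algebra.commutes,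
        ← hc, mul_assoc, ← map_mul, mul_inv_cancel, map_one, mul_one]
    · rw [hτ.SS_not (mt (h1 h).1 hh), zero_mul, zero_mul]
  simp only [Phi, Finset.mul_sum]
  rw [Finset.sum_comm, Finset.sum_congr rfl fun h _ => h3 h, ← Finset.sum_filter, sum_const,
    mul_comm, mul_smul, Nat.cast_smul_eq_nsmul F (Nat.card (sc τ)), Nat.card_eq_fintype_card
    (α := sc τ), Fintype.card_subtype]

theorem Irr.card_ne (hτ : Irr τ) : (Nat.card Q : F) * Nat.card (sc τ) ≠ 0 := by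
  refine mul_ne_zero hτ.card fun e => hτ.card ?_
  rw [← (sc τ).card_mul_index, Nat.cast_mul, e, zero_mul]

theorem Irr.exists_twist (hτ : Irr τ) (σ : Q ≃* Q) (h1 : ∀ g, σ g ∈ sc τ ↔ g ∈ sc τ)
    (h2 : ∀ g ∈ sc τ, τ (σ g) = τ g) : ∃ a : End F U, IsUnit a ∧ ∀ g, τ (σ g) * a = a * τ g := by
  obtain ⟨ψ, hψ⟩ : ∃ ψ, Phi τ σ ψ ≠ 0 := by
    by_contra! h
    have := hτ.Phi_sum σ h1 h2 1
    simp only [h, mul_zero, sum_const_zero] at this
    exact smul_ne_zero hτ.card_ne one_ne_zero this.symm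
  refine ⟨_, ?_, Phi_spec σ ψ⟩
  rw [LinearMap.isUnit_iff_ker_eq_bot]
  refine (hτ.irr _ fun g w hw => ?_).resolve_right (mt LinearMap.ker_eq_top.1 hψ)
  rw [LinearMap.mem_ker] at hw ⊢
  rw [← Module.End.mul_apply, ← Phi_spec, Module.End.mul_apply, hw, map_zero]

theorem Irr.finrank_sq (hτ : Irr τ) : finrank F U ^ 2 = (sc τ).index := by
  classical
  let _ : Fintype (Q ⧸ sc τ) := Fintype.ofFinite _
  let b : Q ⧸ sc τ → End F U := fun q => τ q.out
  have h1 : LinearIndependent F b := by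
    rw [Fintype.linearIndependent_iff]
    intro c hc q
    have h2 : Phi τ (MulEquiv.refl Q) (τ q.out⁻¹ * ∑ i, c i • b i) =
        ∑ i, c i • ∑ h, τ (h * (q.out⁻¹ * i.out) * h⁻¹) := by
      simp only [Phi, Finset.mul_sum, Finset.sum_mul, Finset.smul_sum, b, map_mul,
        MulEquiv.refl_apply, mul_smul_comm, smul_mul_assoc]
      exact Finset.sum_comm
    rw [hc, mul_zero, Finset.sum_eq_single q (fun i _ hi => by
      rw [hτ.SS_not fun e => hi (by
        rw [← i.out_eq', ← q.out_eq', eq_comm]; exact QuotientGroup.eq.2 e), smul_zero])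
      (fun h => absurd (mem_univ _) h), inv_mul_cancel, SS_mem (one_mem _), map_one, smul_smul]
      at h2
    simp only [Phi, mul_zero, zero_mul, sum_const_zero] at h2
    exact (mul_eq_zero.1 ((smul_eq_zero.1 h2.symm).resolve_right one_ne_zero)).resolve_right hτ.card
  have h2 : ⊤ ≤ Submodule.span F (Set.range b) := by
    intro ψ _
    rw [← Submodule.smul_mem_iff _ hτ.card_ne,
      ← hτ.Phi_sum (MulEquiv.refl Q) (fun _ => Iff.rfl) fun _ _ => rfl]
    refine Submodule.sum_mem _ fun g _ => ?_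
    obtain ⟨c, hc⟩ := schur hτ.irr _ (Phi_spec (MulEquiv.refl Q) (τ (MulEquiv.refl Q g)⁻¹ * ψ))
    obtain ⟨r, hr⟩ := QuotientGroup.mk_out_eq_mul (sc τ) g
    obtain ⟨d, hd⟩ := (inv_mem r.2 : (r : Q)⁻¹ ∈ sc τ)
    have e : τ g = d • b g := by
      simp only [b]
      rw [hr, Algebra.smul_def, Algebra.commutes, ← hd, ← map_mul, mul_inv_cancel_right]
    rw [hc, ← Algebra.commutes, ← Algebra.smul_def, MulEquiv.refl_apply, e]
    exact Submodule.smul_mem _ _ (Submodule.smul_mem _ _ (Submodule.subset_span ⟨_, rfl⟩))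
  rw [sq, ← Module.finrank_linearMap F F U U, Subgroup.index, Nat.card_eq_fintype_card]
  exact Module.finrank_eq_card_basis (Basis.mk h1 h2)

theorem Irr.core (hτ : Irr τ) {p k : ℕ} (hp : p.Prime) [CharP F p] (hk : k ≠ 0) {a : End F U}
    (σ : MulAut Q) (ha : ∀ g, τ (σ g) * a = a * τ g) (h1 : ∀ g, σ g ∈ sc τ ↔ g ∈ sc τ)
    (haP : a ^ p ^ k = 1) (hσ : σ ^ p ^ k = 1)
    (hf : ∀ g ∉ sc τ, ∀ i, 0 < i → i < p ^ k → (σ ^ i) g ≠ g) (ha1 : a ≠ 1)
    (h0 : (a - 1) ^ (p ^ k - 1) = 0) :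
    (a - 1) ^ (p ^ k - 2) ≠ 0 ∧ finrank F U = p ^ k - 1 := by
  classical
  have hP : 2 ≤ p ^ k := Nat.one_lt_pow hk hp.one_lt
  have e1 : p ^ k - 1 = p ^ k - 2 + 1 := by omega
  rw [e1] at h0 ⊢
  refine nil_core h0 (sub_ne_zero.2 ha1) fun φ hφ => ?_
  rw [Nat.sub_add_cancel hP]
  have hφ' : a * φ = φ * a := by
    rwa [sub_mul, mul_sub, one_mul, mul_one, sub_left_inj] at hφ
  let π : Q → End F U := fun g => τ g * Phi τ (MulEquiv.refl Q) (τ g⁻¹ * φ)
  have h2 : ∀ g, a * π g = π (σ g) * a := fun g => by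
    simp only [π, Phi, Finset.mul_sum, Finset.sum_mul, MulEquiv.refl_apply]
    rw [← Equiv.sum_comp σ.toEquiv fun h => τ (σ g) * (τ h * (τ (σ g)⁻¹ * φ) * τ h⁻¹) * a]
    refine Finset.sum_congr rfl fun h _ => ?_
    simp only [MulEquiv.toEquiv_eq_coe, EquivLike.coe_coe, ← map_inv σ, mul_assoc]
    rw [ha, ← mul_assoc φ, ← hφ', mul_assoc, ← mul_assoc _ a, ha, mul_assoc, ← mul_assoc _ a, ha,
      mul_assoc, ← mul_assoc _ a, ha, mul_assoc]
  have h3 : ∀ g i, a ^ i * π g = π ((σ ^ i) g) * a ^ i := fun g i => by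
    induction i with
    | zero => simp
    | succ i ih =>
      rw [pow_succ', mul_assoc, ih, ← mul_assoc, h2, mul_assoc, pow_succ' σ, MulAut.mul_apply]
  let W : AddSubmonoid (End F U) :=
    { carrier := {x | ∃ ψ, x = TT (a - 1) (p ^ k) ψ}
      zero_mem' := ⟨0, by simp [TT]⟩
      add_mem' := by
        rintro _ _ ⟨x, rfl⟩ ⟨y, rfl⟩
        exact ⟨x + y, by simp [TT, mul_add, add_mul, Finset.sum_add_distrib]⟩ }
  have h4 : ∀ i g, ((MulAut.toPerm Q σ) ^ i) g = (σ ^ i) g := fun i g => by rw [← map_pow]; rfl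
  obtain ⟨ψ, hψ⟩ := free_sum (MulAut.toPerm Q σ) (P := p ^ k) (by omega)
    (by rw [← map_pow, hσ, map_one]) π W (fun g => ⟨π g * a, by
      rw [TT_sub_one (F := F) hp, TT]
      refine Finset.sum_congr rfl fun i hi => ?_
      have hi := mem_range.1 hi
      rw [h4, ← mul_assoc, h3, mul_assoc, mul_assoc, ← pow_succ', ← pow_add,
        show i + (p ^ k - 1 - i + 1) = p ^ k by omega, haP, mul_one]⟩)
    (univ.filter (· ∉ sc τ)) (fun g hg => mem_filter.2 ⟨mem_univ _, mt (h1 g).1 (mem_filter.1 hg).2⟩)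
    fun g hg i h h' => by rw [h4]; exact hf g (mem_filter.1 hg).2 i h h'
  have h5 : ∀ g ∈ univ.filter (· ∈ sc τ), ∃ c : F, π g = algebraMap F _ c := fun g hg => by
    obtain ⟨c, hc⟩ := schur hτ.irr _ (Phi_spec (MulEquiv.refl Q) (τ g⁻¹ * φ))
    obtain ⟨d, hd⟩ := (mem_filter.1 hg).2
    exact ⟨d * c, by simp only [π]; rw [hc, hd, map_mul]⟩
  choose! c hc using h5
  have h6 := hτ.Phi_sum (MulEquiv.refl Q) (fun _ => Iff.rfl) (fun _ _ => rfl) φ
  change ∑ g, π g = _ at h6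
  rw [← Finset.sum_filter_add_sum_filter_not univ (· ∈ sc τ), hψ, Finset.sum_congr rfl hc,
    ← map_sum] at h6
  refine ⟨((Nat.card Q : F) * Nat.card (sc τ))⁻¹ * ∑ g with g ∈ sc τ, c g,
    ((Nat.card Q : F) * Nat.card (sc τ))⁻¹ • ψ, ?_⟩
  rw [← inv_smul_smul₀ hτ.card_ne φ, ← h6, smul_add, map_mul, ← Algebra.smul_def]
  simp [TT, Finset.smul_sum]

end H1.HH
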