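import Mathlib
import Cfsg.Agent.H1.HH2

/-!
# Semiregular automorphisms of groups of class two: the degree bound
-/

set_option autoImplicit false
set_option linter.unusedSectionVars false

namespace H1.HH

open Finset Module Polynomial

theorem orbit_count {X : Type*} [Finite X] (f : Equiv.Perm X) (x₀ : X) (k : ℕ) (h0 : f x₀ = x₀)
    (hf : ∀ x ≠ x₀, ∀ j, 0 < j → j < k → (f ^ j) x ≠ x) :
    ∃ R : Finset X, (∀ x, ∃ r ∈ R, ∃ j : ℕ, (f ^ j) r = x) ∧ (R.card - 1) * k + 1 ≤ Nat.card X := by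
  classical
  let _ := Fintype.ofFinite X
  let S := Equiv.Perm.SameCycle.setoid f
  let R : Finset X := univ.image fun x => (Quotient.mk S x).out
  have h1 : ∀ x, f.SameCycle (Quotient.mk S x).out x := fun x => Quotient.mk_out (s := S) x
  have h2 : ∀ j : ℕ, (f ^ j) x₀ = x₀ := fun j => Equiv.Perm.pow_apply_eq_self_of_apply_eq_self h0 j
  refine ⟨R, fun x => ⟨_, mem_image_of_mem _ (mem_univ x), ?_⟩, ?_⟩
  · obtain ⟨i, -, e⟩ := (h1 x).exists_pow_eq'
    exact ⟨i, e⟩
  have h3 : ∀ r ≠ x₀, ∀ i j, i < j → j < k → (f ^ i) r ≠ (f ^ j) r := fun r hr i j hij hj e => by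
    refine hf r hr (j - i) (by omega) (by omega) ((f ^ i).injective ?_)
    rw [← Equiv.Perm.mul_apply, ← pow_add, Nat.add_sub_cancel' hij.le, e]
  have h4 := card_le_card_of_injOn (s := R.erase x₀ ×ˢ range k) (t := univ.erase x₀)
    (fun q => (f ^ q.2) q.1) (fun q hq => by
      have := (mem_erase.1 (mem_product.1 hq).1).1
      exact mem_erase.2 ⟨fun e => this ((f ^ q.2).injective (e.trans (h2 _).symm)), mem_univ _⟩)
    (by
      rintro ⟨r, i⟩ hq ⟨r', j⟩ hq' e
      obtain ⟨⟨hr, r0⟩, hi⟩ : (r ∈ R ∧ r ≠ x₀) ∧ i < k := by simpa using hq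
      obtain ⟨⟨hr', -⟩, hj⟩ : (r' ∈ R ∧ r' ≠ x₀) ∧ j < k := by simpa using hq'
      obtain ⟨a, -, rfl⟩ := mem_image.1 hr
      obtain ⟨b, -, rfl⟩ := mem_image.1 hr'
      simp only at e
      have e1 : f.SameCycle (Quotient.mk S a).out (Quotient.mk S b).out :=
        (Equiv.Perm.sameCycle_pow_left (n := i)).1
          (e ▸ (Equiv.Perm.sameCycle_pow_left (n := j)).2 (Equiv.Perm.SameCycle.refl _ _))
      have e2 : Quotient.mk S a = Quotient.mk S b := Quotient.out_equiv_out.1 e1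
      rw [← e2] at e ⊢
      rcases lt_trichotomy i j with h | h | h
      · exact absurd e (h3 _ r0 i j h hj)
      · rw [h]
      · exact absurd e.symm (h3 _ r0 j i h hi))
  rw [card_product, card_range, card_erase_of_mem (mem_univ _), card_univ] at h4
  have h5 := Nat.mul_le_mul_right k (pred_card_le_card_erase (s := R) (a := x₀))
  have h6 : 0 < Fintype.card X := Fintype.card_pos_iff.2 ⟨x₀⟩
  rw [Nat.card_eq_fintype_card]
  omega

variable {F U Q : Type*} [Field F] [IsAlgClosed F] [AddCommGroup U] [Module F U]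
  [FiniteDimensional F U]

theorem cent_dim {a : End F U} {m : ℕ} {c : F} (hm : (m : F) ≠ 0) (hc : c ≠ 0)
    (h : a ^ m = algebraMap F _ c) :
    finrank F U ≤ finrank F (LinearMap.ker (LinearMap.mulLeft F a - LinearMap.mulRight F a)) := by
  classical
  have h1 : a.IsSemisimple := End.isSemisimple_of_squarefree_aeval_eq_zero
    (separable_X_pow_sub_C c hm hc).squarefree (by simp [h])
  obtain ⟨s, hs, h2, h3⟩ := exists_linearIndependent F {v : U | ∃ μ : F, a v = μ • v}
  have h4 : ⊤ ≤ Submodule.span F (Set.range ((↑) : s → U)) := by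
    rw [Subtype.range_coe, h2, ← h1.iSup_eigenspace_eq_top]
    exact iSup_le fun μ v hv => Submodule.subset_span ⟨μ, End.mem_eigenspace_iff.1 hv⟩
  let b := Basis.mk h3 h4
  let _ := FiniteDimensional.fintypeBasisIndex b
  choose μ hμ using fun i : s => hs i.2
  have hb : ∀ i, a (b i) = μ i • b i := fun i => by simp only [b, Basis.mk_apply]; exact hμ i
  let L : (s → F) →ₗ[F] End F U :=
    { toFun := fun x => b.constr F fun i => x i • b i
      map_add' := fun x y => b.ext fun i => by simp [add_smul, sum_add_distrib]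
      map_smul' := fun r x => b.ext fun i => by simp [mul_smul] }
  have h5 : ∀ x, L x ∈ LinearMap.ker (LinearMap.mulLeft F a - LinearMap.mulRight F a) := fun x =>
    b.ext fun i => by simp [L, hb, smul_smul, mul_comm]
  have h6 : Function.Injective (L.codRestrict _ h5) := by
    rw [← LinearMap.ker_eq_bot, LinearMap.ker_codRestrict, LinearMap.ker_eq_bot']
    intro x hx
    funext i
    have := LinearMap.congr_fun hx (b i)
    simpa [L, b.ne_zero i] using this
  rw [finrank_eq_card_basis b, ← Module.finrank_pi F]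
  exact LinearMap.finrank_le_finrank_of_injective h6

variable [Nontrivial U] [Group Q] [Fintype Q] {τ : Q →* End F U}

instance sc_normal : (sc τ).Normal :=
  ⟨fun _ hg h => let ⟨c, hc⟩ := hg; ⟨c, (sc_conj hg h).trans hc⟩⟩

theorem Irr.eq_zero [CharZero F] (hτ : Irr τ) {φ : End F U}
    (h : ∀ g, LinearMap.trace F U (τ g * φ) = 0) : φ = 0 := by
  have h1 := hτ.Phi_sum (MulEquiv.refl Q) (fun _ => Iff.rfl) (fun _ _ => rfl) φ
  have h2 : ∀ g, Phi τ (MulEquiv.refl Q) (τ g * φ) = 0 := fun g => by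
    obtain ⟨c, hc⟩ := schur hτ.irr _ (Phi_spec (MulEquiv.refl Q) (τ g * φ))
    have h3 := congrArg (LinearMap.trace F U) hc
    rw [Phi, map_sum, sum_eq_zero fun x _ => by
      rw [LinearMap.trace_mul_comm, ← mul_assoc, ← map_mul, MulEquiv.refl_apply, inv_mul_cancel,
        map_one, one_mul, h], Algebra.algebraMap_eq_smul_one, map_smul, LinearMap.trace_one,
      smul_eq_mul, eq_comm, mul_eq_zero] at h3
    rw [hc, h3.resolve_right (Nat.cast_ne_zero.2 finrank_pos.ne'), map_zero]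
  simp only [h2, mul_zero, sum_const_zero] at h1
  exact (smul_eq_zero.1 h1.symm).resolve_left hτ.card_ne

theorem Irr.bound [CharZero F] (hτ : Irr τ) (σ : MulAut Q) (h1 : ∀ g, σ g ∈ sc τ ↔ g ∈ sc τ)
    (h2 : ∀ g ∈ sc τ, τ (σ g) = τ g) {k : ℕ}
    (hf : ∀ g ∉ sc τ, ∀ j, 0 < j → j < k → (σ ^ j) g * g⁻¹ ∉ sc τ) :
    (finrank F U - 1) * k + 1 ≤ finrank F U ^ 2 := by
  classical
  obtain ⟨a, ha, e⟩ := hτ.exists_twist σ h1 h2
  have e' : ∀ (j : ℕ) g, τ ((σ ^ j) g) * a ^ j = a ^ j * τ g := fun j => by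
    induction j with
    | zero => simp
    | succ j ih => intro g; rw [pow_succ' σ, pow_succ' a, MulAut.mul_apply, ← mul_assoc, e,
        mul_assoc, ih, mul_assoc]
  obtain ⟨c, hc⟩ := schur hτ.irr (a ^ orderOf σ) fun g => by
    rw [← e', pow_orderOf_eq_one, MulAut.one_apply]
  have h3 := cent_dim (Nat.cast_ne_zero.2 (orderOf_pos σ).ne') (fun e0 => by
    rw [e0, map_zero] at hc; exact (ha.pow _).ne_zero hc) hc
  let f : Equiv.Perm (Q ⧸ sc τ) := (QuotientGroup.congr (sc τ) (sc τ) σ (by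
    ext g
    exact ⟨fun ⟨x, hx, e⟩ => e ▸ (h1 x).2 hx, fun hg => ⟨σ.symm g, (h1 _).1 (by simpa), by simp⟩⟩)).toEquiv
  have hf1 : ∀ (j : ℕ) (g : Q), (f ^ j) g = ((σ ^ j) g : Q) := fun j => by
    induction j with
    | zero => simp
    | succ j ih => intro g; rw [pow_succ', Equiv.Perm.mul_apply, ih, pow_succ']; rfl
  obtain ⟨R, hR, h4⟩ := orbit_count f 1 k (by simp [f]) fun x hx j hj hj' e0 => by
    obtain ⟨g, rfl⟩ := QuotientGroup.mk_surjective x
    rw [hf1] at e0
    exact hf g (mt (QuotientGroup.eq_one_iff g).2 hx) j hj hj'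
      (by simpa [div_eq_mul_inv] using QuotientGroup.eq_iff_div_mem.1 e0)
  rw [hτ.finrank_sq]
  refine le_trans (Nat.succ_le_succ (Nat.mul_le_mul_right k (Nat.sub_le_sub_right (h3.trans ?_) 1))) h4
  let Ψ : End F U →ₗ[F] (R → F) :=
    LinearMap.pi fun r => LinearMap.trace F U ∘ₗ LinearMap.mulLeft F (τ r.1.out)
  rw [← Fintype.card_coe, ← Module.finrank_pi F]
  refine LinearMap.finrank_le_finrank_of_injective (f := Ψ.domRestrict _)
    (LinearMap.ker_eq_bot.1 (LinearMap.ker_eq_bot'.2 fun φ hφ => Subtype.ext (hτ.eq_zero fun g => ?_)))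
  obtain ⟨r, hr, j, e1⟩ := hR g
  have e2 : LinearMap.trace F U (τ r.out * φ.1) = 0 := congrFun hφ ⟨r, hr⟩
  have e3 : Commute a φ.1 := sub_eq_zero.1 φ.2
  obtain ⟨b, hb⟩ := (ha.pow j).exists_right_inv
  rw [← r.out_eq', hf1] at e1
  obtain ⟨d, hd⟩ := QuotientGroup.eq.1 e1
  rw [← mul_inv_cancel_left ((σ ^ j) r.out) g, map_mul τ, hd, ← Algebra.commutes, mul_assoc,
    ← Algebra.smul_def, map_smul, ← mul_one (_ * φ.1), ← hb, mul_assoc, ← mul_assoc φ.1,
    ← (e3.pow_left j).eq, ← mul_assoc, ← mul_assoc, e', LinearMap.trace_mul_comm, ← mul_assoc,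
    ← mul_assoc, mul_eq_one_comm.1 hb, one_mul, e2, smul_zero]

end H1.HH
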