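import Mathlib
import Cfsg.Agent.H1.QP1

/-!
# Modules of `p`-groups with a semiregular automorphism
-/

set_option autoImplicit false
set_option linter.unusedSectionVars false

namespace H1.HH

open Finset Module

section
variable {F V Q : Type*} [Field F] [IsAlgClosed F] [AddCommGroup V] [Module F V]
  [FiniteDimensional F V] [Group Q] [Finite Q]

/-- restriction to an invariant subspace -/
def resRep (ρ : Q →* End F V) (U : Submodule F V) (h : ∀ g, ∀ w ∈ U, ρ g w ∈ U) : Q →* End F U where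
  toFun g := (ρ g).restrict (h g)
  map_one' := LinearMap.ext fun v => Subtype.ext (by simp)
  map_mul' a b := LinearMap.ext fun v => Subtype.ext (by simp)

theorem resRep_coe (ρ : Q →* End F V) (U : Submodule F V) (h : ∀ g, ∀ w ∈ U, ρ g w ∈ U) (g : Q)
    (v : U) : (resRep ρ U h g v : V) = ρ g v := rfl

theorem exists_irr (ρ : Q →* End F V) {W : Submodule F V} (h1 : W ≠ ⊥)
    (hW : ∀ g, ∀ w ∈ W, ρ g w ∈ W) : ∃ U ≤ W, U ≠ ⊥ ∧ ∃ h : ∀ g, ∀ w ∈ U, ρ g w ∈ U,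
      ∀ X : Submodule F U, (∀ g, ∀ w ∈ X, resRep ρ U h g w ∈ X) → X = ⊥ ∨ X = ⊤ := by
  obtain ⟨U, ⟨a, b, c⟩, hU⟩ := (wellFounded_lt (α := Submodule F V)).has_min
    {U | U ≤ W ∧ U ≠ ⊥ ∧ ∀ g, ∀ w ∈ U, ρ g w ∈ U} ⟨W, le_rfl, h1, hW⟩
  refine ⟨U, a, b, c, fun X hX => or_iff_not_imp_left.2 fun h0 => ?_⟩
  by_contra h2
  refine hU (X.map U.subtype) ⟨(U.map_subtype_le X).trans a, fun e => h0 ?_, ?_⟩ ?_
  · exact Submodule.map_injective_of_injective U.injective_subtype (e.trans (Submodule.map_bot _).symm)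
  · rintro g _ ⟨w, hw, rfl⟩
    exact ⟨_, hX g w hw, rfl⟩
  · refine lt_of_le_of_ne (U.map_subtype_le X) fun e => h2 ?_
    exact Submodule.map_injective_of_injective U.injective_subtype
      (e.trans (U.map_subtype_top).symm)

theorem exists_wt (ρ : Q →* End F V) {W : Submodule F V} (h1 : W ≠ ⊥)
    (hW : ∀ g, ∀ w ∈ W, ρ g w ∈ W) : ∃ w ∈ W, w ≠ 0 ∧ ∃ l : Q → F,
      ∀ z, (∀ g, ρ g * ρ z = ρ z * ρ g) → ρ z w = l z • w := by
  obtain ⟨U, a, b, c, h⟩ := exists_irr ρ h1 hW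
  have := Submodule.nontrivial_iff_ne_bot.2 b
  have := Fintype.ofFinite Q
  obtain ⟨w, hw, w0⟩ := Submodule.exists_mem_ne_zero_of_ne_bot b
  have : ∀ z, ∃ l : F, (∀ g, ρ g * ρ z = ρ z * ρ g) → ρ z w = l • w := fun z => by
    by_cases hz : ∀ g, ρ g * ρ z = ρ z * ρ g
    · obtain ⟨l, hl⟩ := schur h (resRep ρ U c z) fun g =>
        LinearMap.ext fun v => Subtype.ext (LinearMap.congr_fun (hz g) v)
      exact ⟨l, fun _ => congrArg Subtype.val (LinearMap.congr_fun hl ⟨w, hw⟩)⟩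
    · exact ⟨0, fun e => absurd e hz⟩
  choose l hl using this
  exact ⟨w, a hw, w0, l, hl⟩

theorem wt_indep {ι : Type*} (f : ι → End F V) (h : ∀ i j, Commute (f i) (f j)) :
    iSupIndep fun χ : ι → F => ⨅ i, (f i).eigenspace (χ i) :=
  (End.independent_iInf_maxGenEigenspace_of_forall_mapsTo f fun i j φ =>
    End.mapsTo_maxGenEigenspace_of_comm (h j i) φ).mono fun _ =>
      iInf_mono fun _ => ((f _).genEigenspace _).monotone le_top

theorem sum_finrank {a n : ℕ} {p : Fin a → Submodule F V} (h : iSupIndep p)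
    (h1 : ∀ i, n ≤ finrank F (p i)) : a * n ≤ finrank F V := by
  refine le_trans ?_ (LinearMap.finrank_le_finrank_of_injective h.dfinsupp_lsum_injective)
  change _ ≤ finrank F (DirectSum (Fin a) fun i => p i)
  rw [Module.finrank_directSum]
  simpa using card_nsmul_le_sum univ _ n fun i _ => h1 i

theorem exists_cent {p : ℕ} (hp : p.Prime) (hQ : IsPGroup p Q) (N : Subgroup Q) [N.Normal]
    (h : N ≠ ⊤) : ∃ z ∉ N, ∀ g, g * z * g⁻¹ * z⁻¹ ∈ N := by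
  have := Fact.mk hp
  have : Nontrivial (Q ⧸ N) := QuotientGroup.nontrivial_iff.2 h
  obtain ⟨⟨z, hz⟩, h1⟩ := @exists_ne _ (hQ.to_quotient N).center_nontrivial 1
  obtain ⟨z, rfl⟩ := QuotientGroup.mk_surjective z
  refine ⟨z, fun e => h1 (Subtype.ext ((QuotientGroup.eq_one_iff z).2 e)), fun g => ?_⟩
  rw [← QuotientGroup.eq_one_iff]
  simp [Subgroup.mem_center_iff.1 hz g]

theorem fpf_iff (σ : MulAut Q) (C : Subgroup Q) [C.Normal] (h1 : ∀ x y, x * y * x⁻¹ * y⁻¹ ∈ C)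
    (h2 : ∀ x ∈ C, σ x ∈ C) :
    (∀ x, σ x * x⁻¹ ∈ C → x ∈ C) ↔ ∀ N, C ≤ N → (∀ x, σ x * x⁻¹ ∈ N) → N = ⊤ := by
  let : CommGroup (Q ⧸ C) := { (inferInstance : Group (Q ⧸ C)) with
    mul_comm := fun a b => by
      obtain ⟨a, rfl⟩ := QuotientGroup.mk_surjective a
      obtain ⟨b, rfl⟩ := QuotientGroup.mk_surjective b
      rw [← QuotientGroup.mk_mul, ← QuotientGroup.mk_mul, QuotientGroup.eq_iff_div_mem]
      simpa [div_eq_mul_inv, mul_assoc] using h1 a b }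
  let f : Q →* Q ⧸ C := ((QuotientGroup.mk' C).comp σ.toMonoidHom) / QuotientGroup.mk' C
  have hf : ∀ x, f x = (σ x * x⁻¹ : Q) := fun x => by simp [f, div_eq_mul_inv]
  let g := QuotientGroup.lift C f fun x hx => by
    rw [MonoidHom.mem_ker, hf, QuotientGroup.eq_one_iff]; exact mul_mem (h2 x hx) (inv_mem hx)
  have e := Finite.injective_iff_surjective (f := g)
  rw [injective_iff_map_eq_one] at e
  constructor
  · intro h N hN h3
    refine top_le_iff.1 fun x _ => ?_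
    obtain ⟨y, hy⟩ := e.1 (fun y hy => by
      obtain ⟨y, rfl⟩ := QuotientGroup.mk_surjective y
      exact (QuotientGroup.eq_one_iff y).2 (h y ((QuotientGroup.eq_one_iff _).1 ((hf y).symm.trans hy)))) x
    obtain ⟨y, rfl⟩ := QuotientGroup.mk_surjective y
    exact (N.mul_mem_cancel_left (inv_mem (h3 y))).1 (hN (QuotientGroup.eq.1 ((hf y).symm.trans hy)))
  · intro h x hx
    refine (QuotientGroup.eq_one_iff x).1 (e.2 (fun y => ?_) x ((hf x).trans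
      ((QuotientGroup.eq_one_iff _).2 hx)))
    obtain ⟨y, rfl⟩ := QuotientGroup.mk_surjective y
    have := h (g.range.comap (QuotientGroup.mk' C))
      (fun z hz => ⟨1, by simp [(QuotientGroup.eq_one_iff z).2 hz]⟩) fun z => ⟨z, hf z⟩
    exact (this.ge (Subgroup.mem_top y) :)
end

/-- the bound -/
def Good (k d : ℕ) : Prop := 3 * k ≤ 4 * d ∧ (Odd k → k ≤ d)

/-- the group is generated by the commutators with `σ` -/
def Gen {P : Type*} [Group P] (σ : MulAut P) : Prop :=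
  ∀ N : Subgroup P, (∀ x, σ x * x⁻¹ ∈ N) → N = ⊤

variable {P V : Type*} [Group P] [Fintype P] [AddCommGroup V] [Module ℂ V] [FiniteDimensional ℂ V]
  {ρ : P →* End ℂ V} {σ : MulAut P} {c : End ℂ V} {p k : ℕ}

theorem tw_pow (h : ∀ x, ρ (σ x) * c = c * ρ x) (j : ℕ) (x : P) :
    ρ ((σ ^ j) x) * c ^ j = c ^ j * ρ x := by
  induction j generalizing x with
  | zero => simp
  | succ j ih => rw [pow_succ' σ, pow_succ' c, MulAut.mul_apply, ← mul_assoc, h, mul_assoc, ih,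
      mul_assoc]

theorem tw_comm (hc : IsUnit c) (h : ∀ x, ρ (σ x) * c = c * ρ x) {x y : P} {a : ℂ} :
    ρ (σ x) = a • ρ (σ y) ↔ ρ x = a • ρ y := by
  rw [← hc.mul_left_inj, smul_mul_assoc, h, h, ← mul_smul_comm, hc.mul_right_inj]

variable [Nontrivial V]

theorem sc_iff {x : P} : x ∈ sc ρ ↔ ∃ a : ℂ, ρ x = a • ρ 1 := by
  simp [mem_sc, Algebra.algebraMap_eq_smul_one]

theorem tw_sc (hc : IsUnit c) (h : ∀ x, ρ (σ x) * c = c * ρ x) {x : P} : σ x ∈ sc ρ ↔ x ∈ sc ρ := by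
  rw [sc_iff, sc_iff]
  exact exists_congr fun a => by rw [← tw_comm hc h (x := x), map_one σ]

theorem tw_sc' (hc : IsUnit c) (h : ∀ x, ρ (σ x) * c = c * ρ x) {x : P} (hx : x ∈ sc ρ) :
    ρ (σ x) = ρ x := by
  obtain ⟨a, ha⟩ := sc_iff.1 hx
  rw [(tw_comm hc h).2 ha, ha, map_one σ]

/-- the elements commuting with `ρ e` -/
def cm (ρ : P →* End ℂ V) (e : P) : Subgroup P where
  carrier := {x | ρ (x * e * x⁻¹) = ρ e}
  one_mem' := by simp
  mul_mem' := fun {a b} ha hb => by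
    have : ρ (a * b * e * (a * b)⁻¹) = ρ a * ρ (b * e * b⁻¹) * ρ a⁻¹ := by
      simp only [← map_mul]; congr 1; group
    rw [Set.mem_ofPred_eq] at *
    rw [this, hb, ← map_mul, ← map_mul, ha]
  inv_mem' := fun {a} ha => by
    have : ρ (a⁻¹ * e * a⁻¹⁻¹) = ρ a⁻¹ * ρ e * ρ a := by simp
    rw [Set.mem_ofPred_eq] at *
    rw [this]
    nth_rewrite 1 [← ha]
    rw [← map_mul, ← map_mul]; congr 1; group

theorem mem_cm {e x : P} : x ∈ cm ρ e ↔ ρ x * ρ e = ρ e * ρ x := by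
  have h : IsUnit (ρ x) := (Group.isUnit x).map ρ
  change ρ (x * e * x⁻¹) = ρ e ↔ _
  rw [← h.mul_left_inj, ← map_mul, inv_mul_cancel_right, map_mul]

/-- the second centre -/
noncomputable def E2 (ρ : P →* End ℂ V) : Subgroup P := (Subgroup.center _).comap (QuotientGroup.mk' (sc ρ))

theorem mem_E2 {e : P} : e ∈ E2 ρ ↔ ∀ g, g * e * g⁻¹ * e⁻¹ ∈ sc ρ := by
  simp only [E2, Subgroup.mem_comap, Subgroup.mem_center_iff, QuotientGroup.forall_mk,
    QuotientGroup.mk'_apply, ← QuotientGroup.mk_mul, QuotientGroup.eq_iff_div_mem, div_eq_mul_inv,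
    mul_inv_rev, mul_assoc]

theorem E2_sc {e : P} (he : e ∈ E2 ρ) (g : P) : ∃ a : ℂ, ρ (g * e * g⁻¹) = a • ρ e := by
  obtain ⟨a, ha⟩ := sc_iff.1 (mem_E2.1 he g)
  exact ⟨a, by rw [← inv_mul_cancel_right (g * e * g⁻¹) e, map_mul, ha]; simp⟩

theorem tw_E2 (hc : IsUnit c) (h : ∀ x, ρ (σ x) * c = c * ρ x) {e : P} :
    σ e ∈ E2 ρ ↔ e ∈ E2 ρ := by
  rw [mem_E2, mem_E2, σ.surjective.forall]
  simp only [← map_mul, ← map_inv, tw_sc hc h]

theorem fpf_E2 (hc : IsUnit c) (h : ∀ x, ρ (σ x) * c = c * ρ x) (hG : Gen σ)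
    (hZ : ∀ z, cm ρ z = ⊤ → z ∈ sc ρ) {e : P} (he : e ∈ E2 ρ) (h1 : σ e * e⁻¹ ∈ sc ρ) :
    e ∈ sc ρ := by
  refine hZ e (hG _ fun x => ?_)
  obtain ⟨a, ha⟩ := E2_sc he x⁻¹
  obtain ⟨b, hb⟩ := sc_iff.1 h1
  have b0 : b ≠ 0 := by
    rintro rfl
    exact ((Group.isUnit _).map ρ).ne_zero (hb.trans (zero_smul _ _))
  have e1 : ρ (σ e) = b • ρ e := by rw [← inv_mul_cancel_right (σ e) e, map_mul, hb]; simp
  have e2 := (tw_comm hc h).2 ha
  simp only [map_mul, map_inv σ, e1, mul_smul_comm, smul_mul_assoc, smul_comm a b] at e2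
  have e3 := (smul_right_injective _ b0 e2).trans ha.symm
  change ρ _ = _
  rw [show σ x * x⁻¹ * e * (σ x * x⁻¹)⁻¹ = σ x * (x⁻¹ * e * x⁻¹⁻¹) * (σ x)⁻¹ by group, map_mul,
    map_mul, ← e3]
  simp only [← map_mul]
  congr 1; group

theorem caseA (hc : IsUnit c) (h : ∀ x, ρ (σ x) * c = c * ρ x) (hG : ∀ j, ¬ k ∣ j → Gen (σ ^ j))
    (hZ : ∀ z, cm ρ z = ⊤ → z ∈ sc ρ) {a : P} (ha : a ∈ E2 ρ) (h1 : a ∉ sc ρ)
    (h2 : E2 ρ ≤ cm ρ a) : k ≤ finrank ℂ V := by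
  let A : Subgroup P := E2 ρ ⊓ ⨅ e ∈ E2 ρ, cm ρ e
  have mA : ∀ {x}, x ∈ A ↔ x ∈ E2 ρ ∧ ∀ e ∈ E2 ρ, ρ x * ρ e = ρ e * ρ x := by
    simp [A, Subgroup.mem_iInf, mem_cm]
  have aA : a ∈ A := mA.2 ⟨ha, fun e he => (mem_cm.1 (h2 he)).symm⟩
  have tA : ∀ (j : ℕ) {x}, (σ ^ j) x ∈ A ↔ x ∈ A := fun j x => by
    have := tw_pow h j
    rw [mA, mA, (σ ^ j).surjective.forall]
    simp only [tw_E2 (hc.pow j) this, ← map_mul]
    refine and_congr_right fun _ => forall₂_congr fun e _ => ?_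
    simpa using tw_comm (hc.pow j) this (x := x * e) (y := e * x) (a := 1)
  let C : Subgroup P := ⨅ x ∈ A, cm ρ x
  have mC : ∀ {x}, x ∈ C ↔ ∀ e ∈ A, ρ (x * e * x⁻¹) = ρ e := by
    simp only [C, Subgroup.mem_iInf]; rfl
  have hs : ∀ e ∈ A, ∀ x y, ρ (x * (y * e * y⁻¹) * x⁻¹) = ρ (y * (x * e * x⁻¹) * y⁻¹) :=
    fun e he x y => by
      obtain ⟨s, hs⟩ := E2_sc (mA.1 he).1 x
      obtain ⟨t, ht⟩ := E2_sc (mA.1 he).1 y
      rw [map_mul, map_mul, ht, map_mul ρ (y * _), map_mul ρ y, hs]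
      simp only [mul_smul_comm, smul_mul_assoc, ← map_mul, hs, ht, smul_comm s t]
  have h3 : ∀ x y, x * y * x⁻¹ * y⁻¹ ∈ C := fun x y => mC.2 fun e he => by
    have : ρ (x * y * x⁻¹ * y⁻¹ * e * (x * y * x⁻¹ * y⁻¹)⁻¹) =
        ρ (x * y) * ρ (x⁻¹ * (y⁻¹ * e * y⁻¹⁻¹) * x⁻¹⁻¹) * ρ (x * y)⁻¹ := by
      simp only [← map_mul]; congr 1; group
    rw [this, hs e he]
    simp only [← map_mul]; congr 1; group
  have : C.Normal := ⟨fun x hx g => by simpa using mul_mem (h3 g x) hx⟩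
  obtain ⟨x, hx⟩ : ∃ x, x ∉ C := by
    by_contra! hn
    exact h1 (hZ a (top_le_iff.1 fun x _ => mC.1 (hn x) a aA))
  have tC : ∀ (j : ℕ) {y}, (σ ^ j) y ∈ C ↔ y ∈ C := fun j y => by
    rw [mC, mC, (σ ^ j).surjective.forall]
    refine forall_congr' fun e => imp_congr (tA j) ?_
    simpa using tw_comm (hc.pow j) (tw_pow h j) (a := 1) (x := y * e * y⁻¹) (y := e)
  have h4 : ∀ j, 0 < j → j < k → (σ ^ j) x * x⁻¹ ∉ C := fun j h0 hj e =>
    hx ((fpf_iff (σ ^ j) C h3 fun y => (tC j).2).2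
      (fun N _ => hG j (Nat.not_dvd_of_pos_of_lt h0 hj) N) x e)
  obtain ⟨w, -, w0, l, hl⟩ := exists_wt (ρ.comp A.subtype) (W := ⊤) top_ne_bot fun _ _ _ => trivial
  have hw : ∀ e : A, ρ e w = l e • w := fun e => hl e fun g => (mA.1 g.2).2 e (mA.1 e.2).1
  choose s hs' using fun (y : P) (e : A) => E2_sc (mA.1 e.2).1 y⁻¹
  have h5 : ∀ y, ρ y w ∈ ⨅ e : A, (ρ e).eigenspace (s y e * l e) := fun y =>
    Submodule.mem_iInf _ |>.2 fun e => End.mem_eigenspace_iff.2 (by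
      rw [← End.mul_apply, ← map_mul, show e * y = y * (y⁻¹ * e * y⁻¹⁻¹) by group, map_mul, hs',
        End.mul_apply, LinearMap.smul_apply, hw, smul_smul, map_smul])
  have h6 : ∀ y y', (fun e => s y e * l e) = (fun e => s y' e * l e) → y' * y⁻¹ ∈ C :=
    fun y y' e0 => mC.2 fun e he => by
      have l0 : l ⟨e, he⟩ ≠ 0 := fun e1 => w0 ((LinearMap.isUnit_iff_ker_eq_bot _).1
        ((Group.isUnit e).map ρ) |>.le (by simpa [e1] using hw ⟨e, he⟩))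
      have e2 := (hs' y ⟨e, he⟩).trans
        ((mul_right_cancel₀ l0 (congrFun e0 ⟨e, he⟩)) ▸ (hs' y' ⟨e, he⟩).symm)
      rw [show y' * y⁻¹ * e * (y' * y⁻¹)⁻¹ = y' * (y⁻¹ * e * y⁻¹⁻¹) * y'⁻¹ by group, map_mul, map_mul,
        e2, ← map_mul, ← map_mul]
      congr 1; group
  have h8 : ∀ i j, i < j → j < k → (σ ^ j) x * ((σ ^ i) x)⁻¹ ∉ C := fun i j hij hj e =>
    h4 (j - i) (by omega) (by omega) ((tC i).1 (by
      rwa [map_mul, map_inv, ← MulAut.mul_apply, ← pow_add, Nat.add_sub_cancel' hij.le]))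
  have h7 := (wt_indep (fun e : A => ρ e) fun a b => (mA.1 a.2).2 b (mA.1 b.2).1).comp
    (f := fun j : Fin k => fun e => s ((σ ^ (j : ℕ)) x) e * l e) fun i j e => by
      rcases lt_trichotomy i j with h | h | h
      exacts [absurd (h6 _ _ e) (h8 i j h j.2), h, absurd (h6 _ _ e.symm) (h8 j i h i.2)]
  simpa using sum_finrank (n := 1) h7 fun j => Submodule.one_le_finrank_iff.2
    ((Submodule.ne_bot_iff _).2 ⟨_, h5 _, fun e => w0 ((LinearMap.isUnit_iff_ker_eq_bot _).1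
        ((Group.isUnit _).map ρ) |>.le e)⟩)

theorem caseB (hp : p.Prime) (hp2 : p ≠ 2) (hP : IsPGroup p P) (hc : IsUnit c)
    (h : ∀ x, ρ (σ x) * c = c * ρ x) (hG : ∀ j, ¬ k ∣ j → Gen (σ ^ j))
    (hZ : ∀ z, cm ρ z = ⊤ → z ∈ sc ρ) (h1 : ¬ E2 ρ ≤ sc ρ)
    (h2 : ∀ a ∈ E2 ρ, E2 ρ ≤ cm ρ a → a ∈ sc ρ) : Good k (finrank ℂ V) := by
  classical
  obtain ⟨U, -, U0, hU, irr⟩ := exists_irr (ρ.comp (E2 ρ).subtype) (W := ⊤) top_ne_bot
    fun _ _ _ => trivial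
  have := Submodule.nontrivial_iff_ne_bot.2 U0
  set τ := resRep _ U hU
  have e1 : ∀ {x y : E2 ρ} {a : ℂ}, ρ x = a • ρ y → τ x = a • τ y := fun e =>
    LinearMap.ext fun v => Subtype.ext (LinearMap.congr_fun e v)
  have hτ : Irr τ := ⟨irr, fun g x => (E2_sc g.2 x).imp fun _ => e1, Nat.cast_ne_zero.2 Nat.card_pos.ne'⟩
  have e2 : ∀ {g : E2 ρ}, g ∈ sc τ ↔ g.1 ∈ sc ρ := fun {g} => by
    refine ⟨fun hg => h2 g g.2 fun x hx => ?_, fun hg => sc_iff.2 ((sc_iff.1 hg).imp fun _ => e1)⟩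
    obtain ⟨a, ha⟩ := E2_sc g.2 x
    have e3 := (sc_conj hg ⟨x, hx⟩).symm.trans (e1 (x := ⟨x, hx⟩ * g * ⟨x, hx⟩⁻¹) ha)
    have e4 : (1 : ℂ) = a := smul_left_injective ℂ ((Group.isUnit g).map τ).ne_zero
      ((one_smul _ _).trans e3)
    exact ha.trans (e4 ▸ one_smul _ _)
  let σ' : MulAut (E2 ρ) := (σ.subgroupMap (E2 ρ)).trans (MulEquiv.subgroupCongr (by
    ext g
    exact ⟨fun ⟨x, hx, e⟩ => e ▸ (tw_E2 hc h).2 hx,
      fun hg => ⟨σ.symm g, (tw_E2 hc h).1 (by simpa), by simp⟩⟩))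
  have e3 : ∀ (j : ℕ) (g : E2 ρ), ((σ' ^ j) g : P) = (σ ^ j) g := fun j => by
    induction j with
    | zero => simp
    | succ j ih => intro g; rw [pow_succ, pow_succ, MulAut.mul_apply, ih]; rfl
  have h3 := hτ.bound σ' (k := k) (fun g => e2.trans ((tw_sc hc h).trans e2.symm))
    (fun g hg => (e1 ((tw_sc' hc h (e2.1 hg)).trans (one_smul _ _).symm)).trans (one_smul _ _))
    fun g hg j h0 hj e => hg (e2.2 (fpf_E2 (hc.pow j) (tw_pow h j)
      (hG j (Nat.not_dvd_of_pos_of_lt h0 hj)) hZ g.2 (by rw [← e3]; exact e2.1 e)))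
  have := Fact.mk hp
  obtain ⟨n, hn⟩ := (hP.to_subgroup (E2 ρ)).index (sc τ)
  have h4 := hτ.finrank_sq
  have h5 : finrank ℂ U ^ 2 ≠ 1 := fun e => h1 fun g hg =>
    e2.1 ((Subgroup.index_eq_one.1 (h4 ▸ e)).ge (Subgroup.mem_top (⟨g, hg⟩ : E2 ρ)))
  have h6 : Odd (finrank ℂ U) := (Nat.odd_pow_iff two_ne_zero).1
    (by rw [h4, hn]; exact (hp.odd_of_ne_two hp2).pow)
  have h7 := U.finrank_le
  obtain ⟨m, hm⟩ := h6
  rw [hm] at h3 h5 h7
  have h8 : m ≠ 0 := by rintro rfl; simp at h5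
  have h9 : k ≤ 2 * m + 2 := by
    refine Nat.le_of_mul_le_mul_left ?_ (show 0 < 2 * m by omega)
    rw [Nat.add_sub_cancel] at h3
    nlinarith
  exact ⟨by omega, fun ⟨r, hr⟩ => by omega⟩

theorem scalar_case (hp : p.Prime) (hp2 : p ≠ 2) (hP : IsPGroup p P) (hc : IsUnit c)
    (h : ∀ x, ρ (σ x) * c = c * ρ x) (hG : ∀ j, ¬ k ∣ j → Gen (σ ^ j)) (h0 : ∃ x, ρ x ≠ 1)
    (hZ : ∀ z, cm ρ z = ⊤ → z ∈ sc ρ) : Good k (finrank ℂ V) := by
  have hk : k ≤ finrank ℂ V → Good k (finrank ℂ V) := fun e => ⟨by omega, fun _ => e⟩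
  by_cases h1 : sc ρ = ⊤
  · refine hk ((Nat.le_of_dvd one_pos (by_contra fun e => ?_)).trans finrank_pos)
    obtain ⟨x, hx⟩ := h0
    refine hx ((hG 1 e ρ.ker fun y => ?_).ge (Subgroup.mem_top x))
    rw [MonoidHom.mem_ker, map_mul, pow_one, tw_sc' hc h (h1.ge (Subgroup.mem_top y)), ← map_mul,
      mul_inv_cancel, map_one]
  by_cases h2 : ∀ a ∈ E2 ρ, E2 ρ ≤ cm ρ a → a ∈ sc ρ
  · obtain ⟨z, hz, hz'⟩ := exists_cent hp hP _ h1
    exact caseB hp hp2 hP hc h hG hZ (fun e => hz (e (mem_E2.2 hz'))) h2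
  · push Not at h2
    obtain ⟨a, ha, h3, h4⟩ := h2
    exact hk (caseA hc h hG hZ ha h4 h3)

omit [Nontrivial V] in
theorem key (hp : p.Prime) (hp2 : p ≠ 2) (hP : IsPGroup p P) (hc : IsUnit c)
    (h : ∀ x, ρ (σ x) * c = c * ρ x) (hG : ∀ j, ¬ k ∣ j → Gen (σ ^ j)) (h0 : ∃ x, ρ x ≠ 1) :
    Good k (finrank ℂ V) := by
  classical
  induction hd : finrank ℂ V using Nat.strong_induction_on generalizing V σ k with
  | _ d ih =>
  subst hd
  have : Nontrivial V := by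
    by_contra! hn
    exact h0.elim fun x hx => hx (Subsingleton.elim _ _)
  obtain ⟨z, hz, hz'⟩ := exists_cent hp hP ρ.ker fun e =>
    h0.elim fun x hx => hx (e.ge (Subgroup.mem_top x))
  have z1 : ∀ g, ρ g * ρ z = ρ z * ρ g := fun g => mem_cm.1 (by
    change ρ _ = _
    rw [← inv_mul_cancel_right (g * z * g⁻¹) z, map_mul, hz' g, one_mul])
  obtain ⟨w, ⟨v, hv⟩, w0, l, hl⟩ := exists_wt ρ (W := LinearMap.range (ρ z - 1))
    (fun e => hz (sub_eq_zero.1 (LinearMap.range_eq_bot.1 e))) (by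
      rintro g _ ⟨v, rfl⟩
      exact ⟨ρ g v, by rw [← End.mul_apply, ← End.mul_apply, sub_mul, mul_sub, z1, one_mul, mul_one]⟩)
  have l1 : l z ≠ 1 := fun e => w0 (by
    have e1 : ∀ i : ℕ, (ρ z ^ i) w = w := fun i => by
      induction i with
      | zero => rfl
      | succ i ih => rw [pow_succ, End.mul_apply, hl z z1, e, one_smul, ih]
    have e2 := LinearMap.congr_fun (geom_sum_mul (ρ z) (orderOf z)) v
    rw [End.mul_apply, hv, ← map_pow, pow_orderOf_eq_one, map_one, sub_self, LinearMap.sum_apply] at e2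
    simpa [e1, (orderOf_pos z).ne', ← Nat.cast_smul_eq_nsmul ℂ] using e2)
  let Z := {z : P // ∀ g, ρ g * ρ z = ρ z * ρ g}
  have tZ : ∀ (j : ℕ) {x}, (∀ g, ρ g * ρ ((σ ^ j) x) = ρ ((σ ^ j) x) * ρ g) ↔
      ∀ g, ρ g * ρ x = ρ x * ρ g := fun j x => by
    rw [(σ ^ j).surjective.forall]
    refine forall_congr' fun e => ?_
    simpa using tw_comm (hc.pow j) (tw_pow h j) (x := e * x) (y := x * e) (a := 1)
  let χ : ℕ → Z → ℂ := fun i x => l ((σ ^ i)⁻¹ x.1)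
  have ex : ∃ a, 0 < a ∧ χ a = χ 0 := ⟨orderOf σ, orderOf_pos σ, by simp [χ]⟩
  obtain ⟨a0, ha⟩ := Nat.find_spec ex
  set a := Nat.find ex
  have h1 : ∀ i j, i < j → j < a → χ i ≠ χ j := fun i j hij hj e =>
    Nat.find_min ex (m := j - i) (by omega) ⟨by omega, funext fun x => by
      have := congrFun e ⟨_, (tZ i).2 x.2⟩
      obtain ⟨m, rfl⟩ := Nat.exists_eq_add_of_le hij.le
      simpa only [χ, Nat.add_sub_cancel_left, pow_add, mul_inv_rev, MulAut.mul_apply,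
        MulAut.inv_apply_self, pow_zero, inv_one, MulAut.one_apply] using this.symm⟩
  let W : ℕ → Submodule ℂ V := fun i => ⨅ x : Z, (ρ x.1).eigenspace (χ i x)
  have mW : ∀ {i v}, v ∈ W i ↔ ∀ x : Z, ρ x.1 v = χ i x • v := by
    simp [W, Submodule.mem_iInf]
  have h2 : ∀ i, ∀ v ∈ W 0, (c ^ i) v ∈ W i := fun i v hv => mW.2 fun x => by
    have := mW.1 hv ⟨(σ ^ i)⁻¹ x.1, (tZ i).1 (by simpa using x.2)⟩
    rw [← (σ ^ i).apply_symm_apply x.1, ← End.mul_apply, tw_pow h, End.mul_apply]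
    exact (congrArg _ this).trans (map_smul _ _ _)
  have inj : ∀ i : ℕ, Function.Injective (c ^ i : End ℂ V) := fun i =>
    LinearMap.ker_eq_bot.1 ((LinearMap.isUnit_iff_ker_eq_bot _).1 (hc.pow i))
  have h3 := sum_finrank (n := finrank ℂ (W 0))
    ((wt_indep (fun x : Z => ρ x.1) fun x y => y.2 x.1).comp (f := fun i : Fin a => χ i)
      fun i j e => by
        rcases lt_trichotomy i j with h | h | h
        exacts [absurd e (h1 i j h j.2), h, absurd e.symm (h1 j i h i.2)])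
    fun i => LinearMap.finrank_le_finrank_of_injective (f := (c ^ (i : ℕ)).restrict (h2 i))
      fun x y e => Subtype.ext (inj i (congrArg Subtype.val e))
  by_cases h4 : W 0 = ⊤
  · refine scalar_case hp hp2 hP hc h hG h0 fun x hx => ⟨l x, LinearMap.ext fun v => ?_⟩
    exact mW.1 (h4.ge (Submodule.mem_top (x := v)))
      ⟨x, fun g => mem_cm.1 (hx.ge (Subgroup.mem_top g))⟩
  have h5 : ∀ g, ∀ v ∈ W 0, ρ g v ∈ W 0 := fun g v hv => mW.2 fun x => by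
    rw [← End.mul_apply, ← x.2, End.mul_apply, mW.1 hv, map_smul]
  have h6 : ∀ v ∈ W 0, (c ^ a) v ∈ W 0 := fun v hv => mW.2 (ha ▸ mW.1 (h2 a v hv))
  have hw : w ∈ W 0 := mW.2 fun x => hl x.1 x.2
  obtain ⟨k', a', h7, h8, h9⟩ := Nat.exists_coprime k a
  obtain ⟨i1, i2⟩ := ih _ (Submodule.finrank_lt h4) (ρ := resRep ρ _ h5) (σ := σ ^ a) (k := k')
    (c := (c ^ a).restrict h6)
    ((LinearMap.isUnit_iff_ker_eq_bot _).2 (LinearMap.ker_eq_bot.2
      fun x y e => Subtype.ext (inj a (congrArg Subtype.val e))))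
    (fun x => LinearMap.ext fun v => Subtype.ext (LinearMap.congr_fun (tw_pow h a x) v))
    (fun j hj => by
      rw [← pow_mul]
      refine hG _ fun e => hj (h7.dvd_of_dvd_mul_left ?_)
      refine Nat.dvd_of_mul_dvd_mul_right (Nat.gcd_pos_of_pos_right k a0) ?_
      rwa [← h8, mul_right_comm, ← h9])
    ⟨z, fun e => l1 (smul_left_injective ℂ w0 ((hl z z1).symm.trans
      ((congrArg Subtype.val (LinearMap.congr_fun e ⟨w, hw⟩)).trans (one_smul _ _).symm)))⟩ rfl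
  have h10 : k ≤ k' * a := h8.le.trans (Nat.mul_le_mul_left _ (Nat.gcd_le_right _ a0))
  refine ⟨by nlinarith, fun e => ?_⟩
  have := i2 (Nat.Odd.of_mul_left (h8 ▸ e))
  nlinarith

end H1.HH
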