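import Mathlib
import Cfsg.Agent.H1.QP2

/-!
# The critical configuration of Theorem B of Hall and Higman
-/

set_option autoImplicit false
set_option linter.unusedSectionVars false

namespace H1.HH

open Finset Module

universe u

section Grp

variable {K : Type u} [Group K] [Finite K]

/-- restriction of an automorphism to an invariant subgroup -/
noncomputable def resAut (σ : MulAut K) (A : Subgroup K) (h : ∀ g ∈ A, σ g ∈ A) : MulAut A :=
  MulEquiv.ofBijective ((σ.toMonoidHom.comp A.subtype).codRestrict A fun g => h g g.2)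
    (Finite.injective_iff_bijective.1 fun _ _ e => Subtype.ext (σ.injective (congrArg Subtype.val e)))

theorem resAut_pow (σ : MulAut K) (A : Subgroup K) (h : ∀ g ∈ A, σ g ∈ A) (i : ℕ) (g : A) :
    (((resAut σ A h ^ i) g : A) : K) = (σ ^ i) g := by
  induction i with
  | zero => rfl
  | succ i ih => rw [pow_succ', pow_succ', MulAut.mul_apply, MulAut.mul_apply, ← ih]; rfl

/-- a critical `q`-group for the automorphism `η` -/
structure Crit (q : ℕ) (η : MulAut K) : Prop where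
  prime : q.Prime
  pg : IsPGroup q K
  ne : η ≠ 1
  comm : ∀ g h, η (g * h * g⁻¹ * h⁻¹) = g * h * g⁻¹ * h⁻¹
  gen : ∀ N : Subgroup K, (∀ g, g⁻¹ * η g ∈ N) → N = ⊤

theorem Crit.central {q : ℕ} {η : MulAut K} (h : Crit q η) {c : K} (hc : η c = c) (g : K) :
    g * c = c * g := by
  have : Subgroup.centralizer {c} = ⊤ := h.gen _ fun g => by
    rw [Subgroup.mem_centralizer_singleton_iff]
    have h1 := h.comm g c
    rw [map_mul, map_mul, map_mul, map_inv, map_inv, hc, mul_left_inj] at h1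
    calc g⁻¹ * η g * c = g⁻¹ * (η g * c * (η g)⁻¹) * η g := by group
      _ = _ := by rw [h1]; group
  exact Subgroup.mem_centralizer_singleton_iff.1 (this ▸ Subgroup.mem_top g)

theorem crit_of_min {p n m : ℕ} (hp : p.Prime) (hK : ¬ p ∣ Nat.card K) {σ : MulAut K}
    (hσ : σ ^ p ^ n = 1) (hη : (σ ^ m) ^ p = 1) (hne : σ ^ m ≠ 1)
    (hmin : ∀ A : Subgroup K, A ≠ ⊤ → (∀ g ∈ A, σ g ∈ A) → ∀ g ∈ A, (σ ^ m) g = g) :
    ∃ q, Crit q (σ ^ m) := by
  have := Fact.mk hp
  set η := σ ^ m with hηd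
  let C : Subgroup K := η.toMonoidHom.eqLocus (MonoidHom.id K)
  have hC : C ≠ ⊤ := fun e => hne (MulEquiv.ext fun g => (e ▸ Subgroup.mem_top g : g ∈ C))
  obtain ⟨q, hq, hqd⟩ := Nat.exists_prime_and_dvd (mt Subgroup.index_eq_one.1 hC)
  have := Fact.mk hq
  have hP : IsPGroup p (Subgroup.zpowers σ) := by
    rw [IsPGroup.iff_card, Nat.card_zpowers]
    exact ((Nat.dvd_prime_pow hp).1 (orderOf_dvd_of_pow_eq_one hσ)).imp fun _ h => h.2
  obtain ⟨S, hS⟩ := hP.nonempty_fixed_point_of_prime_not_dvd_card (Sylow q K) fun h =>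
    hK ((h.trans (default : Sylow q K).card_dvd_index).trans (Subgroup.index_dvd_card _))
  have hS1 : ∀ g ∈ (S : Subgroup K), σ g ∈ (S : Subgroup K) := fun g hg => by
    have h1 := hS ⟨σ, Subgroup.mem_zpowers σ⟩
    rw [← h1]
    exact Subgroup.smul_mem_pointwise_smul g _ _ hg
  have hS2 : (S : Subgroup K) = ⊤ := by
    by_contra h
    exact S.not_dvd_index (hqd.trans (Subgroup.index_dvd_of_le fun g hg => hmin _ h hS1 g hg))
  have hq' : IsPGroup q K := (hS2 ▸ S.isPGroup').of_equiv Subgroup.topEquiv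
  have hnt : Nontrivial K := by
    by_contra h
    rw [not_nontrivial_iff_subsingleton] at h
    exact hne (MulEquiv.ext fun g => Subsingleton.elim _ _)
  have hc : ∀ g, σ (η g) = η (σ g) := fun g => by
    rw [← MulAut.mul_apply, ← MulAut.mul_apply, hηd, ← pow_succ', pow_succ]
  refine ⟨q, hq, hq', hne, fun g h => ?_, fun N hN => ?_⟩
  · have := hq'.isNilpotent
    refine hmin (commutator K) (Group.IsSolvable.commutator_lt_top_of_nontrivial K).ne
      (fun g hg => ?_) _ (Subgroup.commutator_mem_commutator (Subgroup.mem_top g)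
        (Subgroup.mem_top h))
    exact (Subgroup.characteristic_iff_map_le.1 inferInstance σ) ⟨g, hg, rfl⟩
  · let A := Subgroup.closure (Set.range fun g => g⁻¹ * η g)
    refine top_le_iff.1 (le_trans (b := A) ?_ ((Subgroup.closure_le N).2 ?_))
    swap
    · rintro _ ⟨g, rfl⟩; exact hN g
    by_contra h
    have h1 := hmin A (fun e => h e.ge) fun g hg => by
      have : A ≤ A.comap σ.toMonoidHom := (Subgroup.closure_le _).2 (by
        rintro _ ⟨g, rfl⟩
        exact Subgroup.subset_closure ⟨σ g, by simp [hc]⟩)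
      exact this hg
    refine hne (MulEquiv.ext fun g => ?_)
    have h2 : η (g⁻¹ * η g) = g⁻¹ * η g := h1 _ (Subgroup.subset_closure ⟨g, rfl⟩)
    have h3 : ∀ i : ℕ, (η ^ i) g = g * (g⁻¹ * η g) ^ i := fun i => by
      induction i with
      | zero => simp
      | succ i ih => rw [pow_succ', MulAut.mul_apply, ih, map_mul, map_pow, h2, pow_succ',
          ← mul_assoc, mul_inv_cancel_left]
    have h4 := h3 p
    rw [hη, MulAut.one_apply, left_eq_mul] at h4
    have h5 : orderOf (g⁻¹ * η g) = 1 := by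
      rcases (Nat.dvd_prime hp).1 (orderOf_dvd_of_pow_eq_one h4) with h | h
      · exact h
      · exact absurd (h ▸ orderOf_dvd_natCard _) hK
    exact (inv_mul_eq_one.1 (orderOf_eq_one_iff.1 h5)).symm

theorem exists_crit {p n m : ℕ} (hp : p.Prime) (N : ℕ) : ∀ (K : Type u) [Group K] [Finite K],
    Nat.card K = N → ¬ p ∣ Nat.card K → ∀ σ : MulAut K, σ ^ p ^ n = 1 → (σ ^ m) ^ p = 1 →
    σ ^ m ≠ 1 → ∃ (Q : Type u) (_ : Group Q) (_ : Finite Q) (ι : Q →* K) (τ : MulAut Q) (q : ℕ),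
      Function.Injective ι ∧ (∀ g, ι (τ g) = σ (ι g)) ∧ τ ^ p ^ n = 1 ∧ Crit q (τ ^ m) := by
  induction N using Nat.strong_induction_on with | _ N ih
  intro K _ _ hN hK σ hσ hη hne
  by_cases hmin : ∀ A : Subgroup K, A ≠ ⊤ → (∀ g ∈ A, σ g ∈ A) → ∀ g ∈ A, (σ ^ m) g = g
  · obtain ⟨q, hq⟩ := crit_of_min hp hK hσ hη hne hmin
    exact ⟨K, _, inferInstance, MonoidHom.id K, σ, q, fun _ _ h => h, fun _ => rfl, hσ, hq⟩
  · push Not at hmin
    obtain ⟨A, h1, h2, g, hg, h3⟩ := hmin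
    obtain ⟨Q, _, _, ι, τ, q, a, b, c, d⟩ := ih _ (hN ▸ lt_of_le_of_ne A.card_le_card_group
      fun e => h1 (A.card_eq_iff_eq_top.1 e)) A rfl
      (fun h => hK (h.trans A.card_subgroup_dvd_card)) (resAut σ A h2)
      (MulEquiv.ext fun x => Subtype.ext (by rw [resAut_pow, hσ]; rfl))
      (MulEquiv.ext fun x => Subtype.ext (by rw [← pow_mul, resAut_pow, pow_mul, hη]; rfl))
      (fun e => h3 (by rw [← resAut_pow σ A h2 m ⟨g, hg⟩, e]; rfl))
    exact ⟨Q, _, inferInstance, A.subtype.comp ι, τ, q, A.subtype_injective.comp a,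
      fun x => by rw [MonoidHom.comp_apply, b]; rfl, c, d⟩

end Grp

section Rep

variable {F W Q : Type*} [Field F] [IsAlgClosed F] [AddCommGroup W] [Module F W]
  [FiniteDimensional F W] [Group Q] [Fintype Q]

theorem exists_last {M : Type*} [AddCommGroup M] [Module F M] {N : End F M} {m : ℕ} {v : M}
    (h : (N ^ m) v = 0) (hv : v ≠ 0) : ∃ j, (N ^ j) v ≠ 0 ∧ N ((N ^ j) v) = 0 := by
  induction m with
  | zero => exact absurd h hv
  | succ m ih =>
    by_cases h1 : (N ^ m) v = 0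
    · exact ih h1
    · exact ⟨m, h1, by rwa [pow_succ'] at h⟩

omit [IsAlgClosed F] in
theorem sub_one_pow {M : Type*} [AddCommGroup M] [Module F M] {p : ℕ} (hp : p.Prime) [CharP F p]
    (X : End F M) (k : ℕ) : (X - 1) ^ p ^ k = X ^ p ^ k - 1 ∧
      (X - 1) ^ (p ^ k - 1) = ∑ i ∈ range (p ^ k), X ^ i := by
  have h0 : ((p : ℕ) : End F M) = 0 := by
    rw [← map_natCast (algebraMap F _), CharP.cast_eq_zero, map_zero]
  have h1 := geom_char (k := k) hp h0 (Commute.one_right X)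
  simp only [one_pow, mul_one] at h1
  refine ⟨?_, h1.symm⟩
  rw [← Nat.sub_add_cancel (pow_pos hp.pos k), pow_succ, ← h1, geom_sum_mul,
    Nat.sub_add_cancel (pow_pos hp.pos k)]

/-- an equivariant embedding of the twisted module -/
theorem exists_emb {U : Type*} [AddCommGroup U] [Module F U] {ρ : Q →* End F W}
    {τ : Q →* End F U} {p k : ℕ} (hp : p.Prime) [CharP F p] {a : End F U} {b : End F W}
    (σ : MulAut Q) (ha : ∀ g, τ (σ g) * a = a * τ g) (hb : ∀ g, ρ (σ g) * b = b * ρ g)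
    (haP : a ^ p ^ k = 1) (hbP : b ^ p ^ k = 1) {ι : U →ₗ[F] W} (h0 : ι ≠ 0)
    (hι : ∀ g, ι ∘ₗ τ g = ρ g ∘ₗ ι) :
    ∃ f : U →ₗ[F] W, f ≠ 0 ∧ (∀ g, f ∘ₗ τ g = ρ g ∘ₗ f) ∧ f ∘ₗ a = b ∘ₗ f := by
  have hP : 0 < p ^ k := pow_pos hp.pos k
  set a' := a ^ (p ^ k - 1) with ha'
  have e1 : a' * a = 1 := by rw [← pow_succ, Nat.sub_add_cancel hP, haP]
  have e2 : a * a' = 1 := by rw [← pow_succ', Nat.sub_add_cancel hP, haP]
  let B : End F (U →ₗ[F] W) := LinearMap.llcomp F U W W b ∘ₗ LinearMap.lcomp F W a'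
  have hB : ∀ f, B f = b ∘ₗ f ∘ₗ a' := fun f => rfl
  have h1 : ∀ (i : ℕ) f, (B ^ i) f = (b ^ i) ∘ₗ f ∘ₗ (a' ^ i) := fun i f => by
    induction i with
    | zero => rfl
    | succ i ih => rw [pow_succ', End.mul_apply, ih, hB, pow_succ', pow_succ]; rfl
  have h2 : B ^ p ^ k = 1 := LinearMap.ext fun f => by
    rw [h1, hbP, ha', ← pow_mul, mul_comm, pow_mul, haP, one_pow]; rfl
  obtain ⟨j, h3, h4⟩ := exists_last (N := B - 1) (m := p ^ k) (v := ι)
    (by rw [(sub_one_pow hp B k).1, h2, sub_self]; rfl) h0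
  have h5 : ∀ f : U →ₗ[F] W, (∀ g, f ∘ₗ τ g = ρ g ∘ₗ f) → ∀ g, B f ∘ₗ τ g = ρ g ∘ₗ B f := by
    intro f hf g
    obtain ⟨g, rfl⟩ := σ.surjective g
    have e3 : a' * τ (σ g) = τ g * a' := by
      rw [← mul_one (a' * _), ← e2, ← mul_assoc, mul_assoc a', ha, ← mul_assoc, e1, one_mul]
    ext u
    have e4 := LinearMap.congr_fun e3 u
    have e5 := LinearMap.congr_fun (hf g) (a' u)
    have e6 := LinearMap.congr_fun (hb g) (f (a' u))
    simp only [hB, LinearMap.comp_apply, End.mul_apply] at e4 e5 e6 ⊢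
    rw [e4, e5, e6]
  refine ⟨_, h3, ?_, ?_⟩
  · clear h3 h4
    induction j with
    | zero => exact hι
    | succ j ih =>
      intro g
      rw [pow_succ', End.mul_apply, LinearMap.sub_apply, End.one_apply, LinearMap.sub_comp,
        LinearMap.comp_sub, h5 _ ih, ih]
  · rw [LinearMap.sub_apply, End.one_apply, sub_eq_zero, hB] at h4
    conv_lhs => rw [← h4]
    rw [LinearMap.comp_assoc, LinearMap.comp_assoc, ← End.mul_eq_comp a', e1]
    rfl

theorem cs_comm {M : Type*} [Ring M] (π : Q →* M) (g k : Q) :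
    π k * ∑ h, π (h * g * h⁻¹) = (∑ h, π (h * g * h⁻¹)) * π k := by
  rw [mul_sum, sum_mul]
  refine Fintype.sum_equiv (Equiv.mulLeft k) _ _ fun h => ?_
  rw [← map_mul, ← map_mul]
  congr 1
  simp [mul_assoc]

theorem rep_main {p n q : ℕ} (hp : p.Prime) [CharP F p] (ρ : Q →* End F W) (hρ : ∃ g, ρ g ≠ 1)
    (hQ : (Nat.card Q : F) ≠ 0) {X : End F W} (σ : MulAut Q) (hX : ∀ g, ρ (σ g) * X = X * ρ g)
    (hXP : X ^ p ^ n = 1) (hσ : σ ^ p ^ n = 1) (hc : Crit q (σ ^ p ^ (n - 1)))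
    (h0 : (X - 1) ^ (p ^ n - 1) = 0) : ∃ n₀ m : ℕ, 1 ≤ n₀ ∧ n₀ ≤ n ∧ 1 ≤ m ∧ p ^ n₀ - 1 = q ^ m ∧
      ¬ IsMulCommutative Q ∧ (X - 1) ^ (p ^ (n - n₀) * (p ^ n₀ - 1) - 1) ≠ 0 := by
  classical
  have := Fact.mk hp
  have := Fact.mk hc.prime
  -- an irreducible submodule with non-trivial action
  have he : ∀ g, (∑ h, ρ h) * ρ g = ∑ h, ρ h := fun g => by
    rw [sum_mul]
    exact Fintype.sum_equiv (Equiv.mulRight g) _ _ fun h => (map_mul ρ h g).symm
  obtain ⟨U, hU, U0, hinv, hirr⟩ := exists_irr ρ (W := LinearMap.ker (∑ h, ρ h)) (fun e => by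
    obtain ⟨g, hg⟩ := hρ
    refine hg (LinearMap.ext fun v => LinearMap.ker_eq_bot.1 e ?_)
    rw [← End.mul_apply, he]; rfl) fun g w hw => by
      rw [LinearMap.mem_ker] at hw ⊢
      rw [← End.mul_apply, he, hw]
  have := Submodule.nontrivial_iff_ne_bot.2 U0
  set τ := resRep ρ U hinv with hτd
  have hτ1 : ¬ ∀ g, τ g = 1 := fun h => by
    obtain ⟨w, hw, w0⟩ := Submodule.exists_mem_ne_zero_of_ne_bot U0
    have h1 : ∀ g, ρ g w = w := fun g => congrArg Subtype.val (LinearMap.congr_fun (h g) ⟨w, hw⟩)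
    have h2 := LinearMap.mem_ker.1 (hU hw)
    simp only [LinearMap.sum_apply, h1, sum_const, card_univ] at h2
    rw [← Nat.cast_smul_eq_nsmul F, ← Nat.card_eq_fintype_card] at h2
    exact w0 ((smul_eq_zero.1 h2).resolve_left hQ)
  have hsc : ∀ c, (∀ g, g * c = c * g) → c ∈ sc τ := fun c h =>
    schur hirr _ fun g => by rw [← map_mul, ← map_mul, h]
  have hτ : Irr τ := ⟨hirr, fun g h => by
    obtain ⟨c, e⟩ := hsc _ (hc.central (hc.comm h g))
    exact ⟨c, by rw [Algebra.smul_def, ← e, ← map_mul, inv_mul_cancel_right]⟩, hQ⟩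
  -- class sums
  let f : Q → End F W := fun g => ∑ h, ρ (h * g * h⁻¹)
  let E : (Q → F) → Submodule F W := fun ψ => ⨅ g, (f g).eigenspace (ψ g)
  have mE : ∀ ψ w, w ∈ E ψ ↔ ∀ g, f g w = ψ g • w := fun ψ w => by
    simp only [E, Submodule.mem_iInf, End.mem_eigenspace_iff]
  have hE : iSupIndep E := wt_indep f fun g k =>
    Commute.sum_left _ _ _ fun h _ => cs_comm ρ k _
  choose χ hχ using fun g => schur hirr _ (cs_comm τ g)
  have hχ1 : ∀ g ∈ sc τ, τ g = algebraMap F _ ((Nat.card Q : F)⁻¹ * χ g) := fun g hg => by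
    rw [map_mul, ← hχ, SS_mem hg, ← Algebra.smul_def, inv_smul_smul₀ hQ]
  have hχ2 : ∀ g, g ∈ sc τ ↔ χ g ≠ 0 := fun g => ⟨fun hg e => by
    have h1 : τ g⁻¹ * τ g = 1 := by rw [← map_mul, inv_mul_cancel, map_one]
    rw [hχ1 g hg, e, mul_zero, map_zero, mul_zero] at h1
    exact zero_ne_one h1, fun h => by
    by_contra hg
    exact h ((algebraMap F (End F U)).injective (by rw [← hχ, hτ.SS_not hg, map_zero]))⟩
  let T : (Q → F) → Q → F := fun ψ g => ψ (σ⁻¹ g)
  have hT : ∀ i g, T^[i] χ g = χ ((σ ^ i)⁻¹ g) := fun i => by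
    induction i with
    | zero => intro g; rfl
    | succ i ih => intro g; rw [Function.iterate_succ_apply', pow_succ', mul_inv_rev]; exact ih _
  have hXi : ∀ (i : ℕ) g, ρ ((σ ^ i) g) * X ^ i = X ^ i * ρ g := fun i => by
    induction i with
    | zero => simp
    | succ i ih => intro g; rw [pow_succ' σ, pow_succ' X, MulAut.mul_apply, ← mul_assoc, hX,
        mul_assoc, ih, mul_assoc]
  have hEi : ∀ i, ∀ w ∈ E χ, (X ^ i) w ∈ E (T^[i] χ) := fun i w hw => (mE _ _).2 fun g => by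
    obtain ⟨g, rfl⟩ := (σ ^ i).surjective g
    have h1 : f ((σ ^ i) g) * X ^ i = X ^ i * f g := by
      simp only [f, mul_sum, sum_mul]
      refine (Fintype.sum_equiv (σ ^ i).toEquiv _ _ fun h => ?_).symm
      rw [← hXi, map_mul (σ ^ i), map_mul (σ ^ i), map_inv]
      rfl
    rw [← End.mul_apply, h1, End.mul_apply, (mE _ _).1 hw, map_smul, hT, MulAut.inv_apply_self]
  have hper : Function.IsPeriodicPt T (p ^ n) χ := funext fun g => by rw [hT, hσ]; rfl
  obtain ⟨s, hs, hd⟩ := (Nat.dvd_prime_pow hp).1 hper.minimalPeriod_dvd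
  have hfix : ∀ g, χ ((σ ^ p ^ s) g) = χ g := fun g => by
    have := congrFun (Function.iterate_minimalPeriod (f := T) (x := χ)) ((σ ^ p ^ s) g)
    rw [hd, hT, MulAut.inv_apply_self] at this
    exact this.symm
  have hind : ∀ w ∈ E χ, ((X - 1) ^ (p ^ s - 1)) w = 0 → w = 0 := fun w hw h => by
    rw [(sub_one_pow hp X s).2, ← Nat.sub_add_cancel (pow_pos hp.pos s), sum_range_succ',
      LinearMap.add_apply, pow_zero, End.one_apply, LinearMap.sum_apply] at h
    refine (Submodule.disjoint_def.1 (hE χ)) w hw ?_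
    rw [eq_neg_of_add_eq_zero_right h]
    refine neg_mem (Submodule.sum_mem _ fun i hi => ?_)
    refine (le_iSup₂_of_le (f := fun ψ (_ : ψ ≠ χ) => E ψ) (T^[i + 1] χ) (fun e => ?_) le_rfl)
      (hEi _ w hw)
    have h1 := mem_range.1 hi
    have := (Function.iterate_eq_iterate_iff_of_lt_minimalPeriod (f := T) (x := χ) (m := i + 1)
      (n := 0) (by omega) (by omega)).1 e
    omega
  obtain ⟨k, rfl⟩ := Nat.exists_eq_add_of_le hs
  have h1 : ∀ g, (σ ^ p ^ s) g ∈ sc τ ↔ g ∈ sc τ := fun g => by rw [hχ2, hχ2, hfix]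
  obtain ⟨a₀, ha₀, ea₀⟩ := hτ.exists_twist (σ ^ p ^ s) h1 fun g hg => by
    rw [hχ1 _ hg, hχ1 _ ((h1 g).2 hg), hfix]
  have hσ' : (σ ^ p ^ s) ^ p ^ k = 1 := by rw [← pow_mul, ← pow_add, hσ]
  have htw : ∀ {a : End F U}, (∀ g, τ ((σ ^ p ^ s) g) * a = a * τ g) →
      ∀ (i : ℕ) g, τ (((σ ^ p ^ s) ^ i) g) * a ^ i = a ^ i * τ g := fun {a} ha i => by
    induction i with
    | zero => simp
    | succ i ih => intro g; rw [pow_succ' (σ ^ p ^ s), pow_succ' a, MulAut.mul_apply, ← mul_assoc,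
        ha, mul_assoc, ih, mul_assoc]
  obtain ⟨c, hc0⟩ := schur hirr (a₀ ^ p ^ k) fun g => by rw [← htw ea₀, hσ']; rfl
  obtain ⟨d, hd'⟩ := IsAlgClosed.exists_pow_nat_eq c (pow_pos hp.pos k)
  have hd0 : d ≠ 0 := by
    rintro rfl
    rw [← hd', zero_pow (pow_pos hp.pos k).ne', map_zero] at hc0
    exact (ha₀.pow _).ne_zero hc0
  set a := d⁻¹ • a₀ with had
  have ea : ∀ g, τ ((σ ^ p ^ s) g) * a = a * τ g := fun g => by
    rw [had, mul_smul_comm, smul_mul_assoc, ea₀]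
  have haP : a ^ p ^ k = 1 := by
    rw [had, smul_pow, hc0, ← hd', Algebra.smul_def, ← map_mul, ← mul_pow, inv_mul_cancel₀ hd0,
      one_pow, map_one]
  obtain ⟨φ, φ0, hφ, hφa⟩ := exists_emb (ρ := ρ) (τ := τ) hp (σ ^ p ^ s) ea (hXi _) haP
    (by rw [← pow_mul, ← pow_add, hXP]) (ι := U.subtype) (fun e => by
      obtain ⟨w, hw, w0⟩ := Submodule.exists_mem_ne_zero_of_ne_bot U0
      exact w0 (LinearMap.congr_fun e ⟨w, hw⟩)) fun g => rfl
  have hφ' : ∀ g u, φ (τ g u) = ρ g (φ u) := fun g u => LinearMap.congr_fun (hφ g) u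
  have hinj : LinearMap.ker φ = ⊥ := (hirr _ fun g w hw => by
    rw [LinearMap.mem_ker] at hw ⊢
    rw [hφ', hw, map_zero]).resolve_right (mt LinearMap.ker_eq_top.1 φ0)
  have hkey : ∀ j, (X - 1) ^ (p ^ s * j + (p ^ s - 1)) = 0 → (a - 1) ^ j = 0 := fun j h => by
    refine LinearMap.ext fun u => LinearMap.ker_eq_bot'.1 hinj _ (hind _ ((mE _ _).2 fun g => ?_) ?_)
    · simp only [f, LinearMap.sum_apply, ← hφ']
      rw [← map_sum, ← LinearMap.sum_apply, hχ, Module.algebraMap_end_apply, map_smul]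
    · have h2 : ∀ j : ℕ, φ (((a - 1) ^ j) u) = ((X ^ p ^ s - 1) ^ j) (φ u) := fun j => by
        induction j with
        | zero => rfl
        | succ j ih =>
          rw [pow_succ', pow_succ', End.mul_apply, End.mul_apply, ← ih, LinearMap.sub_apply,
            LinearMap.sub_apply, map_sub]
          congr 1
          exact LinearMap.congr_fun hφa _
      rw [h2, ← (sub_one_pow hp X s).1, ← pow_mul, ← End.mul_apply, ← pow_add, add_comm, h]
      rfl
  have hP := pow_pos hp.pos k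
  have hS := pow_pos hp.pos s
  have h3 : (a - 1) ^ (p ^ k - 1) = 0 := hkey _ (by
    rw [← h0, pow_add p, Nat.mul_sub_one]
    have := Nat.le_mul_of_pos_right (p ^ s) hP
    congr 1
    omega)
  have hk : k ≠ 0 := by
    rintro rfl
    simp at h3
  have hη : σ ^ p ^ (s + k - 1) = (σ ^ p ^ s) ^ p ^ (k - 1) := by
    rw [← pow_mul, ← pow_add]; congr 2; omega
  have ha1 : a ≠ 1 := fun e => hτ1 fun g => by
    have : τ.toHomUnits.ker = ⊤ := hc.gen _ fun g => by
      have h4 := htw ea (p ^ (k - 1)) g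
      rw [e, one_pow, mul_one, one_mul, ← hη] at h4
      exact Units.ext (by
        rw [MonoidHom.coe_toHomUnits, map_mul, h4, ← map_mul, inv_mul_cancel, map_one]; rfl)
    exact congrArg Units.val (this ▸ Subgroup.mem_top g : g ∈ τ.toHomUnits.ker)
  obtain ⟨h4, h5⟩ := hτ.core hp hk (σ ^ p ^ s) ea h1 haP hσ' (fun g hg i i0 hi e => by
    refine hg (hsc g (hc.central ?_))
    have h6 : MulAction.period (σ ^ p ^ s) g ∣ i := MulAction.pow_smul_eq_iff_period_dvd.1 e
    obtain ⟨t, ht, h7⟩ := (Nat.dvd_prime_pow hp).1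
      ((MulAction.pow_smul_eq_iff_period_dvd (m := σ ^ p ^ s) (a := g) (n := p ^ k)).1
        (by rw [hσ', one_smul]))
    have h8 : t ≠ k := fun e => by
      rw [h7, e] at h6
      exact absurd (Nat.le_of_dvd i0 h6) (by omega)
    rw [hη]
    exact (MulAction.pow_smul_eq_iff_period_dvd (m := σ ^ p ^ s) (a := g)).2
      (by rw [h7]; exact pow_dvd_pow p (by omega))) ha1 h3
  obtain ⟨m, hm⟩ := hc.pg.index (sc τ)
  obtain ⟨m', -, hm'⟩ := (Nat.dvd_prime_pow hc.prime).1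
    (show finrank F U ∣ q ^ m by rw [← hm, ← hτ.finrank_sq]; exact dvd_pow_self _ two_ne_zero)
  have hP2 : 2 ≤ p ^ k := Nat.one_lt_pow hk hp.one_lt
  have hm0 : m' ≠ 0 := by
    rintro rfl
    rw [← h5, hm', pow_zero, pow_one, sub_eq_zero] at h3
    exact ha1 h3
  refine ⟨k, m', by omega, by omega, by omega, h5 ▸ hm', fun hab => hm0 ?_, fun e => h4 (hkey _ ?_)⟩
  · have h6 := hτ.finrank_sq
    rw [show sc τ = ⊤ from top_le_iff.1 fun g _ => hsc g fun h => hab.is_comm.comm h g,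
      Subgroup.index_top, hm', ← pow_mul, Nat.pow_eq_one] at h6
    have := hc.prime.one_lt
    omega
  · rw [← e, Nat.add_sub_cancel]
    congr 1
    obtain ⟨t, ht⟩ := Nat.exists_eq_add_of_le hP2
    rw [ht, Nat.add_sub_cancel_left, show 2 + t - 1 = t + 1 by omega, Nat.mul_succ]
    omega

end Rep

end H1.HH
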