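import Mathlib
import Cfsg.Agent.H24.V4B

/-! Sporadic groups given by presentations or matrices are not isomorphic to `A₉`. -/

set_option autoImplicit false

namespace H1.A9

open Cfsg Cfsg.Spor Subgroup H24.V4

/-- no elements of order `8`, `23`, `30` -/
structure N9 (K : Type*) [Group K] : Prop where
  n8 : ∀ x : K, x ^ 8 = 1 → x ^ 4 = 1
  n23 : ∀ x : K, x ^ 23 = 1 → x = 1
  n30 : ∀ x y t : K, x ^ 5 = 1 → y ^ 3 = 1 → t ^ 2 = 1 → Commute x y → Commute x t → Commute y t →
    x = 1 ∨ y = 1 ∨ t = 1

section general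
variable {K L : Type*} [Group K] [Group L]

theorem N9.equiv (h : N9 K) (e : K ≃* L) : N9 L where
  n8 x hx := by
    obtain ⟨x, rfl⟩ := e.surjective x
    rw [← map_pow, map_eq_one_iff _ e.injective] at hx ⊢
    exact h.n8 x hx
  n23 x hx := by
    obtain ⟨x, rfl⟩ := e.surjective x
    rw [← map_pow, map_eq_one_iff _ e.injective] at hx
    rw [h.n23 x hx, map_one]
  n30 x y t hx hy ht h1 h2 h3 := by
    obtain ⟨x, rfl⟩ := e.surjective x
    obtain ⟨y, rfl⟩ := e.surjective y
    obtain ⟨t, rfl⟩ := e.surjective t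
    rw [← map_pow, map_eq_one_iff _ e.injective] at hx hy ht
    simp only [map_eq_one_iff _ e.injective]
    have c : ∀ {u v : K}, Commute (e u) (e v) → Commute u v := fun h =>
      e.injective (by rw [map_mul, map_mul]; exact h)
    exact h.n30 x y t hx hy ht (c h1) (c h2) (c h3)

theorem N9.sub {H : Subgroup K} (h : N9 H) {x y t : K} (mx : x ∈ H) (my : y ∈ H) (mt : t ∈ H) (hx : x ^ 5 = 1)
    (hy : y ^ 3 = 1) (ht : t ^ 2 = 1) (h1 : Commute x y) (h2 : Commute x t) (h3 : Commute y t) :
    x = 1 ∨ y = 1 ∨ t = 1 := by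
  simpa only [Subtype.ext_iff, OneMemClass.coe_one] using h.n30 ⟨x, mx⟩ ⟨y, my⟩ ⟨t, mt⟩ (Subtype.ext hx) (Subtype.ext hy)
    (Subtype.ext ht) (Subtype.ext h1) (Subtype.ext h2) (Subtype.ext h3)

theorem N9.top (h : N9 K) : N9 (⊤ : Subgroup K) := h.equiv Subgroup.topEquiv.symm

theorem a4 {a b c d : K} (ha : a * a = 1) (hb : b * b = 1) (hc : c * c = 1) (hd : d * d = 1)
    (ab : (a * b) ^ 3 = 1) (bc : (b * c) ^ 3 = 1) (cd : (c * d) ^ 3 = 1) (ac : c * a = a * c) (ad : d * a = a * d)
    (bd : d * b = b * d) : (a * b * c * d) ^ 5 = 1 := by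
  set w := a * b * c * d with hw
  have b1 := braid ha hb ab
  have b2 := braid hb hc bc
  have b3 := braid hc hd cd
  have wa : w * a = b * w := by
    calc w * a = a * b * c * (d * a) := by rw [hw]; group
      _ = a * b * (c * a) * d := by rw [ad]; group
      _ = a * b * a * c * d := by rw [ac]; group
      _ = b * w := by rw [b1, hw]; group
  have wb : w * b = c * w := by
    calc w * b = a * b * c * (d * b) := by rw [hw]; group
      _ = a * (b * c * b) * d := by rw [bd]; group
      _ = (a * c) * b * c * d := by rw [b2]; group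
      _ = c * w := by rw [← ac, hw]; group
  have wc : w * c = d * w := by
    calc w * c = a * b * (c * d * c) := by rw [hw]; group
      _ = a * (b * d) * c * d := by rw [b3]; group
      _ = (a * d) * b * c * d := by rw [← bd]; group
      _ = d * w := by rw [← ad, hw]; group
  have wd : w * d * c = a * b := by
    calc w * d * c = a * b * (c * (d * d) * c) := by rw [hw]; group
      _ = a * b := by rw [hd, mul_one, hc, mul_one]
  have w2 : w * w = b * c * d * (a * b * c) := by
    calc w * w = (w * a) * b * c * d := by nth_rw 2 [hw]; group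
      _ = b * (w * b) * c * d := by rw [wa]; group
      _ = b * c * (w * c) * d := by rw [wb]; group
      _ = b * c * d * (a * b * c) * (d * d) := by rw [wc, hw]; group
      _ = _ := by rw [hd, mul_one]
  have w2' : w * w = b * a * c * b * d * c := by
    calc w * w = b * c * (d * a) * b * c := by rw [w2]; group
      _ = b * (c * a) * (d * b) * c := by rw [ad]; group
      _ = _ := by rw [ac, bd]; group
  have w3 : w * w * w = c * b * d * c * (a * b) := by
    calc w * w * w = w * (w * w) := by group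
      _ = (w * b) * a * c * b * d * c := by rw [w2']; group
      _ = c * (w * a) * c * b * d * c := by rw [wb]; group
      _ = c * b * (w * c) * b * d * c := by rw [wa]; group
      _ = c * b * d * (w * b) * d * c := by rw [wc]; group
      _ = c * b * d * c * (w * d * c) := by rw [wb]; group
      _ = _ := by rw [wd]
  have w4 : w * w * w * w = d * c * b * a := by
    calc w * w * w * w = w * (w * w * w) := by group
      _ = (w * c) * b * d * c * (a * b) := by rw [w3]; group
      _ = d * (w * b) * d * c * (a * b) := by rw [wc]; group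
      _ = d * c * (w * d * c) * (a * b) := by rw [wb]; group
      _ = d * c * (a * b * a) * b := by rw [wd]; group
      _ = d * c * b * a * (b * b) := by rw [b1]; group
      _ = _ := by rw [hb, mul_one]
  calc w ^ 5 = w * w * w * w * w := by simp only [pow_succ, pow_zero, one_mul]
    _ = d * (c * (b * (a * a) * b) * c) * d := by rw [w4, hw]; group
    _ = 1 := by rw [ha, mul_one, hb, mul_one, hc, mul_one, hd]

end general

section cox
variable {α : Type} [DecidableEq α] {edges : List (α × ℕ × α)} {extra : List (FreeGroup α)}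
variable (hn : ∀ x, x ∈ coxNodes edges)
include hn

theorem pth (a b c : α) (ab : coxLabel edges a b = 3 := by decide) (ba : coxLabel edges c b = 3 := by decide)
    (ac : coxLabel edges a c = 2 := by decide) (ca : coxLabel edges c a = 2 := by decide) :
    g edges extra a = g edges extra b ↔ g edges extra b = g edges extra c :=
  ⟨fun h => (step hn c rfl h ba ca).symm, fun h => step hn a rfl h.symm ab ac⟩

theorem eq_of_mul {x y : α} (h : g edges extra x * g edges extra y = 1) : g edges extra x = g edges extra y :=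
  (eq_inv_of_mul_eq_one_left h).trans (inv_eq_of_mul_eq_one_left (sq hn y))

theorem co (x y : α) (h : coxLabel edges x y = 2 := by decide) : Commute (g edges extra x) (g edges extra y) :=
  (cm hn x y h).symm

/-- a sub-diagram `A₄ + A₂` and a commuting involution -/
theorem thirty {H : Subgroup (CoxPresented α edges extra)} (h : N9 H) (a b c d e f : α)
    {t : CoxPresented α edges extra} (ht : t ^ 2 = 1) (mt : t ∈ H)
    (hc : ∀ x ∈ [a, b, c, d, e, f], Commute (g edges extra x) t)
    (m1 : g edges extra a * g edges extra b * g edges extra c * g edges extra d ∈ H)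
    (m2 : g edges extra e * g edges extra f ∈ H)
    (h3 : ∀ p ∈ [(a, b), (b, c), (c, d), (e, f)], coxLabel edges p.1 p.2 = 3 := by decide)
    (h2 : ∀ p ∈ [(a, c), (a, d), (b, d), (a, e), (b, e), (c, e), (d, e), (a, f), (b, f), (c, f), (d, f)],
      coxLabel edges p.1 p.2 = 2 := by decide) :
    g edges extra a = g edges extra b ∨ g edges extra e = g edges extra f ∨ t = 1 := by
  simp only [List.forall_mem_cons] at hc h3 h2
  obtain ⟨t1, t2, t3, t4, t5, t6, -⟩ := hc
  obtain ⟨ab, bc, cd, ef, -⟩ := h3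
  obtain ⟨ac, ad, bd, ae, be, ce, de, af, bf, cf, df, -⟩ := h2
  rcases h.sub m1 m2 mt (a4 (sq hn a) (sq hn b) (sq hn c) (sq hn d) (rel hn a b ab) (rel hn b c bc) (rel hn c d cd)
    (cm hn a c ac) (cm hn a d ad) (cm hn b d bd)) (rel hn e f ef) ht
    (((((co hn a e ae).mul_right (co hn a f af)).mul_left ((co hn b e be).mul_right (co hn b f bf))).mul_left
      ((co hn c e ce).mul_right (co hn c f cf))).mul_left ((co hn d e de).mul_right (co hn d f df)))
    (((t1.mul_left t2).mul_left t3).mul_left t4) (t5.mul_left t6) with h1 | h1 | h1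
  · left
    have h4 : Commute (g edges extra a) (g edges extra a * g edges extra b) := by
      rw [mul_assoc, mul_eq_one_iff_eq_inv] at h1
      rw [h1]
      exact ((co hn a c ac).mul_right (co hn a d ad)).inv_right
    have h5 : Commute (g edges extra a) (g edges extra b) := by
      have := (Commute.refl (g edges extra a)).inv_right.mul_right h4
      rwa [inv_mul_cancel_left] at this
    refine eq_of_mul hn (eq_one_of_pow (rel hn a b ab) (n := 2) ?_)
    rw [h5.mul_pow, pow_two, pow_two, sq hn, sq hn, one_mul]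
  · exact Or.inr (Or.inl (eq_of_mul hn h1))
  · exact Or.inr (Or.inr h1)

theorem of_one {x y : α} (h : g edges extra y = 1) (h3 : coxLabel edges x y = 3 := by decide) :
    g edges extra x = g edges extra y := by
  have h1 := rel (extra := extra) hn x y h3
  rw [h, mul_one] at h1
  rw [h]
  exact eq_one_of_pow h1 ((pow_two _).trans (sq hn x))

end cox

theorem fi22 (h : N9 Fi22) : IsMulCommutative Fi22 := by
  have hn : ∀ x, x ∈ coxNodes Fi22.edges := by intro x; cases x <;> decide
  have p1 := pth (extra := Fi22.extra) hn .a .b .c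
  have p2 := pth (extra := Fi22.extra) hn .b .c .d
  have p3 := pth (extra := Fi22.extra) hn .c .d .e
  have p4 := pth (extra := Fi22.extra) hn .d .e .f
  have p5 := pth (extra := Fi22.extra) hn .e .f .g
  have p6 := pth (extra := Fi22.extra) hn .c .d .h
  have p7 := pth (extra := Fi22.extra) hn .d .h .i
  have ab : g Fi22.edges Fi22.extra .a = g Fi22.edges Fi22.extra .b := by
    rcases thirty hn h.top .a .b .c .d .f .g (t := g Fi22.edges Fi22.extra .i) ((pow_two _).trans (sq hn _)) trivial
      (by simp only [List.forall_mem_cons]; exact ⟨co hn _ _, co hn _ _, co hn _ _, co hn _ _, co hn _ _, co hn _ _,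
        by simp⟩) trivial trivial with h1 | h1 | h1
    exacts [h1, p1.2 (p2.2 (p3.2 (p4.2 (p5.2 h1)))), p1.2 (p2.2 (p6.2 (p7.2 (of_one hn h1))))]
  have bc := p1.1 ab
  have cd := p2.1 bc
  have de := p3.1 cd
  have ef := p4.1 de
  have dh := p6.1 cd
  refine comm_of_gens (c := g Fi22.edges Fi22.extra .d) fun x => ?_
  cases x
  exacts [ab.trans (bc.trans cd), bc.trans cd, cd, rfl, de.symm, (de.trans ef).symm,
    (de.trans (ef.trans (p5.1 ef))).symm, dh.symm, (dh.trans (p7.1 dh)).symm]

theorem fi23 (h : N9 Fi23) : IsMulCommutative Fi23 := by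
  have hn : ∀ x, x ∈ coxNodes Fi23.edges := by intro x; cases x <;> decide
  have p1 := pth (extra := Fi23.extra) hn .a .b .c
  have p2 := pth (extra := Fi23.extra) hn .b .c .d
  have p3 := pth (extra := Fi23.extra) hn .c .d .e
  have p4 := pth (extra := Fi23.extra) hn .d .e .f
  have p5 := pth (extra := Fi23.extra) hn .e .f .g
  have p6 := pth (extra := Fi23.extra) hn .c .d .h
  have p7 := pth (extra := Fi23.extra) hn .d .h .i
  have p8 := pth (extra := Fi23.extra) hn .f .g .j
  have ab : g Fi23.edges Fi23.extra .a = g Fi23.edges Fi23.extra .b := by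
    rcases thirty hn h.top .a .b .c .d .f .g (t := g Fi23.edges Fi23.extra .i) ((pow_two _).trans (sq hn _)) trivial
      (by simp only [List.forall_mem_cons]; exact ⟨co hn _ _, co hn _ _, co hn _ _, co hn _ _, co hn _ _, co hn _ _,
        by simp⟩) trivial trivial with h1 | h1 | h1
    exacts [h1, p1.2 (p2.2 (p3.2 (p4.2 (p5.2 h1)))), p1.2 (p2.2 (p6.2 (p7.2 (of_one hn h1))))]
  have bc := p1.1 ab
  have cd := p2.1 bc
  have de := p3.1 cd
  have ef := p4.1 de
  have fg := p5.1 ef
  have dh := p6.1 cd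
  refine comm_of_gens (c := g Fi23.edges Fi23.extra .d) fun x => ?_
  cases x
  exacts [ab.trans (bc.trans cd), bc.trans cd, cd, rfl, de.symm, (de.trans ef).symm,
    (de.trans (ef.trans fg)).symm, (de.trans (ef.trans (fg.trans (p8.1 fg)))).symm, dh.symm,
    (dh.trans (p7.1 dh)).symm]

theorem fi24 (h : N9 Fi24') : IsMulCommutative Fi24' := by
  have hn : ∀ x, x ∈ coxNodes Fi24.edges := by intro x; cases x <;> decide
  have q1 := pth (extra := Fi24.extra) hn .l .k .a
  have q2 := pth (extra := Fi24.extra) hn .k .a .b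
  have p1 := pth (extra := Fi24.extra) hn .a .b .c
  have p2 := pth (extra := Fi24.extra) hn .b .c .d
  have p3 := pth (extra := Fi24.extra) hn .c .d .e
  have p4 := pth (extra := Fi24.extra) hn .d .e .f
  have p5 := pth (extra := Fi24.extra) hn .e .f .g
  have p6 := pth (extra := Fi24.extra) hn .c .d .h
  have p7 := pth (extra := Fi24.extra) hn .d .h .i
  have p8 := pth (extra := Fi24.extra) hn .f .g .j
  have ab : g Fi24.edges Fi24.extra .a = g Fi24.edges Fi24.extra .b := by
    rcases thirty hn h .l .k .a .b .f .g (t := g Fi24.edges Fi24.extra .d * g Fi24.edges Fi24.extra .i)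
      (by rw [(co hn .d .i).mul_pow, pow_two, pow_two, sq hn, sq hn, one_mul]) (tr hn (adj hn .d .h) (adj hn .h .i))
      (by simp only [List.forall_mem_cons]; exact ⟨(co hn _ _).mul_right (co hn _ _),
        (co hn _ _).mul_right (co hn _ _), (co hn _ _).mul_right (co hn _ _), (co hn _ _).mul_right (co hn _ _),
        (co hn _ _).mul_right (co hn _ _), (co hn _ _).mul_right (co hn _ _), by simp⟩)
      (by rw [mul_assoc]; exact mul_mem (adj hn .l .k) (adj hn .a .b)) (adj hn .f .g) with h1 | h1 | h1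
    exacts [q2.1 (q1.1 h1), p1.2 (p2.2 (p3.2 (p4.2 (p5.2 h1)))),
      p1.2 (p2.2 (step hn .c rfl (eq_of_mul hn h1).symm))]
  have ka := q2.2 ab
  have bc := p1.1 ab
  have cd := p2.1 bc
  have de := p3.1 cd
  have ef := p4.1 de
  have fg := p5.1 ef
  have dh := p6.1 cd
  have ad := ab.trans (bc.trans cd)
  haveI : IsMulCommutative Fi24 := comm_of_gens (c := g Fi24.edges Fi24.extra .d) fun x => by
    cases x
    exacts [(q1.2 ka).trans (ka.trans ad), ka.trans ad, ad, bc.trans cd, cd, rfl, de.symm, (de.trans ef).symm,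
      (de.trans (ef.trans fg)).symm, (de.trans (ef.trans (fg.trans (p8.1 fg)))).symm, dh.symm,
      (dh.trans (p7.1 dh)).symm]
  infer_instance

theorem baby (h : N9 BabyMonster) : IsMulCommutative BabyMonster := by
  have hn : ∀ x, x ∈ coxNodes BabyMonster.edges := by intro x; cases x <;> decide
  have p1 := pth (extra := BabyMonster.extra) hn .t1 .t2 .t3
  have p2 := pth (extra := BabyMonster.extra) hn .t2 .t3 .t4
  have p3 := pth (extra := BabyMonster.extra) hn .t3 .t4 .t5
  have p4 := pth (extra := BabyMonster.extra) hn .t4 .t5 .t6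
  have p5 := pth (extra := BabyMonster.extra) hn .t5 .t6 .t7
  have p6 := pth (extra := BabyMonster.extra) hn .t6 .t7 .t8
  have p7 := pth (extra := BabyMonster.extra) hn .t4 .t5 .t9
  have p8 := pth (extra := BabyMonster.extra) hn .t5 .t9 .t10
  have p9 := pth (extra := BabyMonster.extra) hn .t9 .t10 .t11
  have h45 : g BabyMonster.edges BabyMonster.extra .t4 = g BabyMonster.edges BabyMonster.extra .t5 := by
    rcases thirty hn h.top .t1 .t2 .t3 .t4 .t6 .t7 (t := g BabyMonster.edges BabyMonster.extra .t11) ((pow_two _).trans (sq hn _)) trivial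
      (by simp only [List.forall_mem_cons]; exact ⟨co hn _ _, co hn _ _, co hn _ _, co hn _ _, co hn _ _, co hn _ _,
        by simp⟩) trivial trivial with h1 | h1 | h1
    exacts [p3.1 (p2.1 (p1.1 h1)), p4.2 (p5.2 h1), p7.2 (p8.2 (p9.2 (of_one hn h1)))]
  have h34 := p3.2 h45
  have h23 := p2.2 h34
  have h56 := p4.1 h45
  have h67 := p5.1 h56
  have h59 := p7.1 h45
  have h9 := p8.1 h59
  refine comm_of_gens (c := g BabyMonster.edges BabyMonster.extra .t5) fun x => ?_
  cases x
  exacts [(p1.2 h23).trans (h23.trans (h34.trans h45)), h23.trans (h34.trans h45), h34.trans h45, h45, rfl, h56.symm,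
    (h56.trans h67).symm, (h56.trans (h67.trans (p6.1 h67))).symm, h59.symm, (h59.trans h9).symm,
    (h59.trans (h9.trans (p9.1 h9))).symm]

theorem monster (h : N9 Monster) : IsMulCommutative Monster := by
  have hn : ∀ x, x ∈ coxNodes Bimonster.edges := by intro x; cases x <;> decide
  have ca : ∀ x, coxLabel Bimonster.edges .a x = 2 →
      g Bimonster.edges Bimonster.extra x ∈ Subgroup.centralizer {(PresentedGroup.of Bimonster.Gen.a : Bimonster)} :=
    fun x hx => Subgroup.mem_centralizer_singleton_iff.2 (cm hn _ _ hx)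
  have p1 := pth (extra := Bimonster.extra) hn .a .b1 .c1
  have p2 := pth (extra := Bimonster.extra) hn .b1 .c1 .d1
  have p3 := pth (extra := Bimonster.extra) hn .c1 .d1 .e1
  have p4 := pth (extra := Bimonster.extra) hn .d1 .e1 .f1
  have q0 := pth (extra := Bimonster.extra) hn .b1 .a .b2
  have q1 := pth (extra := Bimonster.extra) hn .a .b2 .c2
  have q2 := pth (extra := Bimonster.extra) hn .b2 .c2 .d2
  have q3 := pth (extra := Bimonster.extra) hn .c2 .d2 .e2
  have q4 := pth (extra := Bimonster.extra) hn .d2 .e2 .f2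
  have r0 := pth (extra := Bimonster.extra) hn .b1 .a .b3
  have r1 := pth (extra := Bimonster.extra) hn .a .b3 .c3
  have r2 := pth (extra := Bimonster.extra) hn .b3 .c3 .d3
  have r3 := pth (extra := Bimonster.extra) hn .c3 .d3 .e3
  have r4 := pth (extra := Bimonster.extra) hn .d3 .e3 .f3
  have ab : g Bimonster.edges Bimonster.extra .b1 = g Bimonster.edges Bimonster.extra .a := by
    rcases thirty hn h .c1 .d1 .e1 .f1 .c2 .d2 (t := g Bimonster.edges Bimonster.extra .c3 * g Bimonster.edges Bimonster.extra .e3)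
      (by rw [(co hn .c3 .e3).mul_pow, pow_two, pow_two, sq hn, sq hn, one_mul])
      ⟨mul_mem (ca _ (by decide)) (ca _ (by decide)), tr hn (adj hn .c3 .d3) (adj hn .d3 .e3)⟩
      (by simp only [List.forall_mem_cons]; exact ⟨(co hn _ _).mul_right (co hn _ _),
        (co hn _ _).mul_right (co hn _ _), (co hn _ _).mul_right (co hn _ _), (co hn _ _).mul_right (co hn _ _),
        (co hn _ _).mul_right (co hn _ _), (co hn _ _).mul_right (co hn _ _), by simp⟩)
      ⟨mul_mem (mul_mem (mul_mem (ca _ (by decide)) (ca _ (by decide))) (ca _ (by decide))) (ca _ (by decide)),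
        by rw [mul_assoc]; exact mul_mem (adj hn .c1 .d1) (adj hn .e1 .f1)⟩
      ⟨mul_mem (ca _ (by decide)) (ca _ (by decide)), adj hn .c2 .d2⟩ with h1 | h1 | h1
    exacts [(p1.2 (p2.2 h1)).symm, q0.2 (q1.2 (q2.2 h1)), r0.2 (r1.2 (step hn .b3 rfl (eq_of_mul hn h1).symm))]
  have c1 := p1.1 ab.symm
  have d1 := p2.1 c1
  have e1 := p3.1 d1
  have b2 := q0.1 ab
  have c2 := q1.1 b2
  have d2 := q2.1 c2
  have e2 := q3.1 d2
  have b3 := r0.1 ab
  have c3 := r1.1 b3
  have d3 := r2.1 c3
  have e3 := r3.1 d3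
  haveI : IsMulCommutative Bimonster := comm_of_gens (c := g Bimonster.edges Bimonster.extra .a) fun x => by
    cases x
    exacts [rfl, ab, c1.symm.trans ab, (c1.trans d1).symm.trans ab, (c1.trans (d1.trans e1)).symm.trans ab,
      (c1.trans (d1.trans (e1.trans (p4.1 e1)))).symm.trans ab, b2.symm, (b2.trans c2).symm,
      (b2.trans (c2.trans d2)).symm, (b2.trans (c2.trans (d2.trans e2))).symm,
      (b2.trans (c2.trans (d2.trans (e2.trans (q4.1 e2))))).symm, b3.symm, (b3.trans c3).symm,
      (b3.trans (c3.trans d3)).symm, (b3.trans (c3.trans (d3.trans e3))).symm,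
      (b3.trans (c3.trans (d3.trans (e3.trans (r4.1 e3))))).symm]
  infer_instance

theorem suz_aux {Γ : Type*} [Group Γ] (f : Suz.Gen → Γ) (h : N9 Γ) (R : ∀ r ∈ Suz.extra, FreeGroup.lift f r = 1)
    (rel : ∀ x y m, coxLabel Suz.edges x y = m → (f x * f y) ^ m = 1) (x : Suz.Gen) : f x = 1 := by
  simp only [Suz.extra, List.forall_mem_cons, map_mul, map_pow, map_inv, FreeGroup.lift_apply_of, mul_inv_eq_one] at R
  obtain ⟨r1, -, -, -, r5, -⟩ := R
  have s1 : ∀ x, f x * f x = 1 := fun x => (pow_one _).symm.trans (rel x x 1 (by simp [coxLabel]))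
  have a : f .a = 1 := by rw [r1, h.n8 _ (rel .c .d 8 (by decide))]
  have nx : ∀ {x} (y) (m), f x = 1 → coxLabel Suz.edges x y = m → m.Coprime 2 → f y = 1 := fun {x} y m hx h1 h2 => by
    have := rel x y m h1
    rw [hx, one_mul] at this
    exact eq_one_of_pow this ((pow_two _).trans (s1 y)) h2
  have b := nx .b 5 a (by decide) (by decide)
  have c := nx .c 3 b (by decide) (by decide)
  simp only [b, c, one_mul, mul_one, s1, one_pow] at r5
  have e := eq_one_of_pow r5 ((pow_two _).trans (s1 _))
  cases x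
  exacts [a, b, c, nx .d 3 e (by decide) (by decide), e, nx .f 3 b (by decide) (by decide),
    nx .g 3 b (by decide) (by decide)]

theorem suz (h : N9 Suz) : IsMulCommutative Suz :=
  comm_of_gens (suz_aux _ h rel_extra fun x y _ hm => rel (by intro x; cases x <;> decide) x y hm)

theorem th_aux {Γ : Type*} [Group Γ] (f : Th.Gen → Γ) (h : N9 Γ) (R : ∀ r ∈ Th.extra, FreeGroup.lift f r = 1)
    (x : Th.Gen) : f x = 1 := by
  simp only [Th.extra, List.forall_mem_cons, map_mul, map_pow, map_inv, FreeGroup.lift_apply_of, mul_inv_eq_one] at R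
  obtain ⟨a2, b2, c2, d2, -, ab, -, bc, -, -, acd, -, de, -, s7, -, -, -, sd, -, t3, -, -, -, -, -, -, u2, -, -, -, -,
    ue, -, ut, -, us, -⟩ := R
  have a : f .a = 1 := by
    rw [acd]
    exact h.n8 (f .c * f .d) (by rw [show 8 = 4 * 2 from rfl, pow_mul, ← acd, a2])
  rw [a, one_mul] at ab
  have b := eq_one_of_pow ab b2
  rw [b, one_mul] at bc
  have c := eq_one_of_pow bc c2
  simp only [a, b, c, inv_one, mul_one, inv_mul_cancel] at ue us u2
  rw [← ue, mul_one] at de
  have d := eq_one_of_pow de d2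
  rw [d, mul_one] at sd
  have s := eq_one_of_pow s7 sd
  rw [s, mul_one] at us
  have u := eq_one_of_pow us.symm u2
  rw [u, inv_one, one_mul, mul_one] at ut
  have t := eq_one_of_pow t3 ((pow_two _).trans (mul_eq_one_iff_eq_inv.2 ut))
  cases x
  exacts [a, b, c, d, ue.symm, s, t, u]

theorem th (h : N9 Th) : IsMulCommutative Th := comm_of_gens (th_aux _ h rel_extra)

theorem j4_aux {Γ : Type} [Group Γ] (f : J4.Gen → Γ) (h : N9 Γ) (R : ∀ r ∈ J4.extra, FreeGroup.lift f r = 1)
    (z : J4.Gen) : f z = 1 := by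
  simp only [J4.extra, List.forall_mem_cons, map_mul, map_pow, map_inv, FreeGroup.lift_apply_of] at R
  obtain ⟨x2, y3, xy, -, -, -, -, t2, -, -, yt, -⟩ := R
  have h1 := eq_inv_of_mul_eq_one_left (h.n23 _ xy)
  have hy1 : f .y = 1 := eq_one_of_pow y3 (n := 2) (by rwa [h1, inv_pow, inv_eq_one] at x2)
  have hx1 : f .x = 1 := by rw [h1, hy1, inv_one]
  simp only [hx1, hy1, mul_one, one_mul, inv_one] at yt
  cases z
  exacts [hx1, hy1, eq_one_of_pow yt t2]

theorem j4 (h : N9 J4) : IsMulCommutative J4 := comm_of_gens (j4_aux _ h rel_extra)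

theorem j3 {F : Type*} [Field F] [Fintype F] (ω : F) (hF : Fintype.card F = 4) (hω : ω ^ 2 + ω + 1 = 0) :
    ¬ N9 (J3 F ω) := by
  let P : (F9 → F9) → Matrix F9 F9 F := fun f => Matrix.of fun w z => if w = f z then 1 else 0
  have hP : ∀ f g, P f * P g = P (f ∘ g) := fun f g => by
    ext w z; simp [P, Matrix.mul_apply]
  have h1 : P id = 1 := by ext w z; simp [P, Matrix.one_apply]
  have h3 : ω ^ 3 = 1 := by linear_combination (ω - 1) * hω
  let x : GL F9 F := ⟨P (F9.mul (1, 1)), P (F9.mul (2, 1)), by rw [hP, ← h1]; congr 1; decide,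
    by rw [hP, ← h1]; congr 1; decide⟩
  have hA : j3A F ω (1, 0) ^ 3 = 1 := by
    rw [j3A, Matrix.diagonal_pow, ← Matrix.diagonal_one]
    congr 1; ext z
    simp only [Pi.pow_apply, omegaPow, ← pow_mul, mul_comm _ 3]
    rw [pow_mul, h3, one_pow]
  let y : GL F9 F := ⟨j3A F ω (1, 0), j3A F ω (1, 0) ^ 2, by rw [← pow_succ', hA], by rw [← pow_succ, hA]⟩
  have mx : x ∈ threeJ3 F ω := subset_closure (Or.inl (Or.inr ⟨(1, 1), by decide, rfl⟩))
  have my : y ∈ threeJ3 F ω := subset_closure (Or.inl (Or.inl (Or.inl (Or.inl ⟨_, rfl⟩))))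
  have x4 : P (F9.mul (1, 1)) ^ 4 = P (F9.mul (2, 0)) := by
    simp only [pow_succ, pow_zero, one_mul, hP]
    congr 1; decide
  intro hn
  have h8 : (⟨x, mx⟩ : threeJ3 F ω) ^ 8 = 1 := Subtype.ext (Units.ext (by
    change P _ ^ (4 * 2) = 1
    rw [pow_mul, x4, pow_two, hP, ← h1]; congr 1; decide))
  have h := mem_center_iff.1 ((QuotientGroup.eq_one_iff ((⟨x, mx⟩ : threeJ3 F ω) ^ 4)).1 (by
    rw [QuotientGroup.mk_pow]
    exact hn.n8 _ (by rw [← QuotientGroup.mk_pow, h8, QuotientGroup.mk_one]))) ⟨y, my⟩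
  have h2 : j3A F ω (1, 0) * P _ ^ 4 = P _ ^ 4 * j3A F ω (1, 0) := congrArg (fun g : threeJ3 F ω => g.1.1) h
  rw [x4] at h2
  have h4 := congrFun (congrFun h2 (2, 0)) (1, 0)
  simp +decide only [j3A, Matrix.diagonal_mul, Matrix.mul_diagonal, P, Matrix.of_apply, if_true, omegaPow] at h4
  have h5 : (4 : F) = 0 := by have := FiniteField.cast_card_eq_zero F; rw [hF] at this; exact_mod_cast this
  rw [show ((1 : ZMod 3) * 2 + 0 * 0).val = 2 from rfl, show ((1 : ZMod 3) * 1 + 0 * 0).val = 1 from rfl] at h4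
  have h6 : ω = 1 := by linear_combination ω ^ 2 * h4 - (ω - 1) * h3
  rw [h6] at hω
  exact one_ne_zero (α := F) (by linear_combination h5 - hω)

theorem eleven_dvd_of_fix (H : Subgroup (Equiv.Perm leechLattice))
    (h : ∀ g : H10.G0, (∀ v : leechLattice, (∀ σ : Equiv.Perm GolayPt, σ none = none → σ (some 0) = some 0 →
      ∀ j, (v : GolayPt → ℤ) (σ j) = (v : GolayPt → ℤ) j) → g • v = v) → (g : Equiv.Perm leechLattice) ∈ H) :
    11 ∣ Nat.card H := by
  let f : M22 →* Equiv.Perm leechLattice :=
    Co0.subtype.comp (H10.permHom.comp (inclusion (inf_le_left.trans inf_le_left : M22 ≤ M24)))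
  have hf : Function.Injective f := Co0.subtype_injective.comp (H10.permHom_inj.comp (inclusion_injective _))
  have hm : ∀ σ, f σ ∈ H := fun σ => h _ fun v hv => Subtype.ext (funext fun j => by
    have := hv _ (inv_mem σ.2).1.2 (inv_mem σ.2).2 j
    refine Eq.trans ?_ this
    simp [H10.permHom_apply, H10.mono_smul, signedPerm, H10.gc0]
    rfl)
  exact (show 11 ∣ Nat.card M22 by rw [H9.card_M22]; decide).trans
    (card_dvd_of_injective (f.codRestrict H hm) ((f.injective_codRestrict H hm).2 hf))

theorem co2 : 11 ∣ Nat.card Co2 := eleven_dvd_of_fix _ fun g hg =>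
  ⟨g.2, hg leechU fun σ h1 h2 j => by simp [leechU, vecU, fix_iff h1, fix_iff h2]⟩

theorem hs : 11 ∣ Nat.card HS := eleven_dvd_of_fix _ fun g hg =>
  ⟨⟨g.2, hg leechV fun σ h1 _ j => by simp [leechV, vecV, fix_iff h1]⟩,
    hg leechU' fun σ h1 h2 j => by simp [leechU', vecU', fix_iff h1, fix_iff h2]⟩

theorem co1 : 11 ∣ Nat.card Co1 := by
  rw [show Nat.card Co1 = _ from H10.card_Co1]; decide

/-! ### `A₉` -/

theorem exists_dvd {σ : Equiv.Perm (Fin 9)} {p k : ℕ} (hp : p.Prime) (h : p ^ k ∣ orderOf σ) (hk : k ≠ 0) :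
    ∃ a ∈ σ.cycleType, p ^ k ∣ a := by
  rw [← Equiv.Perm.lcm_cycleType] at h
  generalize σ.cycleType = s at h
  induction s using Multiset.induction_on with
  | empty => exact absurd (Nat.eq_one_of_dvd_one h) (Nat.one_lt_pow hk hp.one_lt).ne'
  | cons a s ih =>
    rw [Multiset.lcm_cons, lcm_eq_nat_lcm] at h
    have h' : ∀ {a b : ℕ}, p ^ k ∣ Nat.lcm a b → p ^ k ∣ a ∨ p ^ k ∣ b := fun {a b} h => by
      rcases eq_or_ne a 0 with rfl | ha
      · exact Or.inl (dvd_zero _)
      rcases eq_or_ne b 0 with rfl | hb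
      · exact Or.inr (dvd_zero _)
      rw [hp.pow_dvd_iff_le_factorization (Nat.lcm_ne_zero ha hb), Nat.factorization_lcm ha hb, Finsupp.sup_apply,
        le_sup_iff] at h
      rwa [hp.pow_dvd_iff_le_factorization ha, hp.pow_dvd_iff_le_factorization hb]
    rcases h' h with h | h
    · exact ⟨a, Multiset.mem_cons_self _ _, h⟩
    · obtain ⟨b, hb, hb'⟩ := ih h
      exact ⟨b, Multiset.mem_cons_of_mem hb, hb'⟩

theorem sum_le (σ : Equiv.Perm (Fin 9)) : σ.cycleType.sum ≤ 9 := by
  rw [Equiv.Perm.sum_cycleType]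
  simpa using σ.support.card_le_univ

theorem n9 : N9 (alternatingGroup (Fin 9)) where
  n8 x hx := by
    by_contra h4
    have h8 : orderOf x = 2 ^ 3 := orderOf_eq_prime_pow (p := 2) (n := 2) h4 hx
    rw [← Subgroup.orderOf_coe] at h8
    obtain ⟨a, ha, ha'⟩ := exists_dvd Nat.prime_two (k := 3) h8.symm.dvd (by norm_num)
    obtain ⟨s, hs⟩ := Multiset.exists_cons_of_mem ha
    have h1 := sum_le x
    have h2 := Equiv.Perm.two_le_of_mem_cycleType ha
    rw [hs, Multiset.sum_cons] at h1
    have h3 : s = 0 := Multiset.eq_zero_of_forall_notMem fun b hb => by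
      have h4 := Equiv.Perm.two_le_of_mem_cycleType (σ := (x : Equiv.Perm (Fin 9))) (n := b)
        (by rw [hs]; exact Multiset.mem_cons_of_mem hb)
      have h5 := Multiset.single_le_sum (fun _ _ => Nat.zero_le _) b hb
      omega
    have h5 := Equiv.Perm.sign_of_cycleType (x : Equiv.Perm (Fin 9))
    rw [Equiv.Perm.mem_alternatingGroup.1 x.2, hs, h3] at h5
    obtain rfl : a = 8 := by rw [h3] at h1; simp at h1; omega
    exact absurd h5 (by decide)
  n23 x hx := by
    have h1 := orderOf_dvd_of_pow_eq_one hx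
    have h2 := orderOf_dvd_natCard x
    rw [nat_card_alternatingGroup, Nat.card_fin] at h2
    exact orderOf_eq_one_iff.1 (Nat.eq_one_of_dvd_coprimes (by decide) h1 h2)
  n30 x y t hx hy ht h1 h2 h3 := by
    by_contra! h
    obtain ⟨n1, n2, n3⟩ := h
    have : Fact (Nat.Prime 5) := ⟨by norm_num⟩
    have o1 := orderOf_eq_prime hx n1
    have o2 := orderOf_eq_prime hy n2
    have o3 := orderOf_eq_prime ht n3
    have o4 : orderOf (x * y) = 15 := by rw [h1.orderOf_mul_eq_mul_orderOf_of_coprime (by rw [o1, o2]; decide), o1, o2]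
    have o5 : orderOf (x * y * t) = 30 := by
      rw [(h2.mul_left h3).orderOf_mul_eq_mul_orderOf_of_coprime (by rw [o4, o3]; decide), o4, o3]
    rw [← Subgroup.orderOf_coe] at o5
    generalize ((x * y * t : alternatingGroup (Fin 9)) : Equiv.Perm (Fin 9)) = σ at o5
    obtain ⟨a, ha, ha'⟩ := exists_dvd (σ := σ) (p := 5) (k := 1) (by norm_num) (by rw [o5]; decide) (by norm_num)
    obtain ⟨b, hb, hb'⟩ := exists_dvd (σ := σ) (p := 3) (k := 1) (by norm_num) (by rw [o5]; decide) (by norm_num)
    obtain ⟨c, hc, hc'⟩ := exists_dvd (σ := σ) (p := 2) (k := 1) (by norm_num) (by rw [o5]; decide) (by norm_num)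
    have h9 := sum_le σ
    have a2 := Equiv.Perm.two_le_of_mem_cycleType ha
    have b2 := Equiv.Perm.two_le_of_mem_cycleType hb
    have c2 := Equiv.Perm.two_le_of_mem_cycleType hc
    obtain ⟨s, hs⟩ := Multiset.exists_cons_of_mem ha
    rw [hs] at hb hc h9
    rw [Multiset.sum_cons] at h9
    obtain rfl : a = 5 := by omega
    have hb1 := (Multiset.mem_cons.1 hb).resolve_left (by omega)
    have hc1 := (Multiset.mem_cons.1 hc).resolve_left (by omega)
    obtain ⟨r, rfl⟩ := Multiset.exists_cons_of_mem hb1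
    rw [Multiset.sum_cons] at h9
    have hc2 := (Multiset.mem_cons.1 hc1).resolve_left (by omega)
    have h5 := Multiset.single_le_sum (fun _ _ => Nat.zero_le _) c hc2
    omega

end H1.A9
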