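import Mathlib
import Cfsg.Agent.H1.JRBasic

/-! The configuration `JR` passes to `C(φ^k) / ⟨φ^k⟩`. -/

set_option autoImplicit false
open Cfsg H24 Subgroup H16 H27.JT H26 H26.Gold
open scoped MatrixGroups

namespace H1

section
variable {F : Type*} [Field F] [Finite F]

/-- restriction of `σ` to the fixed field of a power of `σ` -/
noncomputable def resAut (σ : F ≃+* F) (k : ℕ) : fixF (σ ^ k) ≃+* fixF (σ ^ k) :=
  RingEquiv.ofBijective (((σ : F →+* F).comp (fixF (σ ^ k)).subtype).codRestrict (fixF (σ ^ k))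
    fun x => by
      change (σ ^ k) (σ x) = σ x
      rw [← RingAut.mul_apply, ← pow_succ, pow_succ', RingAut.mul_apply, mem_fixF.1 x.2])
    (Finite.injective_iff_bijective.1 (RingHom.injective _))

theorem resAut_apply (σ : F ≃+* F) (k : ℕ) (x : fixF (σ ^ k)) : (resAut σ k x : F) = σ x := rfl

theorem fixF_le (σ : F ≃+* F) (k : ℕ) : fixF σ ≤ fixF (σ ^ k) := fun x hx => by
  have : σ ∈ MulAction.stabilizer (F ≃+* F) x := hx
  exact pow_mem this k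

theorem card_fix_res (σ : F ≃+* F) (k : ℕ) : Nat.card (fixF (resAut σ k)) = Nat.card (fixF σ) :=
  Nat.card_congr ⟨fun x => ⟨x.1.1, congrArg Subtype.val x.2⟩,
    fun x => ⟨⟨x.1, fixF_le σ k x.2⟩, Subtype.ext x.2⟩, fun _ => rfl, fun _ => rfl⟩

theorem orderOf_res (σ : F ≃+* F) (k : ℕ) :
    orderOf (resAut σ k) * orderOf (σ ^ k) = orderOf σ := by
  have := Fintype.ofFinite F
  have := Fintype.ofFinite (fixF (σ ^ k))
  have h1 := card_fix (resAut σ k)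
  rw [card_fix_res, ← Nat.card_eq_fintype_card] at h1
  refine Nat.pow_right_injective (Finite.one_lt_card (α := fixF σ)) ?_
  simp only
  rw [pow_mul, h1, card_fix, card_fix]

end

namespace JR
variable {G : Type*} [Group G] [Finite G] {F : Type*} [Field F] [Fintype F] {t : G}
  {ι : PSL(2, F) →* G} {φ : G} {σ : F ≃+* F} (h : JR t ι φ σ)
include h

theorem N_eq {ψ : G} (hψ : ψ ∈ zpowers φ) : N[zpowers ψ] = C{ψ} :=
  le_antisymm (h.N_le_C hψ) (norm_zpowers_of_cent le_rfl)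

omit [Finite G] in
theorem ι_fix (k : ℕ) (y : PSL(2, fixF (σ ^ k))) :
    ι (pslMap (fixF (σ ^ k)).subtype y) ∈ C{φ ^ k} :=
  mem_C1.2 (by rw [eq_comm, ← mul_inv_eq_iff_eq_mul, h.act_pow, pslMap_fix])

theorem exists_fix {k : ℕ} {y : PSL(2, F)} (hy : ι y ∈ C{φ ^ k}) :
    ∃ z, pslMap (fixF (σ ^ k)).subtype z = y := by
  refine exists_of_fixed h.two_ne ((h.oφ ▸ h.odd_φ).of_dvd_nat (orderOf_pow_dvd k)) (h.inj ?_)
  rw [← h.act_pow, ← mem_C1.1 hy, mul_inv_cancel_right]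

omit [Finite G] in
theorem orderOf_pow (k : ℕ) : orderOf (φ ^ k) = orderOf (σ ^ k) := by
  rcases k.eq_zero_or_pos with rfl | hk
  · simp
  · rw [orderOf_pow' _ hk.ne', orderOf_pow' _ hk.ne', h.oφ]

theorem conj_in_C {ψ u : G} (hψ : ψ ∈ zpowers φ) (hu : u ∈ C{ψ}) (u2 : TwoE u) (u1 : u ≠ 1) :
    ∃ c ∈ C{ψ}, u = c * t * c⁻¹ := by
  obtain ⟨S, hS, ht, hφ⟩ := h.exists_S
  have le := C1_le_C1_of_mem_zpowers hψ
  obtain ⟨c, hc, k⟩ := Sylow_Jsub Nat.prime_two (hS.of_le (hφ.trans le) le_top) u2.isPi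
    (zpowers_le.2 hu)
  obtain ⟨m, hm, e⟩ := h.S_trans hS ht (k (conj_mem_cj c (mem_zpowers u))) (by simpa using u1)
  refine ⟨c⁻¹ * m, mul_mem (inv_mem hc) (le (h.N_S hS ht hφ hm)), ?_⟩
  calc u = c⁻¹ * (c * u * c⁻¹) * c := by group
    _ = _ := by rw [e]; group

theorem quot (k : ℕ) [Fintype (fixF (σ ^ k))] :
    ∃ ι' : PSL(2, fixF (σ ^ k)) →* QN (zpowers (φ ^ k)),
      (∀ y, ι' y = cs (zpowers (φ ^ k)) (ι (pslMap (fixF (σ ^ k)).subtype y))) ∧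
      JR (cs (zpowers (φ ^ k)) t) ι' (cs (zpowers (φ ^ k)) φ) (resAut σ k) := by
  have hψ : φ ^ k ∈ zpowers φ := pow_mem (mem_zpowers φ) k
  have eN := h.N_eq hψ
  have Kle : zpowers (φ ^ k) ≤ zpowers φ := zpowers_le.2 hψ
  have Ko : OddG (zpowers (φ ^ k)) := h.odd_Φ.of_le Kle
  have m1 : ∀ y, ι (pslMap (fixF (σ ^ k)).subtype y) ∈ N[zpowers (φ ^ k)] :=
    fun y => eN ▸ h.ι_fix k y
  have mt : t ∈ N[zpowers (φ ^ k)] := eN ▸ mem_C1_comm.1 (h.Φ_le hψ)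
  have mφ : φ ∈ N[zpowers (φ ^ k)] := eN ▸ mem_C1_comm.1 (zpowers_le_C1 φ hψ)
  let ι' := (coset (zpowers (φ ^ k))).comp
    ((ι.comp (pslMap (fixF (σ ^ k)).subtype)).codRestrict _ m1)
  have e : ∀ y, ι' y = cs (zpowers (φ ^ k)) (ι (pslMap (fixF (σ ^ k)).subtype y)) :=
    fun y => (ap_of_mem (coset (zpowers (φ ^ k))) (m1 y)).symm
  have t1 : cs (zpowers (φ ^ k)) t ≠ 1 := fun c =>
    h.t_ne (eq_one_of_odd_sq (Ko.piElt ((cs_eq_one mt).1 c)) h.tt)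
  have cm : ∀ {g}, g ∈ N[zpowers (φ ^ k)] → g ∈ C{t} →
      cs (zpowers (φ ^ k)) g ∈ C{cs (zpowers (φ ^ k)) t} := fun hg hc =>
    mem_C1.2 (by rw [← ap_mul _ hg mt, ← ap_mul _ mt hg, mem_C1.1 hc])
  refine ⟨ι', e, fun P hP => ?_, fun u hu => ?_, ?_,
    orderOf_eq_two t1 (by rw [← ap_mul _ mt mt, h.tt, ap_one]), ?_,
    fun y => e y ▸ cm (m1 y) (h.mem _), fun y c => ?_, cm mφ h.φt, fun y => ?_, ?_, fun g hg => ?_⟩
  · obtain ⟨T, hT⟩ := Sylow_exists Nat.prime_two (coq _ P)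
    have := (hT.quo (coq_le_N P))
    rw [quo_coq] at this
    rw [← this.eq_self (isPi_of_isPGroup Nat.prime_two hP)]
    exact fun g hg g' hg' => ((h.abl hT.pi).quo _).comm hg hg'
  · obtain ⟨w, hw, rfl⟩ := exists_cs u
    have e1 := constt_ap (coset _) {2} hw
    rw [constt_eq_self (twoE_of_sq (sq_of_two hu))] at e1
    obtain ⟨c, hc, e2⟩ := h.conj_in_C hψ (eN ▸ constt_mem {2} hw) (piElt_constt {2} w)
      (fun c => ne_one_of_two hu (by rw [← e1, c, ap_one]))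
    rw [← e1, e2, ap_conj _ (eN ▸ hc) mt]
    exact isConj_iff.2 ⟨_, rfl⟩
  · rw [← Nat.card_eq_fintype_card]
    exact (pow_mod_eight (H1.card_fix (σ ^ k) ▸ h.q8)).2.1
  · refine (injective_iff_map_eq_one _).2 fun y hy => ?_
    have : ι (pslMap (fixF (σ ^ k)).subtype y) ∈ ι.range ⊓ zpowers φ :=
      ⟨⟨_, rfl⟩, Kle ((cs_eq_one (m1 y)).1 (e y ▸ hy))⟩
    rw [h.L_inf, mem_bot, map_eq_one_iff _ h.inj] at this
    exact (map_eq_one_iff _ (pslMap_injective _)).1 this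
  · have := Ko.piElt ((cs_eq_cs mt (m1 y)).1 (e y ▸ c).symm)
    rw [inv_of_two h.ord] at this
    exact h.not_odd _ this
  · rw [e, e, ← ap_conj _ mφ (m1 y), h.act, pslMap_comp, pslMap_comp]
    rfl
  · refine Nat.eq_of_mul_eq_mul_right (orderOf_pos (σ ^ k)) ?_
    rw [orderOf_res, ← h.orderOf_pow, ← h.oφ, ← card_zpowers', ← card_zpowers', ← card_zpowers',
      ← quo_zpowers mφ, mul_comm, Nml.card_quo ⟨Kle, zpowers_le.2 mφ⟩]
  · have := coprime_quo_cent1 (K := N[zpowers (φ ^ k)]) (norm_self _ mt) mt le_rfl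
      (by rw [← card_zpowers' t]; exact cop Ko h.two_t)
    rw [quo_N, top_inf_eq] at this
    obtain ⟨w, ⟨w1, w2⟩, -, rfl⟩ := mem_quo.1 (this ▸ hg)
    have p := fun j : ℕ => pow_mem mφ j
    obtain ⟨y, j, rfl | rfl⟩ := h.dec w w2
    · obtain ⟨z, rfl⟩ := h.exists_fix (eN ▸ (mul_mem_cancel_right (p j)).1 w1)
      exact ⟨z, j, Or.inl (by rw [e]; unfold cs; rw [ap_mul _ (m1 z) (p j), ap_pow _ mφ])⟩
    · obtain ⟨z, rfl⟩ := h.exists_fix
        (eN ▸ (mul_mem_cancel_left mt).1 ((mul_mem_cancel_right (p j)).1 w1))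
      exact ⟨z, j, Or.inr (by
        rw [e]; unfold cs
        rw [ap_mul _ (mul_mem mt (m1 z)) (p j), ap_mul _ mt (m1 z), ap_pow _ mφ])⟩

end JR

end H1
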