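import Mathlib
import Cfsg.Agent.H1.JRQuot
import Cfsg.Agent.S0343
import Cfsg.Agent.S1230

/-! The normal structure of a `JR` group all of whose simple `JR` sections have `φ = 1`. -/

set_option autoImplicit false
open Cfsg H24 Subgroup H16 H27.JT H26 H26.Gold
open scoped MatrixGroups

namespace H1

universe u v

/-- simple `JR` groups of order `< n` have `φ = 1` -/
def IHJ (n : ℕ) : Prop :=
  ∀ (X : Type u) [Group X] [Finite X] (F : Type v) [Field F] [Fintype F] (t : X)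
    (ι : PSL(2, F) →* X) (φ : X) (σ : F ≃+* F), Nat.card X < n → IsSimpleGroup X → JR t ι φ σ → φ = 1

/-- the possible pairs (`q`, index of `C(t)`) -/
def Idx (q i : ℕ) : Prop := (q = 3 ∧ i = 7) ∨ (q = 5 ∧ i = 1463) ∨
  ((∃ m, q = 3 ^ (2 * m + 1)) ∧ i * (q + 1) = q ^ 2 * (q ^ 3 + 1))

/-- the subgroup generated by the involutions -/
def JJ (G : Type*) [Group G] : Subgroup G := closure {u | orderOf u = 2}

theorem JJ_nml (G : Type*) [Group G] : JJ G ⊴ ⊤ :=
  ⟨le_top, norm_closure fun a _ s hs => subset_closure ((orderOf_conj a s).trans hs)⟩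

theorem not_cyc_of_sq {G : Type*} [Group G] [Finite G] {A : Subgroup G} (h : ∀ a ∈ A, a * a = 1)
    (h4 : 2 < ♯A) : ¬ Cyc A := fun hc => by
  obtain ⟨g, hg, rfl⟩ := hc.exists_gen
  have := Nat.le_of_dvd two_pos (orderOf_dvd_of_pow_eq_one ((pow_two g).trans (h g hg)))
  rw [card_zpowers'] at h4
  omega

namespace JR
variable {G : Type u} [Group G] [Finite G] {F : Type v} [Field F] [Fintype F] {t : G}
  {ι : PSL(2, F) →* G} {φ : G} {σ : F ≃+* F} (h : JR t ι φ σ)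
include h

omit [Finite G] in
theorem card_L : 2 * Nat.card PSL(2, F) = Fintype.card F * (Fintype.card F ^ 2 - 1) := by
  have := H7.card_psl_two (F := F) rfl
  rwa [Nat.gcd_eq_left (by have := h.q8; omega)] at this

omit [Finite G] in
theorem three_le : 3 ≤ Fintype.card F := by have := h.q8; omega

omit [Finite G] in
theorem eq_one_of_prime (hp : (Fintype.card F).Prime) : φ = 1 :=
  orderOf_eq_one_iff.1 ((Nat.Prime.pow_eq_iff hp).1 h.card_fix).2

omit [Finite G] in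
theorem cent_L {x : G} (hx : x ∈ C{t}) (hc : x ∈ C[ι.range]) : x ∈ zpowers t := by
  have key : ∀ y (k : ℕ), ι y * φ ^ k ∈ C[ι.range] → ι y * φ ^ k = 1 := fun y k hc => by
    have c : ∀ z, pslMap ((σ ^ k : F ≃+* F) : F →+* F) z = z → y * z = z * y := fun z hz => by
      have e1 := h.act_pow k z
      have e2 := mem_C.1 hc _ ⟨z, rfl⟩
      rw [hz, mul_inv_eq_iff_eq_mul] at e1
      rw [mul_assoc, e1, ← mul_assoc, ← mul_assoc, mul_left_inj, ← map_mul, ← map_mul] at e2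
      exact (h.inj e2).symm
    obtain rfl := eq_one_of_comm h.two_ne (c _ (by rw [pslMap_uu, map_one]))
      (c _ (by rw [pslMap_ll, map_one]))
    rw [map_one, one_mul] at hc ⊢
    exact h.pow_eq_one_of_comm fun x => (mem_C.1 hc _ ⟨_, rfl⟩).symm
  obtain ⟨y, k, rfl | rfl⟩ := h.dec x hx
  · rw [key y k hc]; exact one_mem _
  · rw [mul_assoc] at hc ⊢
    rw [key y k ((mul_mem_cancel_left (mem_C_iff_le_C1.2 h.L_le)).1 hc), mul_one]
    exact mem_zpowers t

omit [Finite G] in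
theorem L_le_of_nml (hq : 3 < Fintype.card F) {A : Subgroup G} (hn : ι.range ≤ N[A])
    (h1 : A ⊓ ι.range ≠ ⊥) : ι.range ≤ A := by
  have := Matrix.ProjectiveSpecialLinearGroup.rank_two_simple (F := F)
    (by rw [Nat.card_eq_fintype_card]; exact hq)
  have hB : (A.comap ι).Normal := ⟨fun y hy g => by
    simpa [mem_comap] using conj_mem (hn ⟨g, rfl⟩) hy⟩
  rcases hB.eq_bot_or_eq_top with e | e
  · refine absurd (eq_bot_iff.2 ?_) h1
    rintro _ ⟨hy, y, rfl⟩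
    obtain rfl : y = 1 := mem_bot.1 (e ▸ (mem_comap.2 hy : y ∈ A.comap ι))
    exact mem_bot.2 (map_one ι)
  · rintro _ ⟨y, rfl⟩
    exact mem_comap.1 (e ▸ mem_top y)

theorem odd_inf_L {A : Subgroup G} (hA : OddG A) (hn : ι.range ≤ N[A]) : A ⊓ ι.range = ⊥ := by
  obtain ⟨p, a, b, ε, hL, -⟩ := h.lh
  by_contra h1
  rcases h.three_le.lt_or_eq with hq | hq
  · obtain ⟨s, hs⟩ := hL.exists_inv
    exact ne_one_of_two hs (h.inj ((eq_one_of_odd_sq (hA.piElt (h.L_le_of_nml hq hn h1 ⟨s, rfl⟩))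
      (by rw [← map_mul, sq_of_two hs, map_one])).trans (map_one ι).symm))
  obtain ⟨P⟩ : Nonempty (Sylow 2 PSL(2, F)) := inferInstance
  have hP := hL.klein P
  have hB : OddG (A.comap ι) := (isPi_map_iff h.inj).1 (hA.of_le (map_comap_le _ _))
  have a1 : a = 1 := by have := hL.hq; have := hL.eps; omega
  have : A.comap ι ≤ ⊥ := coprime_abelian_gen_cent1 (A := P)
    (abl_iff.2 (le_C_iff.2 fun _ hu _ hv => kl_comm hP hu hv))
    (not_cyc_of_sq (fun _ => kl_sq hP) (by rw [hP.card_four]; norm_num))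
    (le_N_iff.2 fun g _ y hy => by simpa [mem_comap] using conj_mem (hn ⟨g, rfl⟩) hy)
    (cop hB (isPi_of_isPGroup Nat.prime_two P.2)) fun v hv v1 =>
      (hB.inf_eq_bot' (isPi_of_card (n := 2) Nat.prime_two
        (by rw [hL.card_C (orderOf_eq_two v1 (kl_sq hP hv)), a1]; rfl))).le
  refine h1 (eq_bot_iff.2 ?_)
  rintro _ ⟨hy, y, rfl⟩
  rw [mem_bot.1 (this hy), map_one]
  exact one_mem _

theorem OC : Od[C{t}] = ⊥ := by
  have hn := h.L_le.trans (pcore_nml {2}ᶜ C{t}).norm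
  refine (Od_odd _).eq_bot ?_
  rw [compl_compl]
  exact h.two_t.of_le fun x hx => h.cent_L (pcore_le _ _ hx) (cents_of_inf_eq_bot
    ((pcore_le _ _).trans h.L_norm) hn (h.odd_inf_L (Od_odd _) hn) hx)

theorem eq_bot_of_odd {K : Subgroup G} (hK : OddG K) (hn : K ⊴ ⊤) : K = ⊥ := by
  obtain ⟨S, hS, ht, -⟩ := h.exists_S
  refine eq_bot_iff.2 (coprime_abelian_gen_cent1 (h.abl hS.pi) (not_cyc_of_sq
    (fun _ => h.S_sq hS ht) (by rw [h.card_S hS ht]; norm_num)) (le_top.trans hn.norm)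
    (cop hK hS.pi) fun v hv v1 => ?_)
  obtain ⟨m, -, rfl⟩ := h.S_trans hS ht hv v1
  rw [← cj_C1, ← cj_of_mem_N (hn.norm (mem_top m)), ← cj_inf, le_bot_iff, cj_eq_bot, eq_bot_iff,
    ← h.OC]
  exact pcore_max (hK.inf_left _) (hn.inf_right le_top)

omit [Finite G] in
theorem t_mem_JJ : t ∈ JJ G := subset_closure h.ord

section
variable {S : Subgroup G} (hS : Syl 2 ⊤ S) (ht : t ∈ S)
include hS ht

theorem S_le_JJ : S ≤ JJ G := fun v hv => by
  by_cases v1 : v = 1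
  · rw [v1]; exact one_mem _
  · exact subset_closure (orderOf_eq_two v1 (h.S_sq hS ht hv))

variable (hn : ¬ JJ G ≤ S)
include hn

theorem trans_JJ {v : G} (hv : v ∈ S) (v1 : v ≠ 1) : ∃ m ∈ JJ G, v = m * t * m⁻¹ := by
  have hT : JJ G ⊓ N[S] ⊴ N[S] := (JJ_nml G).inf_right le_top
  have n4 : (N[S] ⊓ C{t}).relIndex N[S] = 7 := by rw [inf_relIndex_left, h.relIndex_S hS ht]
  rcases covBy_eq_or (covBy_of_relIndex_prime inf_le_left (n4 ▸ by norm_num))
    (le_sup_right : _ ≤ JJ G ⊓ N[S] ⊔ N[S] ⊓ C{t}) (sup_le inf_le_right inf_le_left) with e | e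
  · refine absurd ?_ hn
    have := Burnside_normal_complement Nat.prime_two (hS.of_le (h.S_le_JJ hS ht) le_top)
      fun g hg => mem_C.2 fun w hw => by
        by_cases w1 : w = 1
        · simp [w1]
        obtain ⟨m, hm, rfl⟩ := h.S_trans hS ht hw w1
        have k := mem_C1.1 (le_sup_left.trans e.le (hT.conj_mem (inv_mem hm) hg)).2
        calc _ = m * (t * (m⁻¹ * g * m⁻¹⁻¹)) * m⁻¹ := by group
          _ = _ := by rw [← k]; group
    rw [h.eq_bot_of_odd (Od_odd _) ((JJ_nml G).pcore _)] at this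
    exact this.eq_of_left_bot.ge
  · obtain ⟨m, hm, rfl⟩ := h.S_trans hS ht hv v1
    obtain ⟨a, ha, c, hc, rfl⟩ := (mem_sup_of_norm (inf_le_left.trans hT.norm)).1 (e.ge hm)
    exact ⟨a, ha.1, by rw [mul_inv_rev, ← mul_assoc, mul_assoc a, mul_assoc a,
      mem_C1_iff_conj.1 hc.2]⟩

theorem cnj_JJ {w : G} (hw : orderOf w = 2) : ∃ m ∈ JJ G, w = m * t * m⁻¹ := by
  obtain ⟨g, hg, e⟩ := Sylow_Jsub Nat.prime_two (hS.of_le (h.S_le_JJ hS ht) le_top)
    (twoE_of_sq (sq_of_two hw)).isPi (zpowers_le.2 (subset_closure hw))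
  obtain ⟨m, hm, e'⟩ := h.trans_JJ hS ht hn (e (conj_mem_cj g (mem_zpowers w)))
    (fun c => ne_one_of_two hw (conj_eq_one_iff'.1 c))
  refine ⟨g⁻¹ * m, mul_mem (inv_mem hg) hm, ?_⟩
  calc w = g⁻¹ * (g * w * g⁻¹) * g := by group
    _ = _ := by rw [e']; group

theorem prod_JJ : IsProd (JJ G) C{t} ⊤ := ⟨le_top, le_top, fun g _ => by
  obtain ⟨m, hm, e⟩ := h.cnj_JJ hS ht hn ((orderOf_conj g t).trans h.ord)
  refine ⟨m, hm, m⁻¹ * g, mem_C1_iff_conj.2 ?_, by simp⟩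
  calc _ = m⁻¹ * (g * t * g⁻¹) * m := by group
    _ = t := by rw [e]; group⟩

theorem index_JJ : (C{t}).index = (C{(⟨t, h.t_mem_JJ⟩ : JJ G)}).index := by
  rw [← relIndex_top_right, (h.prod_JJ hS ht hn).symm.relIndex_eq, relIndex]
  congr 1
  ext g
  rw [mem_subgroupOf, mem_C1, mem_C1, Subtype.ext_iff]
  rfl

theorem simple_JJ : IsSimpleGroup (JJ G) := by
  have : Nontrivial (JJ G) := (nontrivial_iff_ne_bot _).2 (ne_bot_of_mem h.t_mem_JJ h.t_ne)
  refine ⟨fun K hK => ?_⟩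
  have hK' := nml_map_subtype K
  by_cases ho : OddG (K.map (JJ G).subtype)
  · left
    rw [← map_eq_bot_iff_of_injective _ (JJ G).subtype_injective, eq_bot_iff,
      ← h.eq_bot_of_odd (Od_odd _) ((JJ_nml G).pcore _)]
    exact pcore_max ho hK'
  · right
    obtain ⟨w, hw, w2⟩ := exists_orderOf_eq Nat.prime_two
      (not_not.1 (mt (isPi_compl_iff Nat.prime_two).2 ho))
    obtain ⟨m, hm, rfl⟩ := h.cnj_JJ hS ht hn w2
    rw [conj_mem_iff (hK'.norm hm)] at hw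
    have : JJ G ≤ K.map (JJ G).subtype := (closure_le _).2 fun w w2 => by
      obtain ⟨m, hm, rfl⟩ := h.cnj_JJ hS ht hn w2
      exact hK'.conj_mem hm hw
    exact eq_top_iff.2 fun g _ => (mem_map_iff_mem (JJ G).subtype_injective).1 (this g.2)

theorem sub (hL : ∀ y, ι y ∈ JJ G) {j : ℕ} (hj : zpowers φ ⊓ JJ G = zpowers (φ ^ j)) :
    JR (⟨t, h.t_mem_JJ⟩ : JJ G) (ι.codRestrict _ hL)
      ⟨φ ^ j, (hj.ge (mem_zpowers _)).2⟩ (σ ^ j) := by
  refine ⟨fun P hP g hg k hk => Subtype.ext (h.ab _ (hP.map (JJ G).subtype) _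
      (mem_map_of_mem _ hg) _ (mem_map_of_mem _ hk)), fun w hw => ?_, h.q8,
    (orderOf_mk _ _).trans h.ord, fun y z e => h.inj (congrArg Subtype.val e),
    fun y => mem_C1.2 (Subtype.ext (h.ιt y)), fun y e => h.ne y (congrArg Subtype.val e),
    mem_C1.2 (Subtype.ext (mem_C1.1 (pow_mem h.φt j))), fun y => Subtype.ext (h.act_pow j y),
    (orderOf_mk _ _).trans (h.orderOf_pow j), fun g hg => ?_⟩
  · obtain ⟨m, hm, e⟩ := h.cnj_JJ hS ht hn ((orderOf_coe w).trans hw)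
    exact isConj_iff.2 ⟨⟨m, hm⟩, Subtype.ext e.symm⟩
  · have key : ∀ k : ℕ, φ ^ k ∈ JJ G → ∃ i : ℕ, φ ^ k = (φ ^ j) ^ i := fun k hk => by
      obtain ⟨i, e⟩ := (mem_powers_iff_mem_zpowers.2 (hj.le ⟨pow_mem (mem_zpowers φ) k, hk⟩) :
        φ ^ k ∈ Submonoid.powers (φ ^ j))
      exact ⟨i, e.symm⟩
    obtain ⟨y, k, e | e⟩ := h.dec g (mem_C1.2 (congrArg Subtype.val (mem_C1.1 hg)))
    · obtain ⟨i, e'⟩ := key k ((mul_mem_cancel_left (hL y)).1 (e ▸ g.2))
      exact ⟨y, i, Or.inl (Subtype.ext (by simpa [e'] using e))⟩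
    · obtain ⟨i, e'⟩ := key k ((mul_mem_cancel_left (mul_mem h.t_mem_JJ (hL y))).1 (e ▸ g.2))
      exact ⟨y, i, Or.inr (Subtype.ext (by simpa [e'] using e))⟩

end

theorem iso (hφ : φ = 1) : Nonempty (C{t} ≃* Multiplicative (ZMod 2) × PSL(2, F)) := by
  have e : Multiplicative (ZMod 2) ≃* zpowers t := by
    have : Fact (Nat.Prime 2) := ⟨Nat.prime_two⟩
    exact mulEquivOfPrimeCardEq (p := 2) (by simp) (by rw [card_zpowers', h.ord])
  have c : ∀ (a : zpowers t) y, Commute (a : G) (ι y) := fun a y =>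
    mem_C.1 ((C_zpowers t).ge (h.mem y)) a a.2
  let f := ((zpowers t).subtype.comp e.toMonoidHom).noncommCoprod ι fun a y => c _ y
  have hf : ∀ x, f x ∈ C{t} := fun x => mul_mem (zpowers_le_C1 t (e x.1).2) (h.mem _)
  refine ⟨(MulEquiv.ofBijective (f.codRestrict _ hf) ((Nat.bijective_iff_injective_and_card _).2
    ⟨(injective_iff_map_eq_one _).2 fun x hx => ?_, ?_⟩)).symm⟩
  · have := mul_eq_mul_of_inf (h.t_inf ⊤) (e x.1).2 (one_mem _) (mem_map_of_mem ι (mem_top x.2))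
      (one_mem _) ((congrArg Subtype.val hx).trans (mul_one 1).symm)
    exact Prod.ext (e.map_eq_one_iff.1 (Subtype.ext this.1)) ((map_eq_one_iff _ h.inj).1 this.2)
  · rw [h.card_C, hφ, Nat.card_prod]
    simp

theorem idx_simple [IsSimpleGroup G] (hφ : φ = 1) :
    (IsRee G ∨ IsJ1 G) ∧ Idx (Fintype.card F) (C{t}).index := by
  have e := (C{t}).card_mul_index
  rw [h.card_C, hφ, orderOf_one, mul_one, h.card_L] at e
  rcases Cfsg.Agent.S0343.result (fun P a b => Subtype.ext (h.ab P P.2 a a.2 b b.2)) h.three_le t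
    h.ord (h.iso hφ) with ⟨m, hm, h1, h2⟩ | ⟨h1, h2⟩
  · refine ⟨Or.inl ⟨‹_›, m, hm, h2⟩, Or.inr (Or.inr ⟨⟨m, h1⟩, ?_⟩)⟩
    rw [← h1] at h2
    obtain ⟨q, hq⟩ := Nat.exists_eq_add_of_le' (le_trans (by norm_num) h.three_le : 2 ≤ _)
    rw [h2, hq, show (q + 2) ^ 2 - 1 = (q + 1) * (q + 3) by ring_nf; omega,
      show q + 2 - 1 = q + 1 by omega] at e
    rw [hq]
    refine Nat.eq_of_mul_eq_mul_left (show 0 < (q + 2) * (q + 1) by positivity) ?_
    linear_combination e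
  · obtain h1 := h1.resolve_left (by have := h.q8; omega)
    rw [h2.2, h1] at e
    exact ⟨Or.inr h2, Or.inr (Or.inl ⟨h1, by omega⟩)⟩

theorem str (ih : IHJ.{u, v} (Nat.card G + 1)) : Idx (Fintype.card F) (C{t}).index ∧
    ∃ J : Subgroup G, J ⊴ ⊤ ∧ SD J (zpowers φ) ⊤ ∧ (3 < Fintype.card F → IsSimpleGroup J) := by
  obtain ⟨S, hS, ht, -⟩ := h.exists_S
  have hJ := JJ_nml G
  by_cases hL : ι.range ≤ JJ G
  · have hn : ¬ JJ G ≤ S := fun k => by
      obtain ⟨-, r, -, -, -, r3, -⟩ := h.exists_V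
      have := orderOf_dvd_card' (k (hL ⟨r, rfl⟩))
      rw [orderOf_injective ι h.inj, r3, h.card_S hS ht] at this
      omega
    obtain ⟨j, hj⟩ := (le_zpowers_iff φ _).1 (inf_le_left : zpowers φ ⊓ JJ G ≤ _)
    have hs := h.simple_JJ hS ht hn
    have h' := h.sub hS ht hn (fun y => hL ⟨y, rfl⟩) hj
    have e := ih _ _ _ _ _ _ (Nat.lt_succ_of_le (card_le_card_group _)) hs h'
    refine ⟨h.index_JJ hS ht hn ▸ (h'.idx_simple e).2, JJ G, hJ, ⟨le_top.trans hJ.norm, ?_, ?_⟩,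
      fun _ => hs⟩
    · rw [inf_comm, hj, show φ ^ j = 1 from congrArg Subtype.val e]
      exact zpowers_one_eq_bot
    · rw [eq_top_iff, ← (h.prod_JJ hS ht hn).sup_eq, ← h.sd.sup]
      exact sup_le le_sup_left (sup_le_sup_right (sup_le (zpowers_le.2 h.t_mem_JJ) hL) _)
  have hq : Fintype.card F = 3 := (h.three_le.lt_or_eq.resolve_left fun hq => hL (by
    obtain ⟨p, a, b, ε, hL, -⟩ := h.lh
    obtain ⟨s, hs⟩ := hL.exists_inv
    exact h.L_le_of_nml hq (le_top.trans hJ.norm) (ne_bot_of_mem (x := ι s)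
      ⟨subset_closure ((orderOf_injective ι h.inj s).trans hs), s, rfl⟩
      (by simpa [map_eq_one_iff _ h.inj] using ne_one_of_two hs)))).symm
  have hφ := h.eq_one_of_prime (hq ▸ Nat.prime_three)
  refine ⟨?_, ⊤, Nml.refl _, by rw [hφ, zpowers_one_eq_bot]; exact SD.bot_right _, by omega⟩
  by_cases hn : JJ G ≤ S
  · refine Or.inl ⟨hq, ?_⟩
    rw [← h.relIndex_S hS ht, ← le_antisymm hn (h.S_le_JJ hS ht), top_le_iff.1 hJ.norm,
      relIndex_top_right]
  have e1 : JJ G ⊓ C{t} = S := by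
    have c := card_mul_relIndex (h.S_le hS ht)
    rw [h.card_C, hφ, orderOf_one, mul_one, h.card_L, hq, h.card_S hS ht] at c
    exact (covBy_eq_or (covBy_of_relIndex_prime (h.S_le hS ht) (by
      rw [show S.relIndex C{t} = 3 by omega]; exact Nat.prime_three))
      (le_inf (h.S_le_JJ hS ht) (h.S_le hS ht)) inf_le_right).resolve_right
      fun e => hL (h.L_le.trans (e.ge.trans inf_le_left))
  have hs := h.simple_JJ hS ht hn
  obtain ⟨T, hT⟩ := Syl.exists_sylow Nat.prime_two (hS.of_le (h.S_le_JJ hS ht) le_top)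
  have T8 : Nat.card T = 8 := by
    rw [← h.card_S hS ht, ← hT, card_map_of_injective (JJ G).subtype_injective]
  have mT : ∀ g : JJ G, g ∈ T ↔ (g : G) ∈ S := fun g => by
    rw [← hT]; exact (mem_map_iff_mem (JJ G).subtype_injective).symm
  obtain ⟨K, _, _, h1, ⟨e⟩⟩ := Cfsg.Agent.S1230.result T
    (not_cyc_of_sq (fun a ha => Subtype.ext (h.S_sq hS ht ((mT a).1 ha))) (by
      change 2 < Nat.card T
      omega))
    (fun k => by
      rcases k.eq_bot_or_eq_top with e | e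
      · exact h.t_ne (Subtype.ext_iff.1 (mem_bot.1 (e.le ((mT ⟨t, h.t_mem_JJ⟩).2 ht))))
      · exact hn fun g hg => (mT ⟨g, hg⟩).1 (e.ge (mem_top _)))
    fun w hw => by
      obtain ⟨m, hm, e⟩ := h.cnj_JJ hS ht hn ((orderOf_coe w).trans hw)
      have k : ∀ c ∈ C{w}, (c : G) * c = 1 := fun c hc => by
        have : m⁻¹ * c * m ∈ S := e1.le (mem_inf.2 ⟨mul_mem (mul_mem (inv_mem hm) c.2) hm, by
          rw [← mem_cj, cj_C1, ← e]; exact mem_C1.2 (congrArg Subtype.val (mem_C1.1 hc))⟩)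
        calc _ = m * ((m⁻¹ * c * m) * (m⁻¹ * c * m)) * m⁻¹ := by group
          _ = 1 := by rw [h.S_sq hS ht this]; simp
      exact ⟨(ea_of_sq fun c hc => Subtype.ext (k c hc)).abl,
        fun c hc => Subtype.ext (by simpa [pow_two] using k c hc)⟩
  have c1 := H7.card_psl_two (h1.trans T8)
  have c2 := card_inf_mul_relIndex C{t} (JJ G)
  rw [inf_comm, e1, h.card_S hS ht, Nat.card_congr e.toEquiv,
    ← (h.prod_JJ hS ht hn).symm.relIndex_eq, relIndex_top_right] at c2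
  refine Or.inr (Or.inr ⟨⟨0, hq⟩, ?_⟩)
  rw [hq]
  norm_num at c1
  omega

end JR

end H1
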