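import Mathlib
import Cfsg.Agent.H1.JRStr
import Cfsg.Agent.S1241

/-! The transfer argument for `JR` groups. -/

set_option autoImplicit false
open Cfsg H24 Subgroup H16 H27.JT H26 H26.Gold
open scoped MatrixGroups

namespace H1

universe u v

theorem relIndex_C1_lt {G : Type*} [Group G] [Finite G] {U M : Subgroup G} {t : G} (ht : t ∈ U)
    (t1 : t ≠ 1) (hM : M ≤ N[U]) : C{t}.relIndex M < ♯U := by
  letI : MulAction M G := MulAction.compHom G (MulAut.conj.comp M.subtype)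
  have e1 : MulAction.stabilizer M t = C{t}.subgroupOf M := by
    ext g; exact mem_C1_iff_conj.symm
  have e2 : MulAction.orbit M t ⊂ (U : Set G) := by
    refine ⟨?_, fun k => ?_⟩
    · rintro _ ⟨g, rfl⟩
      exact conj_mem (hM g.2) ht
    · obtain ⟨g, e⟩ := k U.one_mem
      exact t1 (conj_eq_one_iff'.1 e)
  rw [relIndex, ← e1, MulAction.index_stabilizer]
  exact Set.ncard_lt_ncard e2

theorem exists_nml_idx {G : Type*} [Group G] [Finite G] {J M : Subgroup G} {g : G} {f : ℕ}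
    (h : SD J (zpowers g) M) (hf : f ∣ orderOf g) : ∃ K, K ⊴ M ∧ K.relIndex M = f := by
  have le : zpowers (g ^ f) ≤ zpowers g := zpowers_le.2 (pow_mem (mem_zpowers g) f)
  have h' := h.sub le_rfl le (le.trans h.norm)
  have l2 : J ⊔ zpowers (g ^ f) ≤ M := sup_le h.left_le (le.trans h.right_le)
  refine ⟨_, nml_of_der1_le (((abl_quo h.nml.norm).1 (h.abl_iff.2 (abl_zpowers g))).trans
    le_sup_left) l2, ?_⟩
  have e := card_mul_relIndex l2
  have f0 : f ≠ 0 := by rintro rfl; exact (orderOf_pos g).ne' (zero_dvd_iff.1 hf)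
  rw [h.card, h'.card, card_zpowers', card_zpowers', orderOf_pow_of_dvd f0 hf, mul_assoc,
    Nat.mul_right_inj (card_ne_zero J)] at e
  obtain ⟨c, hc⟩ := hf
  have c0 : 0 < c := Nat.pos_of_ne_zero (by rintro rfl; exact (orderOf_pos g).ne' hc)
  rw [hc, Nat.mul_div_cancel_left _ (Nat.pos_of_ne_zero f0), mul_comm f] at e
  exact Nat.eq_of_mul_eq_mul_left c0 e

namespace JR
variable {G : Type u} [Group G] [Finite G] {F : Type v} [Field F] [Fintype F] {t : G}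
  {ι : PSL(2, F) →* G} {φ : G} {σ : F ≃+* F} (h : JR t ι φ σ)
include h

theorem perfect [IsSimpleGroup G] : commutator G = ⊤ := by
  refine (Normal.eq_bot_or_eq_top inferInstance).resolve_left fun e => ?_
  obtain ⟨V, r, -, -, -, -, -, r2⟩ := h.exists_V
  have : Abl (⊤ : Subgroup G) := der1_eq_bot.1 e
  exact r2 (mem_C.2 fun v _ => h.inj (by
    rw [map_mul, map_mul]; exact this.comm (mem_top _) (mem_top _)))

theorem loc (ih : IHJ.{u, v} (Nat.card G)) {k : ℕ} (hk : φ ^ k ≠ 1) : ∃ m,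
    m * orderOf (φ ^ k) = orderOf φ ∧ Idx (Nat.card (fixF σ) ^ m) (C{t}.relIndex C{φ ^ k}) ∧
    ♯C{φ ^ k} = C{t}.relIndex C{φ ^ k} *
      (Nat.card (fixF σ) ^ m * ((Nat.card (fixF σ) ^ m) ^ 2 - 1)) * orderOf φ ∧
    ∀ f, f ∣ m → ∃ K, K ⊴ C{φ ^ k} ∧ K.relIndex C{φ ^ k} = f := by
  have := Fintype.ofFinite (fixF (σ ^ k))
  obtain ⟨ι', -, h'⟩ := h.quot k
  have hψ : φ ^ k ∈ zpowers φ := pow_mem (mem_zpowers φ) k
  have eN := h.N_eq hψ
  have Ko : OddG (zpowers (φ ^ k)) := h.odd_Φ.of_le (zpowers_le.2 hψ)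
  have mt : t ∈ N[zpowers (φ ^ k)] := eN ▸ mem_C1_comm.1 (h.Φ_le hψ)
  have c1 := (nml_N (zpowers (φ ^ k))).card_quo
  have c2 := (nml_N (zpowers (φ ^ k))).card_quo_lt (zpowers_ne_bot.2 hk)
  rw [quo_N, card_top] at c1 c2
  obtain ⟨hI, J, -, hJ, -⟩ := h'.str fun X _ _ K _ _ _ _ _ _ hX =>
    ih X K _ _ _ _ (by have := card_le_card_group N[zpowers (φ ^ k)]; omega)
  have e1 := coprime_quo_cent1 (K := N[zpowers (φ ^ k)]) (norm_self _ mt) mt le_rfl
    (by rw [← card_zpowers' t]; exact cop Ko h.two_t)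
  rw [quo_N, top_inf_eq] at e1
  have e2 : (C{cs (zpowers (φ ^ k)) t}).index = C{t}.relIndex C{φ ^ k} := by
    rw [← relIndex_top_right, ← e1, ← quo_N, relIndex_quo
      ⟨le_inf (norm_self _) (zpowers_le.2 (h.Φ_le hψ)), inf_le_left⟩ le_rfl, inf_relIndex_left, eN]
  have e3 := h'.card_fix
  rw [card_fix_res] at e3
  have e4 : orderOf (cs (zpowers (φ ^ k)) φ) * orderOf (φ ^ k) = orderOf φ := by
    rw [h'.oφ, h.orderOf_pow, orderOf_res, h.oφ]
  refine ⟨_, e4, by rwa [e3, ← e2], ?_, fun f hf => ?_⟩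
  · rw [e3, ← h'.card_L, ← e2, ← e4, ← eN, ← c1, ← (C{cs (zpowers (φ ^ k)) t}).card_mul_index,
      h'.card_C, card_zpowers']
    ring
  · obtain ⟨K, hK, e⟩ := exists_nml_idx hJ hf
    refine ⟨coq _ K, ?_, ?_⟩
    · rw [← eN, ← coq_top]; exact hK.coq
    · rw [← eN, relIndex_coq _ le_rfl, quo_N, e]

/-- an element of `L` of prime order `p ∤ (q ± 1) / 4` commutes with no involution of `L` -/
theorem two_cent {p : ℕ} (hp : p.Prime) (p2 : p ≠ 2)
    (hq : ∀ a : ℕ, (Fintype.card F = 4 * a + 1 ∨ Fintype.card F + 1 = 4 * a) → ¬ p ∣ a) {w : G}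
    (hw : w ∈ ι.range) (ow : orderOf w = p) {U : Subgroup G} (hU : TwoG U) (ht : t ∈ U)
    (hc : U ≤ C{w}) : U ≤ zpowers t := by
  obtain ⟨w, rfl⟩ := hw
  obtain ⟨p', a, b, ε, hL, -⟩ := h.lh
  have k : ∀ y, ι y ∈ U → y = 1 := fun y hy => by
    by_contra y1
    obtain ⟨S, hS, hUS⟩ := Sylow_superset Nat.prime_two hU le_top
    have y2 : orderOf y = 2 := orderOf_eq_two y1 (h.inj (by
      rw [map_mul, map_one]; exact h.S_sq hS (hUS ht) (hUS hy)))
    have := orderOf_dvd_card' (H := C{y}) (x := w) (mem_C1.2 (h.inj (by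
      rw [map_mul, map_mul]; exact (mem_C1.1 (hc hy)).symm)))
    rw [hL.card_C y2, ← orderOf_injective ι h.inj, ow] at this
    refine hq a (by have := hL.hq; have := hL.eps; omega) ((hp.dvd_mul.1 this).resolve_left
      fun d => p2 ((Nat.prime_dvd_prime_iff_eq hp Nat.prime_two).1 (hp.dvd_of_dvd_pow (n := 2) d)))
  intro g hg
  obtain ⟨y, rfl | rfl⟩ :=
    h.mem_KK.1 (h.two_le_KK hU (mem_C_iff_le_C1.1 ((h.abl hU).le_C ht)) hg)
  · rw [k y hg, map_one]; exact one_mem _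
  · rw [k y ((mul_mem_cancel_left ht).1 hg), map_one, mul_one]; exact mem_zpowers t

theorem tr [IsSimpleGroup G] {f : ℕ} (hf : f.Prime) {ψ : G}
    (hψ : Syl f (zpowers φ) (zpowers ψ)) (ψ1 : ψ ≠ 1) (hi : ¬ f ∣ C{t}.relIndex C{ψ})
    (h3 : f = 3 → ∀ a : ℕ, (Fintype.card F = 4 * a + 1 ∨ Fintype.card F + 1 = 4 * a) → ¬ 3 ∣ a) :
    False := by
  have ψΦ : ψ ∈ zpowers φ := hψ.le (mem_zpowers ψ)
  have fψ : PiElt {f} ψ := hψ.pi.piElt (mem_zpowers ψ)
  have f2 : f ≠ 2 := by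
    rintro rfl
    exact ψ1 (fψ.eq_one (h.odd_Φ.piElt ψΦ))
  obtain ⟨P0, hP0, l0⟩ := Sylow_superset (M := C{t} ⊓ C{ψ}) hf hψ.pi
    (le_inf (hψ.le.trans h.Φ_le) (zpowers_le_C1 ψ))
  have hP0' : Syl f C{ψ} P0 := hP0.of_idx inf_le_right
    ((piNat_compl_singleton hf).2 (by rwa [inf_relIndex_right]))
  obtain ⟨P, hP, l1⟩ := Sylow_superset hf hP0.pi (hP0.le.trans inf_le_left)
  have ψP : ψ ∈ P := l1 (l0 (mem_zpowers ψ))
  have tC : t ∈ C[P] := mem_C_iff_le_C1.2 hP.le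
  obtain ⟨U, hU, l2⟩ := Sylow_superset Nat.prime_two h.two_t (zpowers_le.2 tC)
  have tU : t ∈ U := l2 (mem_zpowers t)
  have PM : P ≤ N[P] ⊓ N[U] := le_inf (norm_self P) (norm_of_cent (cents_symm hU.le))
  have fr := Frattini_arg Nat.prime_two (C_nml_N P) hU
  obtain ⟨Q, hQ⟩ := Sylow_exists hf C[P]
  have QP : Q ≤ P := (hP0'.le_of_norm hQ.pi (hQ.le.trans (C_le_C1 ψP))
    (norm_of_cent (hQ.le.trans (C_anti l1)))).trans l1
  obtain ⟨R, hR, l3⟩ := Sylow_superset hf hP.pi PM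
  have hR' : Syl f N[P] R := hR.of_idx inf_le_left
    (fr.symm.relIndex_eq ▸ hQ.idx_of_ge (QP.trans PM))
  have Rt : R ≤ C{t} := by
    by_contra Rt
    have i1 := relIndex_C1_lt tU h.t_ne (hR.le.trans inf_le_right)
    have i2 : f ∣ C{t}.relIndex R := by
      by_contra k
      exact Rt (relIndex_eq_one.1 ((hR.pi.relIndex _).eq_one ((piNat_compl_singleton hf).2 k)))
    have i3 := Nat.le_of_dvd (relIndex_pos _ _) i2
    obtain ⟨S, hS, ht, hφ⟩ := h.exists_S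
    obtain ⟨d, hd, l4⟩ := h.conj_into hS ht hU.pi tU
    by_cases e : cj d U = S
    · have l5 : cj d P ≤ C[S] := e ▸ cent_cj (cents_symm hU.le) d
      have D := h.dp_S hS ht hφ
      have l6 : cj d P ≤ zpowers φ :=
        (D.isProd.hall_right (π := {2}ᶜ) (by simpa using hS.pi) h.odd_Φ).le_of_nml
          D.nml_right.norm ((hP.pi.cj d).compl_of_ne f2) l5
      have e1 : zpowers ψ = P := eq_of_card_ge (zpowers_le.2 ψP)
        (Nat.le_of_dvd (card_pos _) (card_cj d P ▸ hψ.card_dvd (hP.pi.cj d) l6))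
      refine Rt ((hP0'.le_of_norm hR.pi (hR'.le.trans (e1 ▸ h.N_le_C ψΦ)) ?_).trans
        (hP0.le.trans inf_le_left))
      rw [le_antisymm l1 (e1 ▸ l0)]
      exact hR'.le
    have c1 := card_dvd l4
    have c2 := card_lt (lt_of_le_of_ne l4 e)
    rw [card_cj, h.card_S hS ht] at c1 c2
    have c3 : ♯U ≤ 4 := by
      obtain ⟨c, hc⟩ := c1
      rcases c with _ | _ | c
      · omega
      · omega
      · nlinarith
    obtain rfl : f = 3 := by have := hf.two_le; omega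
    have hPL := hP.inf_nml ⟨h.L_le, h.L_norm⟩
    obtain ⟨-, r, -, -, -, r3, -⟩ := h.exists_V
    obtain ⟨w, hw, w3⟩ := exists_orderOf_eq hf (hPL.prime_dvd hf rfl (by
      have := orderOf_dvd_card' (H := ι.range) ⟨r, rfl⟩
      rwa [orderOf_injective ι h.inj, r3] at this))
    have := card_le (h.two_cent hf f2 (h3 rfl) hw.2 w3 hU.pi tU (hU.le.trans (C_le_C1 hw.1)))
    rw [card_zpowers', h.ord] at this
    omega
  have hPG : Syl f ⊤ P := Sylow_subnorm hf le_top (by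
    rw [top_inf_eq]; exact hP.eq_of_le hR.pi l3 Rt ▸ hR')
  have := Fact.mk hf
  refine Cfsg.Agent.S1241.result (p := f) C{t} (KK t ι) h.KK_le h.sd.nml.normal
    (fun x hx y hy => (abl_quo h.sd.nml.norm).1 (h.sd.abl_iff.2 (abl_zpowers φ))
      (commutator_mem_commutator hx hy))
    ((piNat_compl_iff_coprime hf).1 (relIndex_top_right (H := C{t}) ▸ hPG.idx_of_ge hP.le)) ψ
    (h.Φ_le ψΦ) (fun k => ψ1 (mem_bot.1 (h.sd.inf ▸ (mem_inf.2 ⟨k, ψΦ⟩)))) (fψ.exists_pow hf)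
    (fun m a k => h.conj_coset (zpow_mem (h.Φ_le ψΦ) m) k (isConj_iff.2 ⟨a, rfl⟩))
    (h.perfect ▸ mem_top ψ)

end JR

end H1
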