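import Mathlib
import Cfsg.Agent.H1.JRTr
import Cfsg.Agent.H12.JRAF
import Cfsg.Agent.H16.PSL2Small

/-! The primes `7`, `11`, `19` for `JR` groups. -/

set_option autoImplicit false
open Cfsg H24 Subgroup H16 H27.JT H26 H26.Gold
open scoped MatrixGroups

namespace H1

universe u v

theorem syl_count {G : Type*} [Group G] [Finite G] {p : ℕ} (hp : p.Prime) {M P : Subgroup G}
    (h : Syl p M P) : N[P].relIndex M ≡ 1 [MOD p] := by
  have := Fact.mk hp
  obtain ⟨S, rfl⟩ := Syl.exists_sylow hp h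
  have e := card_sylow_modEq_one p M
  rwa [S.card_eq_index_normalizer, ← Sylow.coe_coe, ← subgroupOf_map_subtype' (S : Subgroup M),
    ← subgroupOf_normalizer_eq (map_subtype_le' _)] at e

theorem conj_pow_pow {G : Type*} [Group G] {k x : G} {w : ℕ} (h : k * x * k⁻¹ = x ^ w) (j : ℕ) :
    k ^ j * x * (k ^ j)⁻¹ = x ^ w ^ j := by
  induction j with
  | zero => simp
  | succ j ih => rw [pow_succ' w, pow_mul, ← h, conj_pow, ← ih, pow_succ']; group

open Equiv Equiv.Perm in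
theorem a5_inv {p : ℕ} (hp : p = 3 ∨ p = 5) : ∃ w s : alternatingGroup (Fin 5),
    orderOf w = p ∧ orderOf s = 2 ∧ s * w * s⁻¹ = w⁻¹ := by
  have : Fact (Nat.Prime 5) := ⟨by norm_num⟩
  rcases hp with rfl | rfl
  · exact ⟨⟨swap 0 1 * swap 1 2, mem_alternatingGroup.2 (by decide)⟩,
      ⟨swap 0 1 * swap 3 4, mem_alternatingGroup.2 (by decide)⟩,
      orderOf_eq_prime (by decide) (by decide), orderOf_eq_prime (by decide) (by decide), by decide⟩
  · exact ⟨⟨swap 0 1 * swap 1 2 * swap 2 3 * swap 3 4, mem_alternatingGroup.2 (by decide)⟩,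
      ⟨swap 1 4 * swap 2 3, mem_alternatingGroup.2 (by decide)⟩,
      orderOf_eq_prime (by decide) (by decide), orderOf_eq_prime (by decide) (by decide), by decide⟩

namespace JR
variable {G : Type u} [Group G] [Finite G] {F : Type v} [Field F] [Fintype F] {t : G}
  {ι : PSL(2, F) →* G} {φ : G} {σ : F ≃+* F} (h : JR t ι φ σ)
include h

theorem sq_of_twoE {g : G} (hg : TwoE g) : g * g = 1 := by
  obtain ⟨S, hS, ht, -⟩ := h.exists_S
  obtain ⟨c, -, k⟩ := Sylow_Jsub Nat.prime_two hS hg.isPi le_top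
  have := h.S_sq hS ht (k (conj_mem_cj c (mem_zpowers g)))
  rwa [conj_mul, conj_eq_one_iff'] at this

theorem le_C_of_nml {S K : Subgroup G} (hS : Syl 2 ⊤ S) (ht : t ∈ S) (hK : K ⊴ N[S])
    (hC : K ≤ C{t}) : K ≤ C[S] := fun g hg => mem_C.2 fun w hw => by
  by_cases w1 : w = 1
  · simp [w1]
  obtain ⟨m, hm, rfl⟩ := h.S_trans hS ht hw w1
  have k := mem_C1.1 (hC (hK.conj_mem (inv_mem hm) hg))
  calc _ = m * (t * (m⁻¹ * g * m⁻¹⁻¹)) * m⁻¹ := by group
    _ = _ := by rw [← k]; group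

theorem exists_r {S : Subgroup G} (hS : Syl 2 ⊤ S) (ht : t ∈ S) :
    ∃ r ∈ N[S], orderOf r = 3 ∧ r ∉ C[S] := by
  obtain ⟨P, rfl⟩ := h.S_eq hS ht
  obtain ⟨p, a, b, ε, hL, -⟩ := h.lh
  obtain ⟨r, r0, r1, r2⟩ := hL.exists_r P
  refine ⟨ι r, zpowers_le.1 (norm_sup (norm_zpowers_of_cent (zpowers_le.2 (h.mem r)))
    (by rw [← MonoidHom.map_zpowers]; exact norm_map (zpowers_le.2 r1) ι)),
    by rw [orderOf_injective ι h.inj, r0], fun k => r2 (mem_C.2 fun v hv => h.inj ?_)⟩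
  rw [map_mul, map_mul]
  exact mem_C.1 k _ (mem_sup_right (mem_map_of_mem ι hv))

section
variable {f : ℕ} (hf : f.Prime) (hL : ¬ f ∣ Nat.card PSL(2, F))
include hf hL

omit [Finite G] hf in
theorem ne_two : f ≠ 2 := by
  rintro rfl
  obtain ⟨p, a, b, ε, hL', -⟩ := h.lh
  exact hL ⟨2 * a * b * Fintype.card F, by rw [hL'.card]; ring⟩

theorem pi_KK : IsPi {f}ᶜ (KK t ι) := by
  rw [isPi_compl_iff hf, h.card_KK, hf.dvd_mul, Nat.prime_dvd_prime_iff_eq hf Nat.prime_two]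
  exact not_or.2 ⟨h.ne_two hL, hL⟩

theorem inf_C_le {Z U : Subgroup G} (hZ : IsPi {f} Z) (hU : TwoG U) (ht : t ∈ U) (hn : U ≤ N[Z]) :
    Z ⊓ C{t} ≤ C[U] := by
  have k := h.two_le_KK hU (mem_C_iff_le_C1.1 ((h.abl hU).le_C ht))
  rw [← comm_eq_bot, eq_bot_iff, ← hZ.inf_eq_bot (h.pi_KK hf hL)]
  exact le_inf ((comm_mono_left inf_le_left).trans (comm_le_left hn))
    ((comm_mono_right k).trans (comm_le_right (inf_le_right.trans h.sd.nml.norm)))

variable {ψ : G} (hψ : Syl f (zpowers φ) (zpowers ψ))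
include hψ

theorem syl_ψ : Syl f C{t} (zpowers ψ) :=
  hψ.of_idx h.Φ_le (h.sd.relIndex_right ▸ h.pi_KK hf hL)

theorem four {Z : Subgroup G} (hZ : IsPi {f} Z) (h4 : 4 ∣ ♯N[Z]) : ∃ g, Z ≤ cj g (zpowers ψ) := by
  obtain ⟨U, hU⟩ := Sylow_exists Nat.prime_two N[Z]
  have c := Nat.le_of_dvd (card_pos _) (hU.dvd_card (piNat_self_pow Nat.prime_two 2) h4)
  have sq : ∀ u ∈ U, u * u = 1 := fun u hu => h.sq_of_twoE (hU.pi.piElt hu)
  have cn : ∀ u ∈ U, u ≠ 1 → ∃ g, g * t * g⁻¹ = u := fun u hu u1 =>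
    isConj_iff.1 (h.cnj u (orderOf_eq_two u1 (sq u hu)))
  have k : Z ≤ C[U] := coprime_abelian_gen_cent1 (h.abl hU.pi) (not_cyc_of_sq sq (by omega)) hU.le
    (hZ.coprime_of_ne hU.pi (h.ne_two hL)) fun u hu u1 => by
      obtain ⟨g, rfl⟩ := cn u hu u1
      rw [← cj_C1, ← cj_cj_inv g Z, ← cj_inf, ← cj_cj_inv g U, ← cj_C, cj_le_cj]
      exact h.inf_C_le hf hL (hZ.cj _) (hU.pi.cj _) (mem_cj.2 (by simpa using hu))
        (norm_cj hU.le _)
  obtain ⟨u, hu, u1⟩ := exists_ne_one (H := U) (by rintro rfl; simp at c)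
  obtain ⟨g, rfl⟩ := cn u hu u1
  obtain ⟨c, -, e⟩ := Sylow_subJ hf (h.syl_ψ hf hL hψ) (hZ.cj g⁻¹)
    (by rw [← le_cj_iff, cj_C1]; exact k.trans (C_le_C1 hu))
  exact ⟨g * c, by rwa [cj_mul, le_cj_iff]⟩

variable (hi : ¬ f * f ∣ C{t}.relIndex C{ψ}) {T : Subgroup G} (hT : IsPi {f} T)
  (l1 : zpowers ψ < T) (l2 : T ≤ C{ψ})
include hi hT l1 l2

theorem syl_T : (zpowers ψ).relIndex T = f ∧ Syl f C{ψ} T ∧ Abl T := by
  have le : zpowers ψ ≤ C{t} ⊓ C{ψ} := le_inf (hψ.le.trans h.Φ_le) (zpowers_le_C1 ψ)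
  have e1 := relIndex_mul_relIndex _ _ _ l1.le l2
  have n1 := Syl.not_dvd hf ((h.syl_ψ hf hL hψ).of_le le inf_le_left)
  rw [← relIndex_mul_relIndex _ _ _ le inf_le_right, inf_relIndex_right] at e1
  have n2 : ¬ f * f ∣ (zpowers ψ).relIndex T * T.relIndex C{ψ} := fun k => hi
    ((((Nat.Prime.coprime_iff_not_dvd hf).2 n1).mul_left
      ((Nat.Prime.coprime_iff_not_dvd hf).2 n1)).dvd_of_dvd_mul_left (e1 ▸ k))
  obtain ⟨j, hj⟩ := (piNat_singleton hf (relIndex_ne_zero' _ _)).1 (hT.relIndex (zpowers ψ))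
  have e : (zpowers ψ).relIndex T = f := by
    rcases j with _ | _ | j
    · exact absurd (relIndex_eq_one.1 hj) l1.not_ge
    · simpa using hj
    · exact absurd (Dvd.dvd.mul_right ⟨f ^ j, by rw [hj]; ring⟩ _) n2
  refine ⟨e, Syl.mk' hf l2 hT fun k => n2 (by rw [e]; exact Nat.mul_dvd_mul_left _ k), ?_⟩
  obtain ⟨x, hx, x1⟩ := SetLike.exists_of_lt l1
  rw [← (covBy_eq_or (covBy_of_relIndex_prime l1.le (e ▸ hf)) le_sup_left
    (sup_le l1.le (zpowers_le.2 hx))).resolve_left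
    fun k => x1 (k ▸ mem_sup_right (mem_zpowers x))]
  exact (abl_zpowers ψ).sup (abl_zpowers x)
    (cents_symm (by rw [C_zpowers]; exact zpowers_le.2 (l2 hx)))

theorem af [IsSimpleGroup G] (ih : IHJ.{u, v} (Nat.card G)) (ψ1 : ψ ≠ 1) {k : G} (k1 : k ∈ C{ψ})
    (k2 : k ∈ N[T]) (k3 : OddE k) (k4 : PiElt {f}ᶜ k) : k ∈ C[T] := by
  by_contra k5
  obtain ⟨e, hS, ha⟩ := h.syl_T hf hL hψ hi hT l1 l2
  have D := coprime_abelian_cent_dprod (zpowers_le.2 k2) (hT.coprime k4.isPi) ha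
  rw [C_zpowers, (covBy_eq_or (covBy_of_relIndex_prime l1.le (e ▸ hf))
    (le_inf l1.le (zpowers_le.2 (mem_C1_comm.1 k1))) inf_le_left).resolve_right
    fun c => k5 (mem_C_iff_le_C1.2 (inf_eq_left.1 c))] at D
  have c : ♯⁅T, zpowers k⁆ = f := Nat.eq_of_mul_eq_mul_right (card_pos (zpowers ψ)) (by
    rw [← D.card, ← card_mul_relIndex l1.le, e, mul_comm])
  obtain ⟨x, hx, ox⟩ := exists_orderOf_eq hf c.symm.dvd
  have x1 := ne_one_of_orderOf_prime (ox ▸ hf)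
  have ex := zpowers_eq_of_prime (c ▸ hf) hx x1
  obtain ⟨w, hw⟩ := (mem_powers_iff_mem_zpowers.2 (ex.ge (conj_mem
    (norm_comm_right _ _ (mem_zpowers k)) hx)) : _ ∈ Submonoid.powers x)
  have hw' : k * x * k⁻¹ = x ^ w := hw.symm
  have eT : zpowers ψ ⊔ zpowers x = T := by rw [ex, sup_comm, D.sup]
  refine caseAF hf (h.ne_two hL) h.ab h.perfect (hψ.pi.isPGroup hf) ψ1 ox
    (mem_C1.1 (l2 (D.left_le hx))).symm (fun c => x1 (mem_bot.1 (D.inf ▸ mem_inf.2 ⟨hx, c⟩)))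
    (eT ▸ hS) (mem_C1.1 k1) hw' (oddE_iff.1 k3) ?_ (fun c => k5 ?_)
    (fun _ c => h.N_le_C (hψ.le c))
    (fun Z hZ => h.four hf hL hψ (isPi_of_isPGroup hf hZ)) fun ψ' c1 c2 c3 => ?_
  · have := conj_pow_pow hw' (orderOf k)
    rw [pow_orderOf_eq_one, one_mul, inv_one, mul_one] at this
    rw [← ox, ← pow_eq_pow_iff_modEq, pow_one, ← this]
  · rw [← ox, ← pow_eq_pow_iff_modEq, pow_one, ← hw', ← mem_C1_iff_conj] at c
    rw [← eT, C_sup, C_zpowers, C_zpowers]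
    exact ⟨k1, c⟩
  · obtain ⟨j, rfl⟩ := h.exists_pow (hψ.le c1)
    obtain ⟨m, hm, -, -, hK⟩ := h.loc ih c2
    refine hK f ?_
    have le := zpowers_le.2 c1
    have e1 := card_mul_relIndex (le.trans hψ.le)
    rw [card_zpowers', card_zpowers', ← hm, mul_comm m,
      Nat.mul_right_inj (orderOf_pos _).ne', ← relIndex_mul_relIndex _ _ _ le hψ.le] at e1
    refine e1 ▸ Dvd.dvd.mul_right ?_ _
    by_contra c
    exact c3 (relIndex_eq_one.1 ((hψ.pi.relIndex _).eq_one ((piNat_compl_singleton hf).2 c))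
      (mem_zpowers ψ))

end

theorem seven [IsSimpleGroup G] (ih : IHJ.{u, v} (Nat.card G)) (hL : ¬ 7 ∣ Nat.card PSL(2, F))
    {ψ : G} (hψ : Syl 7 (zpowers φ) (zpowers ψ)) (ψ1 : ψ ≠ 1)
    (hi : ¬ 7 * 7 ∣ C{t}.relIndex C{ψ}) : False := by
  have p7 : Nat.Prime 7 := by norm_num
  obtain ⟨S, hS, ht, hφ⟩ := h.exists_S
  have le : N[S] ≤ C{ψ} := (h.N_S hS ht hφ).trans (C1_le_C1_of_mem_zpowers (hψ.le (mem_zpowers ψ)))
  obtain ⟨T, hT, l1⟩ := Sylow_superset (M := N[S]) p7 hψ.pi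
    (hψ.le.trans ((h.dp_S hS ht hφ).right_le.trans (C_le_N S)))
  have l1' : zpowers ψ < T := lt_of_le_of_ne l1 fun e => (piNat_compl_singleton p7).1
    (hT.idx_of_ge (e ▸ hψ.le.trans h.Φ_le)) (h.relIndex_S hS ht ▸ dvd_rfl)
  have l2 := hT.le.trans le
  have B := Burnside_normal_complement p7 hT fun g hg => mem_of_constt_mem fun p hp _ => by
    have m1 := constt_mem {p} hg
    have m2 := piElt_constt {p} g
    by_cases e : p = 7
    · subst e
      exact (h.syl_T p7 hL hψ hi hT.pi l1' l2).2.2.le_C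
        (hT.le_of_norm m2.isPi (zpowers_le.2 m1.1) (zpowers_le.2 m1.2) (mem_zpowers _))
    by_cases e' : p = 2
    · subst e'
      refine (show S ⊓ N[T] ≤ C[T] from ?_)
        ⟨(hS.of_le (norm_self S) le_top).mem_of_nml le_rfl m2 m1.1, m1.2⟩
      rw [← comm_eq_bot, eq_bot_iff, ← hS.pi.inf_eq_bot (hT.pi.compl_of_ne (by norm_num))]
      exact le_inf ((comm_mono_left inf_le_left).trans (comm_le_left hT.le))
        (comm_le_right inf_le_right)
    exact h.af p7 hL hψ hi hT.pi l1' l2 ih ψ1 (le m1.1) m1.2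
      (m2.mono (singleton_subset_compl e')) (m2.mono (singleton_subset_compl e))
  have n4 : (N[S] ⊓ C{t}).relIndex N[S] = 7 := by rw [inf_relIndex_left, h.relIndex_S hS ht]
  rcases covBy_eq_or (covBy_of_relIndex_prime inf_le_left (n4 ▸ p7))
    (le_sup_right : _ ≤ O[{7}ᶜ, N[S]] ⊔ N[S] ⊓ C{t}) (sup_le B.left_le inf_le_left) with e | e
  · obtain ⟨r, r1, r3, r2⟩ := h.exists_r hS ht
    exact r2 (h.le_C_of_nml hS ht B.nml (le_sup_left.trans (e.le.trans inf_le_right))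
      ((B.hall_compl_left hT).mem_of_nml B.nml.norm
        ((piElt_of_orderOf_prime Nat.prime_three r3).mono (singleton_subset_compl (by norm_num))) r1))
  · have := (B.nml.isProd_sup (inf_le_left (b := C{t}))).symm.relIndex_dvd
    rw [e, n4] at this
    exact (isPi_compl_iff p7).1 (pcore_pi _ _) this

theorem j1 [IsSimpleGroup G] (ih : IHJ.{u, v} (Nat.card G)) {f : ℕ} (hf : f = 11 ∨ f = 19)
    (ho : orderOf φ = f) (hq : Nat.card (fixF σ) = 5) : False := by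
  have pf : f.Prime := by rcases hf with rfl | rfl <;> norm_num
  have φ1 := ne_one_of_orderOf_prime (ho ▸ pf)
  obtain ⟨m, hm, hI, hc, -⟩ := h.loc ih (k := 1) (by rwa [pow_one])
  rw [pow_one] at hm hI hc
  obtain rfl : m = 1 := Nat.eq_of_mul_eq_mul_right (orderOf_pos φ) (by rw [hm, one_mul])
  rw [hq, pow_one] at hI hc
  have hi : C{t}.relIndex C{φ} = 1463 := by
    rcases hI with ⟨e, -⟩ | ⟨-, e⟩ | ⟨⟨m, e⟩, -⟩
    · omega
    · exact e
    · rw [pow_succ] at e; omega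
  have q := h.card_fix
  have cL := h.card_L
  rw [hq, ho] at q
  rw [hi, ho] at hc
  rw [← q] at cL
  have hL : ¬ f ∣ Nat.card PSL(2, F) := by rcases hf with rfl | rfl <;> omega
  have hψ : Syl f (zpowers φ) (zpowers φ) :=
    hall_self (isPi_of_card_prime pf (by rw [card_zpowers', ho]))
  have hi' : ¬ f * f ∣ C{t}.relIndex C{φ} := by rcases hf with rfl | rfl <;> omega
  obtain ⟨T, hT, l1⟩ := Sylow_superset pf hψ.pi (zpowers_le_C1 φ)
  have l1' : zpowers φ < T := lt_of_le_of_ne l1 fun e => (piNat_compl_singleton pf).1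
    (hT.idx_of_ge (e ▸ h.Φ_le)) (by rcases hf with rfl | rfl <;> omega)
  have cT := card_mul_relIndex l1
  rw [(h.syl_T pf hL hψ hi' hT.pi l1' hT.le).1, card_zpowers', ho] at cT
  have nf : ∀ Z, IsPi {f} Z → ♯T ∣ ♯Z → ¬ 4 ∣ ♯N[Z] := fun Z hZ c h4 => by
    obtain ⟨g, e⟩ := h.four pf hL hψ hZ h4
    have := (Nat.le_of_dvd (card_pos _) c).trans (card_le e)
    rw [card_cj, card_zpowers', ho, ← cT] at this
    rcases hf with rfl | rfl <;> omega
  have n1 : ¬ 4 ∣ ♯(N[T] ⊓ C{φ}) := fun c => nf T hT.pi dvd_rfl (c.trans (card_dvd inf_le_left))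
  have n2 : ∀ p, p = 3 ∨ p = 5 → ¬ p ∣ ♯(N[T] ⊓ C{φ}) := fun p hp c => by
    have pp : p.Prime := by rcases hp with rfl | rfl <;> norm_num
    have p2 : p ≠ 2 := by omega
    obtain ⟨w, hw, ow⟩ := exists_orderOf_eq pp c
    have pw := piElt_of_orderOf_prime pp ow
    have wT := h.af pf hL hψ hi' hT.pi l1' hT.le ih φ1 hw.2 hw.1
      (pw.mono (singleton_subset_compl p2)) (pw.mono (singleton_subset_compl (by omega)))
    have := Fintype.ofFinite (fixF σ)
    obtain ⟨e⟩ := psl2_five (F := fixF σ) (by rw [← Nat.card_eq_fintype_card, hq])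
    obtain ⟨w0, s0, o1, o2, e1⟩ := a5_inv hp
    let j := (pslMap (fixF σ).subtype).comp e.symm.toMonoidHom
    have ji : Function.Injective j := (pslMap_injective _).comp e.symm.injective
    have o3 : orderOf (ι (j w0)) = p := by rw [orderOf_injective ι h.inj, orderOf_injective j ji, o1]
    have c1 : ι (j w0) ∈ C{φ} := mem_C1_comm.1 (mem_C1_iff_conj.2
      ((h.act _).trans (congrArg ι (pslMap_fix σ _))))
    have c2 := card_mul_relIndex (zpowers_le.2 hw.2)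
    rw [card_zpowers', ow, hc] at c2
    obtain ⟨c, -, l3⟩ := Sylow_subJ pp (Syl.mk' pp (zpowers_le.2 hw.2) pw.isPi
      (by rcases hf with rfl | rfl <;> rcases hp with rfl | rfl <;> omega))
      (piElt_of_orderOf_prime pp o3).isPi (zpowers_le.2 c1)
    have l4 : cj c T ≤ C{ι (j w0)} := by
      rw [← C_zpowers]
      exact cents_of_le (cent_cj (cents_symm (zpowers_le.2 wT)) c) l3
    have nc : NCompl {2} C{ι (j w0)} := H12.ncompl_two fun c4 => by
      obtain ⟨U, hU, l⟩ := Sylow_superset Nat.prime_two h.two_t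
        (zpowers_le.2 (mem_C1_comm.1 (h.mem (j w0))))
      have := (hU.dvd_card (piNat_self_pow Nat.prime_two 2) c4).trans (card_dvd (h.two_cent pp p2
        (by rw [← q]; rcases hf with rfl | rfl <;> rcases hp with rfl | rfl <;> omega)
        ⟨_, rfl⟩ o3 hU.pi (l (mem_zpowers t)) hU.le))
      rw [card_zpowers', h.ord] at this
      omega
    have cU := h.card_tsup (zpowers (j s0))
    rw [card_zpowers', orderOf_injective j ji, o2] at cU
    have U2 : TwoG (zpowers t ⊔ (zpowers (j s0)).map ι) := isPi_of_card (n := 2) Nat.prime_two cU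
    have UN : zpowers t ⊔ (zpowers (j s0)).map ι ≤ N[C{ι (j w0)}] := by
      rw [← C_zpowers]
      refine norm_C (sup_le (norm_zpowers_of_cent (zpowers_le.2 (mem_C1_comm.1 (h.mem _)))) ?_)
      rw [MonoidHom.map_zpowers, zpowers_le, mem_N_iff_cj, cj_zpowers, ← map_inv, ← map_inv,
        ← map_mul, ← map_mul, ← map_mul, ← map_mul, e1, map_inv, map_inv, zpowers_inv]
    obtain ⟨P, hP, UP⟩ := sol_coprime_Sylow_exists pf (norm_pcore {2}ᶜ UN) (cop (Od_odd _) U2)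
      (Or.inl (U2.sol Nat.prime_two))
    refine nf P hP.pi (card_cj c T ▸ hP.card_dvd (hT.pi.cj c) (nc.le_pcore
      ((hT.pi.cj c).compl_of_ne (by omega)) l4)) (by have := card_dvd UP; rwa [cU] at this)
  have n3 := syl_count pf hT
  have n4 := card_inf_mul_relIndex N[T] C{φ}
  obtain ⟨m, hm⟩ := card_dvd (le_inf (norm_self T) hT.le)
  rw [hm, ← cT] at n1 n2 n4
  rw [hc] at n4
  have n5 := n2 3 (Or.inl rfl)
  have n6 := n2 5 (Or.inr rfl)
  generalize N[T].relIndex C{φ} = n at n3 n4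
  have k : ∀ a, m ∣ 15 * a → m ∣ a := fun a => Nat.Coprime.dvd_of_dvd_mul_left
    (Nat.Coprime.mul_right (m := 3) (n := 5)
      ((Nat.prime_three.coprime_iff_not_dvd.2 fun c => n5 (c.mul_left _)).symm)
      ((Nat.prime_five.coprime_iff_not_dvd.2 fun c => n6 (c.mul_left _)).symm))
  replace n1 : ¬ 4 ∣ m := fun c => n1 (c.mul_left _)
  rcases hf with rfl | rfl
  · have e : m * n = 15960 := by rw [mul_assoc] at n4; omega
    have : ∀ m ∈ Nat.divisors 1064, ¬ 4 ∣ m → 15960 / m % 11 ≠ 1 := by decide +kernel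
    refine this m (Nat.mem_divisors.2 ⟨k _ ⟨n, e.symm⟩, by norm_num⟩) n1 ?_
    rwa [← e, Nat.mul_div_cancel_left _ (Nat.pos_of_ne_zero (by rintro rfl; omega))]
  · have e : m * n = 9240 := by rw [mul_assoc] at n4; omega
    have : ∀ m ∈ Nat.divisors 616, ¬ 4 ∣ m → 9240 / m % 19 ≠ 1 := by decide +kernel
    refine this m (Nat.mem_divisors.2 ⟨k _ ⟨n, e.symm⟩, by norm_num⟩) n1 ?_
    rwa [← e, Nat.mul_div_cancel_left _ (Nat.pos_of_ne_zero (by rintro rfl; omega))]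

end JR

end H1
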