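import Mathlib
import Cfsg.Agent.H1.JRAf
import Cfsg.Agent.H17.JRBeta
import Cfsg.Agent.H18.JRThree

/-! A simple `JR` group has `φ = 1`. -/

set_option autoImplicit false
open Cfsg H24 Subgroup H16 H27.JT H26 H26.Gold
open scoped MatrixGroups

namespace H1

universe u v

theorem Idx.cases {q i : ℕ} (h : Idx q i) : (q = 3 ∧ i = 7) ∨ (q = 5 ∧ i = 1463) ∨
    ∃ m c, q = 3 ^ (2 * m + 1) ∧ i = q ^ 2 * c ∧ c + q = q ^ 2 + 1 := by
  rcases h with h | h | ⟨⟨m, h⟩, e⟩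
  exacts [Or.inl h, Or.inr (Or.inl h), Or.inr (Or.inr (by
    obtain ⟨r, rfl⟩ : ∃ r, q = r + 1 := Nat.exists_eq_succ_of_ne_zero (by rw [h]; positivity)
    exact ⟨m, r ^ 2 + r + 1, h, Nat.eq_of_mul_eq_mul_right (Nat.succ_pos (r + 1))
      (e.trans (by simp only [Nat.succ_eq_add_one]; ring)), by ring⟩))]

theorem cube_eq {n q c : ℕ} (e : c + q = q ^ 2 + 1) (hc : n ∣ c) : (q : ZMod n) ^ 3 = -1 := by
  have e' : (c : ZMod n) + q = q ^ 2 + 1 := by exact_mod_cast congrArg (Nat.cast : ℕ → ZMod n) e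
  rw [(ZMod.natCast_eq_zero_iff c n).2 hc] at e'
  linear_combination -(q + 1) * e'

theorem six_eq {n m c k : ℕ} (e : c + 3 ^ m = (3 ^ m) ^ 2 + 1) (hc : n ∣ c)
    (hk : ((3 : ZMod n) ^ 6) ^ k = 1) (h : m.Coprime k) : (3 : ZMod n) ^ 6 = 1 := by
  have := cube_eq e hc
  push_cast at this
  have e1 : ((3 : ZMod n) ^ 6) ^ m = 1 := by
    rw [← pow_mul, mul_comm, pow_mul, show 6 = 3 * 2 from rfl, pow_mul, this]; simp
  simpa [h.gcd_eq_one] using pow_gcd_eq_one.2 ⟨e1, hk⟩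

theorem dvd_of_dvd_sq {f m c : ℕ} (hf : f.Coprime 3) (h : f ∣ (3 ^ m) ^ 2 * c) : f ∣ c :=
  ((hf.pow_right m).pow_right 2).dvd_of_dvd_mul_left h

namespace JR
variable {G : Type u} [Group G] [Finite G] {F : Type v} [Field F] [Fintype F] {t : G}
  {ι : PSL(2, F) →* G} {φ : G} {σ : F ≃+* F} (h : JR t ι φ σ) (ih : IHJ.{u, v} (Nat.card G))
include h ih

theorem syl_gen {f : ℕ} (hf : f.Prime) (hd : f ∣ orderOf φ) : ∃ ψ m,
    Syl f (zpowers φ) (zpowers ψ) ∧ ψ ≠ 1 ∧ m ∣ orderOf φ ∧ ¬ f ∣ m ∧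
      Idx (Nat.card (fixF σ) ^ m) (C{t}.relIndex C{ψ}) := by
  obtain ⟨P, hP⟩ := Sylow_exists hf (zpowers φ)
  obtain ⟨k, rfl⟩ := (le_zpowers_iff φ _).1 hP.le
  have k1 := zpowers_ne_bot.1 (hP.ne_bot hf rfl (by rwa [card_zpowers']))
  obtain ⟨m, hm, hI, -⟩ := h.loc ih k1
  refine ⟨_, m, hP, k1, ⟨_, hm.symm⟩, fun c => Syl.not_dvd hf hP ?_, hI⟩
  have e := hP.card
  rw [card_zpowers', card_zpowers', ← hm, mul_comm m, Nat.mul_right_inj (orderOf_pos _).ne'] at e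
  rwa [e]

theorem main [IsSimpleGroup G] : φ = 1 := by
  by_contra φ1
  have n1 : orderOf φ ≠ 1 := mt orderOf_eq_one_iff.1 φ1
  have n0 := (orderOf_pos φ).ne'
  have q := h.card_fix
  have cL := h.card_L
  have q8 := (pow_mod_eight (q ▸ h.q8)).2.1
  have pf := Nat.minFac_prime n1
  have df := Nat.minFac_dvd (orderOf φ)
  by_cases q5 : 5 < Nat.card (fixF σ)
  · refine h.beta φ1 q5 fun l hl l7 ld c => ?_
    obtain ⟨ψ, m, hψ, ψ1, md, -, hI⟩ := h.syl_gen ih hl ld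
    refine h.tr hl hψ ψ1 (fun d => ?_) (by omega)
    have := Nat.le_self_pow (ne_zero_of_dvd_ne_zero n0 md) (Nat.card (fixF σ))
    rcases hI.cases with ⟨e, -⟩ | ⟨e, -⟩ | ⟨a, c', e1, e2, e3⟩
    · omega
    · omega
    have l3 : l.Coprime 3 := (Nat.coprime_primes hl Nat.prime_three).2 (by omega)
    have e4 := cube_eq e3 (dvd_of_dvd_sq l3 (e1 ▸ e2 ▸ d))
    have e5 : (Nat.card (fixF σ) : ZMod l) ^ 2 = 1 := by
      have := (ZMod.natCast_eq_zero_iff _ l).2 c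
      rw [Nat.cast_sub (Nat.one_le_pow _ _ (by omega))] at this
      push_cast at this
      exact sub_eq_zero.1 this
    have e6 : ((Nat.card (fixF σ) ^ m : ℕ) : ZMod l) ^ 2 = 1 := by
      push_cast; rw [← pow_mul, mul_comm, pow_mul, e5, one_pow]
    have e7 := congrArg (Nat.cast : ℕ → ZMod l) e3
    rw [Nat.cast_add, (ZMod.natCast_eq_zero_iff c' l).2 (dvd_of_dvd_sq l3 (e1 ▸ e2 ▸ d)),
      Nat.cast_add, Nat.cast_pow _ 2, e6, Nat.cast_one] at e7
    have : ((3 : ℕ) : ZMod l) = 0 := by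
      push_cast
      linear_combination e6 - ((Nat.card (fixF σ) ^ m : ℕ) + 2 : ZMod l) * e7
    have := Nat.le_of_dvd (by norm_num) ((ZMod.natCast_eq_zero_iff 3 l).1 this)
    omega
  obtain q3 | q5 : Nat.card (fixF σ) = 3 ∨ Nat.card (fixF σ) = 5 := by omega
  · rw [q3] at q
    have k : ∀ {f}, f.Prime → f ∣ orderOf φ → f ≠ 3 → ∃ ψ m, Syl f (zpowers φ) (zpowers ψ) ∧
        ψ ≠ 1 ∧ m ∣ orderOf φ ∧ ¬ f ∣ m ∧ f ∣ C{t}.relIndex C{ψ} ∧ (C{t}.relIndex C{ψ} = 7 ∨ ∃ c,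
          C{t}.relIndex C{ψ} = (3 ^ m) ^ 2 * c ∧ c + 3 ^ m = (3 ^ m) ^ 2 + 1) := fun hf hd f3 => by
      obtain ⟨ψ, m, hψ, ψ1, md, mf, hI⟩ := h.syl_gen ih hf hd
      refine ⟨ψ, m, hψ, ψ1, md, mf, by_contra fun c => h.tr hf hψ ψ1 c (by omega), ?_⟩
      rw [q3] at hI
      rcases hI.cases with ⟨-, e⟩ | ⟨e, -⟩ | ⟨a, c', -, e⟩
      · exact Or.inl e
      · exact absurd ((Nat.Prime.pow_eq_iff Nat.prime_five).1 e).1 (by norm_num)
      · exact Or.inr ⟨c', e⟩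
    by_cases d13 : 13 ∣ orderOf φ
    · obtain ⟨ψ, m, -, -, -, -, d, e | ⟨c, e1, e2⟩⟩ := k (by norm_num) d13 (by norm_num)
      · omega
      have := cube_eq e2 (dvd_of_dvd_sq (by norm_num) (e1 ▸ d))
      push_cast at this
      rw [← pow_mul, mul_comm, pow_mul, show (3 : ZMod 13) ^ 3 = 1 by decide, one_pow] at this
      exact absurd this (by decide)
    by_cases d3 : 3 ∣ orderOf φ
    · exact h.three q3 d3 d13
    have f3 : (orderOf φ).minFac ≠ 3 := fun e => d3 (e ▸ df)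
    obtain ⟨ψ, m, hψ, ψ1, md, mf, d, e⟩ := k pf df f3
    have f7 : (orderOf φ).minFac = 7 := by
      rcases e with e | ⟨c, e1, e2⟩
      · exact (Nat.prime_dvd_prime_iff_eq pf (by norm_num)).1 (e ▸ d)
      have := Fact.mk pf
      have c3 := (Nat.coprime_primes pf Nat.prime_three).2 f3
      have e3 := six_eq (k := (orderOf φ).minFac - 1) e2 (dvd_of_dvd_sq c3 (e1 ▸ d))
        (ZMod.pow_card_sub_one_eq_one (pow_ne_zero _ fun c => f3
          ((Nat.prime_dvd_prime_iff_eq pf Nat.prime_three).1 ((ZMod.natCast_eq_zero_iff 3 _).1 c))))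
        (Nat.coprime_of_dvd fun p hp h1 h2 => by
          have := Nat.minFac_le_of_dvd hp.two_le (h1.trans md)
          have := Nat.le_of_dvd (by have := pf.two_le; omega) h2
          have := pf.two_le
          omega)
      have e4 : (orderOf φ).minFac ∣ 2 ^ 3 * 7 * 13 :=
        (ZMod.natCast_eq_zero_iff _ _).1 (by push_cast; linear_combination e3)
      rcases (Nat.Prime.dvd_mul pf).1 e4 with e4 | e4
      · rcases (Nat.Prime.dvd_mul pf).1 e4 with e4 | e4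
        · exact absurd ((Nat.prime_dvd_prime_iff_eq pf Nat.prime_two).1 (pf.dvd_of_dvd_pow e4) ▸ df)
            h.odd_φ.not_two_dvd_nat
        · exact (Nat.prime_dvd_prime_iff_eq pf (by norm_num)).1 e4
      · exact absurd ((Nat.prime_dvd_prime_iff_eq pf (by norm_num)).1 e4 ▸ df) d13
    rw [f7] at hψ mf
    refine h.seven ih (fun c => ?_) hψ ψ1 fun c => ?_
    · have e1 := (ZMod.natCast_eq_zero_iff _ 7).2 ((show Nat.Coprime 7 3 by norm_num).pow_right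
        (orderOf φ) |>.dvd_of_dvd_mul_left (q ▸ cL ▸ c.mul_left 2))
      rw [Nat.cast_sub (Nat.one_le_pow _ _ (by positivity)), sub_eq_zero] at e1
      push_cast at e1
      rw [← pow_mul, mul_comm, pow_mul] at e1
      have := pow_gcd_eq_one.2 ⟨e1, show ((3 : ZMod 7) ^ 2) ^ 3 = 1 by decide⟩
      rw [((Nat.prime_three.coprime_iff_not_dvd.2 d3).symm).gcd_eq_one] at this
      exact absurd this (by decide)
    · rcases e with e | ⟨c', e1, e2⟩
      · omega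
      exact absurd (six_eq (k := 7) e2 (dvd_of_dvd_sq (by norm_num) (e1 ▸ c)) (by decide)
        ((Nat.Prime.coprime_iff_not_dvd (by norm_num)).2 mf).symm) (by decide)
  have k : ∀ j, φ ^ j ≠ 1 → orderOf (φ ^ j) = orderOf φ ∧ C{t}.relIndex C{φ ^ j} = 1463 :=
    fun j hj => by
      obtain ⟨m, hm, hI, -⟩ := h.loc ih hj
      rw [q5] at hI
      rcases hI.cases with ⟨e, -⟩ | ⟨e, e'⟩ | ⟨a, c', e, -⟩
      · exact absurd ((Nat.Prime.pow_eq_iff Nat.prime_three).1 e).1 (by norm_num)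
      · rw [((Nat.Prime.pow_eq_iff Nat.prime_five).1 e).2, one_mul] at hm
        exact ⟨hm, e'⟩
      · exact absurd (Nat.prime_three.dvd_of_dvd_pow (e ▸ dvd_pow_self 3 (by omega))) (by norm_num)
  have o := orderOf_pow_orderOf_div n0 df
  have e := (k _ (ne_one_of_orderOf_prime (o.symm ▸ pf))).1
  have i := (k 1 (by rwa [pow_one])).2
  rw [o] at e
  rw [pow_one] at i
  generalize (orderOf φ).minFac = f at pf e
  have hψ : Syl f (zpowers φ) (zpowers φ) :=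
    hall_self (isPi_of_card_prime pf (by rw [card_zpowers', e]))
  rw [q5, ← e] at q
  by_cases f7 : f = 7
  · subst f7
    exact h.seven ih (by rw [← q] at cL; omega) hψ φ1 (by omega)
  by_cases f11 : f = 11 ∨ f = 19
  · exact h.j1 ih f11 e.symm q5
  refine h.tr pf hψ φ1 (fun c => ?_) (by rintro rfl; omega)
  rw [i, show 1463 = 7 * 11 * 19 from rfl, pf.dvd_mul, pf.dvd_mul,
    Nat.prime_dvd_prime_iff_eq pf (by norm_num), Nat.prime_dvd_prime_iff_eq pf (by norm_num),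
    Nat.prime_dvd_prime_iff_eq pf (by norm_num)] at c
  omega

end JR

theorem ihj (n : ℕ) : IHJ.{u, v} n := by
  induction n with
  | zero => exact fun _ _ _ _ _ _ _ _ _ _ hX => absurd hX (Nat.not_lt_zero _)
  | succ n ih =>
    intro X _ _ F _ _ _ _ _ _ hX _ h
    exact h.main fun Y _ _ K _ _ _ _ _ _ hY => ih Y K _ _ _ _ (by omega)

theorem JR.isRee_or {G : Type u} [Group G] [Finite G] [IsSimpleGroup G] {F : Type v} [Field F]
    [Fintype F] {t : G} {ι : PSL(2, F) →* G} {φ : G} {σ : F ≃+* F} (h : JR t ι φ σ) :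
    φ = 1 ∧ (IsRee G ∨ IsJ1 G) :=
  ⟨h.main (ihj _), (h.idx_simple (h.main (ihj _))).1⟩

end H1
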