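import Mathlib
import Cfsg.Agent.H18.K3Ch
import Cfsg.Agent.H4.K3SC
import Cfsg.Agent.H15.CIT1

/-!
# Free action of elements outside `O₂` and the numerical hypothesis `Hy`
-/

set_option autoImplicit false
set_option linter.unusedSectionVars false
set_option linter.unusedVariables false

open Cfsg H24 H26 H26.Gold H23.TC H3.B71 Subgroup

namespace H1.K3

universe u

variable {G : Type u} [Group G] [Finite G] {p a b r m : ℕ} {E K Q : Subgroup G} {x : G}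

/-- a subgroup of `N(Q)` that is not a `2`-group has trivial centraliser in `Q` -/
theorem fix_bot (h : H18.K3.KT G p a b) (hQ : TwoG Q)
    (f3 : ∀ y ∈ N[Q], orderOf y = 3 → Q ⊓ C{y} = ⊥) (hK : K ≤ N[Q]) (h2 : ¬ TwoG K) :
    Q ⊓ C[K] = ⊥ := by
  rw [TwoG, isPi_iff_primesOf, Set.not_subset] at h2
  obtain ⟨q, ⟨hq, hd⟩, hn⟩ := h2
  obtain ⟨y, hy, ho⟩ := exists_orderOf_eq hq hd
  have hl : Q ⊓ C[K] ≤ Q ⊓ C{y} := fun z hz => ⟨hz.1, mem_C1.2 (mem_C.1 hz.2 y hy).symm⟩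
  have hd' : q ∣ p * 3 ^ a * 2 ^ b := h.card ▸ hd.trans (card_subgroup_dvd_card K)
  rcases (Nat.Prime.dvd_mul hq).1 hd' with e | e
  · rcases (Nat.Prime.dvd_mul hq).1 e with e | e
    · obtain rfl := (Nat.prime_dvd_prime_iff_eq hq h.prime).1 e
      rw [eq_bot_iff]
      intro z hz
      have h1 := hl hz
      rw [h.cent_p ho] at h1
      obtain ⟨k, hk⟩ := (hQ.piElt hz.1).exists_pow p2
      have h3 : orderOf z ∣ q := ho ▸ orderOf_dvd_of_mem_zpowers h1.2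
      have h4 : (orderOf z).Coprime q := hk ▸ Nat.Coprime.pow_left k
        ((Nat.coprime_primes p2 hq).2 h.ne2)
      exact orderOf_eq_one_iff.1 (h4.eq_one_of_dvd h3)
    · obtain rfl := (Nat.prime_dvd_prime_iff_eq hq Nat.prime_three).1 (hq.dvd_of_dvd_pow e)
      exact eq_bot_iff.2 (f3 y (hK hy) ho ▸ hl)
  · exact absurd ((Nat.prime_dvd_prime_iff_eq hq p2).1 (hq.dvd_of_dvd_pow e)) hn

theorem card_mul_le {A B U : Subgroup G} (hA : A ≤ U) (hB : B ≤ U) (h : A ⊓ B = ⊥) :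
    ♯A * ♯B ≤ ♯U := by
  rw [← Nat.card_prod]
  refine Nat.card_le_card_of_injective
    (fun c : A × B => (⟨c.1 * c.2, mul_mem (hA c.1.2) (hB c.2.2)⟩ : U)) ?_
  rintro ⟨a, b⟩ ⟨c, d⟩ e
  have e1 : (a : G) * b = c * d := congrArg Subtype.val e
  have e2 : (c : G)⁻¹ * a = d * (b : G)⁻¹ := by
    rw [inv_mul_eq_iff_eq_mul, ← mul_assoc, ← e1, mul_inv_cancel_right]
  have e3 : (c : G)⁻¹ * a ∈ A ⊓ B := mem_inf.2
    ⟨A.mul_mem (A.inv_mem c.2) a.2, e2 ▸ B.mul_mem d.2 (B.inv_mem b.2)⟩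
  rw [h, mem_bot] at e3
  rw [e3, eq_comm, mul_inv_eq_one] at e2
  rw [inv_mul_eq_one] at e3
  exact Prod.ext (Subtype.ext e3.symm) (Subtype.ext e2.symm)

/-- every element of `N(Q)` outside `O₂(N(Q))` has a small centraliser in `Q` -/
theorem free (h : H18.K3.KT G p a b) (hQ : TwoG Q) (hO : O[{2}, N[Q]] ≤ Q)
    (f3 : ∀ y ∈ N[Q], orderOf y = 3 → Q ⊓ C{y} = ⊥) (hx : x ∈ N[Q]) (hn : x ∉ Q) :
    ♯(Q ⊓ C{x} : Subgroup G) * ♯(Q ⊓ C{x} : Subgroup G) ≤ ♯Q := by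
  obtain ⟨g, hg, h2⟩ := H15.CIT.exists_not_t2 hx fun e => hn (hO e)
  have hb := fix_bot h hQ f3 (K := closure {x, g * x * g⁻¹}) (by
    rw [closure_le]
    rintro z (rfl | rfl)
    · exact hx
    · exact mul_mem (mul_mem hg hx) (inv_mem hg)) h2
  have e : cj g (Q ⊓ C{x}) = Q ⊓ C{g * x * g⁻¹} := by rw [cj_inf, cj_C1, mem_N_iff_cj.1 hg]
  nth_rewrite 2 [← card_cj g]
  rw [e]
  refine card_mul_le inf_le_left inf_le_left (eq_bot_iff.2 (hb ▸ fun z hz => ⟨hz.1.1, ?_⟩))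
  have : closure {x, g * x * g⁻¹} ≤ C{z} := by
    rw [closure_le]
    rintro w (rfl | rfl)
    · exact mem_C1_comm.1 hz.1.2
    · exact mem_C1_comm.1 hz.2.2
  exact mem_C.2 fun w hw => mem_C1.1 (this hw)

theorem hy (h : H18.K3.KT G p a b) (hQ : EA Q) (hO : O[{2}, N[Q]] ≤ Q)
    (f3 : ∀ y ∈ N[Q], orderOf y = 3 → Q ⊓ C{y} = ⊥)
    (rk : ∀ E, E ≤ N[Q] → EA E → ♯E ≤ r * ♯(E ⊓ Q : Subgroup G)) (big : 4 * r * r < ♯Q) :
    H4.K3.Hy r Q := by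
  refine ⟨hQ, rk, fun x hx hn _ => ?_⟩
  have h1 := free h hQ.two hO f3 hx hn
  generalize ♯(Q ⊓ C{x} : Subgroup G) = c at *
  by_contra hc
  rw [not_lt] at hc
  have h2 := Nat.mul_le_mul hc hc
  have h3 := Nat.mul_le_mul_left (4 * r * r) h1
  have h4 := Nat.mul_lt_mul_of_pos_right big (Nat.zero_lt_of_lt big)
  nlinarith

/-- the rank bound from the order of `N(Q)` -/
theorem rk_of_card (hQ : TwoG Q) (hc : ♯N[Q] = ♯Q * (2 ^ r * m)) (hm : Odd m) (hE : E ≤ N[Q])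
    (he : TwoG E) : ♯E ≤ 2 ^ r * ♯(E ⊓ Q : Subgroup G) := by
  have h1 : ♯(Q ⊔ E : Subgroup G) * ♯(Q ⊓ E : Subgroup G) = ♯Q * ♯E := card_sup hE
  have h2 : ♯(Q ⊔ E : Subgroup G) ∣ ♯Q * 2 ^ r * m := by
    rw [mul_assoc, ← hc]; exact card_dvd_of_le (sup_le (norm_self Q) hE)
  obtain ⟨k, hk⟩ := (hQ.sup he hE).card_eq_pow p2
  have h3 : ♯(Q ⊔ E : Subgroup G) ∣ ♯Q * 2 ^ r :=
    Nat.Coprime.dvd_of_dvd_mul_right (hk ▸ Nat.Coprime.pow_left k hm.coprime_two_left) h2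
  have h4 := Nat.le_of_dvd (Nat.mul_pos Nat.card_pos (by positivity)) h3
  rw [inf_comm]
  refine Nat.le_of_mul_le_mul_left ?_ (Nat.card_pos (α := Q))
  rw [← h1, ← mul_assoc]
  exact Nat.mul_le_mul_right _ h4

theorem rk8 (hQ : TwoG Q) (hc : ♯N[Q] = ♯Q * 504) :
    ∀ E, E ≤ N[Q] → EA E → ♯E ≤ 8 * ♯(E ⊓ Q : Subgroup G) := fun E hE he =>
  rk_of_card (r := 3) (m := 63) hQ hc (by decide) hE he.two

/-- the case `N(Q)/Q` of order `504` -/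
theorem hy8 (h : H18.K3.KT G p a b) (hQ : EA Q) (hO : O[{2}, N[Q]] ≤ Q)
    (f3 : ∀ y ∈ N[Q], orderOf y = 3 → Q ⊓ C{y} = ⊥) (hc : ♯N[Q] = ♯Q * 504) (big : 256 < ♯Q) :
    H4.K3.Hy 8 Q := hy h hQ hO f3 (rk8 hQ.two hc) big

end H1.K3
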