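import Mathlib
import Cfsg.Agent.H24.Base5

/-! Split doubly transitive groups (Kantor–Seitz): definitions. -/

set_option autoImplicit false

namespace H1.KS

open Cfsg H24 MulAction Subgroup

universe u

/-- two-point stabiliser -/
abbrev St (G : Type u) {Ω : Type u} [Group G] [MulAction G Ω] (a b : Ω) : Subgroup G :=
  stabilizer G a ⊓ stabilizer G b

/-- fixed points of a subgroup -/
def Fx (Ω : Type u) {G : Type u} [Group G] [MulAction G Ω] (X : Subgroup G) : Set Ω :=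
  {c | ∀ x ∈ X, x • c = c}

variable {G Ω : Type u} [Group G] [MulAction G Ω]

theorem mem_St {a b : Ω} {g : G} : g ∈ St G a b ↔ g • a = a ∧ g • b = b := Iff.rfl

theorem mem_Fx {X : Subgroup G} {c : Ω} : c ∈ Fx Ω X ↔ ∀ x ∈ X, x • c = c := Iff.rfl

/-- faithful doubly transitive action with an equivariant family of nilpotent subgroups `U c`
fixing `c` and transitive on the other points -/
structure Sp (U : Ω → Subgroup G) : Prop where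
  faith : ∀ g : G, (∀ a : Ω, g • a = a) → g = 1
  two : ∀ a b c d : Ω, a ≠ b → c ≠ d → ∃ g : G, g • a = c ∧ g • b = d
  fix : ∀ c, ∀ u ∈ U c, u • c = c
  eqv : ∀ (g : G) (c : Ω), cj g (U c) = U (g • c)
  nil : ∀ c, Nil (U c)
  tr : ∀ c a b, a ≠ c → b ≠ c → ∃ u ∈ U c, u • a = b

/-- every `U a` is semiregular off `a` -/
def Reg (U : Ω → Subgroup G) : Prop := ∀ a b, a ≠ b → ∀ u ∈ U a, u • b = b → u = 1

/-- `L` preserves `Φ`, and `U c ⊓ L` is transitive on `Φ - c` for all `c ∈ Φ` -/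
structure Sub (U : Ω → Subgroup G) (L : Subgroup G) (Φ : Set Ω) : Prop where
  inv : ∀ g ∈ L, ∀ c ∈ Φ, g • c ∈ Φ
  tr : ∀ c ∈ Φ, ∀ a ∈ Φ, ∀ b ∈ Φ, a ≠ c → b ≠ c → ∃ u ∈ U c, u ∈ L ∧ u • a = b

/-- `U a ⊓ L` induces a semiregular group on `Φ - a` -/
def RegOn (U : Ω → Subgroup G) (L : Subgroup G) (Φ : Set Ω) : Prop :=
  ∀ a ∈ Φ, ∀ b ∈ Φ, a ≠ b → ∀ u ∈ U a, u ∈ L → u • b = b → ∀ c ∈ Φ, u • c = c

/-- `t` is an involution interchanging `a` and `b` -/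
structure Swp (t : G) (a b : Ω) : Prop where
  ne : a ≠ b
  sq : t * t = 1
  ab : t • a = b
  ba : t • b = a

/-- the elements of `D` inverted by `t` -/
def Ks (t : G) (D : Subgroup G) : Set G := {y | y ∈ D ∧ t * y * t = y⁻¹}

/-- data of a counterexample -/
structure Dt (G Ω : Type u) [Group G] [MulAction G Ω] where
  U : Ω → Subgroup G
  p : ℕ
  i : ℕ

namespace Dt

variable (d : Dt G Ω)

/-- `A = U_a ⊓ G_b` -/
def A (a b : Ω) : Subgroup G := d.U a ⊓ stabilizer G b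
/-- the `p`-part of `U c` -/
def P (c : Ω) : Subgroup G := O[{d.p}, d.U c]
/-- `Z(P c)` -/
def Z (c : Ω) : Subgroup G := Z[d.P c]
/-- `M = Z_i(P)` -/
def M (c : Ω) : Subgroup G := ucn d.i (d.P c)
/-- `W = A ⊓ Z_{i+1}(P)` -/
def W (a b : Ω) : Subgroup G := d.A a b ⊓ ucn (d.i + 1) (d.P a)
/-- the line through `a` and `b` -/
def Ln (a b : Ω) : Set Ω := Fx Ω (d.A a b)
/-- `D₀ = C_D(W)` -/
def D0 (a b : Ω) : Subgroup G := St G a b ⊓ C[d.W a b]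

theorem mem_A {a b : Ω} {x : G} : x ∈ d.A a b ↔ x ∈ d.U a ∧ x • b = b := Iff.rfl
theorem mem_Ln {a b c : Ω} : c ∈ d.Ln a b ↔ ∀ x ∈ d.A a b, x • c = c := Iff.rfl
theorem mem_D0 {a b : Ω} {x : G} :
    x ∈ d.D0 a b ↔ (x • a = a ∧ x • b = b) ∧ x ∈ C[d.W a b] := Iff.rfl
theorem P_le (c : Ω) : d.P c ≤ d.U c := pcore_le _ _
theorem A_le (a b : Ω) : d.A a b ≤ d.U a := inf_le_left
theorem W_le (a b : Ω) : d.W a b ≤ d.A a b := inf_le_left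
theorem Z_le (c : Ω) : d.Z c ≤ d.P c := inf_le_left

end Dt

/-- a minimal counterexample with `U` of odd order -/
structure Cx (d : Dt G Ω) : Prop where
  sp : Sp d.U
  odd : ∀ c, Odd ♯(d.U c)
  ih : ∀ (L : Subgroup G) (Φ : Set Ω), Φ ≠ Set.univ → Sub d.U L Φ → RegOn d.U L Φ
  pp : d.p.Prime
  pA : ∀ a b, a ≠ b → d.A a b ≤ d.P a
  MA : ∀ a b, a ≠ b → d.M a ⊓ d.A a b = ⊥
  W1 : ∀ a b, a ≠ b → d.W a b ≠ ⊥

/-- an involution of `C(W)` interchanging `a` and `b` -/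
structure Tt (d : Dt G Ω) (t : G) (a b : Ω) : Prop where
  sw : Swp t a b
  cw : t ∈ C[d.W a b]

/-- the line group: `K = ⟨y⟩` -/
structure Lk (d : Dt G Ω) (t : G) (a b : Ω) (y : G) : Prop where
  tt : Tt d t a b
  ks : Ks t (d.D0 a b) = (zpowers y : Subgroup G)
  fpf : ∀ x ∈ zpowers y, x ≠ 1 → ∀ c ∈ d.Ln a b, x • c = c → c = a ∨ c = b
  cop : (orderOf y).Coprime d.p
  cA : y ∈ C[d.A a b]
  norm : St G a b ≤ N[zpowers y]
  alt : (y = 1 ∧ Cyc (d.M a ⊓ N[d.A a b])) ∨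
    (y ≠ 1 ∧ 2 * orderOf y + 2 = (d.Ln a b).ncard)

/-- what the final count for `|D|` even uses -/
structure Ev (d : Dt G Ω) (m : ℕ) : Prop where
  inv : ∀ a b, a ≠ b → ∀ w ∈ St G a b, w * w = 1 → w ≠ 1 → ∀ x ∈ d.W a b, w * x * w = x⁻¹
  cen : ∀ t a b, Tt d t a b → ∀ w ∈ St G a b, w * w = 1 → ∀ y ∈ Ks t (d.D0 a b), w * y = y * w
  card : ∀ t a b, Tt d t a b → (Ks t (d.D0 a b)).ncard = m
  nd : ¬ d.p ∣ m + 1

/-- the even case: `N` normal, `Q c = O₂(N_c)` -/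
structure Bd (N : Subgroup G) (Q : Ω → Subgroup G) : Prop where
  nml : N.Normal
  def' : ∀ c, Q c = O[{2}, N ⊓ stabilizer G c]
  tr : ∀ c a b, a ≠ c → b ≠ c → ∃ u ∈ Q c, u • a = b
  reg : Reg Q
  odd : ∀ a b : Ω, a ≠ b → Odd ♯(N ⊓ St G a b)
  swp : ∀ a b : Ω, a ≠ b → ∃ t ∈ N, Swp t a b
  ex : ∀ c, ∃ s ∈ Q c, s ≠ 1 ∧ s * s = 1
  cen : ∀ c, ∀ s ∈ Q c, s * s = 1 → s ∈ C[Q c]
  ktr : ∀ a b : Ω, a ≠ b → ∀ s ∈ Q a, ∀ s' ∈ Q a, s ≠ 1 → s * s = 1 → s' ≠ 1 → s' * s' = 1 →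
    ∃ y ∈ N ⊓ St G a b, y * s * y⁻¹ = s'
  u3 : ∀ a b : Ω, a ≠ b → ♯(Q a) = {s | s ∈ Q a ∧ s * s = 1}.ncard ^ 3 →
    ∃ y ∈ N ⊓ St G a b, y ≠ 1 ∧ ∀ s ∈ Q a, s * s = 1 → y * s = s * y

namespace Sp

variable {U : Ω → Subgroup G} (h : Sp U)
include h

theorem conj_mem (g : G) {c : Ω} {u : G} (hu : u ∈ U c) : g * u * g⁻¹ ∈ U (g • c) :=
  h.eqv g c ▸ conj_mem_cj g hu

theorem le_stab (c : Ω) : U c ≤ stabilizer G c := fun u hu => h.fix c u hu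

theorem norm (c : Ω) : stabilizer G c ≤ N[U c] := fun g hg =>
  mem_N_iff_cj.2 (by rw [h.eqv, mem_stabilizer_iff.1 hg])

theorem nml (c : Ω) : U c ⊴ stabilizer G c := ⟨h.le_stab c, h.norm c⟩

end Sp

theorem Swp.ne_one {t : G} {a b : Ω} (s : Swp t a b) : t ≠ 1 := fun e =>
  s.ne (by rw [← s.ab, e, one_smul])

theorem Swp.inv_eq {t : G} {a b : Ω} (s : Swp t a b) : t⁻¹ = t :=
  inv_eq_of_mul_eq_one_right s.sq

theorem Swp.symm {t : G} {a b : Ω} (s : Swp t a b) : Swp t b a := ⟨s.ne.symm, s.sq, s.ba, s.ab⟩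

end H1.KS
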