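import Mathlib
import Cfsg.Agent.H1.KS0

set_option autoImplicit false
set_option linter.unusedSectionVars false
set_option linter.unusedVariables false
set_option linter.style.haveILetI false

namespace H1.KS

open Cfsg H24 MulAction Subgroup

universe u

variable {G Ω : Type u} [Group G] [Finite G] [MulAction G Ω] [Finite Ω] {U : Ω → Subgroup G}
  {d : Dt G Ω} {a b c : Ω} {t w x y z : G} {p m : ℕ} {X L N : Subgroup G} {Φ : Set Ω}

/-- the action of `L` on an invariant subset -/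
@[reducible] def act (L : Subgroup G) (Φ : Set Ω) (h : ∀ g ∈ L, ∀ c ∈ Φ, g • c ∈ Φ) :
    MulAction L Φ where
  smul g c := ⟨(g : G) • (c : Ω), h g g.2 c c.2⟩
  one_smul c := Subtype.ext (one_smul G (c : Ω))
  mul_smul g g' c := Subtype.ext (mul_smul (g : G) (g' : G) (c : Ω))

theorem Fx_zpowers (x : G) : Fx Ω (zpowers x) = fixedBy Ω x := by
  ext c
  refine ⟨fun h => h x (mem_zpowers x), fun h g hg => ?_⟩
  exact (zpowers_le (H := stabilizer G c)).2 h hg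

theorem card_fix_mod (hp : p.Prime) (hX : IsPi {p} X) (hΦ : ∀ g ∈ X, ∀ c ∈ Φ, g • c ∈ Φ) :
    Φ.ncard ≡ (Φ ∩ Fx Ω X).ncard [MOD p] := by
  letI := act X Φ hΦ
  haveI := Fact.mk hp
  have h := (hX.isPGroup hp).card_modEq_card_fixedPoints Φ
  rw [Nat.card_coe_set_eq] at h
  convert h using 1
  rw [← Nat.card_coe_set_eq]
  refine Nat.card_congr ⟨fun c => ⟨⟨c.1, c.2.1⟩, fun g => Subtype.ext (c.2.2 g g.2)⟩,
    fun c => ⟨c.1.1, c.1.2, fun g hg => congrArg Subtype.val (c.2 ⟨g, hg⟩)⟩, fun _ => rfl,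
    fun _ => rfl⟩

theorem isPi_zpowers_inv (hw : w * w = 1) : IsPi {2} (zpowers w) := by
  intro q hq hd
  rw [Nat.card_zpowers] at hd
  have : orderOf w ∣ 2 := orderOf_dvd_of_pow_eq_one (by rw [pow_two, hw])
  exact (Nat.prime_dvd_prime_iff_eq hq Nat.prime_two).1 (hd.trans this)

theorem card_fix_inv (hw : w * w = 1) (hΦ : ∀ c ∈ Φ, w • c ∈ Φ) :
    Φ.ncard ≡ (Φ ∩ fixedBy Ω w).ncard [MOD 2] := by
  rw [← Fx_zpowers]
  refine card_fix_mod Nat.prime_two (isPi_zpowers_inv hw) fun g hg c hc => ?_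
  obtain ⟨k, rfl⟩ := (mem_zpowers_iff_mem_powers_of_finite g w hg)
  induction k with
  | zero => simpa using hc
  | succ k ih => rw [pow_succ', mul_smul]; exact hΦ _ (ih (by simp))
where
  mem_zpowers_iff_mem_powers_of_finite (g w : G) (hg : g ∈ zpowers w) : ∃ k : ℕ, w ^ k = g :=
    mem_powers_iff_mem_zpowers.2 hg

theorem card_orbit (hb : b ∈ Φ) (hΦ : ∀ g ∈ L, ∀ c ∈ Φ, g • c ∈ Φ)
    (htr : ∀ c ∈ Φ, ∃ g ∈ L, g • b = c) : ♯L = Φ.ncard * ♯(L ⊓ stabilizer G b) := by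
  letI := act L Φ hΦ
  haveI : IsPretransitive L Φ := ⟨fun x y => by
    obtain ⟨g, hg, e⟩ := htr x.1 x.2
    obtain ⟨g', hg', e'⟩ := htr y.1 y.2
    refine ⟨⟨g' * g⁻¹, mul_mem hg' (inv_mem hg)⟩, Subtype.ext ?_⟩
    change (g' * g⁻¹) • x.1 = y.1
    rw [← e, ← e', mul_smul, inv_smul_smul]⟩
  have h1 := (stabilizer L (⟨b, hb⟩ : Φ)).index_mul_card
  rw [index_stabilizer_of_transitive, Nat.card_coe_set_eq] at h1
  have h2 : stabilizer L (⟨b, hb⟩ : Φ) = (stabilizer G b).subgroupOf L := by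
    ext g
    exact ⟨fun h => congrArg Subtype.val h, fun h => Subtype.ext h⟩
  rw [← h1, h2, card_subgroupOf, inf_comm]

theorem dvd_of_semireg (hΦ : ∀ g ∈ L, ∀ c ∈ Φ, g • c ∈ Φ)
    (hs : ∀ g ∈ L, ∀ c ∈ Φ, g • c = c → g = 1) : ♯L ∣ Φ.ncard := by
  letI := act L Φ hΦ
  have e := selfEquivOrbitsQuotientProd (G := L) (X := Φ) fun c => by
    refine eq_bot_iff.2 fun g hg => mem_bot.2 (Subtype.ext ?_)
    exact hs g g.2 c c.2 (congrArg Subtype.val hg)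
  rw [← Nat.card_coe_set_eq, Nat.card_congr e, Nat.card_prod]
  exact Dvd.intro_left _ rfl

theorem nml_fix (hX : X ⊴ L) (hΦ : ∀ g ∈ L, ∀ c ∈ Φ, g • c ∈ Φ)
    (htr : ∀ b ∈ Φ, ∀ c ∈ Φ, ∃ g ∈ L, g • b = c) (hc : (♯X).Coprime Φ.ncard) :
    ∀ g ∈ X, ∀ c ∈ Φ, g • c = c := by
  intro g hg c hc'
  have h1 := card_orbit hc' hΦ (htr c hc')
  set S := L ⊓ stabilizer G c
  have h2 := card_sup (A := X) (B := S) (inf_le_left.trans hX.norm)
  have h3 : ♯(X ⊔ S) ∣ ♯L := card_dvd (sup_le hX.le inf_le_left)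
  obtain ⟨e, he⟩ : ♯(X ⊓ S) ∣ ♯X := card_dvd inf_le_left
  have h4 : ♯(X ⊔ S) = e * ♯S := by
    refine Nat.eq_of_mul_eq_mul_left (card_pos (X ⊓ S)) ?_
    rw [← mul_assoc, ← he, ← h2, mul_comm]
  rw [h4, h1] at h3
  have h5 : e ∣ Φ.ncard := Nat.dvd_of_mul_dvd_mul_right (card_pos S) h3
  have h6 : e = 1 := Nat.eq_one_of_self_coprime_dvd (by
    exact Nat.Coprime.coprime_dvd_left (Dvd.intro_left _ he.symm) hc) h5
  have h7 : X ⊓ S = X := eq_of_card_eq inf_le_left (by rw [he, h6, mul_one])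
  exact (h7.ge hg).2.2
where
  Nat.eq_one_of_self_coprime_dvd {e n : ℕ} (h : e.Coprime n) (h' : e ∣ n) : e = 1 :=
    Nat.Coprime.eq_one_of_dvd h h'

theorem exists_swp (hab : a ≠ b) (hx : x ∈ L) (h1 : x • a = b) (h2 : x • b = a)
    (ho : Odd ♯(L ⊓ St G a b)) : ∃ t ∈ L, Swp t a b := by
  have h3 : x * x ∈ L ⊓ St G a b :=
    ⟨mul_mem hx hx, by change (x * x) • a = a; rw [mul_smul, h1, h2],
      by change (x * x) • b = b; rw [mul_smul, h2, h1]⟩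
  obtain ⟨k, hk⟩ := ho.of_dvd_nat (orderOf_dvd_card' h3)
  have h4 := pow_mem h3 k
  refine ⟨x * (x * x) ^ k, mul_mem hx h4.1, hab, ?_, ?_, ?_⟩
  · have : x * (x * x) ^ k * (x * (x * x) ^ k) = (x * x) ^ (2 * k + 1) := by
      rw [← pow_two x, ← pow_mul, ← pow_mul, ← pow_succ', ← pow_add]; congr 1; ring
    rw [this, ← hk, pow_orderOf_eq_one]
  · rw [mul_smul, h4.2.1, h1]
  · rw [mul_smul, h4.2.2, h2]

theorem exists_sqrt (ho : Odd (orderOf x)) : ∃ k : ℕ, x ^ k * x ^ k = x := by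
  obtain ⟨k, hk⟩ := ho
  refine ⟨k + 1, ?_⟩
  rw [← pow_add, show k + 1 + (k + 1) = orderOf x + 1 by omega, pow_succ, pow_orderOf_eq_one,
    one_mul]

theorem inv_pow_of (hw : w * w = 1) (h : w * x * w = x⁻¹) (k : ℕ) : w * x ^ k * w = (x ^ k)⁻¹ := by
  have e : w⁻¹ = w := inv_eq_of_mul_eq_one_right hw
  calc w * x ^ k * w = w * x ^ k * w⁻¹ := by rw [e]
    _ = (w * x * w⁻¹) ^ k := conj_pow.symm
    _ = (x ^ k)⁻¹ := by rw [e, h, inv_pow]

theorem dec_inv (ho : Odd ♯X) (hw : w * w = 1) (hn : w ∈ N[X]) (hx : x ∈ X) :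
    ∃ c ∈ X, ∃ y ∈ X, w * c = c * w ∧ w * y * w = y⁻¹ ∧ x = c * y := by
  have e : w⁻¹ = w := inv_eq_of_mul_eq_one_right hw
  have h1 : x⁻¹ * (w * x * w) ∈ X := mul_mem (inv_mem hx) (by simpa only [e] using H24.conj_mem hn hx)
  have h2 : w * (x⁻¹ * (w * x * w)) * w = (x⁻¹ * (w * x * w))⁻¹ := by
    calc w * (x⁻¹ * (w * x * w)) * w = w * x⁻¹ * w * x * (w * w) := by group
      _ = w⁻¹ * x⁻¹ * w⁻¹ * x := by rw [hw, mul_one, e]
      _ = _ := by group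
  obtain ⟨k, hk⟩ := exists_sqrt (ho.of_dvd_nat (orderOf_dvd_card' h1))
  have h3 := inv_pow_of hw h2 k
  set s := (x⁻¹ * (w * x * w)) ^ k
  refine ⟨x * s, mul_mem hx (pow_mem h1 k), s⁻¹, inv_mem (pow_mem h1 k), ?_, ?_, by group⟩
  · have h4 : w * x * w = x * (s * s) := by rw [hk]; group
    calc w * (x * s) = (w * x * w) * (w * s * w) * w⁻¹ := by
          rw [show (w * x * w) * (w * s * w) = w * x * (w * w) * s * w by group, hw]; group
      _ = x * s * w := by rw [h4, h3, e]; group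
  · calc w * s⁻¹ * w = (w⁻¹ * s * w⁻¹)⁻¹ := by group
      _ = s⁻¹⁻¹ := by rw [e, h3]

theorem inv_conj (ht : t * t = 1) (hw : w * w = 1) (ho : Odd (orderOf (t * w))) :
    ∃ e ∈ zpowers (t * w), e * t * e⁻¹ = w := by
  have e1 : t⁻¹ = t := inv_eq_of_mul_eq_one_right ht
  have e2 : w⁻¹ = w := inv_eq_of_mul_eq_one_right hw
  have h1 : t * (t * w) * t = (t * w)⁻¹ := by
    rw [mul_inv_rev, e1, e2, ← mul_assoc t t, ht, one_mul]
  obtain ⟨k, hk⟩ := exists_sqrt ho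
  have h2 := inv_pow_of ht h1 k
  set s := (t * w) ^ k
  refine ⟨s⁻¹, inv_mem (pow_mem (mem_zpowers _) k), ?_⟩
  calc s⁻¹ * t * s⁻¹⁻¹ = (t * s * t) * t * s := by rw [h2, inv_inv]
    _ = t * s * (t * t) * s := by group
    _ = t * (s * s) := by rw [ht]; group
    _ = w := by rw [hk, ← mul_assoc, ht, one_mul]

theorem fix_of_odd {S : Set G} (hw : w * w = 1) (hS : ∀ s ∈ S, w * s * w ∈ S) (ho : Odd S.ncard) :
    ∃ s ∈ S, w * s = s * w := by
  have e : w⁻¹ = w := inv_eq_of_mul_eq_one_right hw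
  haveI : Finite (ConjAct G) := ‹Finite G›
  have h := card_fix_inv (G := ConjAct G) (Ω := G) (w := ConjAct.toConjAct w) (Φ := S)
    (by rw [← map_mul, hw, map_one]) (fun s hs => by
      rw [ConjAct.toConjAct_smul, e]; exact hS s hs)
  have h1 : (S ∩ fixedBy G (ConjAct.toConjAct w)).ncard ≠ 0 := fun h0 => by
    rw [h0, Nat.modEq_zero_iff_dvd] at h
    exact (Nat.not_even_iff_odd.2 ho) (even_iff_two_dvd.2 h)
  obtain ⟨s, hs, h2⟩ := Set.nonempty_of_ncard_ne_zero h1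
  rw [mem_fixedBy, ConjAct.toConjAct_smul] at h2
  exact ⟨s, hs, by rw [← mul_inv_eq_iff_eq_mul, h2]⟩

theorem comm_inv (hw : w * w = 1) (hn : w ∈ N[X]) (he : Even ♯X) :
    ∃ s ∈ X, s ≠ 1 ∧ s * s = 1 ∧ w * s = s * w := by
  have h1 : zpowers w ≤ N[X] := zpowers_le.2 hn
  obtain ⟨S, hS, h2⟩ := Sylow_superset Nat.prime_two (isPi_zpowers_inv hw)
    (le_sup_right : zpowers w ≤ X ⊔ zpowers w)
  have h3 := hS.inf_nml (nml_sup_left h1)
  have h4 := IsPi.inf_C_ne_bot Nat.prime_two (isPi_zpowers_inv hw) h3.pi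
    (norm_inf (norm_of_le h2) h1) (h3.ne_bot Nat.prime_two rfl he.two_dvd)
  obtain ⟨s, hs, h5⟩ := exists_orderOf_eq Nat.prime_two
    ((h3.pi.of_le inf_le_left).dvd_card h4)
  refine ⟨s, hs.1.2, fun e => by simp [e] at h5, by rw [← pow_two, ← h5, pow_orderOf_eq_one],
    mem_C.1 hs.2 w (mem_zpowers w)⟩

theorem eq_one_of_conj_inv (ho : Odd (orderOf y)) (hx : Odd (orderOf x)) (h : y * x * y⁻¹ = x⁻¹) :
    x = 1 := by
  have h1 : y * y ∈ C{x} := mem_C1_iff_conj.2 (by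
    calc y * y * x * (y * y)⁻¹ = y * (y * x * y⁻¹) * y⁻¹ := by group
      _ = y * x⁻¹ * y⁻¹ := by rw [h]
      _ = (y * x * y⁻¹)⁻¹ := by group
      _ = x := by rw [h, inv_inv])
  obtain ⟨k, hk⟩ := exists_sqrt ho
  have h2 : y ∈ C{x} := by
    rw [← hk, ← pow_add, ← two_mul, pow_mul, pow_two]; exact pow_mem h1 k
  rw [mem_C1_iff_conj.1 h2] at h
  obtain ⟨j, hj⟩ := exists_sqrt hx
  rw [← hj, ← (Commute.refl x).mul_pow]
  nth_rewrite 2 [h]
  simp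

theorem Sp.zsemi (h : Sp U) (hz : z ∈ C[U c]) (hb : b ≠ c) (hc : z • c = c) (hzb : z • b = b) :
    z = 1 := h.faith z fun e => by
  by_cases he : e = c
  · rw [he, hc]
  obtain ⟨u, hu, rfl⟩ := h.tr c b e hb he
  rw [← mul_smul, ← mem_C.1 hz u hu, mul_smul, hzb]

theorem Sp.zpart (h : Sp U) {π : Set ℕ} (hz : z ∈ Z[O[π, U c]]) : z ∈ C[U c] := by
  rw [(h.nil c).C_eq π]
  exact ⟨hz.2, pcore_cent_pcore_compl π _ hz.1⟩

theorem ncard_compl_one (a : Ω) : ({a}ᶜ : Set Ω).ncard = Nat.card Ω - 1 := by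
  have := Set.ncard_add_ncard_compl ({a} : Set Ω)
  rw [Set.ncard_singleton] at this
  omega

theorem smul_ne (hx : x • a = a) (hc : c ≠ a) : x • c ≠ a := fun e =>
  hc (MulAction.injective x (e.trans hx.symm))

theorem Sp.card_U (h : Sp U) (hab : a ≠ b) :
    ♯(U a) = (Nat.card Ω - 1) * ♯(U a ⊓ stabilizer G b) := by
  rw [← ncard_compl_one a]
  exact card_orbit (Φ := {a}ᶜ) hab.symm (fun g hg c hc => smul_ne (h.fix a g hg) hc)
    fun c hc => h.tr a b c hab.symm hc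

theorem Sp.card_B (h : Sp U) (hab : a ≠ b) :
    ♯(stabilizer G a) = (Nat.card Ω - 1) * ♯(St G a b) := by
  rw [← ncard_compl_one a]
  refine card_orbit (Φ := {a}ᶜ) hab.symm (fun g hg c hc => smul_ne hg hc) fun c hc => ?_
  obtain ⟨u, hu, e⟩ := h.tr a b c hab.symm hc
  exact ⟨u, h.le_stab a hu, e⟩

theorem Sp.dvd_n (h : Sp U) (hp : p.Prime) (hd : p ∣ ♯(U c)) : p ∣ Nat.card Ω - 1 := by
  by_contra hn
  refine (h.nil c).pcore_ne_bot hp (π := {p}) rfl hd (eq_bot_iff.2 fun g hg => mem_bot.2 ?_)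
  have h1 := nml_fix (Φ := {c}ᶜ) (pcore_nml {p} (U c))
    (fun g hg e he => smul_ne (h.fix c g hg) he) (fun e he e' he' => h.tr c e e' he he')
    (by
      rw [ncard_compl_one]
      exact (pcore_pi {p} (U c)).piNat.coprime ((piNat_compl_singleton hp).2 hn))
  refine h.faith g fun e => ?_
  by_cases he : e = c
  · rw [he]; exact h.fix c g (pcore_le _ _ hg)
  · exact h1 g hg e he

theorem Sp.exists_z (h : Sp U) (hp : p.Prime) (hd : p ∣ Nat.card Ω - 1) (hX : IsPi {p} X)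
    (hab : a ≠ b) (ha : a ∈ Fx Ω X) :
    ∃ z ∈ C[X], PiElt {p} z ∧ z • a = a ∧ ∀ e, z • e = e → e = a := by
  have h1 : O[{p}, U a] ≠ ⊥ := (h.nil a).pcore_ne_bot hp rfl
    (by rw [h.card_U hab]; exact hd.mul_right _)
  have hP := pcore_pi {p} (U a)
  have h2 : Z[O[{p}, U a]] ≠ ⊥ := (hP.nil hp).center_ne_bot h1
  have h3 : X ≤ N[Z[O[{p}, U a]]] :=
    norm_Z (norm_pcore _ (le_trans (fun g hg => ha g hg) (h.norm a)))
  have h4 : IsPi {p} (Z[O[{p}, U a]] ⊔ X) := (hP.of_le inf_le_left).sup hX h3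
  have h5 := (h4.nil hp).inf_C_ne_bot (nml_sup_left h3) h2
  obtain ⟨z, hz, z1⟩ := exists_ne_one h5
  have hza : z • a = a := h.fix a z (pcore_le _ _ hz.1.1)
  refine ⟨z, C_anti le_sup_right hz.2, hP.piElt hz.1.1, hza, fun e he => ?_⟩
  by_contra hc
  exact z1 (h.zsemi (h.zpart hz.1) hc hza he)

theorem Sp.gleason (h : Sp U) (hp : p.Prime) (hd : p ∣ Nat.card Ω - 1) (hX : IsPi {p} X)
    (ha : a ∈ Fx Ω X) (hb : b ∈ Fx Ω X) : ∃ g ∈ C[X], g • a = b := by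
  by_contra hc
  have hab : a ≠ b := fun e => hc ⟨1, one_mem _, by rw [one_smul, e]⟩
  let O : Set Ω := {e | ∃ g ∈ C[X], g • a = e}
  have key : ∀ z ∈ C[X], PiElt {p} z → O.ncard ≡ (O ∩ fixedBy Ω z).ncard [MOD p] := by
    intro z hz hz'
    rw [← Fx_zpowers]
    refine card_fix_mod hp hz'.isPi ?_
    rintro g hg _ ⟨g', hg', rfl⟩
    exact ⟨g * g', mul_mem (zpowers_le.2 hz hg) hg', mul_smul _ _ _⟩
  obtain ⟨z, hz, p1, z1, z2⟩ := h.exists_z hp hd hX hab ha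
  obtain ⟨z', hz', p1', z1', z2'⟩ := h.exists_z hp hd hX hab.symm hb
  have e1 : O ∩ fixedBy Ω z = {a} := by
    ext e
    exact ⟨fun he => z2 e he.2, by rintro rfl; exact ⟨⟨1, one_mem _, one_smul _ _⟩, z1⟩⟩
  have e2 : O ∩ fixedBy Ω z' = ∅ :=
    Set.eq_empty_of_forall_notMem fun e he => hc (z2' e he.2 ▸ he.1)
  have k1 := key z hz p1
  have k2 := key z' hz' p1'
  rw [e1, Set.ncard_singleton] at k1
  rw [e2, Set.ncard_empty] at k2
  exact hp.one_lt.ne' (Nat.dvd_one.1 ((Nat.modEq_zero_iff_dvd).1 (k1.symm.trans k2)))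

theorem Sp.symm (h : Sp U) (hx : x ∈ U a) (hb : x • b = b) : x ∈ U b := by
  refine zpowers_le.1 ((abl_zpowers x).nil.le_of_pcore_le fun p hp _ => ?_)
  by_cases h0 : O[{p}, zpowers x] = ⊥
  · rw [h0]; exact bot_le
  have h1 : O[{p}, zpowers x] ≤ U a := (pcore_le _ _).trans (zpowers_le.2 hx)
  have h2 : p ∣ ♯O[{p}, zpowers x] := by
    obtain ⟨q, hq, hd⟩ := exists_prime_dvd_card h0
    exact (show q = p from pcore_pi {p} (zpowers x) q hq hd) ▸ hd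
  obtain ⟨g, hg, e⟩ := h.gleason (a := a) (b := b) hp (h.dvd_n hp (h2.trans (card_dvd h1)))
    (pcore_pi {p} (zpowers x)) (fun g hg => h.fix a g (h1 hg))
    (fun g hg => (zpowers_le (H := stabilizer G b)).2 hb (pcore_le _ _ hg))
  rw [← cj_of_mem_C hg, ← e, ← h.eqv]
  exact cj_mono g h1

theorem Sp.glaub (h : Sp U) (hc : c ∈ Fx Ω X) (cop : (♯X).Coprime ♯(U c)) (ha : a ∈ Fx Ω X)
    (hb : b ∈ Fx Ω X) (hac : a ≠ c) (hbc : b ≠ c) : ∃ u ∈ U c, u ∈ C[X] ∧ u • a = b := by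
  obtain ⟨u, hu, e⟩ := h.tr c a b hac hbc
  have hn : X ≤ N[U c] := le_trans (fun g hg => hc g hg) (h.norm c)
  obtain ⟨v, hv, h1⟩ := H26.coprime_lift_cent (V := U c ⊓ stabilizer G b) (A := X)
    (norm_inf hn (norm_of_le fun g hg => hb g hg))
    (cop.symm.coprime_dvd_left (card_dvd inf_le_left)) (Or.inl ((h.nil c).of_le inf_le_left).sol)
    (g := u) fun g hg => mem_inf.2 ⟨mul_mem (H24.conj_mem (hn hg) hu) (inv_mem hu), by
      change (g * u * g⁻¹ * u⁻¹) • b = b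
      rw [mul_smul, mul_smul, mul_smul, ← e, inv_smul_smul, ha _ (inv_mem hg), e, hb g hg]⟩
  exact ⟨v * u, mul_mem hv.1 hu, h1, by rw [mul_smul, e]; exact hv.2⟩

end H1.KS
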