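import Mathlib
import Cfsg.Agent.H1.KS0
import Cfsg.Agent.H1.KSG

set_option autoImplicit false
set_option linter.unusedSectionVars false
set_option linter.unusedVariables false
set_option linter.style.haveILetI false

namespace H1.KS

open Cfsg H24 MulAction Subgroup

universe u

variable {G Ω : Type u} [Group G] [Finite G] [MulAction G Ω] [Finite Ω] {U : Ω → Subgroup G}
  {d : Dt G Ω} {a b c : Ω} {t w x y z : G} {p m : ℕ} {X L N : Subgroup G} {Φ : Set Ω}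

theorem exists_third (hs : 3 ≤ Φ.ncard) (a b : Ω) : ∃ c ∈ Φ, c ≠ a ∧ c ≠ b := by
  by_contra hc
  push Not at hc
  have h1 : Φ ⊆ {a, b} := fun c h => by
    by_cases e : c = a
    · exact Or.inl e
    · exact Or.inr (hc c h e)
  have h2 := Set.ncard_le_ncard h1
  have h3 := Set.ncard_insert_le a ({b} : Set Ω)
  rw [Set.ncard_singleton] at h3
  omega

theorem two_aux (inv : ∀ g ∈ L, ∀ c ∈ Φ, g • c ∈ Φ)
    (tr : ∀ c ∈ Φ, ∀ a ∈ Φ, ∀ b ∈ Φ, a ≠ c → b ≠ c → ∃ u ∈ L, u • c = c ∧ u • a = b)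
    (h3 : 3 ≤ Φ.ncard) :
    ∀ a ∈ Φ, ∀ b ∈ Φ, ∀ c ∈ Φ, ∀ d ∈ Φ, a ≠ b → c ≠ d → ∃ g ∈ L, g • a = c ∧ g • b = d := by
  intro a ha b hb c hc d hd hab hcd
  obtain ⟨e, he, h1, h2⟩ := exists_third h3 a c
  obtain ⟨u, hu, -, h4⟩ := tr e he a ha c hc h1.symm h2.symm
  obtain ⟨v, hv, h5, h6⟩ := tr c hc (u • b) (inv u hu b hb) d hd
    (fun e => hab (MulAction.injective u (h4.trans e.symm))) hcd.symm
  exact ⟨v * u, mul_mem hv hu, by rw [mul_smul, h4, h5], by rw [mul_smul, h6]⟩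

theorem two_of_three (fix : ∀ c, ∀ u ∈ U c, u • c = c)
    (tr : ∀ c a b, a ≠ c → b ≠ c → ∃ u ∈ U c, u • a = b) (hU : ∀ c, U c ≤ L)
    (h3 : 3 ≤ Nat.card Ω) :
    ∀ a b c d : Ω, a ≠ b → c ≠ d → ∃ g ∈ L, g • a = c ∧ g • b = d := fun a b c d =>
  two_aux (Φ := Set.univ) (fun _ _ _ _ => trivial) (fun c _ a _ b _ h1 h2 => by
    obtain ⟨u, hu, e⟩ := tr c a b h1 h2
    exact ⟨u, hU c hu, fix c u hu, e⟩) (by rwa [Set.ncard_univ]) a trivial b trivial c trivial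
    d trivial

theorem Sub.two (h : Sp U) (s : Sub U L Φ) (h3 : 3 ≤ Φ.ncard) :
    ∀ a ∈ Φ, ∀ b ∈ Φ, ∀ c ∈ Φ, ∀ d ∈ Φ, a ≠ b → c ≠ d → ∃ g ∈ L, g • a = c ∧ g • b = d :=
  two_aux s.inv (fun c hc a ha b hb h1 h2 => by
    obtain ⟨u, hu, hL, e⟩ := s.tr c hc a ha b hb h1 h2
    exact ⟨u, hL, h.fix c u hu, e⟩) h3

theorem cj_subgroupOf (g : L) (X : Subgroup G) :
    cj g (X.subgroupOf L) = (cj (g : G) X).subgroupOf L := by
  ext x
  rw [mem_cj, mem_subgroupOf, mem_subgroupOf, mem_cj]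
  rfl

theorem Sub.bar (h : Sp U) (s : Sub U L Φ) (h3 : 3 ≤ Φ.ncard) :
    ∃ (Γ : Type u) (_ : Group Γ) (_ : Finite Γ) (_ : MulAction Γ Φ) (π : L →* Γ)
      (V : Φ → Subgroup Γ), Function.Surjective π ∧
      (∀ (g : L) (c : Φ), ((π g • c : Φ) : Ω) = (g : G) • (c : Ω)) ∧
      (∀ c : Φ, V c = ((U c).subgroupOf L).map π) ∧ Sp V := by
  letI := act L Φ s.inv
  let f := toPermHom L Φ
  have key : ∀ (g : L) (c : Φ), ((f.rangeRestrict g • c : Φ) : Ω) = (g : G) • (c : Ω) :=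
    fun _ _ => rfl
  refine ⟨f.range, inferInstance, inferInstance, inferInstance, f.rangeRestrict,
    fun c => ((U c).subgroupOf L).map f.rangeRestrict, f.rangeRestrict_surjective, key,
    fun _ => rfl, fun g hg => Subtype.ext (Equiv.ext hg), fun a b c d hab hcd => ?_,
    ?_, fun g c => ?_, fun c => ((h.nil c).subgroupOf L).map _, fun c a b h1 h2 => ?_⟩
  · obtain ⟨g, hg, e1, e2⟩ := s.two h h3 a a.2 b b.2 c c.2 d d.2 (fun e => hab (Subtype.ext e))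
      (fun e => hcd (Subtype.ext e))
    exact ⟨f.rangeRestrict ⟨g, hg⟩, Subtype.ext e1, Subtype.ext e2⟩
  · rintro c _ ⟨u, hu, rfl⟩
    exact Subtype.ext (h.fix c u hu)
  · obtain ⟨g, rfl⟩ := f.rangeRestrict_surjective g
    rw [← map_cj, cj_subgroupOf, h.eqv, key]
  · obtain ⟨u, hu, hL, e⟩ := s.tr c c.2 a a.2 b b.2 (fun e => h1 (Subtype.ext e))
      (fun e => h2 (Subtype.ext e))
    exact ⟨f.rangeRestrict ⟨u, hL⟩, mem_map_of_mem _ hu, Subtype.ext e⟩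

theorem Sub.regOn (h : Sp U) (odd : ∀ c, Odd ♯(U c)) (s : Sub U L Φ)
    (H : ∀ (Γ : Type u) [Group Γ] [Finite Γ] [MulAction Γ Φ] (V : Φ → Subgroup Γ), Sp V →
      (∀ c, Odd ♯(V c)) → Reg V) : RegOn U L Φ := by
  intro a ha b hb hab u hu hL hub c hc
  by_contra hn
  have h3 : 3 ≤ Φ.ncard := by
    have h1 : c ≠ a := fun e => hn (e ▸ h.fix a u hu)
    have h2 : c ≠ b := fun e => hn (e ▸ hub)
    rw [← Set.ncard_eq_three.2 ⟨a, b, c, hab, h1.symm, h2.symm, rfl⟩]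
    refine Set.ncard_le_ncard ?_
    rintro _ (rfl | rfl | rfl) <;> assumption
  obtain ⟨Γ, _, _, _, π, V, -, key, hV, sp⟩ := s.bar h h3
  have h1 := H Γ V sp (fun c => by
    rw [hV]
    refine (odd c).of_dvd_nat ((card_map_dvd _ _).trans ?_)
    rw [card_subgroupOf]
    exact card_dvd inf_le_left) ⟨a, ha⟩ ⟨b, hb⟩ (fun e => hab (congrArg Subtype.val e))
    (π ⟨u, hL⟩) (by rw [hV]; exact mem_map_of_mem _ hu) (Subtype.ext ((key _ _).trans hub))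
  have h2 := key ⟨u, hL⟩ ⟨c, hc⟩
  rw [h1, one_smul] at h2
  exact hn h2.symm

theorem Sp.dag (h : Sp U) (h3 : 3 ≤ Nat.card Ω) :
    (⨆ c, U c).Normal ∧ Sp (fun c => (U c).subgroupOf (⨆ c, U c)) ∧
      (⨆ c, (U c).subgroupOf (⨆ c, U c)) = ⊤ := by
  refine ⟨?_, ⟨fun g hg => Subtype.ext (h.faith g hg), fun a b c d hab hcd => ?_,
    fun c u hu => h.fix c u hu, fun g c => ?_, fun c => (h.nil c).subgroupOf _,
    fun c a b h1 h2 => ?_⟩, ?_⟩
  · refine nml_top_iff.1 ⟨le_top, fun g _ => mem_N_of_cj_le ?_⟩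
    rw [cj_def, Subgroup.map_iSup]
    exact iSup_le fun c => (h.eqv g c).le.trans (le_iSup U _)
  · obtain ⟨g, hg, e⟩ := two_of_three h.fix h.tr (le_iSup U) h3 a b c d hab hcd
    exact ⟨⟨g, hg⟩, e⟩
  · rw [cj_subgroupOf, h.eqv]; rfl
  · obtain ⟨u, hu, e⟩ := h.tr c a b h1 h2
    exact ⟨⟨u, le_iSup U c hu⟩, hu, e⟩
  · apply map_injective (⨆ c, U c).subtype_injective
    rw [Subgroup.map_iSup, ← MonoidHom.range_eq_map, range_subtype]
    exact iSup_congr fun c => map_subgroupOf_eq_of_le (le_iSup U c)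

theorem Sp.trans (h : Sp U) (a c : Ω) : ∃ g : G, g • a = c := by
  by_cases e : a = c
  · exact ⟨1, by rw [one_smul, e]⟩
  · exact (h.two a c c a e (Ne.symm e)).imp fun g hg => hg.1

theorem Sp.card_eq (h : Sp U) (a c : Ω) : ♯(U a) = ♯(U c) := by
  obtain ⟨g, rfl⟩ := h.trans a c
  rw [← h.eqv, card_cj]

theorem Sp.gen_closure (h : Sp U) (gen : (⨆ c, U c) = ⊤) (a : Ω) :
    normalClosure (U a : Set G) = ⊤ := by
  rw [eq_top_iff, ← gen]
  refine iSup_le fun c => ?_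
  obtain ⟨g, rfl⟩ := h.trans a c
  rw [← h.eqv]
  intro x hx
  obtain ⟨y, hy, rfl⟩ := mem_cj'.1 hx
  exact (normalClosure_normal).conj_mem y (subset_normalClosure hy) g

theorem Sp.two' (h : Sp U) : IsMultiplyPretransitive G Ω 2 :=
  is_two_pretransitive_iff.2 fun hab hcd => h.two _ _ _ _ hab hcd

theorem cj_stab (g : G) (a : Ω) : cj g (stabilizer G a) = stabilizer G (g • a) := by
  ext x
  rw [mem_cj, mem_stabilizer_iff, mem_stabilizer_iff, mul_smul, mul_smul, inv_smul_eq_iff]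

theorem cj_St (g : G) (a b : Ω) : cj g (St G a b) = St G (g • a) (g • b) := by
  rw [cj_inf, cj_stab, cj_stab]

theorem exists_family (faith : ∀ g : G, (∀ a : Ω, g • a = a) → g = 1)
    (two : ∀ a b c d : Ω, a ≠ b → c ≠ d → ∃ g : G, g • a = c ∧ g • b = d) (hab : a ≠ b)
    (hX : X ⊴ stabilizer G a) (hn : Nil X) (htr : ∀ c, c ≠ a → ∃ u ∈ X, u • b = c) :
    ∃ V : Ω → Subgroup G, Sp V ∧ V a = X ∧ ∀ c, ∃ g : G, g • a = c ∧ V c = cj g X := by
  have tr : ∀ c, ∃ g : G, g • a = c := fun c => by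
    by_cases e : a = c
    · exact ⟨1, by rw [one_smul, e]⟩
    · exact (two a c c a e (Ne.symm e)).imp fun g hg => hg.1
  choose f hf using tr
  have key : ∀ (g : G) (c : Ω), g • a = c → cj (f c) X = cj g X := fun g c e =>
    cj_eq_cj_iff.2 (hX.norm (by
      rw [mem_stabilizer_iff, mul_smul, hf, ← e, inv_smul_smul]))
  refine ⟨fun c => cj (f c) X, ⟨faith, two, fun c u hu => ?_, fun g c => ?_, fun c => hn.cj _,
    fun c x y h1 h2 => ?_⟩, (key 1 a (one_smul _ _)).trans (by simp), fun c => ⟨f c, hf c, rfl⟩⟩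
  · have := cj_mono (f c) hX.le hu
    rwa [cj_stab, hf] at this
  · rw [← cj_mul, key (g * f c) _ (by rw [mul_smul, hf])]
  · obtain ⟨u, hu, e⟩ := htr ((f c)⁻¹ • x) fun e => h1 (by rw [← hf c, ← e, smul_inv_smul])
    obtain ⟨v, hv, e'⟩ := htr ((f c)⁻¹ • y) fun e => h2 (by rw [← hf c, ← e, smul_inv_smul])
    refine ⟨_, conj_mem_cj (f c) (mul_mem hv (inv_mem hu)), ?_⟩
    rw [mul_smul, mul_smul, mul_smul, ← e, inv_smul_smul, e', smul_inv_smul]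

theorem Sp.reg_of (h : Sp U) (hab : a ≠ b) (h1 : U a ⊓ stabilizer G b = ⊥) : Reg U := by
  intro c e hce u hu hue
  obtain ⟨g, rfl, rfl⟩ := h.two a b c e hab hce
  have h2 : u ∈ cj g (U a ⊓ stabilizer G b) := by
    rw [cj_inf, h.eqv, cj_stab]; exact ⟨hu, hue⟩
  rw [h1] at h2
  simpa using h2

theorem Sp.reg_of_abl (h : Sp U) (h1 : Abl (U a)) : Reg U := by
  intro c e hce u hu hue
  obtain ⟨g, rfl⟩ := h.trans a c
  have h2 := h1.cj g
  rw [h.eqv] at h2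
  exact h.zsemi (h2.le_C hu) hce.symm (h.fix _ u hu) hue

end H1.KS
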