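import Mathlib
import Cfsg.Agent.H1.KS0
import Cfsg.Agent.H1.KST
import Cfsg.Agent.H4.InvAct
import Cfsg.Agent.H26.B71C
import Cfsg.Agent.S0205
import Cfsg.Agent.S1174

set_option autoImplicit false
set_option linter.unusedSectionVars false
set_option linter.unusedVariables false

namespace H1.KS

open Cfsg H24 MulAction Subgroup

universe u

variable {G Ω : Type u} [Group G] [Finite G] [MulAction G Ω] [Finite Ω] {U : Ω → Subgroup G}
  {d : Dt G Ω} {a b c : Ω} {t w x y z : G} {p m : ℕ} {X L N : Subgroup G} {Φ : Set Ω}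

namespace KE1x

theorem conjZ (h : Sp U) (g : G) (hz : z ∈ Z[O[{2}, U c]]) :
    g * z * g⁻¹ ∈ Z[O[{2}, U (g • c)]] := by
  rw [← h.eqv, pcore_cj]
  refine ⟨conj_mem_cj g hz.1, mem_C.2 fun x hx => ?_⟩
  obtain ⟨y, hy, rfl⟩ := mem_cj'.1 hx
  have := mem_C.1 hz.2 y hy
  calc g * y * g⁻¹ * (g * z * g⁻¹) = g * (y * z) * g⁻¹ := by group
    _ = g * z * g⁻¹ * (g * y * g⁻¹) := by rw [this]; group

theorem fixZ (h : Sp U) (hz : z ∈ Z[O[{2}, U c]]) : z • c = c := h.fix c z (pcore_le _ _ hz.1)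

theorem uniqZ (h : Sp U) (hz : z ∈ Z[O[{2}, U c]]) (h1 : z ≠ 1) (hb : z • b = b) : b = c := by
  by_contra e
  exact h1 (h.zsemi (h.zpart hz) e (fixZ h hz) hb)

theorem centZ (h : Sp U) (hz : z ∈ Z[O[{2}, U c]]) (h1 : z ≠ 1) (hx : z * x = x * z) :
    x • c = c :=
  uniqZ h hz h1 (by rw [← mul_smul, hx, mul_smul, fixZ h hz])

theorem conj_ne (h1 : z ≠ 1) (g : G) : g * z * g⁻¹ ≠ 1 := fun e => h1 (by
  calc z = g⁻¹ * (g * z * g⁻¹) * g := by group
    _ = 1 := by rw [e]; group)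

theorem U2_ne (h : Sp U) (ho : Odd (Nat.card Ω)) (hab : a ≠ b) : O[{2}, U a] ≠ ⊥ := by
  refine (h.nil a).pcore_ne_bot Nat.prime_two rfl ?_
  rw [h.card_U hab]
  obtain ⟨k, hk⟩ := ho
  exact Dvd.dvd.mul_right ⟨k, by omega⟩ _

theorem meet (h : Sp U) (ho : Odd (Nat.card Ω)) (hab : a ≠ b) (hN : N.Normal) [IsSimpleGroup N]
    (he : Even ♯N) (tr : ∀ a b : Ω, ∃ g ∈ N, g • a = b) : N ⊓ O[{2}, U a] ≠ ⊥ := by
  intro e
  have hp := pcore_pi {2} (U a)
  have hZ : Z[O[{2}, U a]] ≠ ⊥ := (hp.nil Nat.prime_two).center_ne_bot (U2_ne h ho hab)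
  obtain ⟨z, hz, z1, z2⟩ := H21.exists_invol_of_even_card
    (even_iff_two_dvd.2 ((hp.of_le inf_le_left).dvd_card hZ))
  have zi : z⁻¹ = z := inv_eq_of_mul_eq_one_right z2
  have cN : ∀ n ∈ N, n • a = a → n * z * n⁻¹ = z := fun n hn hna => by
    have h1 : n * z * n⁻¹ * z⁻¹ ∈ N ⊓ O[{2}, U a] := by
      refine mem_inf.2 ⟨?_, mul_mem ?_ (inv_mem (mem_inf.1 hz).1)⟩
      · have := mul_mem hn (hN.conj_mem _ (inv_mem hn) z)
        simpa only [mul_assoc] using this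
      · have := (conjZ h n hz).1
        rwa [hna] at this
    rw [e, mem_bot] at h1
    exact mul_inv_eq_one.1 h1
  have hzL : z ∈ N ⊔ zpowers z := mem_sup_right (mem_zpowers z)
  have iso : ∀ g ∈ N ⊔ zpowers z, z * (g * z * g⁻¹) = g * z * g⁻¹ * z → g * z * g⁻¹ = z := by
    intro g hg hc
    have h1 : z • g • a = g • a := centZ h (conjZ h g hz) (conj_ne z1 g) hc.symm
    have h2 : g • a = a := uniqZ h hz z1 h1
    obtain ⟨n, hn, y, hy, rfl⟩ := (mem_sup_of_norm (fun x _ => mem_N_of_finite fun m hm =>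
      hN.conj_mem m hm x)).1 hg
    have h3 : y * z = z * y := (abl_zpowers z).comm hy (mem_zpowers z)
    have h4 : y • a = a := centZ h hz z1 h3.symm
    rw [mul_smul, h4] at h2
    calc n * y * z * (n * y)⁻¹ = n * (y * z * y⁻¹) * n⁻¹ := by group
      _ = z := by rw [h3, mul_inv_cancel_right, cN n hn h2]
  have hK : ((H4.OC (N ⊔ zpowers z)).subgroupOf N).Normal := ⟨fun x hx g =>
    H4.OC_conj' (mem_sup_left g.2) hx⟩
  rcases hK.eq_bot_or_eq_top with e1 | e1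
  · obtain ⟨g, hg, e2⟩ := tr a b
    have h1 := H4.zstar_rel hzL z2 z1 iso (mem_sup_left hg)
    have h2 : z * g * z * g⁻¹ ∈ N := by
      have := mul_mem (hN.conj_mem g hg z) (inv_mem hg)
      rwa [zi] at this
    have h3 : (⟨_, h2⟩ : N) ∈ (H4.OC (N ⊔ zpowers z)).subgroupOf N := h1
    rw [e1, mem_bot] at h3
    have h4 : z * g * z * g⁻¹ = 1 := congrArg Subtype.val h3
    have h5 : z * g = g * z := by
      calc z * g = z * g * z * g⁻¹ * g * z := by
            rw [inv_mul_cancel_right, mul_assoc (z * g), z2, mul_one]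
        _ = g * z := by rw [h4, one_mul]
    exact hab ((centZ h hz z1 h5).symm.trans e2)
  · exact (Nat.not_even_iff_odd.2 (odd_of_le (H4.OC_odd _) (subgroupOf_eq_top.1 e1))) he

end KE1x

/-! ### KE1 -/
theorem Sp.ev1 (h : Sp U) (ho : Odd (Nat.card Ω)) (hab : a ≠ b) (hN : N.Normal) [IsSimpleGroup N]
    (hna : ¬ Abl N) (tr : ∀ a b : Ω, ∃ g ∈ N, g • a = b) :
    Even ♯N ∧ ∀ s ∈ N, s ≠ 1 → s * s = 1 → ∃! c : Ω, s • c = c := by
  have he : Even ♯N := by
    by_contra h1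
    have := IsSimpleGroup.comm_iff_isSolvable.2
      (Cfsg.Agent.S0205.result (G := N) (Nat.not_even_iff_odd.1 h1))
    exact hna (abl_iff.2 fun x hx => mem_C.2 fun y hy =>
      congrArg Subtype.val (this ⟨y, hy⟩ ⟨x, hx⟩))
  refine ⟨he, fun s hs s1 s2 => ?_⟩
  have hp := pcore_pi {2} (U a)
  have h1 := meet_center_nil (hp.nil Nat.prime_two) (nml_inf_of_norm' (K := N)
    fun x _ => mem_N_of_finite fun m hm => hN.conj_mem m hm x) (KE1x.meet h ho hab hN he tr)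
  obtain ⟨z, hz, z1, z2⟩ := H21.exists_invol_of_even_card
    (even_iff_two_dvd.2 ((hp.of_le (inf_le_left.trans inf_le_right)).dvd_card h1))
  have : Fact (Nat.Prime 2) := ⟨Nat.prime_two⟩
  let T : Subgroup N := Z[O[{2}, U a]].subgroupOf N
  have zT : (⟨z, hz.1.1⟩ : N) ∈ T := hz.2
  have hT : IsPGroup 2 T :=
    ((hp.of_le inf_le_left).isPGroup Nat.prime_two).comap_of_injective _ N.subtype_injective
  obtain ⟨S, hS⟩ := hT.exists_le_sylow
  obtain ⟨c, hc⟩ := S.isPGroup'.nonempty_fixed_point_of_prime_not_dvd_card Ω ho.not_two_dvd_nat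
  have hca : c = a := KE1x.uniqZ h hz.2 z1 (hc ⟨_, hS zT⟩)
  subst hca
  have T1 : T ≠ ⊥ := fun e => by
    rw [e, mem_bot] at zT
    exact z1 (congrArg Subtype.val zT)
  have cl : IsStronglyClosed T (S : Subgroup N) := by
    refine ⟨hS, fun x hx g hg => ?_⟩
    by_cases x1 : (x : G) = 1
    · rw [show x = 1 from Subtype.ext x1, mul_one, mul_inv_cancel]; exact one_mem _
    · have h2 := KE1x.conjZ h g hx
      have h3 : c = (g : G) • c := KE1x.uniqZ h h2 (KE1x.conj_ne x1 g) (hc ⟨_, hg⟩)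
      rw [← h3] at h2
      exact h2
  obtain ⟨H, hH⟩ := Cfsg.Agent.S1174.result S T T1 cl (fun e => by
      have h2 : (⊤ : Subgroup N) ≤ stabilizer N c := by
        rw [← e]
        refine iSup_le fun t x hx => ?_
        have t1 : (t.1 : G) ≠ 1 := fun e => by
          have := t.2.2
          rw [show t.1 = 1 from Subtype.ext e, orderOf_one] at this
          omega
        have t2 : (t.1 : G) * x = x * t.1 :=
          congrArg Subtype.val (mem_centralizer_iff.1 hx t.1 rfl)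
        have t3 : (x : G) • c = c := KE1x.centZ h t.2.1 t1 t2
        exact t3
      obtain ⟨g, hg, e2⟩ := tr c b
      have h3 : g • c = c := h2 (mem_top (⟨g, hg⟩ : N))
      exact hab (h3.symm.trans e2))
  have o2 : ∀ u : N, (u : G) ≠ 1 → (u : G) * u = 1 → orderOf u = 2 := fun u u1 u2 =>
    orderOf_eq_prime (Subtype.ext (by simpa [pow_two] using u2)) fun e =>
      u1 (congrArg Subtype.val e)
  obtain ⟨g, hg⟩ := H26.BR.conj_of_se hH (o2 ⟨z, hz.1.1⟩ z1 z2) (o2 ⟨s, hs⟩ s1 s2)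
  have h2 := KE1x.conjZ h g hz.2
  rw [show (g : G) * z * (g : G)⁻¹ = s from congrArg Subtype.val hg] at h2
  exact ⟨_, KE1x.fixZ h h2, fun y hy => KE1x.uniqZ h h2 s1 hy⟩

end H1.KS
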