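import Mathlib
import Cfsg.Agent.H1.KS0
import Cfsg.Agent.H1.KST
import Cfsg.Agent.H3.B71Red
import Cfsg.Agent.H8.SuzMain

set_option autoImplicit false
set_option linter.unusedSectionVars false
set_option linter.unusedVariables false

namespace H1.KS

open Cfsg H24 MulAction Subgroup

universe u

variable {G Ω : Type u} [Group G] [Finite G] [MulAction G Ω] [Finite Ω] {U : Ω → Subgroup G}
  {d : Dt G Ω} {a b c : Ω} {t w x y z : G} {p m : ℕ} {X L N : Subgroup G} {Φ : Set Ω}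

namespace KE2x

open H8.Suz H21.RankOne

variable {Q : Subgroup G} {s r : G}

theorem Q_eq (hG : Hyp G Ω a t Q s r) : Q = O[{2}, stabilizer G a] := by
  have h2 : IsPi {2} Q := isPi_of_isPGroup Nat.prime_two hG.struct'.two
  refine le_antisymm (pcore_max' h2 hG.setup.le fun g hg => mem_N_of_finite fun x hx =>
    hG.setup.conj_mem g hg x hx) fun x hx => ?_
  obtain ⟨q, hq, e, he, rfl⟩ := exists_QD hG.setup (pcore_le _ _ hx)
  have hQ : Q ≤ O[{2}, stabilizer G a] := pcore_max' h2 hG.setup.le fun g hg =>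
    mem_N_of_finite fun x hx => hG.setup.conj_mem g hg x hx
  have h3 : e ∈ O[{2}, stabilizer G a] := by
    simpa using mul_mem (inv_mem (hQ hq)) hx
  have h4 : e = 1 := by
    by_contra h1
    exact (hG.odd_D.of_dvd_nat (orderOf_dvd_natCard _ he)).not_two_dvd_nat
      (((pcore_pi {2} _).piElt h3).dvd_orderOf h1)
  simpa [h4] using hq

/-- the content of `Bd` at the point `a`, for the whole group -/
structure Pt (G : Type u) {Ω : Type u} [Group G] [MulAction G Ω] (a : Ω) (Q : Subgroup G) :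
    Prop where
  eq : Q = O[{2}, stabilizer G a]
  tr : ∀ b c, b ≠ a → c ≠ a → ∃ u ∈ Q, u • b = c
  reg : ∀ b, a ≠ b → ∀ u ∈ Q, u • b = b → u = 1
  odd : ∀ b, a ≠ b → Odd ♯(St G a b)
  swp : ∀ b, a ≠ b → ∃ t : G, Swp t a b
  ex : ∃ s ∈ Q, s ≠ 1 ∧ s * s = 1
  cen : ∀ s ∈ Q, s * s = 1 → ∀ x ∈ Q, s * x = x * s
  ktr : ∀ b, a ≠ b → ∀ s ∈ Q, ∀ s' ∈ Q, s ≠ 1 → s * s = 1 → s' ≠ 1 → s' * s' = 1 →
    ∃ y ∈ St G a b, y * s * y⁻¹ = s'
  u3 : ∀ b, a ≠ b → ♯Q = {s | s ∈ Q ∧ s * s = 1}.ncard ^ 3 →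
    ∃ y ∈ St G a b, y ≠ 1 ∧ ∀ s ∈ Q, s * s = 1 → y * s = s * y

theorem pt (hG : Hyp G Ω a t Q s r) : Pt G a Q := by
  have hS := hG.setup
  have hst : ∀ q ∈ Q, ∀ y ∈ DD a t, q * y * q⁻¹ ∈ St G a (q • t • a) := fun q hq y hy => by
    have h1 : y • a = a := hy.1
    have h2 : y • t • a = t • a := hy.2
    have h3 : q⁻¹ • a = a := Q_fix hS (inv_mem hq)
    exact mem_St.2 ⟨by rw [mul_smul, mul_smul, h3, h1, Q_fix hS hq],
      by rw [mul_smul, mul_smul, inv_smul_smul, h2]⟩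
  refine ⟨Q_eq hG, fun b c hb hc => ?_, fun b hb u hu e => ?_, fun b hb => ?_, fun b hb => ?_,
    ⟨s, hG.s_mem, hG.s_ne, hG.s_sq⟩, fun s hs h2 x hx => hG.central hs h2 hx,
    fun b hb s₁ h1 s₂ h2 n1 q1 n2 q2 => ?_, fun b hb hc => ?_⟩
  · obtain ⟨q, hq, rfl⟩ := exists_Q_smul_b hS hb
    obtain ⟨q', hq', rfl⟩ := exists_Q_smul_b hS hc
    exact ⟨q' * q⁻¹, mul_mem hq' (inv_mem hq), by rw [mul_smul, inv_smul_smul]⟩
  · obtain ⟨q, hq, rfl⟩ := exists_Q_smul_b hS hb.symm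
    have : q⁻¹ * u * q = 1 := eq_one_of_mem_Q_of_fix_b hS (mul_mem (mul_mem (inv_mem hq) hu) hq)
      (by rw [mul_smul, mul_smul, e, inv_smul_smul])
    calc u = q * (q⁻¹ * u * q) * q⁻¹ := by group
      _ = 1 := by rw [this]; group
  · obtain ⟨q, hq, rfl⟩ := exists_Q_smul_b hS hb.symm
    have := cj_St q a (t • a)
    rw [Q_fix hS hq] at this
    rw [← this, card_cj]
    exact hG.odd_D
  · obtain ⟨q, hq, rfl⟩ := exists_Q_smul_b hS hb.symm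
    have h3 : q⁻¹ • a = a := Q_fix hS (inv_mem hq)
    refine ⟨q * t * q⁻¹, hb, ?_, by rw [mul_smul, mul_smul, h3], ?_⟩
    · calc q * t * q⁻¹ * (q * t * q⁻¹) = q * (t * t) * q⁻¹ := by group
        _ = 1 := by rw [hG.tt]; group
    · rw [mul_smul, mul_smul, inv_smul_smul, tta hS, Q_fix hS hq]
  · obtain ⟨q, hq, rfl⟩ := exists_Q_smul_b hS hb.symm
    obtain ⟨k₁, hk₁, e₁⟩ := hG.exists_K_conj_s (hG.mem_Q0.2 ⟨h1, q1⟩) n1
    obtain ⟨k₂, hk₂, e₂⟩ := hG.exists_K_conj_s (hG.mem_Q0.2 ⟨h2, q2⟩) n2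
    refine ⟨q * (k₂⁻¹ * k₁) * q⁻¹, hst q hq _ (mul_mem (inv_mem (KK_le hk₂)) (KK_le hk₁)), ?_⟩
    have c1 := hG.central h1 q1 hq
    have c2 := hG.central h2 q2 hq
    calc q * (k₂⁻¹ * k₁) * q⁻¹ * s₁ * (q * (k₂⁻¹ * k₁) * q⁻¹)⁻¹
        = q * (k₂⁻¹ * k₁) * q⁻¹ * (s₁ * q) * k₁⁻¹ * k₂ * q⁻¹ := by group
      _ = q * (k₂⁻¹ * (k₁ * s₁ * k₁⁻¹) * k₂) * q⁻¹ := by rw [c1]; group
      _ = q * s₂ * q⁻¹ := by rw [← e₁, ← e₂]; group
      _ = s₂ := by rw [← c2]; group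
  · obtain ⟨q, hq, rfl⟩ := exists_Q_smul_b hS hb.symm
    have e : {s | s ∈ Q ∧ s * s = 1} = (Q0 Q : Set G) := Set.ext fun x => hG.mem_Q0.symm
    rw [e] at hc
    obtain ⟨ω, -, -, ζ, hζ, n1, -⟩ := hG.struct'.u3 hc
    refine ⟨q * ζ * q⁻¹, hst q hq _ hζ.1, fun e => n1 (by
      calc ζ = q⁻¹ * (q * ζ * q⁻¹) * q := by group
        _ = 1 := by rw [e]; group), fun z hz h2 => ?_⟩
    have c1 := hG.central hz h2 hq
    have c2 := (mem_WW.1 hζ).2 z (hG.mem_Q0.2 ⟨hz, h2⟩)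
    calc q * ζ * q⁻¹ * z = q * ζ * q⁻¹ * (z * q) * q⁻¹ := by group
      _ = q * (ζ * z) * q⁻¹ := by rw [c1]; group
      _ = q * z * ζ * q⁻¹ := by rw [← c2]; group
      _ = z * (q * ζ * q⁻¹) := by rw [← c1]; group

theorem map_stab (N : Subgroup G) (c : Ω) :
    (stabilizer N c).map N.subtype = N ⊓ stabilizer G c := by
  ext x
  exact ⟨fun ⟨y, hy, e⟩ => e ▸ ⟨y.2, hy⟩, fun hx => ⟨⟨x, hx.1⟩, hx.2, rfl⟩⟩

theorem map_St (N : Subgroup G) (a b : Ω) : (St N a b).map N.subtype = N ⊓ St G a b := by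
  ext x
  exact ⟨fun ⟨y, hy, e⟩ => e ▸ ⟨y.2, hy⟩, fun hx => ⟨⟨x, hx.1⟩, hx.2, rfl⟩⟩

end KE2x

/-! ### KE2 -/
theorem Sp.ev2 (h : Sp U) (hab : a ≠ b) (hN : N.Normal) [IsSimpleGroup N]
    (tr : ∀ a b : Ω, ∃ g ∈ N, g • a = b) (he : Even ♯N)
    (h1 : ∀ s ∈ N, s ≠ 1 → s * s = 1 → ∃! c : Ω, s • c = c) :
    Bd N (fun c : Ω => O[{2}, N ⊓ stabilizer G c]) := by
  have : Nontrivial Ω := ⟨a, b, hab⟩
  obtain ⟨z, hz, z1, z2⟩ := H21.exists_invol_of_even_card he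
  obtain ⟨c₀, hc₀, -⟩ := h1 z hz z1 z2
  have se : H3.B71.SE N Ω := by
    refine ⟨fun s hs => ?_, fun s hs a b ha hb => ?_, fun c => ?_⟩
    · exact (h1 s s.2 (fun e => hs.1 (Subtype.ext e)) (congrArg Subtype.val hs.2)).exists
    · exact (h1 s s.2 (fun e => hs.1 (Subtype.ext e)) (congrArg Subtype.val hs.2)).unique ha hb
    · obtain ⟨g, hg, rfl⟩ := tr c₀ c
      refine ⟨⟨g * z * g⁻¹, mul_mem (mul_mem hg hz) (inv_mem hg)⟩, ⟨fun e => z1 ?_, Subtype.ext ?_⟩,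
        ?_⟩
      · have e' : g * z * g⁻¹ = 1 := congrArg Subtype.val e
        calc z = g⁻¹ * (g * z * g⁻¹) * g := by group
          _ = 1 := by rw [e']; group
      · change g * z * g⁻¹ * (g * z * g⁻¹) = 1
        calc g * z * g⁻¹ * (g * z * g⁻¹) = g * (z * z) * g⁻¹ := by group
          _ = 1 := by rw [z2]; group
      · change (g * z * g⁻¹) • g • c₀ = g • c₀
        rw [mul_smul, mul_smul, inv_smul_smul, hc₀]
  have r2 : H8.Suz.Rank2 N := by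
    refine H8.Suz.rank2_of_simple (H := stabilizer N c₀) (fun e => ?_) ?_
    · obtain ⟨c₁, hc⟩ := exists_ne c₀
      obtain ⟨g, hg, e1⟩ := tr c₀ c₁
      have : (⟨g, hg⟩ : N) ∈ stabilizer N c₀ := e ▸ mem_top _
      exact hc (e1.symm.trans this)
    · have h2 : orderOf (⟨z, hz⟩ : N) = 2 :=
        orderOf_eq_prime (Subtype.ext (by simpa [pow_two] using z2)) fun e =>
          z1 (congrArg Subtype.val e)
      exact even_iff_two_dvd.2 (h2 ▸ orderOf_dvd_natCard _ (show (⟨z, hz⟩ : N) ∈ _ from hc₀))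
  have key : ∀ c : Ω, KE2x.Pt N c O[{2}, stabilizer N c] := fun c => by
    obtain ⟨t, Q, s, r, hG⟩ := H3.B71.bender se (fun g hg => Subtype.ext (h.faith g hg)) r2 c
    exact (KE2x.pt hG).eq ▸ KE2x.pt hG
  have eq : ∀ c : Ω, O[{2}, N ⊓ stabilizer G c] = O[{2}, stabilizer N c].map N.subtype :=
    fun c => by rw [← pcore_map_subtype, KE2x.map_stab]
  refine ⟨hN, fun c => rfl, fun c a b ha hb => ?_, fun a b hab u hu e => ?_, fun a b hab => ?_,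
    fun a b hab => ?_, fun c => ?_, fun c s hs h2 => ?_, fun a b hab s hs s' hs' n1 q1 n2 q2 => ?_,
    fun a b hab hc => ?_⟩
  · obtain ⟨u, hu, e⟩ := (key c).tr a b ha hb
    exact ⟨u, by rw [eq]; exact ⟨u, hu, rfl⟩, e⟩
  · rw [eq] at hu
    obtain ⟨u, hu, rfl⟩ := hu
    exact congrArg Subtype.val ((key a).reg b hab u hu e)
  · rw [← KE2x.map_St, card_map_of_injective N.subtype_injective]
    exact (key a).odd b hab
  · obtain ⟨t, ht⟩ := (key a).swp b hab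
    exact ⟨t, t.2, hab, congrArg Subtype.val ht.sq, ht.ab, ht.ba⟩
  · obtain ⟨s, hs, n1, q1⟩ := (key c).ex
    exact ⟨s, by rw [eq]; exact ⟨s, hs, rfl⟩, fun e => n1 (Subtype.ext e),
      congrArg Subtype.val q1⟩
  · rw [eq] at hs ⊢
    obtain ⟨s, hs, rfl⟩ := hs
    refine mem_C.2 ?_
    rintro _ ⟨x, hx, rfl⟩
    exact (congrArg Subtype.val ((key c).cen s hs (Subtype.ext h2) x hx)).symm
  · rw [eq] at hs hs'
    obtain ⟨s, hs, rfl⟩ := hs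
    obtain ⟨s', hs', rfl⟩ := hs'
    obtain ⟨y, hy, e⟩ := (key a).ktr b hab s hs s' hs' (fun e => n1 (congrArg Subtype.val e))
      (Subtype.ext q1) (fun e => n2 (congrArg Subtype.val e)) (Subtype.ext q2)
    exact ⟨y, ⟨y.2, hy⟩, congrArg Subtype.val e⟩
  · have e1 : {s | s ∈ O[{2}, N ⊓ stabilizer G a] ∧ s * s = 1} =
        N.subtype '' {s | s ∈ O[{2}, stabilizer N a] ∧ s * s = 1} := by
      rw [eq]
      ext s
      exact ⟨fun ⟨⟨s, hs, e⟩, h2⟩ => ⟨s, ⟨hs, Subtype.ext (by rw [← e] at h2; exact h2)⟩, e⟩,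
        fun ⟨s, ⟨hs, h2⟩, e⟩ => e ▸ ⟨⟨s, hs, rfl⟩, congrArg Subtype.val h2⟩⟩
    rw [e1, Set.ncard_image_of_injective _ N.subtype_injective, eq,
      card_map_of_injective N.subtype_injective] at hc
    obtain ⟨y, hy, n1, e⟩ := (key a).u3 b hab hc
    refine ⟨y, ⟨y.2, hy⟩, fun e => n1 (Subtype.ext e), fun s hs h2 => ?_⟩
    rw [eq] at hs
    obtain ⟨s, hs, rfl⟩ := hs
    exact congrArg Subtype.val (e s hs (Subtype.ext h2))

end H1.KS
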