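import Mathlib
import Cfsg.Agent.H1.KS0
import Cfsg.Agent.H1.KST
import Cfsg.Agent.H1.Coprime

set_option autoImplicit false
set_option linter.unusedSectionVars false
set_option linter.unusedVariables false

namespace H1.KS

open Cfsg H24 MulAction Subgroup

universe u

variable {G Ω : Type u} [Group G] [Finite G] [MulAction G Ω] [Finite Ω] {U : Ω → Subgroup G}
  {d : Dt G Ω} {a b c : Ω} {t w x y z : G} {p m : ℕ} {X L N : Subgroup G} {Φ : Set Ω}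

namespace KE3x

theorem fib {α β : Type*} [Finite α] [Finite β] (A : Set α) (B : Set β) (r : α → β → Prop) (n : ℕ)
    (h1 : ∀ a ∈ A, ∃! b, b ∈ B ∧ r a b) (h2 : ∀ b ∈ B, {a | a ∈ A ∧ r a b}.ncard = n) :
    A.ncard = B.ncard * n := by
  classical
  have := Finset.card_mul_eq_card_mul (s := A.toFinite.toFinset) (t := B.toFinite.toFinset) r
    (m := 1) (n := n) (fun a ha => ?_) (fun b hb => ?_)
  · rwa [mul_one, ← Set.ncard_eq_toFinset_card, ← Set.ncard_eq_toFinset_card] at this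
  · obtain ⟨b, hb, hu⟩ := h1 a (by simpa using ha)
    rw [Finset.card_eq_one]
    refine ⟨b, Finset.eq_singleton_iff_unique_mem.2 ⟨by simpa using hb, fun b' hb' => hu b' ?_⟩⟩
    simpa using hb'
  · rw [← h2 b (by simpa using hb), ← Set.ncard_coe_finset]
    congr 1
    ext a
    simp

theorem two_odd (h : IsPi {2} X) (hx : x ∈ X) (ho : Odd ♯L) (hL : x ∈ L) : x = 1 :=
  (h.piElt hx).eq_one (((isPi_compl_iff Nat.prime_two).2 ho.not_two_dvd_nat).piElt hL)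

theorem arith {k j i : ℕ} (h1 : 1 ≤ i) (h2 : i ≤ j)
    (h : 2 ^ k = 2 ^ j + (2 ^ j + 1) * (2 ^ i - 1) * 2 ^ j) : j = i ∧ 2 ^ k = (2 ^ i) ^ 3 := by
  obtain ⟨l, rfl⟩ := Nat.exists_eq_add_of_le h2
  obtain ⟨q, hq⟩ : ∃ q, 2 ^ i = q + 1 := ⟨2 ^ i - 1, (Nat.sub_add_cancel Nat.one_le_two_pow).symm⟩
  have q0 : q ≠ 0 := by
    rintro rfl
    exact absurd hq (Nat.one_lt_two_pow (by omega)).ne'
  have e : 2 ^ k = 2 ^ (i + l) * 2 ^ i * (2 ^ l * q + 1) := by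
    rw [h, pow_add, hq, Nat.add_sub_cancel]; ring
  rcases l with _ | l
  · exact ⟨rfl, by rw [e, Nat.add_zero, hq]; ring⟩
  · have := Nat.Coprime.eq_one_of_dvd (Nat.Coprime.pow_right k
      (Odd.coprime_two_right (n := 2 ^ (l + 1) * q + 1) ⟨2 ^ l * q, by ring⟩)) (Dvd.intro_left _ e.symm)
    simp [q0] at this

/-- the family of the largest normal 2-subgroups of the point stabilisers -/
abbrev V (G : Type u) {Ω : Type u} [Group G] [MulAction G Ω] (c : Ω) : Subgroup G :=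
  O[{2}, stabilizer G c]

theorem cj_stab (g : G) (c : Ω) : cj g (stabilizer G c) = stabilizer G (g • c) := by
  ext x
  rw [mem_cj, mem_stabilizer_iff, mem_stabilizer_iff, mul_smul, mul_smul, inv_smul_eq_iff]

variable {Q : Ω → Subgroup G}

theorem Q_pi (q : Bd N Q) (c : Ω) : IsPi {2} (Q c) := q.def' c ▸ pcore_pi _ _
theorem Q_le (q : Bd N Q) (c : Ω) : Q c ≤ N ⊓ stabilizer G c := q.def' c ▸ pcore_le _ _

theorem spQ (h : Sp U) (q : Bd N Q) : Sp Q :=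
  ⟨h.faith, h.two, fun c u hu => (Q_le q c hu).2, fun g c => by
    have := q.nml
    rw [q.def', q.def', ← pcore_cj, cj_inf, cj_stab, cj_of_mem_N (le_normalizer_of_normal (mem_top g))],
    fun c => (Q_pi q c).nil Nat.prime_two, q.tr⟩

theorem Q_V (h : Sp U) (q : Bd N Q) (c : Ω) : Q c ≤ V G c := pcore_max (Q_pi q c) ((spQ h q).nml c)

theorem spV (h : Sp U) (q : Bd N Q) : Sp (V G : Ω → Subgroup G) :=
  ⟨h.faith, h.two, fun c u hu => pcore_le _ _ hu, fun g c => by rw [← pcore_cj, cj_stab],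
    fun c => (pcore_pi _ _).nil Nat.prime_two, fun c a b ha hb =>
      let ⟨u, hu, e⟩ := q.tr c a b ha hb; ⟨u, Q_V h q c hu, e⟩⟩

theorem card_Q (h : Sp U) (q : Bd N Q) (hab : a ≠ b) : ♯(Q a) = Nat.card Ω - 1 := by
  rw [(spQ h q).card_U hab, show Q a ⊓ stabilizer G b = ⊥ from eq_bot_iff.2 fun u hu =>
    q.reg a b hab u hu.1 hu.2, card_bot, mul_one]

theorem cV (h : Sp U) (q : Bd N Q) (hab : a ≠ b) (hx : x ∈ V G a) (hb : x • b = b)
    (hy : y ∈ N ⊓ St G a b) : x * y = y * x := by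
  have ha : x ∈ stabilizer G a := pcore_le _ _ hx
  rw [← mul_inv_eq_one, mul_inv_rev, ← mul_assoc]
  refine two_odd (pcore_pi _ _) (x := _) (X := V G a) ?_ (q.odd a b hab) (mem_inf.2 ⟨?_, mem_inf.2 ⟨?_, ?_⟩⟩)
  · rw [mul_assoc x, mul_assoc x]
    exact mul_mem hx (conj_mem ((spV h q).norm a hy.2.1) (inv_mem hx))
  · exact mul_mem (q.nml.conj_mem y hy.1 x) (inv_mem hy.1)
  · exact mul_mem (mul_mem (mul_mem ha hy.2.1) (inv_mem ha)) (inv_mem hy.2.1)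
  · have hb' : x ∈ stabilizer G b := hb
    exact mul_mem (mul_mem (mul_mem hb' hy.2.2) (inv_mem hb')) (inv_mem hy.2.2)

theorem two_n (h : Sp U) (q : Bd N Q) (hab : a ≠ b) : 2 ∣ Nat.card Ω - 1 := by
  obtain ⟨s, hs, s1, -⟩ := q.ex a
  exact card_Q h q hab ▸ (Q_pi q a).dvd_card fun e => s1 (by rwa [e, mem_bot] at hs)

theorem fix1 (h : Sp U) (q : Bd N Q) (hab : a ≠ b) {s : G} (hs : s ∈ N) (s1 : s ≠ 1) (s2 : s * s = 1) :
    ∃ c : Ω, s ∈ Q c ∧ ∀ e, s • e = e → e = c := by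
  have p2 := isPi_zpowers_inv s2
  have u : ∀ c e : Ω, s • c = c → s • e = e → e = c := fun c e h1 h2 => by_contra fun hn =>
    s1 (two_odd p2 (mem_zpowers s) (q.odd e c hn) ⟨hs, h2, h1⟩)
  obtain ⟨c, -, hc⟩ : (Set.univ ∩ fixedBy Ω s).Nonempty := Set.nonempty_of_ncard_ne_zero fun e => by
    have h1 := card_fix_inv (Φ := (Set.univ : Set Ω)) s2 fun _ _ => trivial
    have h2 := two_n h q hab
    have : Nonempty Ω := ⟨a⟩
    have h3 : 0 < Nat.card Ω := Nat.card_pos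
    rw [e, Set.ncard_univ, Nat.ModEq] at h1
    omega
  refine ⟨c, ?_, fun e he => u c e hc he⟩
  obtain ⟨e, he⟩ : ∃ e, e ≠ c := by
    by_cases e : a = c
    exacts [⟨b, e ▸ hab.symm⟩, ⟨a, e⟩]
  obtain ⟨v, hv, e1⟩ := q.tr c e (s • e) he (smul_ne hc he)
  have := two_odd ((Q_pi q c).sup p2 (zpowers_le.2 ((spQ h q).norm c hc))) (x := v⁻¹ * s)
    (mul_mem (inv_mem (mem_sup_left hv)) (mem_sup_right (mem_zpowers s))) (q.odd c e he.symm)
    (mem_inf.2 ⟨mul_mem (inv_mem (Q_le q c hv).1) hs, mem_inf.2 ⟨mul_mem (inv_mem (Q_le q c hv).2) hc,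
      show (v⁻¹ * s) • e = e by rw [mul_smul, ← e1, inv_smul_smul]⟩⟩)
  rwa [← inv_mul_eq_one.1 this]

end KE3x

open KE3x

/-! ### KE3 -/
theorem Sp.ev3 (h : Sp U) {Q : Ω → Subgroup G} (q : Bd N Q) : Reg U := by
  intro a b hab u hu hb
  by_contra u1
  have sQ := spQ h q
  have sV := spV h q
  have pV : ∀ c : Ω, IsPi {2} (V G c) := fun c => pcore_pi _ _
  obtain ⟨k, hk⟩ := (Q_pi q a).card_eq_pow Nat.prime_two
  have uV : u ∈ V G a := pcore_max (fun r hr hd => (Nat.prime_dvd_prime_iff_eq hr Nat.prime_two).1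
    (hr.dvd_of_dvd_pow (hk ▸ card_Q h q hab ▸ h.dvd_n hr hd))) (h.nml a) hu
  obtain ⟨x, hx, x1, x2, -⟩ := comm_inv (X := V G a ⊓ stabilizer G b) (mul_one 1) (one_mem _)
    (even_iff_two_dvd.2 (((pV a).inf_left _).dvd_card fun e => u1 (mem_bot.1 (e ▸ ⟨uV, hb⟩))))
  have xa : x • a = a := sV.fix a x hx.1
  have xb : x • b = b := hx.2
  have xi : x⁻¹ = x := inv_eq_of_mul_eq_one_right x2
  have xV : ∀ c : Ω, x • c = c → x ∈ V G c := fun c hc => sV.symm hx.1 hc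
  have oth : ∀ c : Ω, ∃ e, e ≠ c ∧ x • e = e := fun c => by
    by_cases e : a = c
    exacts [⟨b, e ▸ hab.symm, xb⟩, ⟨a, e, xa⟩]
  have ktr : ∀ c : Ω, x • c = c → ∀ s ∈ Q c, ∀ s' ∈ Q c, s ≠ 1 → s * s = 1 → s' ≠ 1 → s' * s' = 1 →
      ∃ y, x * y = y * x ∧ y * s * y⁻¹ = s' := fun c hc s hs s' hs' s1 s2 s3 s4 => by
    obtain ⟨e, he, xe⟩ := oth c
    obtain ⟨y, hy, e1⟩ := q.ktr c e he.symm s hs s' hs' s1 s2 s3 s4
    exact ⟨y, cV h q he.symm (xV c hc) xe hy, e1⟩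
  have cq : ∀ c : Ω, x • c = c → ∀ s ∈ Q c, s * s = 1 → x * s = s * x := fun c hc s hs s2 => by
    obtain ⟨s0, h0, s1, -⟩ := q.ex c
    obtain ⟨s0, h0, s3, s4, e⟩ := comm_inv x2 (sQ.norm c hc) (even_iff_two_dvd.2
      ((Q_pi q c).dvd_card fun e => s1 (by rwa [e, mem_bot] at h0)))
    by_cases s5 : s = 1
    · rw [s5, mul_one, one_mul]
    obtain ⟨y, hy, rfl⟩ := ktr c hc s0 h0 s hs s3 s4 s5 s2
    exact ((show Commute x y from hy).mul_right e).mul_right (show Commute x y from hy).inv_right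
  have cm : ∀ c e : Ω, e ≠ c → x • c = c → ∀ v ∈ Q c, (x * v) • e = (v * x) • e → v ∈ C{x} :=
    fun c e he hc v hv e1 => by
      have := q.reg c e he.symm (x⁻¹ * v⁻¹ * x * v) (mul_mem (conj_mem' (sQ.norm c hc) (inv_mem hv)) hv)
        (by rw [mul_assoc, mul_smul, e1, ← mul_smul, ← mul_inv_rev, inv_mul_cancel, one_smul])
      rw [mul_assoc, ← mul_inv_rev, inv_mul_eq_one] at this
      exact mem_C1.2 this
  have orb : ∀ c : Ω, ∀ Φ : Set Ω, c ∉ Φ → Φ.Nonempty → (∀ g ∈ Q c ⊓ C{x}, ∀ e ∈ Φ, g • e ∈ Φ) →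
      (∀ e ∈ Φ, ∀ v ∈ Q c, v • e ∈ Φ → v ∈ C{x}) → Φ.ncard = ♯(Q c ⊓ C{x} : Subgroup G) :=
    fun c Φ hc ⟨e, he⟩ h1 h2 => by
      have ne : ∀ e ∈ Φ, e ≠ c := fun e he e1 => hc (e1 ▸ he)
      rw [card_orbit he h1 fun e' he' => ?_, show Q c ⊓ C{x} ⊓ stabilizer G e = ⊥ from
        eq_bot_iff.2 fun v hv => q.reg c e (ne e he).symm v hv.1.1 hv.2,
        card_bot, mul_one]
      obtain ⟨v, hv, e1⟩ := q.tr c e e' (ne e he) (ne e' he')
      exact ⟨v, ⟨hv, h2 e he v hv (e1 ▸ he')⟩, e1⟩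
  have cF : ∀ g ∈ C{x}, ∀ e : Ω, x • g • e = g • x • e := fun g hg e => by
    rw [← mul_smul, ← mem_C1.1 hg, mul_smul]
  have kap : ∀ c : Ω, x • c = c → ♯(Q c ⊓ C{x} : Subgroup G) = (fixedBy Ω x).ncard - 1 := fun c hc => by
    obtain ⟨e, he, xe⟩ := oth c
    rw [← Set.ncard_sdiff_singleton_of_mem (show c ∈ fixedBy Ω x from hc)]
    refine (orb c (fixedBy Ω x \ {c}) (fun h => h.2 rfl) ⟨e, xe, he⟩ (fun g hg e he =>
      ⟨show x • g • e = g • e by rw [cF g hg.2, show x • e = e from he.1],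
        smul_ne (sQ.fix c g hg.1) he.2⟩) fun e he v hv e1 => cm c e he.2 hc v hv ?_).symm
    rw [mul_smul, mul_smul, show x • e = e from he.1]; exact e1.1
  let T : Set G := {s | s ∈ N ∧ s ≠ 1 ∧ s * s = 1 ∧ x * s = s * x}
  have fT : ∀ s ∈ T, ∃ c : Ω, x • c = c ∧ s ∈ Q c ∧ ∀ e, s • e = e → e = c := fun s hs => by
    obtain ⟨c, h1, h2⟩ := fix1 h q hab hs.1 hs.2.1 hs.2.2.1
    exact ⟨c, h2 _ (by rw [← mul_smul, ← hs.2.2.2, mul_smul, sQ.fix c s h1]), h1, h2⟩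
  let Q0 : Subgroup G :=
    { carrier := {s | s ∈ Q a ∧ s * s = 1}
      one_mem' := ⟨one_mem _, mul_one 1⟩
      mul_mem' := fun {s s'} h1 h2 => ⟨mul_mem h1.1 h2.1, by
        rw [mul_assoc, ← mul_assoc s', mem_C.1 (q.cen a s h1.1 h1.2) s' h2.1, mul_assoc, h2.2, mul_one,
          h1.2]⟩
      inv_mem' := fun {s} h1 => ⟨inv_mem h1.1, by rw [← mul_inv_rev, h1.2, inv_one]⟩ }
  have Q0le : Q0 ≤ Q a ⊓ C{x} := fun s hs => ⟨hs.1, mem_C1.2 (cq a xa s hs.1 hs.2).symm⟩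
  have c0 : {s | s ∈ Q a ∧ s * s = 1}.ncard = ♯Q0 := rfl
  have cT : T.ncard = (fixedBy Ω x).ncard * (♯Q0 - 1) := fib T _ (fun s c => s ∈ Q c) _
    (fun s hs => let ⟨c, h1, h2, h3⟩ := fT s hs
      ⟨c, ⟨h1, h2⟩, fun e he => h3 e (sQ.fix e s he.2)⟩) fun c hc => by
      obtain ⟨e, he, -⟩ := oth c
      obtain ⟨g, rfl, -⟩ := h.two a b c e hab he.symm
      rw [← c0, ← Set.ncard_sdiff_singleton_of_mem (show (1 : G) ∈ {s | s ∈ Q a ∧ s * s = 1} from Q0.one_mem),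
        ← Set.ncard_image_of_injective _ (MulAut.conj g⁻¹).injective]
      congr 1
      ext s
      simp only [Set.mem_image, Set.mem_ofPred_eq, Set.mem_sdiff, Set.mem_singleton_iff]
      constructor
      · rintro ⟨s, ⟨hs, h1⟩, rfl⟩
        refine ⟨⟨?_, by rw [← map_mul, hs.2.2.1, map_one]⟩, (map_ne_one_iff _ (MulEquiv.injective _)).2 hs.2.1⟩
        have := sQ.conj_mem g⁻¹ h1
        rwa [inv_smul_smul] at this
      · rintro ⟨⟨h1, h2⟩, h3⟩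
        have m := sQ.conj_mem g h1
        have m2 : g * s * g⁻¹ * (g * s * g⁻¹) = 1 := by
          rw [show g * s * g⁻¹ * (g * s * g⁻¹) = g * (s * s) * g⁻¹ by group, h2]; group
        exact ⟨g * s * g⁻¹, ⟨⟨(Q_le q _ m).1, fun e => h3 (by simpa using e), m2, cq _ hc _ m m2⟩, m⟩,
          by simp [mul_assoc]⟩
  have ex : ∀ γ ∈ (fixedBy Ω x)ᶜ, ∃! s, s ∈ T ∧ s • γ = x • γ := fun γ hγ => by
    have ne : γ ≠ x • γ := fun e => hγ e.symm
    have xx : x • x • γ = γ := by rw [← mul_smul, x2, one_smul]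
    have o := q.odd _ _ ne
    refine existsUnique_of_exists_of_unique ?_ fun s s' ⟨hs, e⟩ ⟨hs', e'⟩ => ?_
    · obtain ⟨t, tN, st⟩ := q.swp _ _ ne
      obtain ⟨s, hs, e⟩ := fix_of_odd (S := (t * ·) '' (N ⊓ St G γ (x • γ) : Subgroup G)) x2 (by
        rintro _ ⟨y, hy, rfl⟩
        refine ⟨t * (x * (t * y) * x), ⟨mul_mem tN (by
          have := q.nml.conj_mem _ (mul_mem tN hy.1) x
          rwa [xi] at this), ?_, ?_⟩, by simp only [← mul_assoc, st.sq, one_mul]⟩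
        · show (t * (x * (t * y) * x)) • γ = γ
          simp only [mul_smul]
          rw [show y • x • γ = x • γ from hy.2.2, st.ba, st.ba]
        · show (t * (x * (t * y) * x)) • x • γ = x • γ
          simp only [mul_smul]
          rw [xx, show y • γ = γ from hy.2.1, st.ab, xx, st.ab])
        (by rw [Set.ncard_image_of_injective _ (mul_right_injective t)]; exact o)
      obtain ⟨y, hy, rfl⟩ := hs
      obtain ⟨s, hs, sw⟩ := exists_swp (L := N ⊓ C{x}) ne ⟨mul_mem tN hy.1, mem_C1.2 e.symm⟩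
        (by rw [mul_smul, show y • γ = γ from hy.2.1, st.ab])
        (by rw [mul_smul, show y • x • γ = x • γ from hy.2.2, st.ba])
        (odd_of_le o (inf_le_inf_right _ inf_le_left))
      exact ⟨s, ⟨hs.1, sw.ne_one, sw.sq, (mem_C1.1 hs.2).symm⟩, sw.ab⟩
    · have ss : ∀ {s : G}, s * s = 1 → s • γ = x • γ → s • x • γ = γ := fun {s} h1 h2 => by
        rw [← h2, ← mul_smul, h1, one_smul]
      obtain ⟨δ, h1, h2, -⟩ := fT s hs
      have m : s * s' ∈ N ⊓ St G γ (x • γ) := ⟨mul_mem hs.1 hs'.1,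
        show (s * s') • γ = γ by rw [mul_smul, e', ss hs.2.2.1 e],
        show (s * s') • x • γ = x • γ by rw [mul_smul, ss hs'.2.2.1 e', e]⟩
      have c1 : Commute (s * x) (s * s') := cV h q ne
        (sV.symm (mul_mem (Q_V h q δ h2) (xV δ h1)) (by rw [mul_smul, ss hs.2.2.1 e]))
        (by rw [mul_smul, xx, e]) m
      have c2 : Commute x (s * s') := (show Commute x s from hs.2.2.2).mul_right hs'.2.2.2
      have c3 := (c1.mul_left c2).eq
      rw [mul_assoc s x, x2, mul_one, ← mul_assoc, hs.2.2.1, one_mul] at c3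
      have := two_odd (isPi_zpowers_inv (w := s * s') (by
        rw [← mul_assoc, ← c3, hs'.2.2.1])) (mem_zpowers _) o m
      rw [eq_inv_of_mul_eq_one_left this, inv_eq_of_mul_eq_one_right hs'.2.2.1]
  obtain ⟨γ0, h0⟩ : ∃ γ, γ ∈ (fixedBy Ω x)ᶜ := by
    by_contra hn
    push Not at hn
    exact x1 (h.faith x fun c => not_not.1 (hn c))
  obtain ⟨s0, ⟨hs0, e0⟩, -⟩ := ex γ0 h0
  obtain ⟨δ0, d1, d2, -⟩ := fT s0 hs0
  have cΩ := fib _ T (fun γ s => s • γ = x • γ) ((fixedBy Ω x).ncard - 1) ex fun s hs => by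
    obtain ⟨δ, h1, h2, -⟩ := fT s hs
    have tr : ∀ g ∈ C{x}, ∀ γ ∈ (fixedBy Ω x)ᶜ, g • γ ∈ (fixedBy Ω x)ᶜ := fun g hg γ hγ e =>
      hγ (smul_left_cancel g ((cF g hg γ).symm.trans e))
    have sc : ∀ v ∈ Q δ, ∀ e : Ω, s • v • e = v • s • e := fun v hv e => by
      rw [← mul_smul, ← mem_C.1 (q.cen δ s h2 hs.2.2.1) v hv, mul_smul]
    rw [← kap δ h1]
    refine orb δ _ (fun h => h.1 h1) ?_ (fun g hg e he => ⟨tr g hg.2 e he.1, ?_⟩) fun e he v hv e1 =>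
      cm δ e (fun e2 => he.1 (e2 ▸ h1)) h1 v hv ?_
    · obtain ⟨g, hg, rfl⟩ := h.gleason Nat.prime_two (two_n h q hab) (isPi_zpowers_inv x2)
        (a := δ0) (b := δ) (by rw [Fx_zpowers]; exact d1) (by rw [Fx_zpowers]; exact h1)
      rw [C_zpowers] at hg
      obtain ⟨y, hy, rfl⟩ := ktr _ h1 _ (sQ.conj_mem g d2) s h2 (fun e => hs0.2.1 (by simpa using e))
        (by rw [show g * s0 * g⁻¹ * (g * s0 * g⁻¹) = g * (s0 * s0) * g⁻¹ by group, hs0.2.2.1]; group)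
        hs.2.1 hs.2.2.1
      have hy' := mem_C1.2 hy.symm
      refine ⟨y • g • γ0, tr y hy' _ (tr g hg _ h0), ?_⟩
      simp only [mul_smul, inv_smul_smul]
      rw [cF y hy', cF g hg, e0]
    · rw [sc g hg.1, cF g hg.2, he.2]
    · rw [mul_smul, mul_smul, ← e1.2, sc v hv, he.2]
  obtain ⟨j, hj⟩ := ((Q_pi q a).inf_left C{x}).card_eq_pow Nat.prime_two
  obtain ⟨i, hi⟩ := ((Q_pi q a).of_le (Q0le.trans inf_le_left)).card_eq_pow Nat.prime_two
  have ij : i ≤ j := (Nat.pow_le_pow_iff_right one_lt_two).1 (hi ▸ hj ▸ card_le_of_le Q0le)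
  have i1 : 1 ≤ i := Nat.pos_of_ne_zero fun e => by
    obtain ⟨s, h1, h2, h3⟩ := q.ex a
    rw [e, pow_zero, card_eq_one] at hi
    exact h2 (mem_bot.1 (hi ▸ (show s ∈ Q0 from ⟨h1, h3⟩)))
  have f1 := Set.ncard_add_ncard_compl (fixedBy Ω x)
  have f2 : 0 < (fixedBy Ω x).ncard := (Set.ncard_pos (Set.toFinite _)).2 ⟨a, xa⟩
  have f3 := kap a xa
  have f4 : (fixedBy Ω x).ncard = 2 ^ j + 1 := by omega
  have f5 := card_Q h q hab
  rw [cT, hi, f4, Nat.add_sub_cancel] at cΩ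
  obtain ⟨e4, e3⟩ := arith i1 ij (k := k) (by omega)
  obtain ⟨y, hy, y1, yc⟩ := q.u3 a b hab (by rw [c0, hk, hi, e3])
  have e5 : Q0 = Q a ⊓ C{x} := eq_of_le_of_card_ge Q0le (by rw [hi, hj, e4])
  have : Fact (Nat.Prime 2) := ⟨Nat.prime_two⟩
  have := H1.p_times_q 2 (zpowers x) (zpowers y) (Q a) ((isPi_zpowers_inv x2).isPGroup Nat.prime_two)
    (odd_of_le (q.odd a b hab) (zpowers_le.2 hy)).coprime_two_right
    ((Q_pi q a).isPGroup Nat.prime_two)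
    (zpowers_le.2 (by rw [C_zpowers]; exact mem_C1.2 (cV h q hab hx.1 xb hy)))
    (zpowers_le.2 (sQ.norm a xa)) (zpowers_le.2 (sQ.norm a hy.2.1)) (by
      rw [C_zpowers, C_zpowers, ← e5]
      exact fun s hs => mem_C1.2 (yc s hs.1 hs.2).symm) (mem_zpowers y)
  exact y1 (sQ.zsemi this hab.symm hy.2.1 hy.2.2)

end H1.KS
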