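import Mathlib
import Cfsg.Agent.H1.KS0
import Cfsg.Agent.H1.KST
import Cfsg.Agent.H25.KSN
import Cfsg.Agent.S0054
import Cfsg.Agent.S0058

set_option autoImplicit false
set_option linter.unusedSectionVars false
set_option linter.unusedVariables false

namespace H1.KS

open Cfsg H24 MulAction Subgroup

universe u

variable {G Ω : Type u} [Group G] [Finite G] [MulAction G Ω] [Finite Ω] {U : Ω → Subgroup G}
  {d : Dt G Ω} {a b c : Ω} {t w x y z : G} {p m : ℕ} {X L N : Subgroup G} {Φ : Set Ω}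

namespace KSAx

theorem eq_of_smul (reg : ∀ g ∈ N, ∀ c : Ω, g • c = c → g = 1) {e e' : G} (he : e ∈ N)
    (he' : e' ∈ N) (h : e • a = e' • a) : e = e' := by
  have := reg (e'⁻¹ * e) (mul_mem (inv_mem he') he) a (by rw [mul_smul, h, inv_smul_smul])
  exact (inv_mul_eq_one.1 this).symm

theorem conj_smul {g e : G} (hg : g • a = a) : (g * e * g⁻¹) • a = g • e • a := by
  rw [mul_smul, mul_smul, inv_smul_eq_iff.2 hg.symm]

theorem card_N (tr : ∀ a b : Ω, ∃ g ∈ N, g • a = b) (reg : ∀ g ∈ N, ∀ c : Ω, g • c = c → g = 1)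
    (a : Ω) : ♯N = Nat.card Ω := by
  have := card_orbit (L := N) (Φ := Set.univ) (b := a) trivial (fun _ _ _ _ => trivial)
    (fun c _ => tr a c)
  have e : N ⊓ stabilizer G a = ⊥ := eq_bot_iff.2 fun g hg => mem_bot.2 (reg g hg.1 a hg.2)
  rwa [e, card_bot, mul_one, Set.ncard_univ] at this

end KSAx

open KSAx

/-! ### KSA -/
theorem Sp.aff (h : Sp U) (hN : N.Normal) (ab : Abl N) (tr : ∀ a b : Ω, ∃ g ∈ N, g • a = b)
    (reg : ∀ g ∈ N, ∀ c : Ω, g • c = c → g = 1) (hX : X ≤ U a) (hn : U a ≤ N[X]) (hA : Abl X) :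
    Cyc X := by
  by_contra hc
  have mv : ∀ x ∈ X, x ≠ 1 → ∃ e ∈ N, e ≠ 1 ∧ x ∉ C{e} := fun x hx x1 => by
    by_contra hcon
    push Not at hcon
    refine x1 (h.faith x fun c => ?_)
    obtain ⟨e, he, rfl⟩ := tr a c
    have xa := h.fix a x (hX hx)
    by_cases e1 : e = 1
    · rw [e1, one_smul, xa]
    · rw [← conj_smul xa, mem_C1_iff_conj.1 (hcon e he e1)]
  have cop : (♯X).Coprime ♯N := Nat.coprime_of_dvd fun r hr h1 h2 => by
    have h3 := h.dvd_n hr (h1.trans (card_dvd_of_le hX))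
    rw [card_N tr reg a] at h2
    have : Nonempty Ω := ⟨a⟩
    have h4 : 0 < Nat.card Ω := Nat.card_pos
    have h5 := Nat.dvd_sub h2 h3
    rw [Nat.sub_sub_self h4] at h5
    exact hr.one_lt.ne' (Nat.dvd_one.1 h5)
  obtain ⟨x, hx, x1, e1, he1, n1, c1⟩ : ∃ x ∈ X, x ≠ 1 ∧ ∃ e ∈ N, e ≠ 1 ∧ x ∈ C{e} := by
    by_contra hcon
    push Not at hcon
    have := hA
    have g := Cfsg.Agent.S0058.result X N hc (norm_of_normal X N) cop
    have X1 : X ≠ ⊥ := fun e => hc (e ▸ cyc_bot)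
    obtain ⟨⟨x, hx⟩, x1⟩ := ne_bot_iff_exists_ne_one.1 X1
    obtain ⟨e, he, e1, -⟩ := mv x hx (fun e => x1 (Subtype.ext e))
    refine e1 (mem_bot.1 ((?_ : N ≤ ⊥) he))
    rw [← g]
    refine iSup₂_le fun y hy f hf => mem_bot.2 ?_
    by_contra f1
    exact hcon y hy.1 hy.2 f hf.1 f1 (mem_C1_comm.1 hf.2)
  obtain ⟨e2, he2, n2, c2⟩ := mv x hx x1
  have cd : ∀ e ∈ N, e ≠ 1 → ∀ e' ∈ N, e' ≠ 1 → ♯(X ⊓ C{e}) = ♯(X ⊓ C{e'}) :=
    fun e he n e' he' n' => by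
      obtain ⟨u, hu, k⟩ := h.tr a (e • a) (e' • a) (fun k => n (reg e he a k))
        (fun k => n' (reg e' he' a k))
      rw [← conj_smul (h.fix a u hu)] at k
      rw [← eq_of_smul reg (hN.conj_mem e he u) he' k, ← cj_C1, ← cj_of_mem_N (hn hu), ← cj_inf,
        card_cj, cj_of_mem_N (hn hu)]
  have eq : ∀ e ∈ N, e ≠ 1 → ∀ e' ∈ N, e' ≠ 1 → X ⊓ C{e} ≤ C{e'} → X ⊓ C{e'} ≤ C{e} :=
    fun e he n e' he' n' k =>
      (eq_of_le_of_card_ge (le_inf inf_le_left k) (cd e' he' n' e he n).le).ge.trans inf_le_right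
  have star : ∀ f ∈ N, X ⊓ C{e1} ≤ C{f} → X ⊓ C{e2} ≤ C{f} → f = 1 := fun f hf k1 k2 => by
    by_contra f1
    exact c2 (eq e2 he2 n2 f hf f1 k2 (mem_inf.2 ⟨hx, k1 (mem_inf.2 ⟨hx, c1⟩)⟩))
  have n3 : e1 * e2 ≠ 1 := fun k => c2 (by
    rw [eq_inv_of_mul_eq_one_right k, mem_C1_comm]
    exact inv_mem (mem_C1_comm.1 c1))
  have cc : ∀ y ∈ X, ∀ e, X ⊓ C{e} ≤ C{y * e * y⁻¹} := fun y hy e w hw => by
    rw [mem_C1_comm]
    have k1 : y ∈ C{w} := mem_C1.2 (hA.comm hy hw.1)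
    exact mul_mem (mul_mem k1 (mem_C1_comm.1 hw.2)) (inv_mem k1)
  have key : ∀ y ∈ X ⊓ C{e1 * e2}, y ∈ C{e1} ∧ y ∈ C{e2} := fun y hy => by
    have k := mem_C1_iff_conj.1 hy.2
    have k2 : e1⁻¹ * (y * e1 * y⁻¹) = e2 * (y * e2 * y⁻¹)⁻¹ := by
      calc e1⁻¹ * (y * e1 * y⁻¹) = e1⁻¹ * (y * (e1 * e2) * y⁻¹) * (y * e2 * y⁻¹)⁻¹ := by group
        _ = _ := by rw [k]; group
    have k3 := star _ (mul_mem (inv_mem he1) (hN.conj_mem e1 he1 y))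
      (fun w hw => mem_C1_comm.1 (mul_mem (inv_mem (mem_C1_comm.1 hw.2))
        (mem_C1_comm.1 (cc y hy.1 e1 hw))))
      (fun w hw => k2 ▸ mem_C1_comm.1 (mul_mem (mem_C1_comm.1 hw.2)
        (inv_mem (mem_C1_comm.1 (cc y hy.1 e2 hw)))))
    refine ⟨mem_C1_iff_conj.2 (inv_mul_eq_one.1 k3).symm, mem_C1_iff_conj.2 ?_⟩
    rw [k2] at k3
    exact (mul_inv_eq_one.1 k3).symm
  have k := eq _ (mul_mem he1 he2) n3 e1 he1 n1 fun y hy => (key y hy).1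
  exact c2 (key x (mem_inf.2 ⟨hx, k (mem_inf.2 ⟨hx, c1⟩)⟩)).2

theorem Sp.aff_cyc (h : Sp U) (odd : Odd ♯(U a)) (hN : N.Normal)
    (tr : ∀ a b : Ω, ∃ g ∈ N, g • a = b) (reg : ∀ g ∈ N, ∀ c : Ω, g • c = c → g = 1) :
    Cyc (U a) := by
  have : Nonempty Ω := ⟨a⟩
  have ab : Abl N := (Cfsg.Agent.S0054.result h.two' N
    ⟨fun b c => by obtain ⟨g, hg, e⟩ := tr b c; exact ⟨⟨g, hg⟩, e⟩⟩
    fun c => eq_bot_iff.2 fun g hg => mem_bot.2 (Subtype.ext (reg g g.2 c hg))).1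
  have k := H25.KSN.odd_central (h.nil a) fun A h1 h2 h3 => h.aff hN ab tr reg h1 h2 h3
  rw [((isPi_compl_iff Nat.prime_two).2 odd.not_two_dvd_nat).pcore_eq] at k
  exact h.aff hN ab tr reg le_rfl (norm_self _) (abl_iff.2 k)

end H1.KS
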