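import Mathlib
import Cfsg.Agent.H1.KS0
import Cfsg.Agent.H1.KST

set_option autoImplicit false
set_option linter.unusedSectionVars false
set_option linter.unusedVariables false

namespace H1.KS

open Cfsg H24 MulAction Subgroup

universe u

variable {G Ω : Type u} [Group G] [Finite G] [MulAction G Ω] [Finite Ω] {U : Ω → Subgroup G}
  {d : Dt G Ω} {a b c : Ω} {t w x y z : G} {p m : ℕ} {X L N : Subgroup G} {Φ : Set Ω}

namespace KSBx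

theorem cj_stab (g : G) (b : Ω) : cj g (stabilizer G b) = stabilizer G (g • b) := by
  ext x
  rw [mem_cj, mem_stabilizer_iff, mem_stabilizer_iff, mul_smul, mul_smul, inv_smul_eq_iff]

theorem cjA (h : Sp U) (g : G) (a b : Ω) :
    cj g (U a ⊓ stabilizer G b) = U (g • a) ⊓ stabilizer G (g • b) := by
  rw [cj_inf, h.eqv, cj_stab]

theorem fx_cj (g : G) : g • c ∈ Fx Ω (cj g X) ↔ c ∈ Fx Ω X := by
  refine ⟨fun h x hx => ?_, fun h x hx => ?_⟩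
  · have := h _ (conj_mem_cj g hx)
    rwa [mul_smul, mul_smul, inv_smul_smul, smul_left_cancel_iff] at this
  · obtain ⟨y, hy, rfl⟩ := mem_cj'.1 hx
    rw [mul_smul, mul_smul, inv_smul_smul, h y hy]

theorem fx_N {g : G} (hg : g ∈ N[X]) (hc : c ∈ Fx Ω X) : g • c ∈ Fx Ω X := by
  rw [← cj_of_mem_N hg]
  exact (fx_cj g).2 hc

theorem le_A (h : Sp U) (hX : X ≤ U a) {e : Ω} (hc : c ∈ Fx Ω X) (he : e ∈ Fx Ω X) :
    X ≤ U c ⊓ stabilizer G e := fun x hx => ⟨h.symm (hX hx) (hc x hx), he x hx⟩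

theorem bot_of (h : Sp U) (e : Fx Ω X = Set.univ) : X = ⊥ :=
  eq_bot_iff.2 fun x hx => h.faith x fun c => e.ge (Set.mem_univ c) x hx

theorem fx_pcore (h : Sp U)
    (ih : ∀ (L : Subgroup G) (Φ : Set Ω), Φ ≠ Set.univ → Sub U L Φ → RegOn U L Φ) (hab : a ≠ b)
    {π : Set ℕ} (h1 : O[π, U a ⊓ stabilizer G b] ≠ ⊥) :
    Fx Ω O[π, U a ⊓ stabilizer G b] = Fx Ω (U a ⊓ stabilizer G b) := by
  have l := pcore_le π (U a ⊓ stabilizer G b)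
  have key : ∀ c ∈ Fx Ω O[π, U a ⊓ stabilizer G b], ∀ e ∈ Fx Ω O[π, U a ⊓ stabilizer G b], c ≠ e →
      O[π, U a ⊓ stabilizer G b] = O[π, U c ⊓ stabilizer G e] := fun c hc e he hce => by
    obtain ⟨g, rfl, rfl⟩ := h.two a b c e hab hce
    refine eq_of_card_eq (((h.nil _).of_le inf_le_left).le_pcore (pcore_pi _ _)
      (le_A h (l.trans inf_le_left) hc he)) ?_
    rw [← cjA h, pcore_cj, card_cj]
  have ha : a ∈ Fx Ω O[π, U a ⊓ stabilizer G b] := fun x hx => h.fix a x (l hx).1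
  have hb : b ∈ Fx Ω O[π, U a ⊓ stabilizer G b] := fun x hx => (l hx).2
  refine Set.Subset.antisymm (fun c hc u hu => ?_) fun c hc x hx => hc x (l hx)
  refine ih N[O[π, U a ⊓ stabilizer G b]] _ (fun e => h1 (bot_of h e)) ⟨fun g hg c hc => fx_N hg hc,
    fun c hc a' ha' b' hb' h1 h2 => ?_⟩ a ha b hb hab u hu.1 ((pcore_nml _ _).norm hu) hu.2 c hc
  obtain ⟨u, hu, e⟩ := h.tr c a' b' h1 h2
  refine ⟨u, hu, mem_N_iff_cj.2 ?_, e⟩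
  rw [key c hc a' ha' h1.symm, ← pcore_cj, cjA h, h.fix c u hu, e, ← key c hc a' ha' h1.symm,
    ← key c hc b' hb' h2.symm]

theorem univ_of (h : Sp U) (hab : a ≠ b) (ha : a ∈ Φ) (H : ∀ u ∈ U a, u • b ∈ Φ) : Φ = Set.univ :=
  Set.eq_univ_of_forall fun c => by
    by_cases e : c = a
    · exact e ▸ ha
    · obtain ⟨u, hu, rfl⟩ := h.tr a b c hab.symm e
      exact H u hu

theorem exists_p (h : Sp U)
    (ih : ∀ (L : Subgroup G) (Φ : Set Ω), Φ ≠ Set.univ → Sub U L Φ → RegOn U L Φ) (hab : a ≠ b)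
    (h1 : U a ⊓ stabilizer G b ≠ ⊥) : ∃ p : ℕ, p.Prime ∧ IsPi {p} (U a ⊓ stabilizer G b) := by
  obtain ⟨p, hp, hd⟩ := exists_prime_dvd_card h1
  refine ⟨p, hp, fun r hr hr' => by_contra fun hne => h1 (bot_of h (univ_of h hab
    (fun x hx => h.fix a x hx.1) fun u hu => ?_))⟩
  have n := (h.nil a).of_le (inf_le_left : U a ⊓ stabilizer G b ≤ _)
  have e1 := fx_pcore h ih hab (n.pcore_ne_bot (π := {p}) hp rfl hd)
  have e2 := fx_pcore h ih hab (n.pcore_ne_bot (π := {p}ᶜ) hr hne hr')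
  obtain ⟨u1, h1, u2, h2, rfl⟩ := ((h.nil a).pcoreC {p}).isProd.mul u hu
  have c1 := (h.nil a).cents_of_pi (pcore_le {p} _) ((pcore_le {p}ᶜ (U a ⊓ stabilizer G b)).trans inf_le_left)
    (pcore_pi _ _) (pcore_pi _ _)
  have c2 := cents_symm ((h.nil a).cents_of_pi ((pcore_le {p} (U a ⊓ stabilizer G b)).trans inf_le_left)
    (pcore_le {p}ᶜ _) (pcore_pi _ _) (pcore_pi _ _))
  rw [mul_smul, ← e2]
  refine fx_N (C_le_N _ (c1 h1)) ?_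
  rw [e2, ← e1]
  refine fx_N (C_le_N _ (c2 h2)) ?_
  rw [e1]
  exact fun x hx => hx.2

end KSBx

open KSBx

/-! ### KSB -/
theorem exists_cx (h : Sp U) (odd : ∀ c, Odd ♯(U c))
    (ih : ∀ (L : Subgroup G) (Φ : Set Ω), Φ ≠ Set.univ → Sub U L Φ → RegOn U L Φ) (hn : ¬ Reg U) :
    ∃ p i, Cx (⟨U, p, i⟩ : Dt G Ω) := by
  classical
  obtain ⟨a, b, hab⟩ : ∃ a b : Ω, a ≠ b := by
    by_contra hc
    exact hn fun a b hab => absurd ⟨a, b, hab⟩ hc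
  have h1 : U a ⊓ stabilizer G b ≠ ⊥ := fun e => hn (h.reg_of hab e)
  obtain ⟨p, hp, hA⟩ := exists_p h ih hab h1
  have l : U a ⊓ stabilizer G b ≤ O[{p}, U a] := (h.nil a).le_pcore hA inf_le_left
  have ex : ∃ j, (U a ⊓ stabilizer G b) ⊓ ucn j O[{p}, U a] ≠ ⊥ := by
    obtain ⟨n, hn⟩ := nil_iff_ucn.1 ((h.nil a).of_le (pcore_le {p} _))
    exact ⟨n, by rwa [hn, inf_eq_left.2 l]⟩
  have j0 : Nat.find ex ≠ 0 := fun e => by
    have := Nat.find_spec ex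
    rw [e, ucn_zero, inf_bot_eq] at this
    exact this rfl
  obtain ⟨i, hi⟩ := Nat.exists_eq_succ_of_ne_zero j0
  have s1 := Nat.find_spec ex
  have s2 := not_not.1 (Nat.find_min ex (m := i) (by omega))
  rw [hi] at s1
  refine ⟨p, i, h, odd, ih, hp, fun c e hce => ?_, fun c e hce => ?_, fun c e hce => ?_⟩ <;>
    obtain ⟨g, rfl, rfl⟩ := h.two a b c e hab hce
  · change U _ ⊓ _ ≤ O[{p}, U _]
    rw [← cjA h, ← h.eqv, pcore_cj]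
    exact cj_mono g l
  · change ucn i O[{p}, U _] ⊓ (U _ ⊓ _) = ⊥
    rw [← cjA h, ← h.eqv, pcore_cj, ucn_cj, ← cj_inf, inf_comm, s2, cj_bot]
  · change (U _ ⊓ _) ⊓ ucn (i + 1) O[{p}, U _] ≠ ⊥
    rw [← cjA h, ← h.eqv, pcore_cj, ucn_cj, ← cj_inf]
    exact fun e => s1 (cj_eq_bot.1 e)
theorem Cx.cj_P (k : Cx d) (g : G) (c : Ω) : cj g (d.P c) = d.P (g • c) := by
  rw [Dt.P, Dt.P, ← k.sp.eqv, pcore_cj]
theorem Cx.cj_Z (k : Cx d) (g : G) (c : Ω) : cj g (d.Z c) = d.Z (g • c) := by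
  rw [Dt.Z, Dt.Z, cj_inf, cj_C, k.cj_P]
theorem Cx.cj_M (k : Cx d) (g : G) (c : Ω) : cj g (d.M c) = d.M (g • c) := by
  rw [Dt.M, Dt.M, ← ucn_cj, k.cj_P]
theorem Cx.cj_A (k : Cx d) (g : G) (a b : Ω) : cj g (d.A a b) = d.A (g • a) (g • b) :=
  cjA k.sp g a b
theorem Cx.cj_W (k : Cx d) (g : G) (a b : Ω) : cj g (d.W a b) = d.W (g • a) (g • b) := by
  rw [Dt.W, Dt.W, cj_inf, ← ucn_cj, k.cj_P, k.cj_A]
theorem Cx.cj_D0 (k : Cx d) (g : G) (a b : Ω) : cj g (d.D0 a b) = d.D0 (g • a) (g • b) := by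
  rw [Dt.D0, Dt.D0, cj_inf, cj_inf, cj_C, k.cj_W, cj_stab, cj_stab]
theorem Cx.smul_Ln (k : Cx d) (g : G) : g • c ∈ d.Ln (g • a) (g • b) ↔ c ∈ d.Ln a b := by
  rw [Dt.Ln, Dt.Ln, ← k.cj_A, fx_cj]
theorem Tt.cj (k : Cx d) (s : Tt d t a b) (g : G) : Tt d (g * t * g⁻¹) (g • a) (g • b) := by
  refine ⟨⟨fun e => s.sw.ne ((smul_left_cancel_iff g).1 e), ?_, ?_, ?_⟩, ?_⟩
  · calc g * t * g⁻¹ * (g * t * g⁻¹) = g * (t * t) * g⁻¹ := by group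
      _ = 1 := by rw [s.sw.sq]; group
  · rw [mul_smul, mul_smul, inv_smul_smul, s.sw.ab]
  · rw [mul_smul, mul_smul, inv_smul_smul, s.sw.ba]
  · rw [← k.cj_W, ← cj_C]
    exact conj_mem_cj g s.cw
theorem Cx.P_pi (k : Cx d) (c : Ω) : IsPi {d.p} (d.P c) := pcore_pi _ _
theorem KSBx.A_ne (k : Cx d) (hab : a ≠ b) : d.A a b ≠ ⊥ := fun e =>
  k.W1 a b hab (le_bot_iff.1 (e ▸ d.W_le a b))
theorem KSBx.P_ne (k : Cx d) (hab : a ≠ b) : d.P a ≠ ⊥ := fun e =>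
  A_ne k hab (le_bot_iff.1 (e ▸ k.pA a b hab))
theorem Cx.p_odd (k : Cx d) (hab : a ≠ b) : Odd d.p :=
  (k.P_pi a).odd_prime (P_ne k hab) (odd_of_le (k.odd a) (d.P_le a))
theorem Cx.p_dvd (k : Cx d) (hab : a ≠ b) : d.p ∣ Nat.card Ω - 1 :=
  k.sp.dvd_n k.pp (((k.P_pi a).dvd_card (P_ne k hab)).trans (card_dvd (d.P_le a)))
theorem Cx.v_even (k : Cx d) (hab : a ≠ b) : Even (Nat.card Ω) := by
  have h1 := k.odd a
  rw [k.sp.card_U hab] at h1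
  have h2 := (Nat.odd_mul.1 h1).1
  have : Nonempty Ω := ⟨a⟩
  have h3 : 0 < Nat.card Ω := Nat.card_pos
  obtain ⟨r, hr⟩ := h2
  exact ⟨r + 1, by omega⟩
theorem Cx.Z_cent (k : Cx d) (c : Ω) : d.Z c ≤ C[d.U c] := fun _ hz => k.sp.zpart hz
theorem Cx.Z_ne (k : Cx d) (hab : a ≠ b) : d.Z a ≠ ⊥ :=
  ((k.sp.nil a).of_le (d.P_le a)).center_ne_bot (P_ne k hab)
theorem Cx.Z_semi (k : Cx d) (hz : z ∈ d.Z a) (hb : b ≠ a) (hzb : z • b = b) : z = 1 :=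
  k.sp.zsemi (k.Z_cent a hz) hb (k.sp.fix a z (d.P_le a (d.Z_le a hz))) hzb
theorem Cx.Z_le_M (k : Cx d) (hab : a ≠ b) : d.Z a ≤ d.M a := by
  have h0 : d.i ≠ 0 := fun e => k.W1 a b hab (eq_bot_iff.2 fun x hx => by
    rw [Dt.W, e, zero_add, ucn_one] at hx
    exact k.Z_semi hx.2 hab.symm hx.1.2)
  rw [Dt.Z, ← ucn_one]
  exact ucn_mono_nat _ (by omega)
theorem Cx.M_le (k : Cx d) (c : Ω) : d.M c ≤ d.P c := ucn_le _ _
theorem Cx.norm_P (k : Cx d) (c : Ω) : stabilizer G c ≤ N[d.P c] := fun g hg =>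
  mem_N_iff_cj.2 (by rw [k.cj_P, mem_stabilizer_iff.1 hg])
theorem Cx.norm_Z (k : Cx d) (c : Ω) : stabilizer G c ≤ N[d.Z c] := fun g hg =>
  mem_N_iff_cj.2 (by rw [k.cj_Z, mem_stabilizer_iff.1 hg])
theorem Cx.norm_M (k : Cx d) (c : Ω) : stabilizer G c ≤ N[d.M c] := fun g hg =>
  mem_N_iff_cj.2 (by rw [k.cj_M, mem_stabilizer_iff.1 hg])
theorem Cx.norm_A (k : Cx d) (a b : Ω) : St G a b ≤ N[d.A a b] := fun g hg =>
  mem_N_iff_cj.2 (by rw [k.cj_A, (mem_St.1 hg).1, (mem_St.1 hg).2])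
theorem Cx.norm_W (k : Cx d) (a b : Ω) : St G a b ≤ N[d.W a b] := fun g hg =>
  mem_N_iff_cj.2 (by rw [k.cj_W, (mem_St.1 hg).1, (mem_St.1 hg).2])
open scoped commutatorElement in
theorem Cx.comm_W (k : Cx d) (hx : x ∈ d.W a b) (hy : y ∈ d.U a) :
    x⁻¹ * (y * x * y⁻¹) ∈ d.M a := by
  obtain ⟨u1, h1, u2, h2, rfl⟩ := ((k.sp.nil a).pcoreC {d.p}).isProd.mul y hy
  have hx' : x ∈ ucn (d.i + 1) (d.P a) := hx.2
  have e := conj_eq_of_mem_C (((k.sp.nil a).pcoreC {d.p}).cent h2) (ucn_le _ _ hx')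
  have e2 : x⁻¹ * (u1 * u2 * x * (u1 * u2)⁻¹) = ⁅x⁻¹, u1⁆ := by
    calc _ = x⁻¹ * u1 * (u2 * x * u2⁻¹) * u1⁻¹ := by group
      _ = _ := by rw [e, commutatorElement_def, inv_inv]
  rw [e2]
  exact (mem_ucn_succ.1 (inv_mem hx')).2 u1 h1
theorem Cx.left_Ln (k : Cx d) (a b : Ω) : a ∈ d.Ln a b := fun x hx => k.sp.fix a x hx.1
theorem Cx.right_Ln (k : Cx d) (a b : Ω) : b ∈ d.Ln a b := fun _ hx => hx.2
theorem Cx.A_eq (k : Cx d) (hab : a ≠ b) {a' b' : Ω} (ha : a' ∈ d.Ln a b) (hb : b' ∈ d.Ln a b)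
    (h : a' ≠ b') : d.A a' b' = d.A a b := by
  refine (eq_of_card_eq (le_A k.sp (d.A_le a b) ha hb) ?_).symm
  obtain ⟨g, rfl, rfl⟩ := k.sp.two a b a' b' hab h
  rw [← cjA k.sp, card_cj]
  rfl
theorem Cx.Ln_eq (k : Cx d) (hab : a ≠ b) {a' b' : Ω} (ha : a' ∈ d.Ln a b) (hb : b' ∈ d.Ln a b)
    (h : a' ≠ b') : d.Ln a' b' = d.Ln a b := by
  rw [Dt.Ln, Dt.Ln, k.A_eq hab ha hb h]
theorem Cx.NA_smul (k : Cx d) (hx : x ∈ N[d.A a b]) (hc : c ∈ d.Ln a b) : x • c ∈ d.Ln a b :=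
  fx_N hx hc
theorem Cx.mem_NA (k : Cx d) (hab : a ≠ b) (hx : x • a = a) :
    x ∈ N[d.A a b] ↔ x • b ∈ d.Ln a b := by
  refine ⟨fun h => k.NA_smul h (k.right_Ln a b), fun h => mem_N_iff_cj.2 ?_⟩
  rw [k.cj_A]
  exact k.A_eq hab (hx.symm ▸ k.left_Ln a b) h fun e => hab ((smul_left_cancel_iff x).1 e)
theorem Cx.Ln_ne (k : Cx d) (hab : a ≠ b) : d.Ln a b ≠ Set.univ := fun e =>
  A_ne k hab (bot_of k.sp e)
theorem Cx.k_mod (k : Cx d) (hab : a ≠ b) : d.p ∣ (d.Ln a b).ncard - 1 := by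
  have h1 := card_fix_mod (Φ := (Set.univ : Set Ω)) k.pp ((k.P_pi a).of_le (k.pA a b hab))
    (fun _ _ _ _ => Set.mem_univ _)
  rw [Set.univ_inter, Set.ncard_univ] at h1
  have : Nonempty Ω := ⟨a⟩
  have h2 := (Nat.modEq_iff_dvd' (Nat.card_pos (α := Ω))).2 (k.p_dvd hab)
  exact (Nat.modEq_iff_dvd' ((Set.ncard_pos (Set.toFinite _)).2 ⟨a, k.left_Ln a b⟩)).1 (h2.trans h1)
theorem Cx.k_three (k : Cx d) (hab : a ≠ b) : 3 ≤ (d.Ln a b).ncard := by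
  have h1 : 1 < (d.Ln a b).ncard :=
    (Set.one_lt_ncard (Set.toFinite _)).2 ⟨a, k.left_Ln a b, b, k.right_Ln a b, hab⟩
  have h2 := Nat.le_of_dvd (by omega) (k.k_mod hab)
  have h3 := k.pp.two_le
  omega
theorem Cx.card_NA (k : Cx d) (hab : a ≠ b) :
    ♯(d.U a ⊓ N[d.A a b]) = ((d.Ln a b).ncard - 1) * ♯(d.A a b) := by
  have h1 := card_orbit (L := d.U a ⊓ N[d.A a b]) (Φ := d.Ln a b \ {a}) (b := b)
    ⟨k.right_Ln a b, hab.symm⟩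
    (fun g hg c hc => ⟨k.NA_smul hg.2 hc.1, fun e => hc.2 ((smul_left_cancel_iff g).1
      (e.trans (k.sp.fix a g hg.1).symm))⟩)
    (fun c hc => by
      obtain ⟨u, hu, rfl⟩ := k.sp.tr a b c hab.symm hc.2
      exact ⟨u, ⟨hu, (k.mem_NA hab (k.sp.fix a u hu)).2 hc.1⟩, rfl⟩)
  rw [h1, Set.ncard_sdiff_singleton_of_mem (k.left_Ln a b),
    show d.U a ⊓ N[d.A a b] ⊓ stabilizer G b = d.A a b from
      le_antisymm (fun x hx => ⟨hx.1.1, hx.2⟩) fun x hx => ⟨⟨hx.1, norm_self _ hx⟩, hx.2⟩]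
theorem Cx.k_even (k : Cx d) (hab : a ≠ b) : Even (d.Ln a b).ncard := by
  have h1 := odd_of_le (k.odd a) (inf_le_left : d.U a ⊓ N[d.A a b] ≤ _)
  rw [k.card_NA hab] at h1
  obtain ⟨r, hr⟩ := (Nat.odd_mul.1 h1).1
  have := k.k_three hab
  exact ⟨r + 1, by omega⟩
theorem Cx.R_le (k : Cx d) (hab : a ≠ b) : O[{d.p}ᶜ, d.U a] ≤ C[d.A a b] :=
  cents_of_le ((k.sp.nil a).pcoreC {d.p}).cent (k.pA a b hab)
theorem Cx.P_not_le (k : Cx d) (hab : a ≠ b) : ¬ d.P a ≤ N[d.A a b] := fun h =>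
  k.Ln_ne hab (univ_of k.sp hab (k.left_Ln a b) fun u hu => k.NA_smul
    (((k.sp.nil a).pcoreC {d.p}).sup.ge.trans (sup_le h (norm_of_cent (k.R_le hab))) hu) (k.right_Ln a b))

end H1.KS
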