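import Mathlib
import Cfsg.Agent.H1.KS0
import Cfsg.Agent.H1.KSB

set_option autoImplicit false
set_option linter.unusedSectionVars false
set_option linter.unusedVariables false

namespace H1.KS

open Cfsg H24 MulAction Subgroup

universe u

variable {G Ω : Type u} [Group G] [Finite G] [MulAction G Ω] [Finite Ω] {U : Ω → Subgroup G}
  {d : Dt G Ω} {a b c : Ω} {t w x y z : G} {p m : ℕ} {X L N : Subgroup G} {Φ : Set Ω}

namespace KSWx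

theorem step (k : Cx d) (hab : a ≠ b) (hx : x ∈ d.W a b) {u : G} (hu : u ∈ d.U a)
    (e : x • u • b = u • b) : u ∈ C{x} := by
  have hA := d.W_le a b hx
  have h1 := k.comm_W hx (inv_mem hu)
  have h2 : u⁻¹ * x * u⁻¹⁻¹ ∈ d.A a b :=
    d.mem_A.2 ⟨mul_mem (mul_mem (inv_mem hu) hA.1) (inv_mem (inv_mem hu)), by
      rw [inv_inv, mul_smul, mul_smul, e, inv_smul_smul]⟩
  have h3 := (k.MA a b hab).le (mem_inf.2 ⟨h1, mul_mem (inv_mem hA) h2⟩)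
  rw [mem_bot, inv_mul_eq_one] at h3
  exact inv_mem_iff.1 (mem_C1_iff_conj.2 h3.symm)

theorem fx_zp : c ∈ Fx Ω (zpowers x) ↔ c ∈ fixedBy Ω x :=
  ⟨fun h => h x (mem_zpowers x), fun h _ hy =>
    (zpowers_le.2 (mem_stabilizer_iff.2 h) : zpowers x ≤ stabilizer G c) hy⟩

theorem fx_C {g : G} (hg : g ∈ C{x}) (hc : c ∈ fixedBy Ω x) : g • c ∈ fixedBy Ω x := by
  rw [mem_fixedBy, ← mul_smul, ← mem_C1.1 hg, mul_smul, mem_fixedBy.1 hc]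

theorem gl (k : Cx d) (hab : a ≠ b) (hx : x ∈ d.W a b) (hc : c ∈ fixedBy Ω x) :
    ∃ g ∈ C{x}, g • a = c := by
  have hA := d.W_le a b hx
  rw [← C_zpowers]
  exact k.sp.gleason k.pp (k.p_dvd hab) ((k.P_pi a).of_le (zpowers_le.2 (k.pA a b hab hA)))
    (fx_zp.2 (k.sp.fix a x hA.1)) (fx_zp.2 hc)

end KSWx

open KSWx

/-! ### KSW -/
theorem Cx.fix_W (k : Cx d) (hab : a ≠ b) (hx : x ∈ d.W a b) (h1 : x ≠ 1) :
    fixedBy Ω x = d.Ln a b := by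
  have hA := d.W_le a b hx
  refine Set.Subset.antisymm (fun c hc u hu => ?_) fun c hc => hc x hA
  refine k.ih C{x} (fixedBy Ω x) (fun e => h1 (k.sp.faith x fun c => e.ge (Set.mem_univ c)))
    ⟨fun g hg c hc => fx_C hg hc, fun c hc a' ha' b' hb' h1 h2 => ?_⟩ a (k.sp.fix a x hA.1) b hA.2 hab u hu.1
    (step k hab hx hu.1 (by rw [show u • b = b from hu.2]; exact hA.2)) hu.2 c hc
  obtain ⟨g, hg, rfl⟩ := gl k hab hx hc
  obtain ⟨u1, m1, e1⟩ := k.sp.tr a b (g⁻¹ • a') hab.symm fun e => h1 (inv_smul_eq_iff.1 e)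
  obtain ⟨u2, m2, e2⟩ := k.sp.tr a b (g⁻¹ • b') hab.symm fun e => h2 (inv_smul_eq_iff.1 e)
  have c1 := step k hab hx m1 (by rw [e1]; exact fx_C (inv_mem hg) ha')
  have c2 := step k hab hx m2 (by rw [e2]; exact fx_C (inv_mem hg) hb')
  refine ⟨g * (u2 * u1⁻¹) * g⁻¹, k.sp.conj_mem g (mul_mem m2 (inv_mem m1)),
    mul_mem (mul_mem hg (mul_mem c2 (inv_mem c1))) (inv_mem hg), ?_⟩
  rw [mul_smul, mul_smul, mul_smul, ← e1, inv_smul_smul, e2, smul_inv_smul]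
theorem Cx.cent_W (k : Cx d) (hab : a ≠ b) (hx : x ∈ d.W a b) (h1 : x ≠ 1) :
    d.U a ⊓ C{x} = d.U a ⊓ N[d.A a b] := by
  ext u
  refine and_congr_right fun hu => ?_
  change u ∈ C{x} ↔ u ∈ N[d.A a b]
  rw [k.mem_NA hab (k.sp.fix a u hu), ← k.fix_W hab hx h1]
  exact ⟨fun h => fx_C h (d.W_le a b hx).2, fun h => step k hab hx hu h⟩
theorem Cx.NA_le (k : Cx d) (hab : a ≠ b) : d.U a ⊓ N[d.A a b] ≤ C[d.W a b] := fun u hu =>
  mem_C'.2 fun x hx => by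
    by_cases h1 : x = 1
    · rw [h1, mul_one, one_mul]
    · exact mem_C1.1 ((k.cent_W hab hx h1).ge hu).2
theorem KSWx.W_le (k : Cx d) (hab : a ≠ b) {a' b' : Ω} (ha : a' ∈ d.Ln a b) (hb : b' ∈ d.Ln a b)
    (h : a' ≠ b') : d.W a b ≤ d.W a' b' := fun x hx => by
  obtain ⟨g, hg, rfl⟩ := gl k hab hx (ha x (d.W_le a b hx))
  have h1 := conj_mem_cj g hx
  rw [k.cj_W, mem_C1_iff_conj.1 hg] at h1
  exact ⟨(k.A_eq hab ha hb h).ge (d.W_le a b hx), h1.2⟩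
theorem Cx.W_eq (k : Cx d) (hab : a ≠ b) {a' b' : Ω} (ha : a' ∈ d.Ln a b) (hb : b' ∈ d.Ln a b)
    (h : a' ≠ b') : d.W a' b' = d.W a b :=
  le_antisymm (W_le k h ((k.Ln_eq hab ha hb h).ge (k.left_Ln a b))
    ((k.Ln_eq hab ha hb h).ge (k.right_Ln a b)) hab) (W_le k hab ha hb h)
theorem Cx.CW_smul (k : Cx d) (hab : a ≠ b) (hx : x ∈ N[d.W a b]) (hc : c ∈ d.Ln a b) :
    x • c ∈ d.Ln a b := by
  obtain ⟨w, hw, w1⟩ := (d.W a b).bot_or_exists_ne_one.resolve_left (k.W1 a b hab)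
  have := hc _ (d.W_le a b (conj_mem' hx hw))
  rw [mul_smul, mul_smul, inv_smul_eq_iff] at this
  rwa [← k.fix_W hab hw w1]
theorem Cx.CW_le (k : Cx d) (hab : a ≠ b) : N[d.W a b] ≤ N[d.A a b] := fun x hx =>
  mem_N_iff_cj.2 (by
    rw [k.cj_A]
    exact k.A_eq hab (k.CW_smul hab hx (k.left_Ln a b)) (k.CW_smul hab hx (k.right_Ln a b))
      fun e => hab ((smul_left_cancel_iff x).1 e))
theorem Cx.norm_W' (k : Cx d) (hab : a ≠ b) (h1 : x • a ∈ d.Ln a b) (h2 : x • b ∈ d.Ln a b) :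
    x ∈ N[d.W a b] :=
  mem_N_iff_cj.2 (by
    rw [k.cj_W]
    exact k.W_eq hab h1 h2 fun e => hab ((smul_left_cancel_iff x).1 e))
theorem Cx.sub0 (k : Cx d) (hab : a ≠ b) : Sub d.U C[d.W a b] (d.Ln a b) := by
  refine ⟨fun g hg c hc => k.CW_smul hab (C_le_N _ hg) hc, fun c hc a' ha' b' hb' h1 h2 => ?_⟩
  obtain ⟨u, hu, e⟩ := k.sp.tr c a' b' h1 h2
  refine ⟨u, hu, ?_, e⟩
  rw [← k.W_eq hab hc ha' h1.symm]
  refine k.NA_le h1.symm ⟨hu, (k.mem_NA h1.symm (k.sp.fix c u hu)).2 ?_⟩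
  rwa [e, k.Ln_eq hab hc ha' h1.symm]
theorem Cx.sub_inv (k : Cx d) (hw : w * w = 1) : Sub d.U C{w} (fixedBy Ω w) := by
  refine ⟨fun g hg c hc => fx_C hg hc, fun c hc a' ha' b' hb' h1 h2 => ?_⟩
  rw [← C_zpowers]
  refine k.sp.glaub (fx_zp.2 hc) ?_ (fx_zp.2 ha') (fx_zp.2 hb') h1 h2
  rw [card_zpowers']
  exact (Nat.coprime_two_left.2 (k.odd c)).coprime_dvd_left (orderOf_dvd_of_pow_eq_one (by rw [sq, hw]))

end H1.KS
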