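import Mathlib
import Cfsg.Agent.H1.KS0
import Cfsg.Agent.H1.KSW

set_option autoImplicit false
set_option linter.unusedSectionVars false
set_option linter.unusedVariables false

namespace H1.KS

open Cfsg H24 MulAction Subgroup

universe u

variable {G Ω : Type u} [Group G] [Finite G] [MulAction G Ω] [Finite Ω] {U : Ω → Subgroup G}
  {d : Dt G Ω} {a b c : Ω} {t w x y z : G} {p m : ℕ} {X L N : Subgroup G} {Φ : Set Ω}

namespace KSMx

theorem fix_le (k : Cx d) (hab : a ≠ b) (hw : w ∈ d.D0 a b) (h1 : w ≠ 1) (h2 : w * w = 1)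
    (hc : w • c = c) : c ∈ d.Ln a b := by
  obtain ⟨x, hx, x1⟩ := exists_ne_one (k.W1 a b hab)
  rw [← k.fix_W hab hx x1]
  exact k.ih C{w} (fixedBy Ω w) (fun e => h1 (k.sp.faith w fun c => e.ge (Set.mem_univ c)))
    (k.sub_inv h2) a hw.1.1 b hw.1.2 hab x hx.1.1 (mem_C1.2 (mem_C.1 hw.2 x hx)) hx.1.2 c hc

theorem pres (k : Cx d) (hab : a ≠ b) (hw : w ∈ d.D0 a b) (h1 : w ≠ 1) (h2 : w * w = 1)
    (hx : x * w = w * x) (hc : c ∈ d.Ln a b) : x • c ∈ d.Ln a b := by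
  have e : ∀ c : Ω, w • c = c → x • c ∈ d.Ln a b := fun c hc =>
    fix_le k hab hw h1 h2 (by rw [← mul_smul, ← hx, mul_smul, hc])
  rw [← k.Ln_eq hab (e a hw.1.1) (e b hw.1.2) fun h => hab (MulAction.injective x h)]
  exact (k.smul_Ln x).2 hc

theorem D0_symm (k : Cx d) (hab : a ≠ b) : d.D0 b a = d.D0 a b := by
  unfold Dt.D0 St
  rw [k.W_eq hab (k.right_Ln a b) (k.left_Ln a b) hab.symm, inf_comm (stabilizer G b)]

/-- a point outside the `p`-normaliser -/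
theorem exists_u (k : Cx d) (hab : a ≠ b) :
    ∃ u ∈ d.P a, u ∈ N[d.P a ⊓ N[d.A a b]] ∧ u ∉ N[d.A a b] := by
  by_contra hn
  push Not at hn
  exact k.P_not_le hab ((((k.P_pi a).nil k.pp).eq_of_norm_le (inf_le_left (b := N[d.A a b]))
    fun u hu => ⟨hu.1, hn u hu.1 hu.2⟩).ge.trans inf_le_right)

end KSMx

open KSMx

/-! ### KSM -/
theorem Cx.D0_odd (k : Cx d) (hab : a ≠ b) : Odd ♯(d.D0 a b) := by
  by_contra he
  rw [Nat.not_odd_iff_even] at he
  have ev : ∀ a' b' : Ω, a' ≠ b' → Even ♯(d.D0 a' b') := fun a' b' h => by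
    obtain ⟨g, rfl, rfl⟩ := k.sp.two a b a' b' hab h
    rwa [← k.cj_D0, card_cj]
  obtain ⟨x, hx, x1⟩ := exists_ne_one (k.W1 a b hab)
  have eA : d.A b a = d.A a b := k.A_eq hab (k.right_Ln a b) (k.left_Ln a b) hab.symm
  have eL : d.Ln b a = d.Ln a b := k.Ln_eq hab (k.right_Ln a b) (k.left_Ln a b) hab.symm
  obtain ⟨u, hu, u1, u2⟩ := exists_u k hab.symm
  have ub : u • b = b := k.sp.fix b u (d.P_le b hu)
  have hc : u • a ∉ d.Ln a b := fun h => u2 ((k.mem_NA hab.symm ub).2 (eL ▸ h))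
  have xN : x ∈ N[d.A b (u • a)] := by
    have h1 : x ∈ d.A b a := eA ▸ hx.1
    have h2 := (conj_mem' u1 (x := x) ⟨k.pA b a hab.symm h1, norm_self _ h1⟩).2
    have h3 := k.cj_A u b a
    rw [ub] at h3
    rw [← h3, ← cj_N]
    exact mem_cj.2 h2
  generalize u • a = c at hc xN
  have hbc : b ≠ c := fun e => hc (e ▸ k.right_Ln a b)
  have inter : ∀ e ∈ d.Ln a b, e ∈ d.Ln b c → e = b := fun e h1 h2 => by_contra fun h3 => hc (by
    rw [← k.Ln_eq hab (k.right_Ln a b) h1 (Ne.symm h3),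
      k.Ln_eq hbc (k.left_Ln b c) h2 (Ne.symm h3)]
    exact k.right_Ln b c)
  have fx := k.fix_W hab hx x1
  have lemM : ∀ g : G, g • a = a → (∀ e ∈ d.Ln b c, g • e ∈ d.Ln b c) → g • b = b := by
    intro g ga hg
    have gN : g ∈ N[d.A b c] := mem_N_iff_cj.2 (by
      rw [k.cj_A, k.A_eq hbc (hg _ (k.left_Ln b c)) (hg _ (k.right_Ln b c))
        fun h => hbc (MulAction.injective g h)])
    have h1 := card_fix_mod (X := d.P a ⊓ N[d.A b c]) (Φ := d.Ln b c) k.pp ((k.P_pi a).inf_left _)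
      fun y hy e he => k.NA_smul hy.2 he
    obtain ⟨e, e1, e2⟩ : (d.Ln b c ∩ Fx Ω (d.P a ⊓ N[d.A b c])).Nonempty := by
      refine Set.nonempty_of_ncard_ne_zero fun h0 => ?_
      rw [h0, Nat.modEq_zero_iff_dvd] at h1
      have h2 := k.k_three hbc
      have h3 := Nat.dvd_sub h1 (k.k_mod hbc)
      rw [show (d.Ln b c).ncard - ((d.Ln b c).ncard - 1) = 1 by omega] at h3
      exact k.pp.one_lt.ne' (Nat.dvd_one.1 h3)
    have xT : x ∈ d.P a ⊓ N[d.A b c] := ⟨k.pA a b hab hx.1, xN⟩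
    obtain rfl := inter e (fx ▸ e2 x xT) e1
    have h2 := e2 _ (conj_mem (x := x) (g := g) (norm_inf (X := zpowers g)
      (zpowers_le.2 (k.norm_P a ga)) (zpowers_le.2 (norm_self _ gN)) (mem_zpowers g)) xT)
    have h3 := inter (g⁻¹ • e) (by
      rw [← fx, mem_fixedBy, eq_inv_smul_iff, ← mul_smul, ← mul_smul]; exact h2)
      (k.NA_smul (inv_mem gN) e1)
    rw [inv_smul_eq_iff] at h3
    exact h3.symm
  obtain ⟨j, hj, j1, j2, -⟩ := comm_inv (w := 1) (one_mul 1) (one_mem _) (ev b c hbc)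
  have haj : a ≠ j • a := fun e => hab (inter a (k.left_Ln a b) (fix_le k hbc hj j1 j2 e.symm))
  obtain ⟨s, hs, s1, s2, e⟩ := comm_inv j2 (mem_N_iff_cj.2 (by
    rw [k.cj_D0, ← mul_smul, j2, one_smul, D0_symm k haj])) (ev a _ haj)
  have sb := lemM s hs.1.1 fun e' he => pres k hbc hj j1 j2 e.symm he
  have eΔ : d.Ln a b = d.Ln a (j • a) :=
    k.Ln_eq haj (k.left_Ln _ _) (fix_le k haj hs s1 s2 sb) hab
  have h1 := card_fix_inv (Φ := d.Ln a b) j2 fun e' he => by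
    rw [eΔ] at he ⊢; exact pres k haj hs s1 s2 e he
  rw [show d.Ln a b ∩ fixedBy Ω j = {b} from Set.ext fun e' =>
    ⟨fun h => inter e' h.1 (fix_le k hbc hj j1 j2 h.2), by
      rintro rfl; exact ⟨k.right_Ln _ _, hj.1.1⟩⟩, Set.ncard_singleton] at h1
  obtain ⟨r, hr⟩ := k.k_even hab
  unfold Nat.ModEq at h1
  omega

end H1.KS
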