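import Mathlib
import Cfsg.Agent.H1.KS0
import Cfsg.Agent.H1.KSM

set_option autoImplicit false
set_option linter.unusedSectionVars false
set_option linter.unusedVariables false

namespace H1.KS

open Cfsg H24 MulAction Subgroup

universe u

variable {G Ω : Type u} [Group G] [Finite G] [MulAction G Ω] [Finite Ω] {U : Ω → Subgroup G}
  {d : Dt G Ω} {a b c : Ω} {t w x y z : G} {p m : ℕ} {X L N : Subgroup G} {Φ : Set Ω}

namespace KSSx

theorem odd_le (k : Cx d) (h : X ≤ d.U a) : Odd ♯X := odd_of_le (k.odd a) h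

theorem odd_el (k : Cx d) (h : x ∈ d.U a) : Odd (orderOf x) :=
  (k.odd a).of_dvd_nat (orderOf_dvd_card' h)

theorem one_of_inv (ho : Odd (orderOf x)) (h : x = x⁻¹) : x = 1 :=
  eq_one_of_conj_inv (y := 1) (by simp) ho (by simpa using h)

theorem cj_mul (h2 : w * w = 1) (x y : G) : w * (x * y) * w = w * x * w * (w * y * w) := by
  calc _ = w * x * (w * w) * y * w := by rw [h2]; group
    _ = _ := by group

theorem cj_inv' (h2 : w * w = 1) (x : G) : w * x⁻¹ * w = (w * x * w)⁻¹ := by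
  rw [mul_inv_rev, mul_inv_rev, inv_eq_of_mul_eq_one_right h2, mul_assoc]

theorem cj_fix (h2 : w * w = 1) (h : w * x = x * w) : w * x * w = x := by
  rw [h, mul_assoc, h2, mul_one]

theorem exists_x (k : Cx d) (hab : a ≠ b) (hw : w ∈ St G a b) (h2 : w * w = 1) (h1 : w ≠ 1) :
    ∃ x ∈ d.W a b, x ≠ 1 ∧ w * x * w = x⁻¹ := by
  by_contra hn
  push Not at hn
  refine h1 (one_of_inv ((k.D0_odd hab).of_dvd_nat (orderOf_dvd_card' (x := w) ⟨hw, mem_C'.2 fun x hx => ?_⟩))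
    (inv_eq_of_mul_eq_one_right h2).symm)
  obtain ⟨c, -, y, hy, e1, e2, rfl⟩ :=
    dec_inv (odd_le k ((d.W_le a b).trans (d.A_le a b))) h2 (k.norm_W a b hw) hx
  rw [show y = 1 from by_contra fun e => hn y hy e e2, mul_one, e1]

theorem mem_C (k : Cx d) (hab : a ≠ b) (hx : x ∈ d.W a b) (h1 : x ≠ 1) (hy : y ∈ d.U a) :
    y ∈ N[d.A a b] ↔ y * x = x * y := by
  have := k.cent_W hab hx h1
  exact ⟨fun h => mem_C1.1 (this.ge ⟨hy, h⟩).2, fun h => (this.le ⟨hy, mem_C1.2 h⟩).2⟩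

/-- an element of `N_P(Q₁) - Q₁` centralised or inverted by `w` -/
theorem exists_u (k : Cx d) (hab : a ≠ b) (hw : w ∈ St G a b) (h2 : w * w = 1) :
    ∃ u ∈ d.P a, u ∈ N[d.P a ⊓ N[d.A a b]] ∧ u ∉ N[d.A a b] ∧ (w * u = u * w ∨ w * u * w = u⁻¹) := by
  obtain ⟨u, hu, u1, u2⟩ := KSMx.exists_u k hab
  have n1 : zpowers w ≤ N[d.P a] := zpowers_le.2 (k.norm_P a hw.1)
  obtain ⟨c, hc, y, hy, e1, e2, rfl⟩ := dec_inv (X := d.P a ⊓ N[d.P a ⊓ N[d.A a b]])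
    (odd_le k (inf_le_left.trans (d.P_le a))) h2
    (norm_inf n1 (norm_N (norm_inf n1 (norm_N (zpowers_le.2 (k.norm_A a b hw))))) (mem_zpowers w))
    ⟨hu, u1⟩
  by_cases h : c ∈ N[d.A a b]
  · exact ⟨y, hy.1, hy.2, fun e => u2 (mul_mem h e), .inr e2⟩
  · exact ⟨c, hc.1, hc.2, h, .inl e1⟩

theorem step (k : Cx d) (hab : a ≠ b) (hx : x ∈ d.W a b) (h1 : x ≠ 1) {u : G} (hu : u ∈ d.P a)
    (u1 : u ∈ N[d.P a ⊓ N[d.A a b]]) (u2 : u ∉ N[d.A a b]) :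
    ∃ z ∈ d.M a ⊓ N[d.A a b], u * x * u⁻¹ = x * z ∧ x * z = z * x ∧ z ≠ z⁻¹ ∧
      u⁻¹ * x * u ≠ x * z := by
  have uU := d.P_le a hu
  have m1 := k.comm_W hx uU
  have m2 : x⁻¹ * (u * x * u⁻¹) ∈ N[d.A a b] := mul_mem (inv_mem (norm_self _ hx.1))
    (conj_mem u1 (x := x) ⟨k.pA a b hab hx.1, norm_self _ hx.1⟩).2
  have zU := d.P_le a (k.M_le a m1)
  refine ⟨_, ⟨m1, m2⟩, by group, ((mem_C k hab hx h1 zU).1 m2).symm, fun e => u2 ?_, fun e => u2 ?_⟩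
  · have := one_of_inv (odd_el k zU) e
    rw [inv_mul_eq_one, eq_mul_inv_iff_mul_eq] at this
    exact (mem_C k hab hx h1 uU).2 this.symm
  · obtain ⟨j, hj⟩ := exists_sqrt (odd_el k uU)
    rw [← hj, ← pow_add, ← two_mul, pow_mul, pow_two]
    refine pow_mem ((mem_C k hab hx h1 (mul_mem uU uU)).2 ?_) j
    calc _ = u * (x * (x⁻¹ * (u * x * u⁻¹))) * u := by group
      _ = _ := by rw [← e]; group

/-- the four sign computations -/
theorem pp {u : G} (h2 : w * w = 1) (e : u * x * u⁻¹ = x * z) (hu : w * u = u * w)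
    (hx : w * x = x * w) : w * z * w = z := by
  have := congrArg (fun g => w * g * w) e
  simp only [cj_mul h2, cj_inv' h2, cj_fix h2 hu, cj_fix h2 hx] at this
  exact mul_left_cancel (this.symm.trans e)

theorem pm {u : G} (h2 : w * w = 1) (e : u * x * u⁻¹ = x * z) (c : x * z = z * x) (hu : w * u = u * w)
    (hx : w * x * w = x⁻¹) : w * z * w = z⁻¹ := by
  have := congrArg (fun g => w * g * w) e
  simp only [cj_mul h2, cj_inv' h2, cj_fix h2 hu, hx] at this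
  rw [show u * x⁻¹ * u⁻¹ = (u * x * u⁻¹)⁻¹ by group, e, c, mul_inv_rev] at this
  exact (mul_left_cancel this).symm

theorem mp {u : G} (h2 : w * w = 1) (e : u * x * u⁻¹ = x * z) (hu : w * u * w = u⁻¹)
    (hx : w * x = x * w) (hz : w * z * w = z) : u⁻¹ * x * u = x * z := by
  have := congrArg (fun g => w * g * w) e
  simpa only [cj_mul h2, cj_inv' h2, hu, cj_fix h2 hx, hz, inv_inv] using this

theorem mm {u : G} (h2 : w * w = 1) (e : u * x * u⁻¹ = x * z) (c : x * z = z * x)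
    (hu : w * u * w = u⁻¹) (hx : w * x * w = x⁻¹) (hz : w * z * w = z⁻¹) : u⁻¹ * x * u = x * z := by
  have := congrArg (fun g => w * g * w) e
  simp only [cj_mul h2, cj_inv' h2, hu, hx, hz, inv_inv] at this
  rw [c, ← inv_inj, mul_inv_rev z, ← this]
  group

end KSSx

open KSSx

/-! ### KSS -/
theorem Cx.sign1 (k : Cx d) (hab : a ≠ b) (hw : w ∈ St G a b) (h2 : w * w = 1) (h1 : w ≠ 1)
    (h : d.P a ⊓ C{w} ≤ d.A a b) : False := by
  obtain ⟨x, hx, x1, ex⟩ := exists_x k hab hw h2 h1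
  obtain ⟨u, hu, u1, u2, e | e⟩ := exists_u k hab hw h2
  · exact u2 (norm_self _ (h ⟨hu, mem_C1.2 e.symm⟩))
  obtain ⟨z, hz, e1, e2, -, e4⟩ := step k hab hx x1 hu u1 u2
  refine e4 (mm h2 e1 e2 e ex ?_)
  obtain ⟨c, hc, y, hy, a1, a2, rfl⟩ :=
    dec_inv (odd_le k ((k.M_le a).trans (d.P_le a))) h2 (k.norm_M a hw.1) hz.1
  obtain rfl : c = 1 := mem_bot.1 ((k.MA a b hab).le ⟨hc, h ⟨k.M_le a hc, mem_C1.2 a1.symm⟩⟩)
  rwa [one_mul]
theorem Cx.sign2 (k : Cx d) (hab : a ≠ b) (hw : w ∈ St G a b) (h2 : w * w = 1) (h1 : w ≠ 1)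
    (h : ∀ u ∈ d.P a, ∃ c ∈ d.P a ⊓ C{w}, ∃ y ∈ d.A a b, u = c * y) : False := by
  obtain ⟨x, hx, x1, ex⟩ := exists_x k hab hw h2 h1
  have wi := inv_eq_of_mul_eq_one_right h2
  have hM : ∀ z ∈ d.M a, w * z * w = z := fun z hz => by
    obtain ⟨c, hc, y, hy, rfl⟩ := h z (k.M_le a hz)
    have m1 := mul_mem (inv_mem hz) (conj_mem (k.norm_M a hw.1) hz)
    have m2 := mul_mem (inv_mem hy) (conj_mem (k.norm_A a b hw) hy)
    have e : (c * y)⁻¹ * (w * (c * y) * w⁻¹) = y⁻¹ * (w * y * w⁻¹) := by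
      rw [← mul_assoc w, ← mem_C1.1 hc.2]; group
    have := mem_bot.1 ((k.MA a b hab).le ⟨m1, e ▸ m2⟩)
    rw [inv_mul_eq_one, wi] at this
    exact this.symm
  refine k.P_not_le hab fun u hu => ?_
  obtain ⟨c, hc, y, hy, rfl⟩ := h u hu
  refine mul_mem ?_ (norm_self _ hy)
  have cU := d.P_le a hc.1
  have m1 := k.comm_W hx cU
  obtain ⟨z, hz⟩ : ∃ z, c * x * c⁻¹ = x * z := ⟨x⁻¹ * (c * x * c⁻¹), by group⟩
  rw [hz, inv_mul_cancel_left] at m1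
  have := congrArg (fun g => w * g * w) hz
  simp only [cj_mul h2, cj_inv' h2, cj_fix h2 (mem_C1.1 hc.2).symm, ex, hM z m1] at this
  rw [show c * x⁻¹ * c⁻¹ = (c * x * c⁻¹)⁻¹ by group, hz] at this
  obtain rfl : z = 1 := eq_one_of_conj_inv (y := x⁻¹) (odd_el k (inv_mem hx.1.1))
    (odd_el k (d.P_le a (k.M_le a m1))) (by rw [← this]; group)
  rw [mul_one, mul_inv_eq_iff_eq_mul] at hz
  exact (KSSx.mem_C k hab hx x1 cU).2 hz
theorem Cx.inv_W (k : Cx d) (hab : a ≠ b) (hw : w ∈ St G a b) (h2 : w * w = 1) (h1 : w ≠ 1)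
    (h : (∀ z ∈ d.M a ⊓ N[d.A a b], w * z * w = z) ∨ ∀ z ∈ d.M a ⊓ N[d.A a b], w * z * w = z⁻¹) :
    ∀ x ∈ d.W a b, w * x * w = x⁻¹ := by
  intro x' hx'
  obtain ⟨c, hc, y, hy, a1, a2, rfl⟩ :=
    dec_inv (odd_le k ((d.W_le a b).trans (d.A_le a b))) h2 (k.norm_W a b hw) hx'
  suffices c = 1 by rwa [this, one_mul]
  by_contra c1
  obtain ⟨x, hx, x1, ex⟩ := exists_x k hab hw h2 h1
  obtain ⟨u, hu, u1, u2, e⟩ := exists_u k hab hw h2
  obtain ⟨z, hz, e1, e2, e3, e4⟩ := step k hab hx x1 hu u1 u2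
  obtain ⟨z', hz', e1', e2', e3', e4'⟩ := step k hab hc c1 hu u1 u2
  rcases e with e | e <;> rcases h with h | h
  · exact e3 ((h z hz).symm.trans (pm h2 e1 e2 e ex))
  · exact e3' ((KSSx.pp h2 e1' e a1).symm.trans (h z' hz'))
  · exact e4' (mp h2 e1' e a1 (h z' hz'))
  · exact e4 (mm h2 e1 e2 e ex (h z hz))
theorem cyc_pm (hp : p.Prime) (ho : Odd p) (hX : IsPi {p} X) (hc : Cyc X) (h2 : w * w = 1)
    (hn : w ∈ N[X]) : (∀ z ∈ X, w * z * w = z) ∨ ∀ z ∈ X, w * z * w = z⁻¹ := by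
  obtain ⟨g, rfl⟩ := cyc_iff.1 hc
  obtain ⟨n, e⟩ := hX.card_eq_pow hp
  obtain ⟨c, hc, y, hy, a1, a2, a3⟩ := dec_inv (e ▸ ho.pow) h2 hn (mem_zpowers g)
  obtain ⟨i, rfl⟩ := mem_powers_iff_mem_zpowers.2 hc
  obtain ⟨j, rfl⟩ := mem_powers_iff_mem_zpowers.2 hy
  rw [card_zpowers'] at e
  have key : ∀ i : ℕ, ¬ p ∣ i → zpowers g ≤ zpowers (g ^ i) := fun i hi =>
    zpowers_le.2 (mem_zpowers_pow_iff.2 (e ▸ ((Nat.Prime.coprime_iff_not_dvd hp).2 hi).symm.pow_right n))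
  by_cases hi : p ∣ i
  · by_cases hj : p ∣ j
    · refine .inl fun z hz => ?_
      have h3 : 1 ≡ i + j [MOD orderOf g] := pow_eq_pow_iff_modEq.1 (by rw [pow_one, pow_add]; exact a3)
      obtain rfl : g = 1 := by
        by_contra g1
        have := (h3.of_dvd ((hX.piElt (mem_zpowers g)).dvd_orderOf g1)).trans
          (Nat.modEq_zero_iff_dvd.2 (hi.add hj))
        exact hp.one_lt.ne' (Nat.dvd_one.1 (Nat.modEq_zero_iff_dvd.1 this))
      rw [zpowers_one_eq_bot, mem_bot] at hz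
      rw [hz, mul_one, h2]
    · refine .inr fun z hz => ?_
      obtain ⟨l, rfl⟩ := mem_powers_iff_mem_zpowers.2 (key j hj hz)
      exact inv_pow_of h2 a2 l
  · refine .inl fun z hz => cj_fix h2 ?_
    exact (mem_C1.1 ((zpowers_le (H := C{w})).2 (mem_C1.2 a1.symm) (key i hi hz))).symm

end H1.KS
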