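import Mathlib
import Cfsg.Agent.H1.KS0
import Cfsg.Agent.H1.KSS

set_option autoImplicit false
set_option linter.unusedSectionVars false
set_option linter.unusedVariables false

namespace H1.KS

open Cfsg H24 MulAction Subgroup

universe u

variable {G Ω : Type u} [Group G] [Finite G] [MulAction G Ω] [Finite Ω] {U : Ω → Subgroup G}
  {d : Dt G Ω} {a b c : Ω} {t w x y z : G} {p m : ℕ} {X L N : Subgroup G} {Φ : Set Ω}

/-! ### KSC -/

namespace KSCx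

theorem odd_one (k : Cx d) (hab : a ≠ b) (hx : x ∈ d.D0 a b) (h : x * x = 1) : x = 1 := by
  obtain ⟨m, hm⟩ := Odd.of_dvd_nat (k.D0_odd hab) (orderOf_dvd_card' hx)
  have := pow_orderOf_eq_one x
  rwa [hm, pow_succ, pow_mul, sq, h, one_pow, one_mul] at this

theorem other (k : Cx d) (hab : a ≠ b) (c : Ω) : ∃ e ∈ d.Ln a b, c ≠ e := by
  by_cases h : c = a
  exacts [⟨b, k.right_Ln a b, h ▸ hab⟩, ⟨a, k.left_Ln a b, h⟩]

end KSCx
open KSCx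

theorem Cx.exists_t (k : Cx d) (hab : a ≠ b) : ∃ t, Tt d t a b := by
  obtain ⟨x, hx, h1, h2⟩ := Sub.two k.sp (k.sub0 hab) (k.k_three hab) a (k.left_Ln a b) b
    (k.right_Ln a b) b (k.right_Ln a b) a (k.left_Ln a b) hab hab.symm
  obtain ⟨t, ht, s⟩ := exists_swp hab hx h1 h2 (by rw [inf_comm]; exact k.D0_odd hab)
  exact ⟨t, s, ht⟩

theorem Tt.mul_mem (k : Cx d) {t' : G} (s : Tt d t a b) (s' : Tt d t' a b) :
    t * t' ∈ Ks t (d.D0 a b) :=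
  ⟨d.mem_D0.2 ⟨⟨by rw [mul_smul, s'.sw.ab, s.sw.ba], by rw [mul_smul, s'.sw.ba, s.sw.ab]⟩,
    Subgroup.mul_mem _ s.cw s'.cw⟩, by
    rw [← mul_assoc, s.sw.sq, one_mul, mul_inv_rev, s.sw.inv_eq, s'.sw.inv_eq]⟩

theorem Tt.mul (k : Cx d) (s : Tt d t a b) (hy : y ∈ Ks t (d.D0 a b)) : Tt d (t * y) a b := by
  obtain ⟨⟨h1, h2⟩, h3⟩ := d.mem_D0.1 hy.1
  exact ⟨⟨s.sw.ne, by rw [← mul_assoc, hy.2, inv_mul_cancel], by rw [mul_smul, h1, s.sw.ab],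
    by rw [mul_smul, h2, s.sw.ba]⟩, Subgroup.mul_mem _ s.cw h3⟩

theorem Tt.conj (k : Cx d) {t' : G} (s : Tt d t a b) (s' : Tt d t' a b) :
    ∃ e ∈ d.D0 a b, e * t * e⁻¹ = t' := by
  have h := (s.mul_mem k s').1
  obtain ⟨e, he, h1⟩ := inv_conj s.sw.sq s'.sw.sq
    (Odd.of_dvd_nat (k.D0_odd s.sw.ne) (orderOf_dvd_card' h))
  exact ⟨e, zpowers_le.2 h he, h1⟩

theorem Tt.cent (k : Cx d) (s : Tt d t a b) (hx : x ∈ C[d.W a b]) (hf : ∀ c ∈ d.Ln a b, x • c = c) :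
    t * x = x * t := by
  have hab := s.sw.ne
  have sb := k.sub0 hab
  have two := Sub.two k.sp sb (k.k_three hab)
  obtain ⟨K0, hK⟩ : ∃ K0 : Subgroup G, ∀ g, g ∈ K0 ↔ g ∈ C[d.W a b] ∧ ∀ c ∈ d.Ln a b, g • c = c :=
    ⟨C[d.W a b] ⊓ fixingSubgroup G (d.Ln a b), fun g =>
      and_congr_right fun _ => mem_fixingSubgroup_iff G⟩
  have n0 : C[d.W a b] ≤ N[K0] := le_N_iff.2 fun g hg y hy => (hK _).2
    ⟨Subgroup.mul_mem _ (Subgroup.mul_mem _ hg ((hK y).1 hy).1) (Subgroup.inv_mem _ hg),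
      fun c hc => by
        rw [mul_smul, mul_smul, ((hK y).1 hy).2 _ (sb.inv _ (Subgroup.inv_mem _ hg) c hc),
          smul_inv_smul]⟩
  have n1 : C[d.W a b] ≤ N[C[d.W a b] ⊓ C[K0]] := norm_inf (norm_self _) (norm_C n0)
  obtain ⟨z, hz, z1⟩ := (bot_or_exists_ne_one _).resolve_left (k.Z_ne hab)
  have zW : z ∈ C[d.W a b] := C_anti ((d.W_le a b).trans (d.A_le a b)) (k.Z_cent a hz)
  have zK : z ∈ C[K0] := mem_C'.2 fun y hy => by
    have y1 := ((hK y).1 hy).2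
    have h1 : z * (y * z⁻¹ * y⁻¹) ∈ d.Z a :=
      Subgroup.mul_mem _ hz (conj_mem (k.norm_Z a (y1 a (k.left_Ln a b))) (Subgroup.inv_mem _ hz))
    have h2 := K0.mul_mem (conj_mem (n0 zW) hy) (K0.inv_mem hy)
    have h3 := k.Z_semi h1 hab.symm (by
      simpa only [mul_assoc] using ((hK _).1 h2).2 b (k.right_Ln a b))
    calc z * y = z * (y * z⁻¹ * y⁻¹) * (y * z) := by group
      _ = _ := by rw [h3, one_mul]
  have ev : 2 ∣ ♯(C[d.W a b] ⊓ C[K0]) := by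
    rw [card_orbit (L := C[d.W a b] ⊓ C[K0]) (k.left_Ln a b) (fun g hg => sb.inv g hg.1)
      fun c hc => ?_]
    · exact (even_iff_two_dvd.1 (k.k_even hab)).mul_right _
    by_cases h : a = c
    · exact ⟨1, one_mem _, by rw [one_smul, h]⟩
    obtain ⟨g, hg, h1, h2⟩ := two b (k.right_Ln a b) _ (sb.inv z zW b (k.right_Ln a b)) a
      (k.left_Ln a b) c hc (fun e => z1 (k.Z_semi hz hab.symm e.symm)) h
    exact ⟨g * z * g⁻¹, conj_mem (n1 hg) ⟨zW, zK⟩, by rw [← h1, mul_smul, inv_smul_smul, mul_smul, h2]⟩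
  obtain ⟨r, hr, r2⟩ := exists_orderOf_eq Nat.prime_two ev
  have rr : r * r = 1 := by rw [← sq, ← r2, pow_orderOf_eq_one]
  obtain ⟨e, he, h1⟩ : ∃ e ∈ d.Ln a b, e ≠ r • e := by
    by_contra h
    push Not at h
    rw [odd_one k hab (d.mem_D0.2 ⟨⟨(h a (k.left_Ln a b)).symm, (h b (k.right_Ln a b)).symm⟩, hr.1⟩)
      rr, orderOf_one] at r2
    omega
  obtain ⟨g, hg, h2, h3⟩ := two e he _ (sb.inv r hr.1 e he) a (k.left_Ln a b) b (k.right_Ln a b) h1 hab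
  have h4 := conj_mem (n1 hg) hr
  obtain ⟨f, hf', h5⟩ := Tt.conj k (t := g * r * g⁻¹) ⟨⟨hab, by rw [conj_mul, rr]; group,
    by rw [← h2, mul_smul, inv_smul_smul, mul_smul, h3], by
      rw [← h3, mul_smul, inv_smul_smul, mul_smul, smul_smul r, rr, one_smul, h2]⟩, h4.1⟩ s
  exact mem_C'.1 (h5 ▸ conj_mem (n1 hf'.2) h4).2 x ((hK x).2 ⟨hx, hf⟩)

theorem Tt.fpf (k : Cx d) (s : Tt d t a b) (c : Ω) : t • c ≠ c := fun hc => by
  have hab := s.sw.ne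
  have h1 : ∀ e ∈ d.Ln a b, t • e ≠ e := fun e he h => by
    have h2 := card_fix_inv s.sw.sq fun c hc => by
      have := (k.sub0 hab).inv t s.cw c hc
      exact this
    have h3 : 0 < (d.Ln a b ∩ fixedBy Ω t).ncard := (Set.ncard_pos (Set.toFinite _)).2 ⟨e, he, h⟩
    obtain ⟨j, hj⟩ := k.k_even hab
    obtain ⟨e', ⟨a1, a2⟩, a3⟩ := Set.exists_ne_of_one_lt_ncard
      (s := d.Ln a b ∩ fixedBy Ω t) (by rw [Nat.ModEq] at h2; omega) e
    exact s.sw.ne_one (odd_one k a3 (d.mem_D0.2 ⟨⟨a2, h⟩, by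
      rw [k.W_eq hab a1 he a3]; exact s.cw⟩) s.sw.sq)
  obtain ⟨x, hx, x1⟩ := (bot_or_exists_ne_one _).resolve_left (k.W1 a b hab)
  have h2 := card_fix_mod (Φ := fixedBy Ω t) k.pp
    ((k.P_pi a).of_le ((d.W_le a b).trans (k.pA a b hab))) fun g hg e he => by
      rw [mem_fixedBy, smul_smul, mem_C'.1 s.cw g hg, mul_smul, mem_fixedBy.1 he]
  rw [show fixedBy Ω t ∩ Fx Ω (d.W a b) = ∅ from Set.eq_empty_of_forall_notMem fun e he =>
    h1 e (k.fix_W hab hx x1 ▸ he.2 x hx) he.1, Set.ncard_empty] at h2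
  have h3 : d.p ∣ (fixedBy Ω t).ncard := Nat.modEq_zero_iff_dvd.1 h2
  have h4 : 0 < (fixedBy Ω t).ncard := (Set.ncard_pos (Set.toFinite _)).2 ⟨c, hc⟩
  obtain ⟨e, he, ec⟩ := Set.exists_ne_of_one_lt_ncard (s := fixedBy Ω t)
    (k.pp.one_lt.trans_le (Nat.le_of_dvd h4 h3)) c
  have sb := k.sub_inv s.sw.sq
  have h5 := nml_fix (X := d.P c ⊓ C{t}) (L := d.U c ⊓ C{t}) (Φ := fixedBy Ω t \ {c})
    ⟨inf_le_inf_right _ (d.P_le c), norm_inf (inf_le_left.trans ((k.sp.le_stab c).trans (k.norm_P c)))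
      (norm_C1 inf_le_right)⟩
    (fun g hg e he => ⟨sb.inv g hg.2 e he.1, fun h => he.2 (by
      rw [Set.mem_singleton_iff] at h ⊢
      rwa [← k.sp.fix c g hg.1, smul_left_cancel_iff] at h)⟩)
    (fun e he e' he' => by
      obtain ⟨u, a1, a2, a3⟩ := sb.tr c hc e he.1 e' he'.1 he.2 he'.2
      exact ⟨u, ⟨a1, a2⟩, a3⟩) (by
      obtain ⟨j, hj⟩ := ((k.P_pi c).inf_left C{t}).card_eq_pow k.pp
      rw [hj, Set.ncard_sdiff_singleton_of_mem (s := fixedBy Ω t) hc]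
      refine Nat.Coprime.pow_left _ ((Nat.Prime.coprime_iff_not_dvd k.pp).2 fun h => ?_)
      have := Nat.dvd_sub h3 h
      rw [Nat.sub_sub_self h4] at this
      exact k.pp.one_lt.ne' (Nat.dvd_one.1 this))
  exact k.sign1 ec.symm (mem_St.2 ⟨hc, he⟩) s.sw.sq s.sw.ne_one fun g hg =>
    d.mem_A.2 ⟨d.P_le c hg.1, h5 g hg e ⟨he, ec⟩⟩

end H1.KS
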