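import Mathlib
import Cfsg.Agent.H1.KS0
import Cfsg.Agent.H1.KST
import Cfsg.Agent.H27.PF14

set_option autoImplicit false
set_option linter.unusedSectionVars false
set_option linter.unusedVariables false

namespace H1.KS

open Cfsg H24 MulAction Subgroup

universe u

variable {G Ω : Type u} [Group G] [Finite G] [MulAction G Ω] [Finite Ω] {U : Ω → Subgroup G}
  {d : Dt G Ω} {a b c : Ω} {t w x y z : G} {p m : ℕ} {X L N : Subgroup G} {Φ : Set Ω}

namespace KSFx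

theorem odd_ord (ho : Odd ♯X) (hx : x ∈ X) : Odd (orderOf x) :=
  ho.of_dvd_nat (orderOf_dvd_card' hx)

theorem inv_zp (ht : t * t = 1) (hy : t * y * t = y⁻¹) (hx : x ∈ zpowers y) : t * x * t = x⁻¹ := by
  obtain ⟨k, rfl⟩ := mem_zpowers_iff.1 hx
  have e : t = t⁻¹ := eq_inv_of_mul_eq_one_left ht
  calc _ = t * y ^ k * t⁻¹ := by rw [← e]
    _ = (t * y * t⁻¹) ^ k := conj_zpow.symm
    _ = _ := by rw [← e, hy, inv_zpow]

theorem key (ho : Odd ♯(stabilizer G a)) (s : Swp t a b) (hy : y ∈ Ks t (St G a b))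
    (hx : x ∈ zpowers y) {g : G} (hg : g ∈ C{x}) (e : g • a = b) : x = 1 := by
  refine eq_one_of_conj_inv (y := g⁻¹ * t) (odd_ord ho ?_) (odd_ord ho (zpowers_le.2 hy.1.1 hx)) ?_
  · rw [mem_stabilizer_iff, mul_smul, s.ab, ← e, inv_smul_smul]
  · calc _ = g⁻¹ * (t * x * t⁻¹) * g := by group
      _ = (g⁻¹ * x * g)⁻¹ := by rw [s.inv_eq, inv_zp s.sq hy.2 hx]; group
      _ = _ := by rw [mul_assoc, ← mem_C1.1 hg, inv_mul_cancel_left]

theorem mul_mem_Ks (s : Swp t a b) (s' : Swp w a b) : t * w ∈ Ks t (St G a b) :=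
  ⟨⟨show (t * w) • a = a by rw [mul_smul, s'.ab, s.ba], show (t * w) • b = b by
    rw [mul_smul, s'.ba, s.ab]⟩, by rw [← mul_assoc, s.sq, one_mul, mul_inv_rev, s.inv_eq, s'.inv_eq]⟩

theorem swp_cj (s : Swp t a b) {g : G} (hg : g ∈ St G a b) : Swp (g * t * g⁻¹) a b :=
  have h1 : g • a = a := hg.1
  have h2 : g • b = b := hg.2
  ⟨s.ne, by rw [show g * t * g⁻¹ * (g * t * g⁻¹) = g * (t * t) * g⁻¹ by group, s.sq]; group,
    by rw [mul_smul, mul_smul, inv_smul_eq_iff.2 h1.symm, s.ab, h2],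
    by rw [mul_smul, mul_smul, inv_smul_eq_iff.2 h2.symm, s.ba, h1]⟩

theorem swp_mul (s : Swp t a b) (hy : y ∈ Ks t (St G a b)) : Swp (t * y) a b :=
  ⟨s.ne, by rw [← mul_assoc, hy.2, inv_mul_cancel],
    by rw [mul_smul, show y • a = a from hy.1.1, s.ab],
    by rw [mul_smul, show y • b = b from hy.1.2, s.ba]⟩

theorem pi_closure {D : Subgroup G} (hp : p.Prime) (ho : Odd ♯D) (ht : t * t = 1)
    (hn : t ∈ N[closure (Ks t D)]) (h : ∀ y ∈ Ks t D, PiElt {p}ᶜ y) :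
    IsPi {p}ᶜ (closure (Ks t D)) := by
  have hD : closure (Ks t D) ≤ D := (closure_le _).2 fun y hy => hy.1
  have hK : ∀ y ∈ Ks t D, y ∈ closure (Ks t D) := fun y hy => subset_closure hy
  have gen : ∀ Y : Subgroup G, (∀ y ∈ Ks t D, y ∈ Y) → closure (Ks t D) ≤ Y :=
    fun Y hY => (closure_le _).2 hY
  generalize closure (Ks t D) = H at hn hD hK gen ⊢
  have oH := odd_of_le ho hD
  have n1 := pcore_nml {p}ᶜ H
  have q1 := pcore_quo_pcore {p}ᶜ H
  have tO := N_le_N_pcore {p}ᶜ H hn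
  refine (pcore_pi {p}ᶜ H).of_le ?_
  generalize O[{p}ᶜ, H] = O at n1 q1 tO ⊢
  have one : ∀ y ∈ Ks t D, cs O y ∈ O[{p}, quo H O] → y ∈ O := fun y hy e =>
    (cs_eq_one (n1.norm (hK y hy))).1 (((pcore_pi _ _).piElt e).eq_one (by
      rw [cs, ap_of_mem _ (n1.norm (hK y hy))]
      exact PiElt.map (by simpa [PiElt] using h y hy) _))
  have FH : coq O O[{p}, quo H O] ≤ H := coq_le_of_le_quo n1 (pcore_le _ _)
  have tF : t ∈ N[coq O O[{p}, quo H O]] := norm_coq (zpowers_le.2 tO)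
    (norm_pcore _ (quo_norm O (zpowers_le.2 hn))) (mem_zpowers t)
  have c1 : cs O t ∈ C[O[{p}, quo H O]] := mem_C'.2 fun f hf => by
    obtain ⟨f, fN, rfl⟩ := exists_cs f
    obtain ⟨c, hc, y, hy, e1, e2, rfl⟩ := dec_inv (odd_of_le oH FH) ht tF (mem_coq.2 ⟨fN, hf⟩)
    have cN := coq_le_N _ hc
    have y1 := cs_of_mem (one y ⟨hD (FH hy), e2⟩ (mem_coq.1 hy).2)
    simp only [cs] at y1 ⊢
    rw [ap_mul _ cN (coq_le_N _ hy), y1, mul_one, ← ap_mul _ tO cN, e1, ap_mul _ cN tO]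
  have c2 : quo H O ≤ C[O[{p}, quo H O]] := (quo_le_iff n1.norm).2 (gen _ fun y hy => by
    obtain ⟨k, hk⟩ := odd_ord ho hy.1
    have sH : y ^ (k + 1) ∈ H := pow_mem (hK y hy) _
    have sN := n1.norm sH
    have e : y = y ^ (k + 1) * t * (y ^ (k + 1))⁻¹ * t := by
      rw [← inv_zp ht hy.2 (pow_mem (mem_zpowers y) _),
        show y ^ (k + 1) * t * (t * y ^ (k + 1) * t) * t =
          y ^ (k + 1) * (t * t) * y ^ (k + 1) * (t * t) by group, ht, mul_one, mul_one, ← pow_add,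
        show k + 1 + (k + 1) = 2 * k + 1 + 1 by ring, ← hk, pow_succ, pow_orderOf_eq_one, one_mul]
    refine mem_coq.2 ⟨n1.norm (hK y hy), ?_⟩
    rw [e, cs, ap_mul _ (mul_mem (mul_mem sN tO) (inv_mem sN)) tO, ap_conj _ sN tO]
    exact mul_mem (conj_mem (norm_C (pcore_nml _ _).norm (cs_mem_quo sH sN)) c1) c1)
  exact gen _ fun y hy => one y hy (cent_sub_pcore hp (Sol.quo (H27.Feit_Thompson H oH) O) q1
    ⟨cs_mem_quo (hK y hy) (n1.norm (hK y hy)), c2 (cs_mem_quo (hK y hy) (n1.norm (hK y hy)))⟩)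

end KSFx

open KSFx

/-! ### KSF -/
theorem Sp.kf (h : Sp U) (ho : Odd ♯(stabilizer G a)) (s : Swp t a b) (hy : y ∈ Ks t (St G a b))
    (h1 : y ≠ 1) : (orderOf y).Coprime ♯(U a) ∧ ∀ c, y • c = c → c = a ∨ c = b := by
  have fx : ∀ x ∈ zpowers y, ∀ c : Ω, y • c = c → c ∈ Fx Ω (zpowers x) := fun x hx c e g hg =>
    (zpowers_le (H := stabilizer G c)).2 e (zpowers_le.2 hx hg)
  have c1 : (orderOf y).Coprime ♯(U a) := Nat.coprime_of_dvd fun r hr h2 h3 => by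
    have o := orderOf_pow_orderOf_div (orderOf_pos y).ne' h2
    have m : y ^ (orderOf y / r) ∈ zpowers y := pow_mem (mem_zpowers y) _
    obtain ⟨g, hg, e⟩ := h.gleason hr (h.dvd_n hr h3) (piElt_of_orderOf_prime hr o).isPi
      (fx _ m a hy.1.1) (fx _ m b hy.1.2)
    rw [key ho s hy m (by rwa [C_zpowers] at hg) e, orderOf_one] at o
    exact hr.one_lt.ne o
  refine ⟨c1, fun c hc => by_contra fun hn => ?_⟩
  push Not at hn
  obtain ⟨g, e, -⟩ := h.two a b c b s.ne hn.2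
  obtain ⟨u, -, hu, e⟩ := h.glaub (fx y (mem_zpowers y) c hc)
    (by rw [← e, ← h.eqv, card_cj, Nat.card_zpowers]; exact c1) (fx y (mem_zpowers y) a hy.1.1)
    (fx y (mem_zpowers y) b hy.1.2) hn.1.symm hn.2.symm
  exact h1 (key ho s hy (mem_zpowers y) (by rwa [C_zpowers] at hu) e)

theorem ks_norm (s : Swp t a b) (ho : Odd ♯(St G a b)) :
    St G a b ≤ N[closure (Ks t (St G a b))] ∧ t ∈ N[closure (Ks t (St G a b))] := by
  refine ⟨norm_closure fun g hg y hy => ?_, norm_closure (X := zpowers t) (fun g hg y hy => ?_)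
    (mem_zpowers t)⟩
  · rw [show g * y * g⁻¹ = (t * (g * t * g⁻¹))⁻¹ * (t * (g * (t * y) * g⁻¹)) by group]
    exact mul_mem (inv_mem (subset_closure (mul_mem_Ks s (swp_cj s hg))))
      (subset_closure (mul_mem_Ks s (swp_cj (swp_mul s hy) hg)))
  · obtain ⟨k, rfl⟩ := mem_zpowers_iff.1 hg
    have e : t ^ (2 : ℤ) = 1 := by rw [zpow_two, s.sq]
    rcases Int.even_or_odd' k with ⟨j, rfl | rfl⟩
    · rw [zpow_mul, e, one_zpow, one_mul, inv_one, mul_one]; exact subset_closure hy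
    · rw [zpow_add, zpow_mul, e, one_zpow, one_mul, zpow_one, s.inv_eq, hy.2]
      exact inv_mem (subset_closure hy)

theorem Sp.kcop (h : Sp U) (ho : Odd ♯(stabilizer G a)) (s : Swp t a b) :
    (♯(closure (Ks t (St G a b)))).Coprime ♯(U a) := by
  have o := odd_of_le ho (inf_le_left : St G a b ≤ _)
  refine Nat.coprime_of_dvd fun r hr h2 h3 => (isPi_compl_iff hr).1
    (pi_closure hr o s.sq (ks_norm s o).2 fun y hy => ?_) h2
  by_cases e : y = 1
  · exact e ▸ piElt_one _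
  · exact (piNat_compl_singleton hr).2 fun h4 =>
      hr.one_lt.ne' (Nat.eq_one_of_dvd_coprimes (h.kf ho s hy e).1 h4 h3)

end H1.KS
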