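import Mathlib
import Cfsg.Agent.H1.KS0
import Cfsg.Agent.H1.KSA
import Cfsg.Agent.H1.KSF
import Cfsg.Agent.H21.KSR1
import Cfsg.Agent.S0081
import Cfsg.Agent.S0205

set_option autoImplicit false
set_option linter.unusedSectionVars false
set_option linter.unusedVariables false

namespace H1.KS

open Cfsg H24 MulAction Subgroup

universe u

variable {G Ω : Type u} [Group G] [Finite G] [MulAction G Ω] [Finite Ω] {U : Ω → Subgroup G}
  {d : Dt G Ω} {a b c : Ω} {t w x y z : G} {p m : ℕ} {X L N : Subgroup G} {Φ : Set Ω}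

/-! ### KSH -/
namespace KSHx

theorem sep {H : Type*} [Group H] [Finite H] {x : H} (hx : x ∉ commutator H) :
    ∃ μ : H →* ℂˣ, μ x ≠ 1 := by
  haveI : NeZero (Monoid.exponent (Abelianization H)) := ⟨Monoid.exponent_ne_zero_of_finite⟩
  obtain ⟨φ, hφ⟩ := CommGroup.exists_apply_ne_one_of_hasEnoughRootsOfUnity (Abelianization H) ℂ
    (a := Abelianization.of x) (by rwa [Ne, ← MonoidHom.mem_ker, Abelianization.ker_of])
  exact ⟨φ.comp Abelianization.of, hφ⟩

theorem ex_lin {H : Type*} [Group H] [Finite H] [Group.IsSolvable H] (Y : Subgroup H) [Y.Normal]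
    (hY : Y ≠ ⊤) : ∃ μ : H →* ℂˣ, (∀ y ∈ Y, μ y = 1) ∧ ∃ x, μ x ≠ 1 := by
  haveI : Nontrivial (H ⧸ Y) := QuotientGroup.nontrivial_iff.2 hY
  have h1 := Group.IsSolvable.commutator_lt_top_of_nontrivial (H ⧸ Y)
  obtain ⟨q, -, hq⟩ := SetLike.exists_of_lt h1
  obtain ⟨μ, hμ⟩ := sep hq
  obtain ⟨x, rfl⟩ := QuotientGroup.mk'_surjective Y q
  refine ⟨μ.comp (QuotientGroup.mk' Y), fun y hy => ?_, x, hμ⟩
  rw [MonoidHom.comp_apply, QuotientGroup.mk'_apply, (QuotientGroup.eq_one_iff y).2 hy, map_one]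

theorem faithful (h : Sp U) : FaithfulSMul G Ω :=
  ⟨fun {g g'} e => (inv_mul_eq_one.1 (h.faith _ fun c => by rw [mul_smul, ← e, inv_smul_smul]))⟩

theorem ext (h : Sp U) (ho : Odd ♯(stabilizer G a)) (s : Swp t a b) (hne : U a ≠ ⊥)
    (μ : stabilizer G a →* ℂˣ)
    (hμ : ∀ y : stabilizer G a, (y : G) ∈ Ks t (St G a b) → μ y = 1) :
    ∃ ν : G →* ℂˣ, ∀ x : stabilizer G a, ν x = μ x := by
  haveI := faithful h
  obtain ⟨g, hg, hg1⟩ := exists_ne_one ((h.nil a).center_ne_bot hne)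
  exact H21.KSR.R1 h.two' s.ne ho s.sq s.ab μ (fun y h1 h2 => hμ y ⟨⟨y.2, h1⟩, h2⟩) (U a)
    (h.le_stab a) (fun x hx => h.tr a b x s.ne.symm hx) hg1 (h.fix a g hg.1)
    (fun u hu => mem_C'.1 hg.2 u hu)

theorem B_dec (h : Sp U) (hab : a ≠ b) (hx : x • a = a) : ∃ u ∈ U a, u⁻¹ * x ∈ St G a b := by
  obtain ⟨u, hu, e⟩ := h.tr a b (x • b) hab.symm (smul_ne hx hab.symm)
  exact ⟨u, hu, mem_St.2 ⟨by rw [mul_smul, hx, inv_smul_eq_iff, h.fix a u hu],
    by rw [mul_smul, ← e, inv_smul_smul]⟩⟩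

theorem ne_bot (h : Sp U) (gen : (⨆ c, U c) = ⊤) (s : Swp t a b) : U a ≠ ⊥ := by
  intro e
  have h1 := h.gen_closure gen a
  have h2 : normalClosure (U a : Set G) ≤ ⊥ := normalClosure_le_normal fun u hu => e ▸ hu
  exact s.ne_one (mem_bot.1 (h2 (h1 ▸ mem_top t)))

theorem bot_of_small (h : Sp U) (hab : a ≠ b) (h3 : ¬ 3 ≤ Nat.card Ω) (hx : x • a = a) : x = 1 := by
  have key : ∀ c, c ≠ a → c = b := by
    intro c hc
    by_contra hb
    apply h3
    have : ({a, b, c} : Set Ω).ncard = 3 :=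
      Set.ncard_eq_three.2 ⟨a, b, c, hab, hc.symm, Ne.symm hb, rfl⟩
    rw [← this, ← Set.ncard_univ]
    exact Set.ncard_le_ncard (Set.subset_univ _)
  refine h.faith x fun c => ?_
  by_cases hc : c = a
  · rw [hc, hx]
  · rw [key _ (smul_ne hx hc), key c hc]

theorem swp_mul (s : Swp t a b) (hy : y ∈ Ks t (St G a b)) : Swp (t * y) a b :=
  ⟨s.ne, by rw [← mul_assoc, hy.2, inv_mul_cancel], by rw [mul_smul, hy.1.1, s.ab],
    by rw [mul_smul, hy.1.2, s.ba]⟩

theorem mul_mem_Ks {t' : G} (s : Swp t a b) (s' : Swp t' a b) : t * t' ∈ Ks t (St G a b) :=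
  ⟨mem_St.2 ⟨by rw [mul_smul, s'.ab, s.ba], by rw [mul_smul, s'.ba, s.ab]⟩, by
    rw [← mul_assoc, s.sq, one_mul, mul_inv_rev, s.inv_eq, s'.inv_eq]⟩

theorem swp_mem (hN : N.Normal) {t' : G} (ho : Odd ♯(St G a b)) (s : Swp t a b) (s' : Swp t' a b)
    (h : t' ∈ N) : t ∈ N := by
  obtain ⟨e, -, he⟩ := inv_conj s'.sq s.sq
    (Odd.of_dvd_nat ho (orderOf_dvd_card' (mul_mem_Ks s' s).1))
  rw [← he]; exact hN.conj_mem _ h e

theorem mem_dag (h : Sp U) (h3 : 3 ≤ Nat.card Ω) (ho : Odd ♯(stabilizer G a)) (s : Swp t a b) :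
    t ∈ ⨆ c, U c := by
  obtain ⟨hN, h', -⟩ := h.dag h3
  have hD : Odd ♯(St G a b) := odd_of_le ho inf_le_left
  obtain ⟨x, h1, h2⟩ := h'.two a b b a s.ne s.ne.symm
  obtain ⟨t', ht', s'⟩ := exists_swp s.ne x.2 h1 h2 (odd_of_le hD inf_le_right)
  exact swp_mem hN hD s s' ht'

theorem odd_sub (L : Subgroup G) (ho : Odd ♯(stabilizer G a)) : Odd ♯(stabilizer L a) := by
  have : stabilizer L a = (stabilizer G a).subgroupOf L := by ext; rfl
  rw [this, card_subgroupOf]; exact odd_of_le ho inf_le_left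

theorem nml_tr (h : Sp U) (hN : N.Normal) (hx : x ∈ N) (h1 : x ≠ 1) (a b : Ω) :
    ∃ g ∈ N, g • a = b := by
  by_cases hab : a = b
  · exact ⟨1, one_mem _, by rw [one_smul, hab]⟩
  obtain ⟨c, hc⟩ : ∃ c : Ω, x • c ≠ c := by
    by_contra! hc; exact h1 (h.faith x hc)
  obtain ⟨g, h2, h3⟩ := h.two c (x • c) a b hc.symm hab
  exact ⟨g * x * g⁻¹, hN.conj_mem _ hx g, by rw [← h2, mul_smul, inv_smul_smul, mul_smul, h3]⟩

theorem card_G (h : Sp U) (hab : a ≠ b) : Nat.card G = Nat.card Ω * ♯(stabilizer G a) := by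
  haveI : IsPretransitive G Ω := ⟨fun c e => by
    by_cases hc : c = e
    · exact ⟨1, by rw [one_smul, hc]⟩
    · obtain ⟨g, -, hg⟩ := h.two e c c e (Ne.symm hc) hc; exact ⟨g, hg⟩⟩
  rw [← (stabilizer G a).index_mul_card, index_stabilizer_of_transitive]

end KSHx

open KSHx

theorem Sp.d_eq (h : Sp U) (gen : (⨆ c, U c) = ⊤) (ho : Odd ♯(stabilizer G a)) (s : Swp t a b) :
    St G a b = (U a ⊓ stabilizer G b) ⊔ closure (Ks t (St G a b)) := by
  have hD : Odd ♯(St G a b) := odd_of_le ho inf_le_left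
  have hH : closure (Ks t (St G a b)) ≤ St G a b := (closure_le _).2 fun y hy => hy.1
  have hHB : closure (Ks t (St G a b)) ≤ stabilizer G a := hH.trans inf_le_left
  have hY : U a ⊔ closure (Ks t (St G a b)) ⊴ stabilizer G a := by
    refine ⟨sup_le (h.le_stab a) hHB, fun x hx => ?_⟩
    obtain ⟨u, hu, e⟩ := B_dec h s.ne hx
    have h1 : u⁻¹ * x ∈ N[U a ⊔ closure (Ks t (St G a b))] :=
      norm_sup (inf_le_left.trans (h.norm a)) (ks_norm s hD).1 e
    have h2 := mul_mem (norm_self _ (mem_sup_left hu)) h1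
    rwa [mul_inv_cancel_left] at h2
  have hYB : U a ⊔ closure (Ks t (St G a b)) = stabilizer G a := by
    by_contra hne
    haveI := Cfsg.Agent.S0205.result ho
    haveI := hY.normal
    obtain ⟨μ, h1, x, h2⟩ := ex_lin ((U a ⊔ closure (Ks t (St G a b))).subgroupOf (stabilizer G a))
      (fun e => hne (le_antisymm hY.le (subgroupOf_eq_top.1 e)))
    obtain ⟨ν, hν⟩ := ext h ho s (ne_bot h gen s) μ fun y hy =>
      h1 y (mem_sup_right (subset_closure hy))
    have h3 : normalClosure (U a : Set G) ≤ ν.ker := normalClosure_le_normal fun u hu => by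
      rw [SetLike.mem_coe, MonoidHom.mem_ker, hν ⟨u, h.le_stab a hu⟩]
      exact h1 _ (mem_sup_left hu)
    rw [h.gen_closure gen a] at h3
    exact h2 (by rw [← hν]; exact h3 (mem_top _))
  have h4 := group_modr (A := U a) (L := St G a b) (hHB.trans (h.norm a)) hH
  rw [hYB, inf_eq_right.2 (inf_le_left : St G a b ≤ _)] at h4
  rw [← inf_assoc, inf_eq_left.2 (h.le_stab a)] at h4
  exact h4.symm

namespace KSHx

theorem te_gen (h : Sp U) (gen : (⨆ c, U c) = ⊤) (ho : Odd ♯(stabilizer G a)) (s : Swp t a b)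
    (h1 : ∀ y ∈ Ks t (St G a b), y = 1) : Cyc (U a) := by
  have hB : stabilizer G a = U a := by
    refine le_antisymm (fun x hx => ?_) (h.le_stab a)
    obtain ⟨u, hu, e⟩ := B_dec h s.ne hx
    rw [h.d_eq gen ho s] at e
    have h2 : (U a ⊓ stabilizer G b) ⊔ closure (Ks t (St G a b)) ≤ U a :=
      sup_le inf_le_left ((closure_le _).2 fun y hy => by rw [h1 y hy]; exact one_mem _)
    have := mul_mem hu (h2 e)
    rwa [mul_inv_cancel_left] at this
  have hG := card_G h s.ne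
  have hv : 2 ≤ Nat.card Ω := by
    haveI : Nontrivial Ω := ⟨⟨a, b, s.ne⟩⟩
    exact Finite.one_lt_card
  have hcop : ∀ r : ℕ, r.Prime → r ∣ ♯(U a) → ¬ r ∣ Nat.card Ω := by
    intro r hr h2 h3
    have h4 := Nat.dvd_sub h3 (h.dvd_n hr h2)
    rw [show Nat.card Ω - (Nat.card Ω - 1) = 1 by omega] at h4
    exact hr.one_lt.ne' (Nat.dvd_one.1 h4)
  -- focal subgroup
  have hfoc : commutator G ⊓ U a ≤ ⁅U a, U a⁆ := by
    rintro x ⟨hx, hxU⟩
    by_contra hn
    have h2 : (⟨x, h.le_stab a hxU⟩ : stabilizer G a) ∉ commutator (stabilizer G a) := by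
      intro h3
      apply hn
      rw [← hB, der1_eq_map]
      exact ⟨_, h3, rfl⟩
    obtain ⟨μ, hμ⟩ := sep h2
    obtain ⟨ν, hν⟩ := ext h ho s (ne_bot h gen s) μ fun y hy => by
      rw [show y = 1 from Subtype.ext (h1 y hy), map_one]
    exact hμ (by rw [← hν]; exact Abelianization.commutator_subset_ker ν hx)
  have hcomp : ∀ r : ℕ, r.Prime → r ∣ ♯(U a) → ∀ x ∈ commutator G, ∀ y ∈ commutator G,
      ¬ r ∣ orderOf x → ¬ r ∣ orderOf y → ¬ r ∣ orderOf (x * y) := by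
    intro r hr hru x hx y hy h2 h3
    haveI := Fact.mk hr
    have hdp := (h.nil a).pcoreC {r}
    have hP : Syl r ⊤ O[{r}, U a] := ((h.nil a).pcore_hall {r}).of_idx le_top (by
      rw [piNat_compl_singleton hr, relIndex_top_right]
      have h4 := (U a).index_mul_card
      rw [hG, hB] at h4
      rw [Nat.eq_of_mul_eq_mul_right (card_pos _) h4]
      exact hcop r hr hru)
    obtain ⟨P, hPe⟩ := hP.exists_sylow_top hr
    obtain ⟨Q, M, hM, hc⟩ := Cfsg.Agent.S0081.result P (commutator G) (by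
      rw [hPe]
      refine le_trans ?_ (hP.pi.der1_le_Phi hr)
      have h5 : commutator G ⊓ O[{r}, U a] ≤ ⁅U a, U a⁆ ⊓ O[{r}, U a] :=
        le_inf ((inf_le_inf_left _ hdp.left_le).trans hfoc) inf_le_right
      refine h5.trans ?_
      conv_lhs => rw [← hdp.sup, der1_sup_of_cent hdp.cent, hdp.sup]
      rw [← group_modl (norm_of_cent (cents_of_le ((der1_le _).trans hdp.cent) (der1_le _)))
        (der1_le _)]
      refine sup_le le_rfl ?_
      rw [eq_bot_of_le (by rw [inf_comm]; exact hdp.inf) (inf_le_inf_right _ (der1_le _))]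
      exact bot_le)
    have hMr : ¬ r ∣ Nat.card M := by rw [← hc.index_eq_card]; exact Q.not_dvd_index
    have hmem : ∀ x : commutator G, ¬ r ∣ orderOf (x : G) → x ∈ M := by
      intro x h4
      rw [orderOf_coe] at h4
      obtain ⟨k, hk⟩ := IsPGroup.iff_card.1 Q.isPGroup'
      have h5 := M.pow_index_mem x
      rw [hc.symm.index_eq_card, hk] at h5
      obtain ⟨j, hj⟩ := exists_pow_eq_self_of_coprime (x := x) (n := r ^ k)
        (Nat.Coprime.pow_left _ ((Nat.Prime.coprime_iff_not_dvd hr).2 h4))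
      rw [← hj]; exact pow_mem h5 j
    intro h4
    have h5 := orderOf_dvd_card' (mul_mem (hmem ⟨x, hx⟩ h2) (hmem ⟨y, hy⟩ h3))
    rw [← orderOf_coe] at h5
    exact hMr (h4.trans h5)
  let E : Subgroup G :=
    { carrier := {x | x ∈ commutator G ∧ ∀ r : ℕ, r.Prime → r ∣ ♯(U a) → ¬ r ∣ orderOf x}
      one_mem' := ⟨one_mem _, fun r hr _ h => hr.one_lt.ne' (by rwa [orderOf_one, Nat.dvd_one] at h)⟩
      mul_mem' := fun {x y} hx hy => ⟨mul_mem hx.1 hy.1, fun r hr hru =>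
        hcomp r hr hru x hx.1 y hy.1 (hx.2 r hr hru) (hy.2 r hr hru)⟩
      inv_mem' := fun {x} hx => ⟨inv_mem hx.1, by simpa only [orderOf_inv] using hx.2⟩ }
  have hE : E.Normal := ⟨fun x hx g => ⟨Normal.conj_mem inferInstance _ hx.1 g, by
    simpa only [orderOf_conj] using hx.2⟩⟩
  have hsup : commutator G ⊔ U a = ⊤ := by
    haveI : (commutator G ⊔ U a).Normal := nml_top_iff.1 (nml_of_der1_le le_sup_left le_top)
    rw [eq_top_iff, ← h.gen_closure gen a]
    exact normalClosure_le_normal fun u hu => mem_sup_right hu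
  obtain ⟨q, hq, hqv⟩ := Nat.exists_prime_and_dvd (show Nat.card Ω ≠ 1 by omega)
  have hqN : q ∣ ♯(commutator G) := by
    have h2 := card_sup (A := commutator G) (B := U a) (norm_of_normal _ _)
    rw [hsup, card_top, hG, hB] at h2
    have h4 : ♯(commutator G) = Nat.card Ω * ♯(commutator G ⊓ U a) := by
      refine Nat.eq_of_mul_eq_mul_right (card_pos (U a)) ?_
      rw [← h2]; ring
    rw [h4]; exact hqv.mul_right _
  haveI := Fact.mk hq
  obtain ⟨x, hx⟩ := exists_prime_orderOf_dvd_card' q hqN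
  rw [← orderOf_coe] at hx
  have hxE : (x : G) ∈ E := ⟨x.2, fun r hr hru h2 => by
    rw [hx, Nat.prime_dvd_prime_iff_eq hr hq] at h2
    exact hcop r hr hru (h2 ▸ hqv)⟩
  have hx1 : (x : G) ≠ 1 := fun e => hq.one_lt.ne' (by rw [← hx, e, orderOf_one])
  refine h.aff_cyc (hB ▸ ho) hE (nml_tr h hE hxE hx1) fun g hg c hc => ?_
  by_contra hg1
  obtain ⟨k, hk, e⟩ := nml_tr h hE hxE hx1 c a
  have h2 : k * g * k⁻¹ ∈ U a := by
    rw [← hB, mem_stabilizer_iff, ← e, mul_smul, inv_smul_smul, mul_smul, hc]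
  obtain ⟨r, hr, hrg⟩ := Nat.exists_prime_and_dvd (show orderOf g ≠ 1 by rwa [Ne, orderOf_eq_one_iff])
  exact hg.2 r hr (hrg.trans (by rw [← orderOf_conj k g]; exact orderOf_dvd_card' h2)) hrg

end KSHx

theorem Sp.te (h : Sp U) (ho : Odd ♯(stabilizer G a)) (s : Swp t a b)
    (h1 : ∀ y ∈ Ks t (St G a b), y = 1) : Cyc (U a) := by
  by_cases h3 : 3 ≤ Nat.card Ω
  · obtain ⟨hN, h', gen⟩ := h.dag h3
    have ht := mem_dag h h3 ho s
    have s' : Swp (⟨t, ht⟩ : ↥(⨆ c, U c)) a b := ⟨s.ne, Subtype.ext s.sq, s.ab, s.ba⟩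
    have := te_gen h' gen (odd_sub _ ho) s' fun y hy =>
      Subtype.ext (h1 y ⟨hy.1, congrArg Subtype.val hy.2⟩)
    exact isCyclic_of_surjective (subgroupOfEquivOfLe (le_iSup U a))
      (subgroupOfEquivOfLe (le_iSup U a)).surjective
  · have : U a = ⊥ := eq_bot_iff.2 fun u hu => mem_bot.2 (bot_of_small h s.ne h3 (h.fix a u hu))
    rw [this]; infer_instance

end H1.KS
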