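import Mathlib
import Cfsg.Agent.H1.KS0
import Cfsg.Agent.H1.KSH
import Cfsg.Agent.H21.KSR2
import Cfsg.Agent.H21.Feit6
import Cfsg.Agent.S0058

set_option autoImplicit false
set_option linter.unusedSectionVars false
set_option linter.unusedVariables false

namespace H1.KS

open Cfsg H24 MulAction Subgroup

universe u

variable {G Ω : Type u} [Group G] [Finite G] [MulAction G Ω] [Finite Ω] {U : Ω → Subgroup G}
  {d : Dt G Ω} {a b c : Ω} {t w x y z : G} {p m : ℕ} {X L N : Subgroup G} {Φ : Set Ω}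

/-! ### KSZ -/
namespace KSZx

open KSHx

theorem v_even (h : Sp U) (ho : Odd ♯(stabilizer G a)) (s : Swp t a b) : Even (Nat.card Ω) := by
  have h1 := card_fix_inv (Φ := (Set.univ : Set Ω)) s.sq (fun _ _ => trivial)
  have h2 : Set.univ ∩ fixedBy Ω t = ∅ := by
    refine Set.eq_empty_of_forall_notMem fun c hc => ?_
    have := H21.KSR.no_fix h.two' s.ne ho s.sq s.ab 1 c
    rw [one_mul, inv_one, mul_one] at this
    exact this hc.2
  rw [h2, Set.ncard_empty, Set.ncard_univ] at h1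
  exact even_iff_two_dvd.2 ((Nat.modEq_zero_iff_dvd).1 h1)

theorem zr_gen (h : Sp U) (gen : (⨆ c, U c) = ⊤) (reg : Reg U) (ho : Odd ♯(stabilizer G a))
    (s : Swp t a b) (hz : z ∈ Ks t (St G a b)) (hz1 : z ≠ 1) :
    ∃ y : G, Ks t (St G a b) = (zpowers y : Subgroup G) ∧ 2 * orderOf y + 2 = Nat.card Ω := by
  have hD : Odd ♯(St G a b) := odd_of_le ho inf_le_left
  have hA : U a ⊓ stabilizer G b = ⊥ :=
    eq_bot_iff.2 fun u hu => mem_bot.2 (reg a b s.ne u hu.1 hu.2)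
  have hd := h.d_eq gen ho s
  rw [hA, bot_sup_eq] at hd
  have hcop := h.kcop ho s
  have htN := (ks_norm s hD).2
  rw [← hd] at hcop htN
  have hK : ∀ x ∈ St G a b, x ∈ Ks t (St G a b) := by
    intro x hx
    obtain ⟨c, hc, y, hy, h1, h2, rfl⟩ := dec_inv hD s.sq htN hx
    have := H21.KSR.R2 h.two' s.ne ho s.sq s.ab (U a) (h.le_stab a)
      (fun x hx u hu => conj_mem (h.norm a hx) hu) (fun x hx => h.tr a b x s.ne.symm hx)
      (reg a b s.ne) (h.nil a) hcop (h.gen_closure gen a) hc.1 hc.2 h1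
    rw [this, one_mul]; exact ⟨hy, h2⟩
  have hfix : ∀ x ∈ St G a b, x ≠ 1 → ∀ c, x • c = c → c = a ∨ c = b := fun x hx h1 =>
    (h.kf ho s (hK x hx) h1).2
  have hab : Abl (St G a b) := abl_iff.2 (le_C_iff.2 fun x hx y hy => by
    have h1 := (hK _ (mul_mem hx hy)).2
    rw [show t * (x * y) * t = (t * x * t) * (t * y * t) by
      rw [show (t * x * t) * (t * y * t) = t * x * (t * t) * y * t by group, s.sq]; group,
      (hK x hx).2, (hK y hy).2, ← mul_inv_rev, inv_inj] at h1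
    exact h1.symm)
  have hcyc : Cyc (St G a b) := by
    by_contra hn
    have h1 := Cfsg.Agent.S0058.result (St G a b) (U a) hn (inf_le_left.trans (h.norm a)) hcop
    refine ne_bot h gen s (eq_bot_iff.2 (h1.ge.trans (iSup₂_le fun x hx u hu => mem_bot.2 ?_)))
    have h2 : x • u • b = u • b := by
      rw [← mul_smul, ← mem_C1.1 hu.2, mul_smul, hx.1.2]
    exact reg a b s.ne u hu.1
      ((hfix x hx.1 hx.2 _ h2).resolve_left (smul_ne (h.fix a u hu.1) s.ne.symm))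
  obtain ⟨y, hy⟩ := cyc_iff.1 hcyc
  have hev := v_even h ho s
  have hZ : IsZassenhausGroup G Ω := by
    refine ⟨faithful h, h.two', fun g a' b' c' h1 h2 h3 e1 e2 e3 => ?_,
      ⟨z, hz1, a, b, s.ne, hz.1.1, hz.1.2⟩, fun N hN htr => ?_⟩
    · obtain ⟨k, rfl, rfl⟩ := h.two a b a' b' s.ne h1
      by_contra hg
      have h4 := hfix (k⁻¹ * g * k) (mem_St.2
        ⟨by rw [mul_smul, mul_smul, e1, inv_smul_smul], by rw [mul_smul, mul_smul, e2, inv_smul_smul]⟩)
        (fun e => hg (by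
          calc g = k * (k⁻¹ * g * k) * k⁻¹ := by group
            _ = 1 := by rw [e]; group)) (k⁻¹ • c')
        (by rw [mul_smul, smul_inv_smul, mul_smul, e3])
      rw [inv_smul_eq_iff, inv_smul_eq_iff] at h4
      rcases h4 with h4 | h4
      · exact h3 h4.symm
      · exact h2 h4.symm
    · by_contra! hreg
      have h1 := card_orbit (L := N) (Φ := (Set.univ : Set Ω)) (b := a) trivial (fun _ _ _ _ => trivial)
        (fun c _ => by obtain ⟨g, hg⟩ := htr.exists_smul_eq a c; exact ⟨g, g.2, hg⟩)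
      rw [Set.ncard_univ] at h1
      obtain ⟨w, hw⟩ := exists_prime_orderOf_dvd_card' (G := N) 2
        (by rw [h1]; exact (even_iff_two_dvd.1 hev).mul_right _)
      have hw1 : (w : G) ≠ 1 := fun e => by
        rw [show w = 1 from Subtype.ext e, orderOf_one] at hw; omega
      have hw2 : (w : G) * w = 1 := by
        rw [← pow_two, ← hw, ← coe_pow, pow_orderOf_eq_one, coe_one]
      obtain ⟨c, hc⟩ : ∃ c : Ω, (w : G) • c ≠ c := by
        by_contra! hc; exact hw1 (h.faith _ hc)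
      obtain ⟨k, e1, e2⟩ := h.two c ((w : G) • c) a b hc.symm s.ne
      have s' : Swp (k * w * k⁻¹) a b := ⟨s.ne, H21.KSR.conj_sq hw2 k,
        by rw [← e1, mul_smul, inv_smul_smul, mul_smul, e2],
        by rw [← e2, mul_smul, inv_smul_smul, mul_smul, ← mul_smul (w : G), hw2, one_smul, e1]⟩
      have h2 := swp_mem hN hD s s' (hN.conj_mem _ w.2 k)
      have h3 := swp_mem hN hD (swp_mul s hz) s' (hN.conj_mem _ w.2 k)
      have h4 : z ∈ N := (mul_mem_cancel_left h2).1 h3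
      have h5 : (⟨z, h4⟩ : N) ∈ stabilizer N a := hz.1.1
      rw [hreg a] at h5
      exact hz1 (congrArg Subtype.val (mem_bot.1 h5))
  have h3 : 3 ≤ Nat.card Ω := by
    by_contra h3; exact hz1 (bot_of_small h s.ne h3 hz.1.1)
  have hU := h.card_U s.ne
  rw [hA, card_bot, mul_one] at hU
  letI := Fintype.ofFinite Ω
  have hle : Nat.card Ω - 1 - 1 ≤ 2 * ♯(St G a b) := by
    rcases H21.s0885 hZ s.ne (Nat.card Ω - 1) ♯(St G a b)
      (by rw [← Nat.card_eq_fintype_card]; omega) rfl (U a) (h.le_stab a)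
      (by rw [← Nat.card_eq_fintype_card]; omega)
      (fun u hu h1 c hc => by by_contra e; exact h1 (reg a c (Ne.symm e) u hu hc)) with h1 | h1
    · exact h1
    · obtain ⟨h2, ⟨u, v, h4⟩, -⟩ := h1
      haveI := Fact.mk Nat.prime_two
      obtain ⟨k, hk⟩ := IsPGroup.iff_card.1 h2
      have h5 := odd_of_le ho (h.le_stab a)
      have h6 : k = 0 := by
        by_contra h6
        rw [hk] at h5
        exact (Nat.not_even_iff_odd.2 h5) ((Nat.even_pow' h6).2 even_two)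
      rw [h6, pow_zero] at hk
      haveI := (Nat.card_eq_one_iff_unique.1 hk).1
      exact absurd (Subsingleton.elim _ _) h4
  have hdvd : ♯(St G a b) ∣ ({a, b}ᶜ : Set Ω).ncard := by
    refine dvd_of_semireg (fun g hg c hc => ?_) (fun g hg c hc e => ?_)
    · simp only [Set.mem_compl_iff, Set.mem_insert_iff, Set.mem_singleton_iff, not_or] at hc ⊢
      exact ⟨smul_ne hg.1 hc.1, smul_ne hg.2 hc.2⟩
    · by_contra hg1; exact hc (hfix g hg hg1 c e)
  have hc2 := Set.ncard_add_ncard_compl ({a, b} : Set Ω)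
  rw [Set.ncard_pair s.ne] at hc2
  refine ⟨y, ?_, ?_⟩
  · ext x
    rw [hy]
    exact ⟨fun hx => hy ▸ hx.1, fun hx => hy ▸ hK x (hy ▸ hx)⟩
  · rw [← card_zpowers', hy]
    obtain ⟨k, hk⟩ := hdvd
    have hk2 : k ≤ 2 := by
      by_contra! hk3
      have := Nat.mul_le_mul_left ♯(St G a b) (show 3 ≤ k from hk3)
      have := card_pos (St G a b)
      omega
    obtain ⟨i, hi⟩ := hev
    obtain ⟨j, hj⟩ := hD
    interval_cases k <;> omega

end KSZx

open KSHx KSZx

theorem Sp.zr (h : Sp U) (reg : Reg U) (ho : Odd ♯(stabilizer G a)) (s : Swp t a b) :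
    ∃ y : G, Ks t (St G a b) = (zpowers y : Subgroup G) ∧
      ((y = 1 ∧ Cyc (U a)) ∨ (y ≠ 1 ∧ 2 * orderOf y + 2 = Nat.card Ω)) := by
  by_cases h1 : ∀ y ∈ Ks t (St G a b), y = 1
  · refine ⟨1, ?_, Or.inl ⟨rfl, h.te ho s h1⟩⟩
    ext x
    rw [zpowers_one_eq_bot, SetLike.mem_coe, mem_bot]
    refine ⟨h1 x, ?_⟩
    rintro rfl
    exact ⟨one_mem _, by rw [mul_one, s.sq, inv_one]⟩
  push Not at h1
  obtain ⟨z, hz, hz1⟩ := h1
  have h3 : 3 ≤ Nat.card Ω := by
    by_contra h3; exact hz1 (bot_of_small h s.ne h3 hz.1.1)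
  obtain ⟨hN, h', gen⟩ := h.dag h3
  have ht := mem_dag h h3 ho s
  have hK : ∀ x ∈ Ks t (St G a b), x ∈ ⨆ c, U c := fun x hx =>
    (mul_mem_cancel_left ht).1 (mem_dag h h3 ho (swp_mul s hx))
  have s' : Swp (⟨t, ht⟩ : ↥(⨆ c, U c)) a b := ⟨s.ne, Subtype.ext s.sq, s.ab, s.ba⟩
  obtain ⟨y, hy, he⟩ := zr_gen h' gen
    (fun a b hab u hu e => Subtype.ext (reg a b hab u hu e)) (odd_sub _ ho) s' (z := ⟨z, hK z hz⟩)
    ⟨hz.1, Subtype.ext hz.2⟩ (fun e => hz1 (congrArg Subtype.val e))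
  have hy' : Ks t (St G a b) = (zpowers (y : G) : Subgroup G) := by
    ext x
    constructor
    · intro hx
      have h2 : (⟨x, hK x hx⟩ : ↥(⨆ c, U c)) ∈ Ks (⟨t, ht⟩ : ↥(⨆ c, U c)) (St _ a b) :=
        ⟨hx.1, Subtype.ext hx.2⟩
      rw [hy] at h2
      obtain ⟨k, hk⟩ := h2
      exact ⟨k, congrArg Subtype.val hk⟩
    · rintro ⟨k, rfl⟩
      have h2 : y ^ k ∈ Ks (⟨t, ht⟩ : ↥(⨆ c, U c)) (St _ a b) := by rw [hy]; exact ⟨k, rfl⟩
      exact ⟨h2.1, congrArg Subtype.val h2.2⟩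
  refine ⟨y, hy', Or.inr ⟨fun e => hz1 ?_, by rw [orderOf_coe, he]⟩⟩
  rw [hy', e, zpowers_one_eq_bot] at hz
  exact mem_bot.1 hz

end H1.KS
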