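import Mathlib
import Cfsg.Agent.H1.KS0
import Cfsg.Agent.H1.KSC
import Cfsg.Agent.H1.KSZ

set_option autoImplicit false
set_option linter.unusedSectionVars false
set_option linter.unusedVariables false

namespace H1.KS

open Cfsg H24 MulAction Subgroup

universe u

variable {G Ω : Type u} [Group G] [Finite G] [MulAction G Ω] [Finite Ω] {U : Ω → Subgroup G}
  {d : Dt G Ω} {a b c : Ω} {t w x y z : G} {p m : ℕ} {X L N : Subgroup G} {Φ : Set Ω}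

/-! ### KSL -/

namespace KSLx

/-- the group induced by `C(W)` on the line -/
structure Bar (d : Dt G Ω) (a b : Ω) {Γ : Type u} [Group Γ] [MulAction Γ (d.Ln a b)]
    (π : C[d.W a b] →* Γ) (V : d.Ln a b → Subgroup Γ) : Prop where
  onto : ∀ g : Γ, ∃ x ∈ C[d.W a b], ap π x = g
  fix : ∀ x ∈ C[d.W a b], ∀ c e : d.Ln a b, ap π x • c = e ↔ x • (c : Ω) = e
  V_eq : ∀ c, V c = img π (d.U c)
  sp : Sp V

theorem K_pow (s : Tt d t a b) (hy : y ∈ Ks t (d.D0 a b)) (hx : x ∈ zpowers y) :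
    x ∈ Ks t (d.D0 a b) := by
  obtain ⟨n, rfl⟩ := (mem_powers_iff_mem_zpowers.2 hx : x ∈ Submonoid.powers y)
  exact ⟨Subgroup.pow_mem _ hy.1 n, inv_pow_of s.sw.sq hy.2 n⟩

/-- elements of `C(W)` fixing the line pointwise centralise `K` -/
theorem K_cent (k : Cx d) (s : Tt d t a b) (hy : y ∈ Ks t (d.D0 a b)) (hx : x ∈ C[d.W a b])
    (hf : ∀ c ∈ d.Ln a b, x • c = c) : y * x = x * y := by
  have h1 := s.cent k hx hf
  have h2 := (s.mul k hy).cent k hx hf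
  exact mul_left_cancel (a := t) (by rw [← mul_assoc, h2, ← mul_assoc, ← mul_assoc, h1])

variable {Γ : Type u} [Group Γ] [Finite Γ] [MulAction Γ (d.Ln a b)] {π : C[d.W a b] →* Γ}
  {V : d.Ln a b → Subgroup Γ}

theorem Bar.ker (B : Bar d a b π V) (hx : x ∈ C[d.W a b]) :
    ap π x = 1 ↔ ∀ c ∈ d.Ln a b, x • c = c :=
  ⟨fun h c hc => (B.fix x hx ⟨c, hc⟩ ⟨c, hc⟩).1 (by rw [h, one_smul]),
    fun h => B.sp.faith _ fun c => (B.fix x hx c c).2 (h c c.2)⟩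

theorem Bar.reg (B : Bar d a b π V) (k : Cx d) (hab : a ≠ b) : Reg V := fun e e' h v hv hf => by
  rw [B.V_eq] at hv
  obtain ⟨u, hu, h1, rfl⟩ := mem_img.1 hv
  refine (B.ker h1).2 fun c hc => hc u ?_
  rw [← k.A_eq hab e.2 e'.2 (Subtype.coe_ne_coe.2 h)]
  exact ⟨hu, (B.fix u h1 e' e').1 hf⟩

theorem Bar.odd (B : Bar d a b π V) (k : Cx d) (hab : a ≠ b) :
    Odd ♯(stabilizer Γ (⟨a, k.left_Ln a b⟩ : d.Ln a b)) := by
  rw [B.sp.card_B (b := ⟨b, k.right_Ln a b⟩) (Subtype.coe_ne_coe.1 hab)]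
  refine Odd.mul ?_ (Odd.of_dvd_nat (odd_img (k.D0_odd hab) π) (card_dvd_of_le fun g hg => ?_))
  · have h1 := k.k_even hab
    have h2 := k.k_three hab
    rw [Nat.card_coe_set_eq]
    exact Nat.Even.sub_odd (by omega) h1 odd_one
  · obtain ⟨x, hx, rfl⟩ := B.onto g
    exact ap_mem_img π (d.mem_D0.2 ⟨⟨(B.fix x hx _ _).1 hg.1, (B.fix x hx _ _).1 hg.2⟩, hx⟩) hx

theorem Bar.swp (B : Bar d a b π V) (k : Cx d) (s : Tt d t a b) :
    Swp (ap π t) (⟨a, k.left_Ln a b⟩ : d.Ln a b) ⟨b, k.right_Ln a b⟩ :=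
  ⟨Subtype.coe_ne_coe.1 s.sw.ne, by rw [← ap_mul π s.cw s.cw, s.sw.sq, ap_one],
    (B.fix t s.cw _ _).2 s.sw.ab, (B.fix t s.cw _ _).2 s.sw.ba⟩

theorem Bar.down (B : Bar d a b π V) (k : Cx d) (s : Tt d t a b) (hy : y ∈ Ks t (d.D0 a b)) :
    ap π y ∈ Ks (ap π t) (St Γ (⟨a, k.left_Ln a b⟩ : d.Ln a b) ⟨b, k.right_Ln a b⟩) := by
  obtain ⟨⟨h1, h2⟩, h3⟩ := d.mem_D0.1 hy.1
  exact ⟨mem_St.2 ⟨(B.fix y h3 _ _).2 h1, (B.fix y h3 _ _).2 h2⟩, by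
    rw [← ap_mul π s.cw h3, ← ap_mul π (Subgroup.mul_mem _ s.cw h3) s.cw, hy.2, ap_inv π h3]⟩

theorem Bar.lift (B : Bar d a b π V) (k : Cx d) (s : Tt d t a b) {v : Γ}
    (hv : v ∈ Ks (ap π t) (St Γ (⟨a, k.left_Ln a b⟩ : d.Ln a b) ⟨b, k.right_Ln a b⟩)) :
    ∃ y ∈ Ks t (d.D0 a b), ap π y = v := by
  obtain ⟨g, hg, rfl⟩ := B.onto v
  have g1 : g • a = a := (B.fix g hg _ _).1 hv.1.1
  have g2 : g • b = b := (B.fix g hg _ _).1 hv.1.2
  have h1 := Subgroup.mul_mem _ s.cw hg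
  have a1 : (t * g) • a = b := by rw [mul_smul, g1, s.sw.ab]
  have a2 : (t * g) • b = a := by rw [mul_smul, g2, s.sw.ba]
  have h2 : (t * g) ^ 2 ∈ d.D0 a b := d.mem_D0.2 ⟨⟨by rw [sq, mul_smul, a1, a2],
    by rw [sq, mul_smul, a2, a1]⟩, Subgroup.pow_mem _ h1 2⟩
  obtain ⟨j, hj⟩ := Odd.of_dvd_nat (k.D0_odd s.sw.ne) (orderOf_dvd_card' h2)
  obtain ⟨⟨h3, h4⟩, h5⟩ := d.mem_D0.1 (Subgroup.pow_mem _ h2 j)
  have e : ap π ((t * g) ^ 2) = 1 := by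
    rw [sq, ap_mul π h1 h1, ap_mul π s.cw hg, ← mul_assoc, hv.2, inv_mul_cancel]
  refine ⟨t * (t * g * ((t * g) ^ 2) ^ j), s.mul_mem k ⟨⟨s.sw.ne, ?_, by rw [mul_smul, h3, a1],
    by rw [mul_smul, h4, a2]⟩, Subgroup.mul_mem _ h1 h5⟩, ?_⟩
  · rw [← pow_mul, ← pow_succ', ← pow_add, ← two_mul, pow_mul, ← hj, pow_orderOf_eq_one]
  · rw [ap_mul π s.cw (Subgroup.mul_mem _ h1 h5), ap_mul π h1 h5,
      ap_pow π (Subgroup.pow_mem _ h1 2), e, one_pow, mul_one, ← ap_mul π s.cw h1, ← mul_assoc,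
      s.sw.sq, one_mul]

theorem Bar.inj (B : Bar d a b π V) (k : Cx d) (s : Tt d t a b) (hy : y ∈ Ks t (d.D0 a b))
    (hx : x ∈ Ks t (d.D0 a b)) (h : ap π y = ap π x) : y = x := by
  have h1 : y⁻¹ * x ∈ d.D0 a b := Subgroup.mul_mem _ (Subgroup.inv_mem _ hy.1) hx.1
  have h2 := (B.ker h1.2).1 (by
    rw [ap_mul π (Subgroup.inv_mem _ hy.1.2) hx.1.2, ap_inv π hy.1.2, h, inv_mul_cancel])
  have h3 := s.cent k h1.2 h2
  have h4 := K_cent k s hy h1.2 h2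
  obtain ⟨κ, rfl⟩ : ∃ κ, x = y * κ := ⟨y⁻¹ * x, by group⟩
  rw [inv_mul_cancel_left] at h1 h3 h4
  have h5 : κ * κ = 1 := by
    have h6 := hx.2
    rw [h4, ← mul_assoc, h3, mul_assoc, mul_assoc, ← mul_assoc t, hy.2, ← h4, mul_inv_rev,
      mul_left_inj] at h6
    exact mul_eq_one_iff_eq_inv.2 h6
  rw [KSCx.odd_one k s.sw.ne h1 h5, mul_one]

end KSLx
open KSLx

theorem Tt.lk (k : Cx d) (s : Tt d t a b) : ∃ y, Lk d t a b y := by
  have hab := s.sw.ne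
  obtain ⟨Γ, _, _, _, π, V, h1, h2, h3, h4⟩ := Sub.bar k.sp (k.sub0 hab) (k.k_three hab)
  have B : Bar d a b π V := ⟨fun g => by
    obtain ⟨x, rfl⟩ := h1 g
    exact ⟨x, x.2, ap_coe π x⟩, fun x hx c e => by
      rw [Subtype.ext_iff, ap_of_mem π hx, h2], h3, h4⟩
  have ho := B.odd k hab
  have sw := B.swp k s
  obtain ⟨v, hv, alt⟩ := B.sp.zr (B.reg k hab) ho sw
  obtain ⟨y, hy, rfl⟩ := B.lift k s (v := v) (hv ▸ mem_zpowers v)
  have one : (1 : G) ∈ Ks t (d.D0 a b) := K_pow s hy (one_mem _)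
  have ks : Ks t (d.D0 a b) = (zpowers y : Subgroup G) := Set.ext fun x =>
    ⟨fun hx => by
      have h5 : ap π x ∈ zpowers (ap π y) := by
        have := B.down k s hx
        rwa [hv] at this
      rw [← img_zpowers π hy.1.2] at h5
      obtain ⟨x', a1, -, a2⟩ := mem_img.1 h5
      exact B.inj k s (K_pow s hy a1) hx a2 ▸ a1, K_pow s hy⟩
  have n1 : ∀ x ∈ zpowers y, x ≠ 1 → ap π x ≠ 1 := fun x hx x1 e =>
    x1 (B.inj k s (K_pow s hy hx) one (by rw [e, ap_one]))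
  have ord : orderOf (ap π y) = orderOf y := orderOf_eq_orderOf_iff.2 fun n =>
    ⟨fun h => by_contra fun h' => n1 _ (npow_mem_zpowers y n) h' (by rw [ap_pow π hy.1.2, h]),
      fun h => by rw [← ap_pow π hy.1.2, h, ap_one]⟩
  have NA := k.NA_le hab
  refine ⟨y, s, ks, fun x hx x1 c hc hf => ?_, ?_, mem_C'.2 fun x hx =>
    K_cent k s hy (NA ⟨hx.1, norm_self _ hx⟩) fun c hc => hc x hx, fun g hg => ?_, ?_⟩
  · have h5 := K_pow s hy hx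
    exact ((B.sp.kf ho sw (B.down k s h5) (n1 x hx x1)).2 ⟨c, hc⟩
      ((B.fix x h5.1.2 _ _).2 hf)).imp (congrArg Subtype.val) (congrArg Subtype.val)
  · by_cases y1 : y = 1
    · rw [y1, orderOf_one]; exact Nat.coprime_one_left _
    have h5 := (B.sp.kf ho sw (B.down k s hy) (n1 y (mem_zpowers y) y1)).1
    rw [ord, B.sp.card_U sw.ne, Nat.card_coe_set_eq] at h5
    exact h5.coprime_dvd_right ((k.k_mod hab).mul_right _)
  · have cj : ∀ {r : G}, Tt d r a b → t * (g * r * g⁻¹) ∈ zpowers y := fun {r} hr => by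
      have h5 := hr.cj k g
      rw [(mem_St.1 hg).1, (mem_St.1 hg).2] at h5
      have := s.mul_mem k h5
      rwa [ks] at this
    refine mem_N_of_cj_le ?_
    rw [cj_zpowers, zpowers_le]
    have h5 := Subgroup.mul_mem _ (Subgroup.inv_mem _ (cj s)) (cj (s.mul k hy))
    rwa [show (t * (g * t * g⁻¹))⁻¹ * (t * (g * (t * y) * g⁻¹)) = g * y * g⁻¹ by group] at h5
  · refine alt.imp (fun h => ⟨by_contra fun y1 => n1 y (mem_zpowers y) y1 h.1, ?_⟩) fun h =>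
      ⟨fun e => h.1 (by rw [e, ap_one]), by rw [← ord, h.2, Nat.card_coe_set_eq]⟩
    have h5 : d.M a ≤ d.U a := (k.M_le a).trans (d.P_le a)
    have h6 : d.M a ⊓ N[d.A a b] ≤ C[d.W a b] := (inf_le_inf_right _ h5).trans NA
    refine cyc_of_img (f := π) h6 (eq_bot_iff.2 fun x hx => ?_)
      (h.2.of_le (by rw [B.V_eq]; exact img_mono π (inf_le_left.trans h5)))
    obtain ⟨a1, a2⟩ := mem_pre_bot.1 hx.1
    rw [← k.MA a b hab]
    exact ⟨hx.2.1, h5 hx.2.1, (B.ker a1).1 a2 b (k.right_Ln a b)⟩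

end H1.KS
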