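import Mathlib
import Cfsg.Agent.H1.KS0
import Cfsg.Agent.H1.KSC

/-! Split doubly transitive groups: counting the involutions commuting with an involution of `D`. -/

set_option autoImplicit false
set_option linter.unusedSectionVars false
set_option linter.unusedVariables false

namespace H1.KS

open Cfsg H24 MulAction Subgroup

universe u

variable {G Ω : Type u} [Group G] [Finite G] [MulAction G Ω] [Finite Ω] {U : Ω → Subgroup G}
  {d : Dt G Ω} {a b c : Ω} {t w x y z : G} {p m : ℕ} {X L N : Subgroup G} {Φ : Set Ω}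

namespace KSNx

theorem fib {α β : Type*} [Finite α] [Finite β] (A : Set α) (B : Set β) (r : α → β → Prop) (n : ℕ)
    (h1 : ∀ a ∈ A, ∃! b, b ∈ B ∧ r a b) (h2 : ∀ b ∈ B, {a | a ∈ A ∧ r a b}.ncard = n) :
    A.ncard = B.ncard * n := by
  classical
  have := Finset.card_mul_eq_card_mul (s := A.toFinite.toFinset) (t := B.toFinite.toFinset) r
    (m := 1) (n := n) (fun a ha => ?_) (fun b hb => ?_)
  · rwa [mul_one, ← Set.ncard_eq_toFinset_card, ← Set.ncard_eq_toFinset_card] at this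
  · obtain ⟨b, hb, hu⟩ := h1 a (by simpa using ha)
    rw [Finset.card_eq_one]
    refine ⟨b, Finset.eq_singleton_iff_unique_mem.2 ⟨by simpa using hb, fun b' hb' => hu b' ?_⟩⟩
    simpa using hb'
  · rw [← h2 b (by simpa using hb), ← Set.ncard_coe_finset]
    congr 1
    ext a
    simp

theorem odd_ord (h : Odd ♯X) (hx : x ∈ X) : Odd (orderOf x) :=
  h.of_dvd_nat (orderOf_dvd_card' hx)

theorem one_of (h : Odd (orderOf x)) (e : x * x = 1) : x = 1 := by
  have h2 : orderOf x ∣ 2 := orderOf_dvd_of_pow_eq_one (by rw [sq, e])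
  rcases (Nat.dvd_prime Nat.prime_two).1 h2 with h1 | h1
  · exact orderOf_eq_one_iff.1 h1
  · rw [h1] at h; exact absurd h (by decide)

theorem iv_inv (h : w * w = 1) : w⁻¹ = w := inv_eq_of_mul_eq_one_right h

theorem comm_of (h1 : x * x = 1) (h2 : y * y = 1) (h3 : x * y * (x * y) = 1) : x * y = y * x := by
  rw [← iv_inv h3, mul_inv_rev, iv_inv h1, iv_inv h2]

/-- an involution interchanging `a`, `b` and inverting `W` -/
def Iv (d : Dt G Ω) (s : G) (a b : Ω) : Prop := Swp s a b ∧ ∀ x ∈ d.W a b, s * x * s = x⁻¹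

theorem St_mul {s : G} (h : Swp t a b) (h' : Swp s a b) : t * s ∈ St G a b :=
  mem_St.2 ⟨by rw [mul_smul, h'.ab, h.ba], by rw [mul_smul, h'.ba, h.ab]⟩

theorem sq_pow (y : G) (j : ℕ) (hj : orderOf (y * y) = 2 * j + 1) :
    y ^ (2 * j + 1) * y ^ (2 * j + 1) = 1 := by
  rw [← (Commute.refl y).mul_pow, ← hj, pow_orderOf_eq_one]

theorem dich (k : Cx d) (e : Ev d m) {s : G} (h : Swp s a b) : Tt d s a b ∨ Iv d s a b := by
  obtain ⟨t, ht⟩ := k.exists_t h.ne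
  have sN : s ∈ N[d.W a b] :=
    k.norm_W' h.ne (by rw [h.ab]; exact k.right_Ln a b) (by rw [h.ba]; exact k.left_Ln a b)
  have hy := St_mul ht.sw h
  have act : ∀ x ∈ d.W a b, t * s * x * (t * s)⁻¹ = s * x * s⁻¹ := fun x hx => by
    rw [← conj_eq_of_mem_C ht.cw (conj_mem sN hx)]; group
  have h2 : t * s * (t * s) ∈ C[d.W a b] := mem_C'.2 fun x hx => by
    have h1 := act _ (conj_mem sN hx)
    rw [show s * (s * x * s⁻¹) * s⁻¹ = s * s * x * (s * s)⁻¹ by group, h.sq, ← act x hx] at h1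
    calc t * s * (t * s) * x = t * s * (t * s * x * (t * s)⁻¹) * (t * s)⁻¹ * (t * s * (t * s)) := by
          group
      _ = _ := by rw [h1]; group
  obtain ⟨j, hj⟩ := odd_ord (k.D0_odd h.ne) (show t * s * (t * s) ∈ d.D0 a b from ⟨mul_mem hy hy, h2⟩)
  have h3 : (t * s) ^ (2 * j + 1) = t * s * (t * s * (t * s)) ^ j := by
    rw [← sq, ← pow_mul, pow_succ']
  have h4 := sq_pow _ j hj
  by_cases h5 : (t * s) ^ (2 * j + 1) = 1
  · refine .inl ⟨h, ?_⟩
    have h6 : s = t⁻¹ * ((t * s * (t * s)) ^ j)⁻¹ := by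
      rw [h3] at h5
      rw [← eq_inv_of_mul_eq_one_left h5]; group
    rw [h6]
    exact mul_mem (inv_mem ht.cw) (inv_mem (pow_mem h2 j))
  · refine .inr ⟨h, fun x hx => ?_⟩
    have h6 := e.inv a b h.ne _ (pow_mem hy _) h4 h5 x hx
    have h7 := act x hx
    rw [h.inv_eq] at h7
    rw [← h7, ← h6]
    conv_rhs => enter [2]; rw [← iv_inv h4]
    rw [h3]
    conv_lhs => rw [← conj_eq_of_mem_C (pow_mem h2 j) hx]
    group

theorem Iv.cj (k : Cx d) {s : G} (h : Iv d s a b) (g : G) : Iv d (g * s * g⁻¹) (g • a) (g • b) := by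
  refine ⟨⟨fun e => h.1.ne (MulAction.injective g e), by rw [conj_mul, h.1.sq]; group,
    by rw [mul_smul, mul_smul, inv_smul_smul, h.1.ab],
    by rw [mul_smul, mul_smul, inv_smul_smul, h.1.ba]⟩, fun x hx => ?_⟩
  rw [← k.cj_W] at hx
  obtain ⟨y, hy, rfl⟩ := mem_cj'.1 hx
  calc g * s * g⁻¹ * (g * y * g⁻¹) * (g * s * g⁻¹) = g * (s * y * s) * g⁻¹ := by group
    _ = _ := by rw [h.2 y hy]; group

theorem Iv.conj (k : Cx d) {s s' : G} {a' b' : Ω} (h : Iv d s a b) (h' : Iv d s' a' b') :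
    ∃ g : G, g * s * g⁻¹ = s' := by
  obtain ⟨g, rfl, rfl⟩ := k.sp.two a b a' b' h.1.ne h'.1.ne
  have h1 := h.cj k g
  have h2 : g * s * g⁻¹ * s' ∈ d.D0 (g • a) (g • b) := ⟨St_mul h1.1 h'.1, mem_C'.2 fun x hx => by
    have e1 := h1.2 _ (inv_mem hx)
    rw [inv_inv, ← h'.2 x hx] at e1
    calc g * s * g⁻¹ * s' * x = g * s * g⁻¹ * (s' * x * s') * (g * s * g⁻¹) *
          ((g * s * g⁻¹)⁻¹ * s'⁻¹) := by group
      _ = _ := by rw [e1, h1.1.inv_eq, h'.1.inv_eq]⟩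
  obtain ⟨c, -, e⟩ := inv_conj h1.1.sq h'.1.sq (odd_ord (k.D0_odd h'.1.ne) h2)
  exact ⟨c * g, by rw [← e]; group⟩

theorem swp_of (hw : w * w = 1) (h : w • c ≠ c) : Swp w c (w • c) :=
  ⟨h.symm, hw, rfl, by rw [← mul_smul, hw, one_smul]⟩

theorem iv_w (k : Cx d) (e : Ev d m) (ha : w • a = a) (h2 : w * w = 1) (h : w • c ≠ c) :
    Iv d w c (w • c) :=
  (dich k e (swp_of h2 h)).resolve_left fun ht => ht.fpf k a ha

theorem conj_w (k : Cx d) (e : Ev d m) (ha : w • a = a) (h2 : w * w = 1) (h1 : w ≠ 1) {s : G}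
    {c c' : Ω} (h : Iv d s c c') : ∃ g : G, g * w * g⁻¹ = s := by
  obtain ⟨γ, hγ⟩ : ∃ γ : Ω, w • γ ≠ γ := by
    by_contra! h0
    exact h1 (k.sp.faith w h0)
  exact (iv_w k e ha h2 hγ).conj k h

theorem tt_of (k : Cx d) (e : Ev d m) (ha : w • a = a) (h2 : w * w = 1) (h1 : w ≠ 1) {s : G}
    (ss : s * s = 1) (fp : ∀ c : Ω, s • c ≠ c) (c : Ω) : Tt d s c (s • c) := by
  refine (dich k e (swp_of ss (fp c))).resolve_right fun h => ?_
  obtain ⟨g, rfl⟩ := conj_w k e ha h2 h1 h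
  exact fp (g • a) (by rw [mul_smul, mul_smul, inv_smul_smul, ha])

theorem ks_one (k : Cx d) (s : Tt d t a b) (hy : y ∈ Ks t (d.D0 a b)) (h : y⁻¹ = y) : y = 1 :=
  one_of (odd_ord (k.D0_odd s.sw.ne) hy.1) (by nth_rw 1 [← h]; exact inv_mul_cancel y)

theorem tt_comm (k : Cx d) (e : Ev d m) (s : Tt d t a b) (hw : w ∈ St G a b) (h2 : w * w = 1) :
    w * t = t * w := by
  have s' := s.cj k w
  rw [(mem_St.1 hw).1, (mem_St.1 hw).2, iv_inv h2] at s'
  have hy := s.mul_mem k s'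
  have h3 := e.cen t a b s w hw h2 _ hy
  have h4 : t * (w * t * w) = 1 := by
    refine ks_one k s hy ?_
    calc (t * (w * t * w))⁻¹ = w⁻¹ * t⁻¹ * w⁻¹ * t⁻¹ := by group
      _ = w * (t * (w * t * w)) * w⁻¹ := by rw [iv_inv h2, s.sw.inv_eq, ← mul_one (w * t * w * t), ← h2]; group
      _ = _ := by rw [h3]; group
  exact (comm_of s.sw.sq h2 (by rw [← h4]; group)).symm

theorem card_tt (k : Cx d) (e : Ev d m) (hab : a ≠ b) : {s | Tt d s a b}.ncard = m := by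
  obtain ⟨t, ht⟩ := k.exists_t hab
  rw [← e.card t a b ht, ← Set.ncard_image_of_injective _ (mul_right_injective t)]
  congr 1
  ext y
  refine ⟨?_, fun hy => ⟨t * y, ht.mul k hy, ?_⟩⟩
  · rintro ⟨s, hs, rfl⟩
    exact ht.mul_mem k hs
  · show t * (t * y) = y
    rw [← mul_assoc, ht.sw.sq, one_mul]

theorem ex_comm (k : Cx d) (h : Swp w a b) : ∃ s, Tt d s a b ∧ w * s = s * w := by
  obtain ⟨t, ht⟩ := k.exists_t h.ne
  have s1 := ht.cj k w
  rw [h.ab, h.ba, h.inv_eq] at s1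
  have s2 : Tt d (w * t * w) a b := ⟨s1.sw.symm, by
    rw [← k.W_eq h.ne (k.right_Ln a b) (k.left_Ln a b) h.ne.symm]; exact s1.cw⟩
  obtain ⟨j, hj⟩ := odd_ord (k.D0_odd h.ne) (ht.mul_mem k s2).1
  rw [show t * (w * t * w) = t * w * (t * w) by group] at hj
  have hx := pow_mem (St_mul ht.sw h) j
  have s3 := ht.cj k ((t * w) ^ j)
  rw [(mem_St.1 hx).1, (mem_St.1 hx).2] at s3
  refine ⟨_, s3, (comm_of s3.sw.sq h.sq ?_).symm⟩
  have h1 : t * ((t * w) ^ j)⁻¹ = (t * w) ^ j * t := by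
    have h0 : t * (t * w)⁻¹ * t⁻¹ = t * w := by rw [mul_inv_rev, h.inv_eq, ht.sw.inv_eq,
      mul_assoc, mul_assoc, ht.sw.sq, mul_one]
    rw [← inv_pow, ← mul_inv_eq_iff_eq_mul, ← conj_pow, h0]
  have h2 : (t * w) ^ j * t * ((t * w) ^ j)⁻¹ * w = (t * w) ^ (2 * j + 1) := by
    rw [mul_assoc _ t, h1, two_mul, pow_succ, pow_add]; simp only [mul_assoc]
  rw [h2, sq_pow _ j hj]

end KSNx

open KSNx

theorem Ev.count (k : Cx d) (e : Ev d m) (hab : a ≠ b) (hw : w ∈ St G a b) (h2 : w * w = 1)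
    (h1 : w ≠ 1) : Nat.card Ω - 1 =
      ((fixedBy Ω w).ncard - 1) * (1 + (fixedBy Ω w).ncard * m) := by
  have ha := (mem_St.1 hw).1
  set T : Set G := {s | s * s = 1 ∧ (∀ c : Ω, s • c ≠ c) ∧ w * s = s * w} with hT
  have fixs : ∀ s ∈ T, w • s • a = s • a := fun s hs => by rw [← mul_smul, hs.2.2, mul_smul, ha]
  have c1 : T.ncard = (fixedBy Ω w \ {a}).ncard * m := by
    refine fib T _ (fun s c => s • a = c) m (fun s hs => ⟨s • a, ⟨⟨fixs s hs, hs.2.1 a⟩, rfl⟩,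
      fun c hc => hc.2.symm⟩) fun c hc => ?_
    rw [← card_tt k e (Ne.symm hc.2 : a ≠ c)]
    congr 1
    ext s
    refine ⟨?_, fun hs => ⟨⟨hs.sw.sq, hs.fpf k, tt_comm k e hs (mem_St.2 ⟨ha, hc.1⟩) h2⟩, hs.sw.ab⟩⟩
    rintro ⟨hs, rfl⟩
    exact tt_of k e ha h2 h1 hs.1 hs.2.1 a
  have sq : ∀ s ∈ T, s * w * (s * w) = 1 := fun s hs => by
    rw [mul_assoc, ← mul_assoc w, hs.2.2, mul_assoc, h2, mul_one, hs.1]
  have c2 : (fixedBy Ω w)ᶜ.ncard = T.ncard * (fixedBy Ω w).ncard := by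
    refine fib _ T (fun c s => s • c = w • c) _ (fun c hc => ?_) fun s hs => ?_
    · obtain ⟨s, hs, e1⟩ := ex_comm k (swp_of h2 hc)
      refine ⟨s, ⟨⟨hs.sw.sq, hs.fpf k, e1⟩, hs.sw.ab⟩, fun s' hs' => ?_⟩
      have h3 := tt_of k e ha h2 h1 hs'.1.1 hs'.1.2.1 c
      rw [hs'.2] at h3
      have hy := h3.mul_mem k hs
      have h4 := e.cen _ _ _ h3 _ (St_mul h3.sw (swp_of h2 hc)) (sq _ hs'.1) _ hy
      have h5 : w * (s' * s) = s' * s * w := by
        rw [← mul_assoc, hs'.1.2.2, mul_assoc, e1, mul_assoc]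
      have h6 : s' * s = 1 := by
        refine ks_one k h3 hy ?_
        rw [← hy.2]
        calc s' * (s' * s) * s' = s' * (s' * s * w) * (w⁻¹ * s') := by group
          _ = s' * w * (s' * s) * (w⁻¹ * s') := by rw [← h5]; group
          _ = s' * s * (s' * s') := by rw [h4]; group
          _ = _ := by rw [hs'.1.1, mul_one]
      rw [← hs.sw.inv_eq]
      exact eq_inv_of_mul_eq_one_left h6
    · have h3 := tt_of k e ha h2 h1 hs.1 hs.2.1 a
      have h4 : Iv d (s * w) a (s • a) := by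
        refine ⟨⟨h3.sw.ne, sq s hs, by rw [mul_smul, ha], by rw [mul_smul, fixs s hs, h3.sw.ba]⟩,
          fun x hx => ?_⟩
        rw [← conj_eq_of_mem_C h3.cw (inv_mem hx),
          ← e.inv _ _ h3.sw.ne w (mem_St.2 ⟨ha, fixs s hs⟩) h2 h1 x hx, h3.sw.inv_eq]
        conv_lhs => enter [2]; rw [← hs.2.2]
        group
      obtain ⟨g, hg⟩ := conj_w k e ha h2 h1 h4
      rw [← Set.ncard_smul_set g (fixedBy Ω w), smul_fixedBy, hg]
      congr 1
      ext c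
      rw [mem_fixedBy, mul_smul]
      refine ⟨fun hc => by rw [← hc.2, ← mul_smul, hs.1, one_smul], fun hc => ?_⟩
      have h5 : s • c = w • c := by
        conv_lhs => rw [← hc]
        rw [← mul_smul, hs.1, one_smul]
      exact ⟨fun h6 => hs.2.1 c (h5.trans h6), h5⟩
  have c3 := Set.ncard_add_ncard_compl (fixedBy Ω w)
  rw [Set.ncard_diff_singleton_of_mem (show a ∈ fixedBy Ω w from ha)] at c1
  have c4 : 0 < (fixedBy Ω w).ncard := (Set.ncard_pos).2 ⟨a, ha⟩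
  obtain ⟨f, hf⟩ := Nat.exists_eq_add_one_of_ne_zero c4.ne'
  rw [← c3, c2, c1, hf]
  simp only [Nat.add_sub_cancel]
  rw [show f + 1 + f * m * (f + 1) = f * (1 + (f + 1) * m) + 1 by ring, Nat.add_sub_cancel]

end H1.KS
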