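import Mathlib
import Cfsg.Agent.H1.KS0
import Cfsg.Agent.H1.KSL

set_option autoImplicit false
set_option linter.unusedSectionVars false
set_option linter.unusedVariables false

namespace H1.KS

open Cfsg H24 MulAction Subgroup

universe u

variable {G Ω : Type u} [Group G] [Finite G] [MulAction G Ω] [Finite Ω] {U : Ω → Subgroup G}
  {d : Dt G Ω} {a b c : Ω} {t w x y z : G} {p m : ℕ} {X L N : Subgroup G} {Φ : Set Ω}

/-! ### KSP -/

namespace KSPx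

theorem yD (l : Lk d t a b y) : y ∈ d.D0 a b := (l.ks.ge (mem_zpowers y)).1

theorem zD (l : Lk d t a b y) (hx : x ∈ zpowers y) : x ∈ d.D0 a b := zpowers_le.2 (yD l) hx

theorem zodd (k : Cx d) (l : Lk d t a b y) (hx : x ∈ zpowers y) : Odd (orderOf x) :=
  (k.D0_odd l.tt.sw.ne).of_dvd_nat (orderOf_dvd_card' (zD l hx))

theorem ZU (hz : z ∈ d.Z a) : z ∈ d.U a := d.P_le a (d.Z_le a hz)

theorem ZN (k : Cx d) (a b : Ω) : d.Z a ≤ N[d.A a b] :=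
  norm_of_cent ((k.Z_cent a).trans (C_anti (d.A_le a b)))

theorem Zodd (k : Cx d) (hz : z ∈ d.Z a) : Odd (orderOf z) :=
  (k.odd a).of_dvd_nat (orderOf_dvd_card' (ZU hz))

end KSPx

open KSPx

theorem Lk.Z_tr (k : Cx d) (l : Lk d t a b y) (h1 : y ≠ 1) :
    (∀ c ∈ d.Ln a b, c ≠ a → ∃ z ∈ d.Z a, z • b = c) ∧ ♯(d.Z a) = 2 * orderOf y + 1 := by
  have hab := l.tt.sw.ne
  have hk := (l.alt.resolve_left fun e => h1 e.1).2
  let Φ : Set Ω := {c | ∃ z ∈ d.Z a, z • b = c}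
  have bΦ : b ∈ Φ := ⟨1, one_mem _, one_smul _ _⟩
  have c1 := card_orbit (L := d.Z a) bΦ (by
    rintro g hg _ ⟨z, hz, rfl⟩
    exact ⟨g * z, mul_mem hg hz, mul_smul _ _ _⟩) fun c hc => hc
  have e1 : d.Z a ⊓ stabilizer G b = ⊥ :=
    eq_bot_iff.2 fun z hz => mem_bot.2 (k.Z_semi hz.1 hab.symm hz.2)
  rw [e1, card_bot, mul_one] at c1
  have sub : Φ ⊆ d.Ln a b \ {a} := by
    rintro _ ⟨z, hz, rfl⟩
    exact ⟨k.NA_smul (ZN k a b hz) (k.right_Ln a b), smul_ne (k.sp.fix a z (ZU hz)) hab.symm⟩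
  have c2 := dvd_of_semireg (L := zpowers y) (Φ := Φ \ {b}) (by
    rintro g hg _ ⟨⟨z, hz, rfl⟩, hb⟩
    have gD := (zD l hg).1
    refine ⟨⟨g * z * g⁻¹, H24.conj_mem (k.norm_Z a gD.1) hz, ?_⟩, smul_ne gD.2 hb⟩
    rw [mul_smul, mul_smul, inv_smul_eq_iff.2 gD.2.symm]) (by
    intro g hg c hc e
    by_contra g1
    rcases l.fpf g hg g1 c (sub hc.1).1 e with h | h
    exacts [(sub hc.1).2 h, hc.2 h])
  rw [Nat.card_zpowers, Set.ncard_sdiff_singleton_of_mem bΦ, ← c1] at c2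
  have c3 := Set.ncard_le_ncard sub
  rw [Set.ncard_sdiff_singleton_of_mem (k.left_Ln a b), ← hk] at c3
  have o1 : Odd ♯(d.Z a) := (k.odd a).of_dvd_nat (card_dvd fun z hz => ZU hz)
  have o2 := zodd k l (mem_zpowers y)
  have n1 : 1 < ♯(d.Z a) := (one_lt_card_iff_ne_bot _).2 (k.Z_ne hab)
  have c4 : 2 * orderOf y ∣ ♯(d.Z a) - 1 :=
    (Nat.coprime_two_left.2 o2).mul_dvd_of_dvd_of_dvd (Nat.Odd.sub_odd o1 odd_one).two_dvd c2
  have c5 := Nat.le_of_dvd (by omega) c4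
  have e2 : Φ = d.Ln a b \ {a} := Set.eq_of_subset_of_ncard_le sub (by
    rw [Set.ncard_sdiff_singleton_of_mem (k.left_Ln a b), ← hk]; omega)
  exact ⟨fun c hc ca => e2.ge ⟨hc, ca⟩, by omega⟩

theorem KSPx.dec (k : Cx d) (l : Lk d t a b y) (h1 : y ≠ 1) (hx : x ∈ d.U a) (hn : x ∈ N[d.A a b]) :
    ∃ z ∈ d.Z a, z⁻¹ * x ∈ d.A a b := by
  have hab := l.tt.sw.ne
  obtain ⟨z, hz, e⟩ := (l.Z_tr k h1).1 _ (k.NA_smul hn (k.right_Ln a b))
    (smul_ne (k.sp.fix a x hx) hab.symm)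
  exact ⟨z, hz, d.mem_A.2 ⟨mul_mem (inv_mem (ZU hz)) hx, by rw [mul_smul, ← e, inv_smul_smul]⟩⟩

theorem Lk.U_eq (k : Cx d) (l : Lk d t a b y) (h1 : y ≠ 1) :
    d.U a = d.P a ∧ d.U a ⊓ N[d.A a b] = d.Z a ⊔ d.A a b ∧ d.M a ⊓ N[d.A a b] = d.Z a := by
  have hab := l.tt.sw.ne
  have e1 : d.U a ⊓ N[d.A a b] = d.Z a ⊔ d.A a b := by
    refine le_antisymm (fun x hx => ?_)
      (sup_le (le_inf (fun z hz => ZU hz) (ZN k a b)) (le_inf (d.A_le a b) (norm_self _)))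
    obtain ⟨z, hz, e⟩ := dec k l h1 hx.1 hx.2
    simpa using mul_mem_sup hz e
  refine ⟨le_antisymm ?_ (d.P_le a), e1, le_antisymm (fun x hx => ?_)
    (le_inf (k.Z_le_M hab) (ZN k a b))⟩
  · rw [← ((k.sp.nil a).pcoreC {d.p}).cp.sup]
    refine sup_le le_rfl ((le_inf (pcore_le _ _) (norm_of_cent (k.R_le hab))).trans ?_)
    rw [e1]
    exact sup_le (d.Z_le a) (k.pA a b hab)
  · obtain ⟨z, hz, e⟩ := dec k l h1 (d.P_le a (k.M_le a hx.1)) hx.2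
    have := (k.MA a b hab).le (mem_inf.2 ⟨mul_mem (inv_mem (k.Z_le_M hab hz)) hx.1, e⟩)
    rwa [← inv_mul_eq_one.1 (mem_bot.1 this)]

theorem Lk.cent (k : Cx d) (l : Lk d t a b y) (hx : x ∈ zpowers y) (h1 : x ≠ 1) :
    d.U a ⊓ C{x} = d.A a b := by
  have hab := l.tt.sw.ne
  refine (((k.sp.nil a).of_le inf_le_left).eq_of_norm_le (le_inf (d.A_le a b) fun u hu =>
    mem_C1.2 (mem_C.1 (zpowers_le.2 l.cA hx) u hu)) fun u hu => ⟨hu.1.1, ?_⟩).symm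
  refine (l.fpf x hx h1 _ (k.NA_smul hu.2 (k.right_Ln a b)) ?_).resolve_left
    (smul_ne (k.sp.fix a u hu.1.1) hab.symm)
  rw [← mul_smul, ← mem_C1.1 hu.1.2, mul_smul, (zD l hx).1.2]

theorem KSPx.semi (k : Cx d) (l : Lk d t a b y) (hz : z ∈ d.Z a) (z1 : z ≠ 1) (hx : x ∈ zpowers y)
    (e : x * z * x⁻¹ = z) : x = 1 := by
  by_contra h1
  exact z1 (k.Z_semi hz l.tt.sw.ne.symm
    ((l.cent k hx h1).le ⟨ZU hz, mem_C1_comm.1 (mem_C1_iff_conj.2 e)⟩).2)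

/-- the classes of `⟨y⟩` on `Z#` are `O` and `O⁻¹` -/
theorem KSPx.orb (k : Cx d) (l : Lk d t a b y) (h1 : y ≠ 1) (hz : z ∈ d.Z a) (z1 : z ≠ 1) {v : G}
    (hv : v ∈ d.Z a) (v1 : v ≠ 1) : ∃ x ∈ zpowers y, x * z * x⁻¹ = v ∨ x * z * x⁻¹ = v⁻¹ := by
  let O : G → Set G := fun z => (fun x => x * z * x⁻¹) '' (zpowers y : Set G)
  have c1 : ∀ z ∈ d.Z a, z ≠ 1 → (O z).ncard = orderOf y := fun z hz z1 => by
    rw [Set.InjOn.ncard_image, ← Nat.card_zpowers, ← Nat.card_coe_set_eq]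
    · rfl
    intro x hx x' hx' e
    have := semi k l hz z1 (mul_mem (inv_mem hx') hx) (by
      rw [show x'⁻¹ * x * z * (x'⁻¹ * x)⁻¹ = x'⁻¹ * (x * z * x⁻¹) * x' by group, show x * z * x⁻¹ = _ from e]
      group)
    exact (inv_mul_eq_one.1 this).symm
  have s1 : ∀ z ∈ d.Z a, z ≠ 1 → O z ⊆ (d.Z a : Set G) \ {1} := by
    rintro z hz z1 _ ⟨x, hx, rfl⟩
    exact ⟨H24.conj_mem (k.norm_Z a (zD l hx).1.1) hz, fun e => z1 (conj_eq_one_iff.1 e)⟩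
  have dj : Disjoint (O z) (O z⁻¹) := by
    rw [Set.disjoint_left]
    rintro _ ⟨x, hx, rfl⟩ ⟨x', hx', e⟩
    refine z1 (eq_one_of_conj_inv (zodd k l (mul_mem (inv_mem hx') hx)) (Zodd k hz) ?_)
    rw [show x'⁻¹ * x * z * (x'⁻¹ * x)⁻¹ = x'⁻¹ * (x * z * x⁻¹) * x' by group,
      ← show x' * z⁻¹ * x'⁻¹ = x * z * x⁻¹ from e]
    group
  have e : O z ∪ O z⁻¹ = (d.Z a : Set G) \ {1} := by
    refine Set.eq_of_subset_of_ncard_le
      (Set.union_subset (s1 z hz z1) (s1 _ (inv_mem hz) (inv_ne_one.2 z1))) ?_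
    rw [Set.ncard_union_eq dj, c1 z hz z1, c1 _ (inv_mem hz) (inv_ne_one.2 z1),
      Set.ncard_sdiff_singleton_of_mem (one_mem (d.Z a)), ← Nat.card_coe_set_eq]
    have := (l.Z_tr k h1).2
    change ♯(d.Z a) - 1 ≤ _
    omega
  rcases e.ge ⟨hv, v1⟩ with ⟨x, hx, e⟩ | ⟨x, hx, e⟩
  · exact ⟨x, hx, .inl e⟩
  · exact ⟨x, hx, .inr (by rw [← e]; group)⟩

theorem Lk.pm (k : Cx d) (l : Lk d t a b y) (h1 : y ≠ 1) (hw : w ∈ St G a b) (h2 : w * w = 1) :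
    ((∀ z ∈ d.Z a, w * z * w = z) ∨ ∀ z ∈ d.Z a, w * z * w = z⁻¹) ∧ w * y = y * w := by
  have hab := l.tt.sw.ne
  have wi : w⁻¹ = w := inv_eq_of_mul_eq_one_right h2
  have wn : ∀ x ∈ zpowers y, w * x * w ∈ zpowers y := fun x hx => by
    simpa only [wi] using H24.conj_mem (l.norm hw) hx
  have o1 : Odd ♯(d.Z a) := (k.odd a).of_dvd_nat (card_dvd fun z hz => ZU hz)
  have key : ∀ c ∈ d.Z a, ∀ v ∈ d.Z a, w * c = c * w → w * v * w = v⁻¹ → c = 1 ∨ v = 1 := by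
    intro c hc v hv e1 e2
    by_contra hn
    obtain ⟨c1, v1⟩ := not_or.1 hn
    obtain ⟨x, hx, e⟩ := orb k l h1 hc c1 hv v1
    have e3 : w * (x * c * x⁻¹) * w = (x * c * x⁻¹)⁻¹ := by
      rcases e with e | e <;> rw [e]
      · exact e2
      · calc w * v⁻¹ * w = (w⁻¹ * v * w⁻¹)⁻¹ := by group
          _ = _ := by rw [wi, e2]
    refine c1 (eq_one_of_conj_inv (zodd k l (mul_mem (inv_mem hx) (wn x hx))) (Zodd k hc) ?_)
    calc _ = x⁻¹ * (w * (x * (w * c * w⁻¹) * x⁻¹) * w⁻¹) * x := by group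
      _ = _ := by rw [e1, mul_inv_cancel_right, wi, e3]; group
  have pm : (∀ z ∈ d.Z a, w * z * w = z) ∨ ∀ z ∈ d.Z a, w * z * w = z⁻¹ := by
    by_contra hn
    push Not at hn
    obtain ⟨⟨z, hz, e⟩, z', hz', e'⟩ := hn
    obtain ⟨c, hc, v, hv, e1, e2, rfl⟩ := dec_inv o1 h2 (k.norm_Z a hw.1) hz
    obtain ⟨c', hc', v', hv', e1', e2', rfl⟩ := dec_inv o1 h2 (k.norm_Z a hw.1) hz'
    rcases key c' hc' v hv e1' e2 with rfl | rfl
    · exact e' (by rwa [one_mul])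
    · exact e (by rw [mul_one, e1, mul_assoc, h2, mul_one])
  refine ⟨pm, ?_⟩
  obtain ⟨z, hz, z1⟩ := exists_ne_one (k.Z_ne hab)
  have hz' := H24.conj_mem (k.norm_Z a (inv_mem (yD l)).1.1) hz
  have := semi k l hz z1 (mul_mem (wn y (mem_zpowers y)) (inv_mem (mem_zpowers y))) (by
    rw [show w * y * w * y⁻¹ * z * (w * y * w * y⁻¹)⁻¹ =
      w * (y * (w * (y⁻¹ * z * y⁻¹⁻¹) * w⁻¹) * y⁻¹) * w⁻¹ by group, wi]
    rcases pm with h | h
    · rw [h _ hz', show y * (y⁻¹ * z * y⁻¹⁻¹) * y⁻¹ = z by group, h z hz]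
    · rw [h _ hz', show y * (y⁻¹ * z * y⁻¹⁻¹)⁻¹ * y⁻¹ = z⁻¹ by group, h _ (inv_mem hz), inv_inv])
  rw [mul_inv_eq_one] at this
  rw [← mul_inv_eq_iff_eq_mul, wi, this]

theorem Cx.exists_ev (k : Cx d) (hab : a ≠ b) : ∃ m, Ev d m := by
  obtain ⟨t, s⟩ := k.exists_t hab
  obtain ⟨y, l⟩ := s.lk k
  refine ⟨orderOf y, fun a b hab w hw h2 h1 => k.inv_W hab hw h2 h1 ?_,
    fun t a b s w hw h2 x hx => ?_, fun t' a' b' s' => ?_, fun hd => ?_⟩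
  · obtain ⟨t, s⟩ := k.exists_t hab
    obtain ⟨y, l⟩ := s.lk k
    rcases l.alt with h | h
    · exact cyc_pm k.pp (k.p_odd hab) ((k.P_pi a).of_le (inf_le_left.trans (k.M_le a))) h.2 h2
        (norm_inf (X := St G a b) (inf_le_left.trans (k.norm_M a)) (norm_N (k.norm_A a b)) hw)
    · rw [(l.U_eq k h.1).2.2]
      exact (l.pm k h.1 hw h2).1
  · obtain ⟨y, l⟩ := s.lk k
    have hx' : x ∈ zpowers y := l.ks.le hx
    by_cases h1 : y = 1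
    · rw [h1, zpowers_one_eq_bot, mem_bot] at hx'
      rw [hx', mul_one, one_mul]
    · exact (mem_C1.1 (zpowers_le.2 (mem_C1.2 (l.pm k h1 hw h2).2.symm) hx')).symm
  · obtain ⟨g, ga, gb⟩ := k.sp.two a b a' b' hab s'.sw.ne
    have s1 := s.cj k g
    rw [ga, gb] at s1
    obtain ⟨e, he, e1⟩ := s1.conj k s'
    have e2 : cj (e * g) (d.D0 a b) = d.D0 a' b' := by
      rw [k.cj_D0, mul_smul, mul_smul, ga, gb, he.1.1, he.1.2]
    have e3 : Ks t' (d.D0 a' b') = (fun x => e * g * x * (e * g)⁻¹) '' Ks t (d.D0 a b) := by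
      rw [← e2, ← e1]
      ext x
      constructor
      · rintro ⟨h1, h2⟩
        obtain ⟨v, hv, rfl⟩ := mem_cj'.1 h1
        refine ⟨v, ⟨hv, ?_⟩, rfl⟩
        calc t * v * t = (e * g)⁻¹ * (e * (g * t * g⁻¹) * e⁻¹ * (e * g * v * (e * g)⁻¹) *
            (e * (g * t * g⁻¹) * e⁻¹)) * (e * g) := by group
          _ = _ := by rw [h2]; group
      · rintro ⟨v, ⟨hv, h2⟩, rfl⟩
        refine ⟨conj_mem_cj _ hv, ?_⟩
        calc _ = e * g * (t * v * t) * (e * g)⁻¹ := by group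
          _ = _ := by rw [h2]; group
    rw [e3, Set.ncard_image_of_injective _ (fun x x' h => by simpa using h), l.ks, ← Nat.card_zpowers,
      ← Nat.card_coe_set_eq]
    rfl
  · rcases l.alt with h | h
    · rw [h.1, orderOf_one] at hd
      exact (Nat.not_even_iff_odd.2 (k.p_odd hab))
        (((Nat.prime_dvd_prime_iff_eq k.pp Nat.prime_two).1 hd).symm ▸ even_two)
    · have := k.k_mod hab
      rw [← h.2] at this
      have := Nat.dvd_sub (hd.mul_left 2) this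
      rw [show 2 * (orderOf y + 1) - (2 * orderOf y + 2 - 1) = 1 by omega] at this
      exact k.pp.one_lt.ne' (Nat.dvd_one.1 this)

end H1.KS
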