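import Mathlib
import Cfsg.Agent.H1.KS0
import Cfsg.Agent.H1.KSP

set_option autoImplicit false
set_option linter.unusedSectionVars false
set_option linter.unusedVariables false

namespace H1.KS

open Cfsg H24 MulAction Subgroup

universe u

namespace KSUx

open scoped commutatorElement

variable {G : Type u} [Group G] [Finite G] {P M A R T K V S : Subgroup G} {x v : G} {p : ℕ}

theorem cls_le (h : ∀ g ∈ P, x⁻¹ * (g * x * g⁻¹) ∈ M) : C{x}.relIndex P ≤ ♯M := by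
  unfold Subgroup.relIndex Subgroup.index
  refine Nat.card_le_card_of_injective (fun q => (⟨x⁻¹ * (((Quotient.out q : P) : G) * x *
    ((Quotient.out q : P) : G)⁻¹), h _ (Quotient.out q).2⟩ : M)) ?_
  intro q r e
  have e1 := mul_left_cancel (congrArg Subtype.val e)
  rw [← QuotientGroup.out_eq' q, ← QuotientGroup.out_eq' r, QuotientGroup.eq, mem_subgroupOf,
    mem_C1]
  simp only [Subgroup.coe_mul, Subgroup.coe_inv]
  generalize ((Quotient.out q : P) : G) = g at e1 ⊢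
  generalize ((Quotient.out r : P) : G) = k at e1 ⊢
  calc g⁻¹ * k * x = g⁻¹ * (k * x * k⁻¹) * k := by group
    _ = g⁻¹ * (g * x * g⁻¹) * k := by rw [e1]
    _ = x * (g⁻¹ * k) := by group

theorem sq_one (ho : Odd ♯K) (hx : x ∈ K) (h : x⁻¹ = x) : x = 1 := by
  have h2 : x ^ 2 = 1 := by rw [pow_two]; nth_rewrite 1 [← h]; exact inv_mul_cancel x
  have h3 : orderOf x ∣ Nat.gcd 2 ♯K :=
    Nat.dvd_gcd (orderOf_dvd_of_pow_eq_one h2) (orderOf_dvd_card' hx)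
  rw [(Nat.coprime_two_left.2 ho : Nat.gcd 2 ♯K = 1)] at h3
  exact orderOf_eq_one_iff.1 (Nat.dvd_one.1 h3)

theorem odd_inv (ho : Odd ♯K) {J : Set G} (hJ : J ⊆ K) (h1 : (1 : G) ∈ J)
    (hi : ∀ k ∈ J, k⁻¹ ∈ J) : Odd J.ncard := by
  classical
  have hf : (J \ {1}).Finite := Set.toFinite _
  have h0 : ∑ _k ∈ hf.toFinset, (1 : ZMod 2) = 0 := by
    refine Finset.sum_involution (fun k _ => k⁻¹) (fun _ _ => by decide) ?_ ?_ ?_
    · intro k hk _ e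
      rw [Set.Finite.mem_toFinset] at hk
      exact hk.2 (sq_one ho (hJ hk.1) e)
    · intro k hk
      rw [Set.Finite.mem_toFinset] at hk ⊢
      exact ⟨hi k hk.1, fun e => hk.2 (inv_eq_one.1 e)⟩
    · intro k hk
      exact inv_inv k
  rw [Finset.sum_const, nsmul_eq_mul, mul_one, ZMod.natCast_eq_zero_iff,
    ← Set.ncard_eq_toFinset_card _ hf] at h0
  rw [← Set.ncard_diff_singleton_add_one h1]
  exact (even_iff_two_dvd.2 h0).add_one

theorem orb_card (hs : Semireg V K) (hoV : Odd ♯V) (hoK : Odd ♯K) (hv : v ∈ V) (h1 : v ≠ 1)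
    {J : Set G} (hJ : J ⊆ K) :
    (insert 1 ((fun k => k * v * k⁻¹) '' J ∪ (fun k => k * v⁻¹ * k⁻¹) '' J)).ncard =
      2 * J.ncard + 1 := by
  have inj : ∀ w ∈ V, w ≠ 1 → Set.InjOn (fun k => k * w * k⁻¹) J := by
    intro w hw w1 k hk k' hk' e
    by_contra hne
    have e' : k * w * k⁻¹ = k' * w * k'⁻¹ := e
    refine w1 (hs.eq_one (K.mul_mem (K.inv_mem (hJ hk')) (hJ hk))
      (fun h => hne (inv_mul_eq_one.1 h).symm) hw ?_)
    calc w * (k'⁻¹ * k) = k'⁻¹ * (k' * w * k'⁻¹) * k := by group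
      _ = k'⁻¹ * (k * w * k⁻¹) * k := by rw [e']
      _ = k'⁻¹ * k * w := by group
  rw [Set.ncard_insert_of_notMem, Set.ncard_union_eq, (inj v hv h1).ncard_image,
    (inj v⁻¹ (V.inv_mem hv) (inv_ne_one.2 h1)).ncard_image, two_mul]
  · rw [Set.disjoint_left]
    rintro _ ⟨k, hk, rfl⟩ ⟨k', hk', e⟩
    have e' : k' * v⁻¹ * k'⁻¹ = k * v * k⁻¹ := e
    have hm : k'⁻¹ * k ∈ K := K.mul_mem (K.inv_mem (hJ hk')) (hJ hk)
    refine h1 (eq_one_of_conj_inv (y := k'⁻¹ * k) (hoK.of_dvd_nat (orderOf_dvd_card' hm))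
      (hoV.of_dvd_nat (orderOf_dvd_card' hv)) ?_)
    calc k'⁻¹ * k * v * (k'⁻¹ * k)⁻¹ = k'⁻¹ * (k * v * k⁻¹) * k' := by group
      _ = k'⁻¹ * (k' * v⁻¹ * k'⁻¹) * k' := by rw [e']
      _ = v⁻¹ := by group
  · rintro (⟨k, hk, e⟩ | ⟨k, hk, e⟩)
    · exact h1 (conj_eq_one_iff'.1 e)
    · exact h1 (inv_eq_one.1 (conj_eq_one_iff'.1 e))

theorem orb_cover (hs : Semireg V K) (hn : K ≤ N[V]) (hoK : Odd ♯K) (hc : ♯V = 2 * ♯K + 1)
    (hv : v ∈ V) (h1 : v ≠ 1) :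
    ∀ w ∈ V, w = 1 ∨ ∃ k ∈ K, w = k * v * k⁻¹ ∨ w = k * v⁻¹ * k⁻¹ := by
  have hoV : Odd ♯V := hc ▸ odd_two_mul_add_one _
  have h := orb_card hs hoV hoK hv h1 (J := K) subset_rfl
  have hsub : insert 1 ((fun k => k * v * k⁻¹) '' (K : Set G) ∪
      (fun k => k * v⁻¹ * k⁻¹) '' (K : Set G)) ⊆ (V : Set G) := by
    rintro _ (rfl | ⟨k, hk, rfl⟩ | ⟨k, hk, rfl⟩)
    · exact V.one_mem
    · exact conj_mem (hn hk) hv
    · exact conj_mem (hn hk) (V.inv_mem hv)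
  have e := Set.eq_of_subset_of_ncard_le hsub (by
    rw [h, ← Nat.card_coe_set_eq, ← Nat.card_coe_set_eq]; exact hc.le)
  intro w hw
  have hw' : w ∈ (V : Set G) := hw
  rw [← e] at hw'
  rcases hw' with rfl | ⟨k, hk, rfl⟩ | ⟨k, hk, rfl⟩
  · exact Or.inl rfl
  · exact Or.inr ⟨k, hk, Or.inl rfl⟩
  · exact Or.inr ⟨k, hk, Or.inr rfl⟩

theorem orb_sub (hs : Semireg V K) (hn : K ≤ N[V]) (hoK : Odd ♯K) (hc : ♯V = 2 * ♯K + 1)
    (hv : v ∈ V) (h1 : v ≠ 1) (hS : S ≤ V) :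
    ♯S = 2 * {k | k ∈ K ∧ k * v * k⁻¹ ∈ S}.ncard + 1 := by
  have hoV : Odd ♯V := hc ▸ odd_two_mul_add_one _
  rw [← orb_card hs hoV hoK hv h1 (J := {k | k ∈ K ∧ k * v * k⁻¹ ∈ S}) fun k hk => hk.1]
  change Nat.card (S : Set G) = _
  rw [Nat.card_coe_set_eq]
  congr 1
  apply Set.Subset.antisymm
  · intro w hw
    rcases orb_cover hs hn hoK hc hv h1 w (hS hw) with rfl | ⟨k, hk, rfl | rfl⟩
    · exact Or.inl rfl
    · exact Or.inr (Or.inl ⟨k, ⟨hk, hw⟩, rfl⟩)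
    · refine Or.inr (Or.inr ⟨k, ⟨hk, ?_⟩, rfl⟩)
      have := S.inv_mem hw
      simpa only [mul_inv_rev, inv_inv, mul_assoc] using this
  · rintro _ (rfl | ⟨k, hk, rfl⟩ | ⟨k, hk, rfl⟩)
    · exact S.one_mem
    · exact hk.2
    · have := S.inv_mem hk.2
      simpa only [mul_inv_rev, inv_inv, mul_assoc, SetLike.mem_coe] using this

theorem quo_c (hRT : R ≤ N[T]) (hKT : K ≤ N[T]) (hK : K ≤ N[R]) (cop : (♯T).Coprime ♯K)
    (hc : ∀ x ∈ K, x ≠ 1 → R ⊓ C{x} ≤ A) :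
    ∀ x ∈ quo K T, x ≠ 1 → quo R T ⊓ C{x} ≤ quo A T := by
  intro x hx x1
  obtain ⟨k, hk, -, rfl⟩ := mem_quo.1 hx
  rw [← coprime_quo_cent1 (hK hk) (hKT hk) hRT (cop.coprime_dvd_right (orderOf_dvd_card' hk))]
  exact quo_mono _ (hc k hk fun e => x1 (by rw [e]; exact cs_of_mem T.one_mem))

theorem sr_quo (hRT : R ≤ N[T]) (hKT : K ≤ N[T]) (hK : K ≤ N[R]) (cop : (♯T).Coprime ♯K)
    (hc : ∀ x ∈ K, x ≠ 1 → R ⊓ C{x} ≤ T) : Semireg (quo R T) (quo K T) := by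
  refine semireg_iff.2 fun x hx x1 y hy e => ?_
  have := quo_c hRT hKT hK cop hc x hx x1 (⟨hy, mem_C1.2 e⟩ : y ∈ quo R T ⊓ C{x})
  rwa [quo_eq_bot_of_le le_rfl, mem_bot] at this

theorem arith {e j m : ℕ} (hj : Odd j) (hm : Odd m) (h1 : (2 * j + 1) * p = 2 * m + 1)
    (h2 : 2 * m + 1 = p ^ e) : False := by
  obtain ⟨j, rfl⟩ := hj
  obtain ⟨m, rfl⟩ := hm
  have hp : p % 4 = 1 := by
    have h3 : (2 * (2 * j + 1) + 1) * p = 4 * (j * p) + 3 * p := by ring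
    omega
  have : p ^ e % 4 = 1 := by rw [Nat.pow_mod, hp]; simp
  omega

theorem core2 (hp : p.Prime) (hR : IsPi {p} R) (hT : T ≤ R) (hTR : T ≤ C[R]) (hTK : T ≤ C[K])
    (hK : K ≤ N[R]) (hoK : Odd ♯K) (cop : (♯R).Coprime ♯K)
    (hc : ∀ x ∈ K, x ≠ 1 → R ⊓ C{x} ≤ T) (hq : T.relIndex R = 2 * ♯K + 1) : Abl R := by
  have hRT : R ≤ N[T] := norm_of_cent (cents_symm hTR)
  have hKT : K ≤ N[T] := norm_of_cent (cents_symm hTK)
  have copT : (♯T).Coprime ♯K := cop.coprime_dvd_left (card_dvd hT)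
  have hs := sr_quo hRT hKT hK copT hc
  have cK : ♯(quo K T) = ♯K := card_quo_of_inf hKT (inf_eq_bot_of_cop copT)
  have hn : quo K T ≤ N[quo R T] := quo_norm T hK
  have hoK' : Odd ♯(quo K T) := cK ▸ hoK
  have hc' : ♯(quo R T) = 2 * ♯(quo K T) + 1 := by rw [card_quo hRT, hq, cK]
  have hV1 : quo R T ≠ ⊥ := by
    intro e
    rw [e, card_bot] at hc'
    have := card_pos (quo K T)
    omega
  have hRR : ⁅R, R⁆ ≤ T := by
    rw [← abl_quo hRT, abl_iff]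
    obtain ⟨z, hz, z1⟩ := exists_ne_one (((hR.quo T).nil hp).center_ne_bot hV1)
    intro w hw
    rcases orb_cover hs hn hoK' hc' hz.1 z1 w hw with rfl | ⟨k, hk, rfl | rfl⟩
    · exact one_mem _
    · exact (conj_mem (norm_Z hn hk) hz).2
    · exact (conj_mem (norm_Z hn hk) (inv_mem hz)).2
  by_contra hab
  have h0 : ⊥ < ⁅R, R⁆ := bot_lt_iff_ne_bot.2 fun e => hab (der1_eq_bot.1 e)
  obtain ⟨T1, -, hT1, hi⟩ := exists_maximal_pgroup hp (hR.of_le (der1_le R)) h0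
  have h1T : T1 ≤ T := hT1.le.trans hRR
  have hR1 : R ≤ N[T1] := norm_of_cent (cents_symm (h1T.trans hTR))
  have hK1 : K ≤ N[T1] := norm_of_cent (cents_symm (h1T.trans hTK))
  have hex : ∃ v ∈ R, ∃ w ∈ R, ⁅v, w⁆ ∉ T1 := by
    by_contra hh
    push Not at hh
    have : ⁅R, R⁆ ≤ T1 := commutator_le.2 hh
    rw [relIndex_eq_one.2 this] at hi
    exact hp.one_lt.ne hi
  obtain ⟨v, hv, w, hw, hvw⟩ := hex
  have memS : ∀ u, u ∈ R ⊓ coq T1 C{cs T1 v} ↔ u ∈ R ∧ ⁅v, u⁆ ∈ T1 := by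
    intro u
    rw [mem_inf, and_congr_right_iff]
    intro hu
    rw [mem_coq, mem_C1, and_iff_right (hR1 hu), eq_comm, ← commutatorElement_eq_one_iff_mul_comm,
      ← ap_commutator _ (hR1 hv) (hR1 hu)]
    exact cs_eq_one (hR1 (der1_le R (commutator_mem_commutator hv hu)))
  generalize hS : R ⊓ coq T1 C{cs T1 v} = S at memS
  have hSR : S ≤ R := fun u hu => ((memS u).1 hu).1
  have hTS : T ≤ S := fun u hu => (memS u).2 ⟨hT hu, by
    rw [commutatorElement_eq_one_iff_mul_comm.2 (mem_C.1 (hTR hu) v hv)]; exact T1.one_mem⟩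
  have hvT : v ∉ T := fun h => hvw (by
    rw [commutatorElement_eq_one_iff_mul_comm.2 (mem_C'.1 (hTR h) w hw)]; exact T1.one_mem)
  have hle : S.relIndex R ≤ p := by
    rw [← hS, inf_relIndex_left, relIndex_coq _ hR1, ← hi, ← card_quo ((der1_le R).trans hR1)]
    refine cls_le fun g hg0 => ?_
    obtain ⟨g, hg, -, rfl⟩ := mem_quo.1 hg0
    have hm : ⁅v⁻¹, g⁆ ∈ ⁅R, R⁆ := commutator_mem_commutator (R.inv_mem hv) hg
    have := cs_mem_quo hm (hR1 (der1_le R hm))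
    rw [show cs T1 ⁅v⁻¹, g⁆ = _ from ap_commutator _ (hR1 (R.inv_mem hv)) (hR1 hg),
      ap_inv _ (hR1 hv), commutatorElement_def, inv_inv] at this
    simpa only [mul_assoc] using this
  have hSp : S.relIndex R = p := by
    obtain ⟨n, hn⟩ := (piNat_singleton hp (relIndex_ne_zero' S R)).1 (hR.relIndex S)
    have n0 : n ≠ 0 := by
      rintro rfl
      exact hvw ((memS w).1 (relIndex_eq_one.1 hn hw)).2
    have : p ≤ p ^ n := Nat.le_self_pow n0 p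
    omega
  have hv1 : cs T v ≠ 1 := fun e => hvT ((cs_eq_one (hRT hv)).1 e)
  have hcS := orb_sub hs hn hoK' hc' (cs_mem_quo hv (hRT hv)) hv1 (quo_mono T hSR)
  have hTS' : T ⊴ S := ⟨hTS, hSR.trans hRT⟩
  have key : ∀ k ∈ K, cs T k * cs T v * (cs T k)⁻¹ ∈ quo S T ↔ ⁅v, k * v * k⁻¹⁆ ∈ T1 := by
    intro k hk
    have hm : k * v * k⁻¹ ∈ R := conj_mem (hK hk) hv
    rw [← ap_conj _ (hKT hk) (hRT hv)]
    exact ⟨fun h => ((memS _).1 (mem_of_cs_mem_quo hTS' (hRT hm) h)).2,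
      fun h => cs_mem_quo ((memS _).2 ⟨hm, h⟩) (hRT hm)⟩
  have hoJ : Odd {k | k ∈ quo K T ∧ k * cs T v * k⁻¹ ∈ quo S T}.ncard := by
    refine odd_inv hoK' (fun k hk => hk.1) ⟨one_mem _, ?_⟩ ?_
    · rw [one_mul, inv_one, mul_one]
      refine cs_mem_quo ((memS v).2 ⟨hv, ?_⟩) (hRT hv)
      rw [commutatorElement_self]; exact T1.one_mem
    · rintro _ ⟨hk0, h⟩
      refine ⟨inv_mem hk0, ?_⟩
      obtain ⟨k, hk, -, rfl⟩ := mem_quo.1 hk0
      rw [← ap_inv _ (hKT hk)]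
      refine (key k⁻¹ (K.inv_mem hk)).2 ?_
      have := conj_mem' (hK1 hk) (T1.inv_mem ((key k hk).1 h))
      convert this using 1
      simp only [commutatorElement_def]
      group
  obtain ⟨e, he⟩ := (piNat_singleton hp (relIndex_ne_zero' T R)).1 (hR.relIndex T)
  refine arith (p := p) (e := e) hoJ hoK ?_ (hq ▸ he)
  rw [← hcS, card_quo hTS'.norm, ← hSp, relIndex_mul_relIndex _ _ _ hTS hSR, hq]

theorem core (hp : p.Prime) (hP : IsPi {p} P) (hoP : Odd ♯P) (hA : A ≤ P) (hAK : A ≤ C[K])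
    (hK : K ≤ N[P]) (hoK : Odd ♯K) (cop : (♯P).Coprime ♯K)
    (hc : ∀ x ∈ K, x ≠ 1 → P ⊓ C{x} ≤ A) (hq : ♯P ≤ (2 * ♯K + 1) * ♯A) : ⁅P, K⁆ ⊓ A = ⊥ := by
  rcases hA.eq_or_lt with rfl | hlt
  · rw [comm_eq_bot.2 hAK, bot_inf_eq]
  have hKA : K ≤ N[A] := norm_of_cent (cents_symm hAK)
  have copA : (♯A).Coprime ♯K := cop.coprime_dvd_left (card_dvd hA)
  have hN := (hP.nil hp).proper_norm hlt
  have hKN : K ≤ N[P ⊓ N[A]] := norm_inf hK (norm_N hKA)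
  have hs := sr_quo (R := P ⊓ N[A]) inf_le_right hKA hKN copA
    fun x hx x1 => (inf_le_inf_right _ inf_le_left).trans (hc x hx x1)
  have hd := hs.dvd_pred (quo_norm A hKN)
  rw [card_quo_of_inf hKA (inf_eq_bot_of_cop copA), card_quo inf_le_right] at hd
  have hm := card_mul_relIndex hN.le
  have hi1 : A.relIndex (P ⊓ N[A]) ≠ 1 := fun e => hN.not_ge (relIndex_eq_one.1 e)
  have hi0 := relIndex_ne_zero' A (P ⊓ N[A])
  have hio : Odd (A.relIndex (P ⊓ N[A])) :=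
    (odd_of_le hoP inf_le_left).of_dvd_nat (Dvd.intro_left _ hm)
  have hd2 : 2 * ♯K ∣ A.relIndex (P ⊓ N[A]) - 1 :=
    (Nat.coprime_two_left.2 hoK).mul_dvd_of_dvd_of_dvd
      (even_iff_two_dvd.1 (Nat.Odd.sub_odd hio odd_one)) hd
  have hge := Nat.le_of_dvd (by omega) hd2
  have hge' : (2 * ♯K + 1) * ♯A ≤ ♯(P ⊓ N[A]) := by
    rw [← hm, mul_comm]; exact Nat.mul_le_mul_left _ (by omega)
  have hNP : P ⊓ N[A] = P := eq_of_card_ge inf_le_left (hq.trans hge')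
  have hPA : P ≤ N[A] := hNP ▸ inf_le_right
  rw [hNP] at hm hge' hge
  have hidx : A.relIndex P = 2 * ♯K + 1 := by
    have := card_pos A
    have h2 : ♯A * A.relIndex P = ♯A * (2 * ♯K + 1) := by
      rw [hm, mul_comm]; exact le_antisymm hq hge'
    exact Nat.eq_of_mul_eq_mul_left this h2
  have hRP : ⁅P, K⁆ ≤ P := comm_le_left hK
  have hRA : ⁅P, K⁆ ≤ C[A] := by
    rw [← comm_eq_bot]
    refine three_subgroup (A := K) (B := A) (K := P) ?_ ?_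
    · rw [comm_eq_bot'.2 hAK, commutator_bot_left]
    · exact eq_bot_of_le (comm_eq_bot.2 hAK) (comm_mono_left (comm_le_left hPA))
  have hpr := H26.coprime_cent_prod hK cop (hP.sol hp)
  have hKR : K ≤ N[⁅P, K⁆] := norm_comm_right P K
  have copR : (♯⁅P, K⁆).Coprime ♯K := cop.coprime_dvd_left (card_dvd hRP)
  rcases eq_or_ne K ⊥ with rfl | hK1
  · rw [commutator_bot_right, bot_inf_eq]
  obtain ⟨y, hy, y1⟩ := exists_ne_one hK1
  have hpr' : IsProd A ⁅P, K⁆ P :=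
    (hpr.mono_right ((inf_le_inf_left _ (C_le_C1 hy)).trans (hc y hy y1)) hA).symm
  have hab : Abl ⁅P, K⁆ := by
    refine core2 (T := ⁅P, K⁆ ⊓ A) hp (hP.of_le hRP) inf_le_left
      (inf_le_right.trans (cents_symm hRA)) (inf_le_right.trans hAK) hKR hoK copR
      (fun x hx x1 => le_inf inf_le_left ((inf_le_inf_right _ hRP).trans (hc x hx x1))) ?_
    rw [inf_relIndex_left, ← hpr'.relIndex_eq, hidx]
  have := H26.coprime_abel_cent_TI hKR copR hab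
  rw [H26.coprime_commGid hK cop (hP.sol hp)] at this
  exact eq_bot_of_le this (inf_le_inf_left _ hAK)

end KSUx

variable {G Ω : Type u} [Group G] [Finite G] [MulAction G Ω] [Finite Ω] {U : Ω → Subgroup G}
  {d : Dt G Ω} {a b c : Ω} {t w x y z : G} {p m : ℕ} {X L N : Subgroup G} {Φ : Set Ω}

/-! ### KSU -/
theorem Lk.reg (k : Cx d) (l : Lk d t a b y) (h1 : y ≠ 1) :
    ∃ X ≤ d.U a, stabilizer G a ≤ N[X] ∧ X ⊓ stabilizer G b = ⊥ ∧
      ∀ c, c ≠ a → ∃ u ∈ X, u • b = c := by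
  have hab : a ≠ b := l.tt.sw.ne
  obtain ⟨hUP, hNA, -⟩ := l.U_eq k h1
  have hKD : zpowers y ≤ d.D0 a b := fun x hx => by
    have : x ∈ Ks t (d.D0 a b) := l.ks ▸ hx
    exact this.1
  have hKB : zpowers y ≤ stabilizer G a := hKD.trans (inf_le_left.trans inf_le_left)
  have hoK : Odd ♯(zpowers y) := odd_of_le (k.D0_odd hab) hKD
  have hP : IsPi {d.p} (d.U a) := hUP ▸ k.P_pi a
  have hKU : zpowers y ≤ N[d.U a] := hKB.trans (k.sp.norm a)
  have hKM : zpowers y ≤ N[d.M a] := hKB.trans (k.norm_M a)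
  have hUM : d.U a ≤ N[d.M a] := (k.sp.le_stab a).trans (k.norm_M a)
  have hMU : d.M a ≤ d.U a := (k.M_le a).trans (d.P_le a)
  have hAU := d.A_le a b
  have cop : (♯(d.U a)).Coprime ♯(zpowers y) := by
    refine hP.coprime ?_
    unfold IsPi
    rw [card_zpowers', piNat_compl_iff_coprime k.pp]
    exact l.cop.symm
  have copM : (♯(d.M a)).Coprime ♯(zpowers y) := cop.coprime_dvd_left (card_dvd hMU)
  have hAK : d.A a b ≤ C[zpowers y] := cents_symm (zpowers_le.2 l.cA)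
  have hc : ∀ x ∈ zpowers y, x ≠ 1 → d.U a ⊓ C{x} ≤ d.A a b := fun x hx x1 => (l.cent k hx x1).le
  have hq : ♯(d.U a) ≤ ♯(d.M a) * ((2 * ♯(zpowers y) + 1) * ♯(d.A a b)) := by
    obtain ⟨x, hx, x1⟩ := exists_ne_one (k.W1 a b hab)
    have e1 := KSUx.cls_le (P := d.U a) (M := d.M a) (x := x) fun g hg => k.comm_W hx hg
    have e2 := card_inf_mul_relIndex C{x} (d.U a)
    rw [inf_comm, k.cent_W hab hx x1, hNA] at e2
    have e3 := card_sup (A := d.Z a) (B := d.A a b)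
      (hAU.trans ((k.sp.le_stab a).trans (k.norm_Z a)))
    have e4 := card_pos (d.Z a ⊓ d.A a b)
    rw [card_zpowers', ← (l.Z_tr k h1).2, ← e2, mul_comm, ← e3]
    exact Nat.mul_le_mul e1 (Nat.le_mul_of_pos_right _ e4)
  have key : ⁅d.U a, zpowers y⁆ ⊓ d.A a b = ⊥ := by
    have cK : ♯(quo (zpowers y) (d.M a)) = ♯(zpowers y) :=
      card_quo_of_inf hKM (inf_eq_bot_of_cop copM)
    have cA : ♯(quo (d.A a b) (d.M a)) = ♯(d.A a b) :=
      card_quo_of_inf (hAU.trans hUM) (k.MA a b hab)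
    have cU := Nml.card_quo (⟨hMU, hUM⟩ : d.M a ⊴ d.U a)
    have := KSUx.core k.pp (hP.quo (d.M a)) (odd_quo (k.odd a) _) (quo_mono _ hAU) (quo_cent _ hAK)
      (quo_norm _ hKU) (odd_quo hoK _) (coprime_quo cop _) (KSUx.quo_c hUM hKM hKU copM hc) (by
        rw [cK, cA]
        exact Nat.le_of_mul_le_mul_left (cU ▸ hq) (card_pos _))
    rw [← quo_comm hUM hKM] at this
    have h2 : ⁅d.U a, zpowers y⁆ ⊓ d.A a b ≤ d.M a :=
      (quo_eq_bot (inf_le_right.trans (hAU.trans hUM))).1 (eq_bot_of_le this (img_inf_le _ _ _))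
    exact eq_bot_of_le (k.MA a b hab) (le_inf h2 inf_le_right)
  have hRU : ⁅d.U a, zpowers y⁆ ≤ d.U a := comm_le_left hKU
  refine ⟨⁅d.U a, zpowers y⁆, hRU, fun g hg => ?_, ?_, fun c hc' => ?_⟩
  · have hg' : g • a = a := hg
    have hb : g • b ≠ a := fun e => hab (smul_left_cancel g (hg'.trans e.symm))
    obtain ⟨u, hu, e⟩ := k.sp.tr a b (g • b) hab.symm hb
    have hs : u⁻¹ * g ∈ St G a b := by
      refine mem_St.2 ⟨?_, ?_⟩
      · rw [mul_smul, hg', inv_smul_eq_iff, k.sp.fix a u hu]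
      · rw [mul_smul, inv_smul_eq_iff, e]
    have := mul_mem (norm_comm_left (d.U a) (zpowers y) hu)
      (norm_comm (inf_le_left.trans (k.sp.norm a)) l.norm hs)
    rwa [mul_inv_cancel_left] at this
  · exact eq_bot_of_le key (le_inf inf_le_left (inf_le_inf_right _ hRU))
  · obtain ⟨u, hu, e⟩ := k.sp.tr a b c hab.symm hc'
    obtain ⟨r, hr, s, hs, rfl⟩ := (H26.coprime_cent_prod hKU cop (hP.sol k.pp)).mul u hu
    have hs' : s ∈ d.A a b := hc y (mem_zpowers y) h1 ⟨hs.1, C_le_C1 (mem_zpowers y) hs.2⟩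
    exact ⟨r, hr, by rw [← e, mul_smul, (d.mem_A.1 hs').2]⟩

end H1.KS
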