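import Mathlib
import Cfsg.Agent.H1.KS0
import Cfsg.Agent.H1.KSU
import Cfsg.Agent.H1.KSN

set_option autoImplicit false
set_option linter.unusedSectionVars false
set_option linter.unusedVariables false

namespace H1.KS

open Cfsg H24 MulAction Subgroup

universe u

variable {G Ω : Type u} [Group G] [Finite G] [MulAction G Ω] [Finite Ω] {U : Ω → Subgroup G}
  {d : Dt G Ω} {a b c : Ω} {t w x y z : G} {p m : ℕ} {X L N : Subgroup G} {Φ : Set Ω}

theorem Cx.D_odd (k : Cx d) (hab : a ≠ b) : Odd ♯(St G a b) := by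
  by_contra he
  obtain ⟨w, hw, ho⟩ := exists_orderOf_eq Nat.prime_two (Nat.not_odd_iff_even.1 he).two_dvd
  have h2 : w * w = 1 := by rw [← pow_two, ← ho, pow_orderOf_eq_one]
  have h1 : w ≠ 1 := fun e => by simp [e] at ho
  obtain ⟨m, e⟩ := k.exists_ev hab
  have cnt := e.count k hab hw h2 h1
  have s := k.sub_inv h2
  have hF : ∀ g ∈ d.U a ⊓ C{w}, ∀ c ∈ fixedBy Ω w \ {a}, g • c ∈ fixedBy Ω w \ {a} :=
    fun g hg c hc => ⟨s.inv g hg.2 c hc.1, smul_ne (k.sp.fix a g hg.1) hc.2⟩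
  have hT : ∀ c ∈ fixedBy Ω w \ {a}, ∀ c' ∈ fixedBy Ω w \ {a}, ∃ g ∈ d.U a ⊓ C{w}, g • c = c' :=
    fun c hc c' hc' => by
      obtain ⟨u, hu, h3, h4⟩ := s.tr a hw.1 c hc.1 c' hc'.1 hc.2 hc'.2
      exact ⟨u, ⟨hu, h3⟩, h4⟩
  have hb : b ∈ fixedBy Ω w \ {a} := ⟨hw.2, hab.symm⟩
  have hc : (fixedBy Ω w \ {a}).ncard = (fixedBy Ω w).ncard - 1 :=
    Set.ncard_sdiff_singleton_of_mem hw.1
  have hX : d.P a ⊓ C{w} ⊴ d.U a ⊓ C{w} := ⟨inf_le_inf_right _ (d.P_le a),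
    norm_inf (inf_le_left.trans ((k.sp.le_stab a).trans (k.norm_P a))) (norm_of_le inf_le_right)⟩
  have hp : IsPi {d.p} (d.P a ⊓ C{w}) := (k.P_pi a).of_le inf_le_left
  by_cases hd : d.p ∣ (fixedBy Ω w).ncard - 1
  · have f1 : 0 < (fixedBy Ω w).ncard := (Set.ncard_pos).2 ⟨a, hw.1⟩
    have h3 : ¬ d.p ∣ 1 + (fixedBy Ω w).ncard * m := fun h => e.nd (by
      have : 1 + (fixedBy Ω w).ncard * m = ((fixedBy Ω w).ncard - 1) * m + (m + 1) := by
        obtain ⟨j, hj⟩ : ∃ j, (fixedBy Ω w).ncard = j + 1 := ⟨_, (Nat.succ_pred_eq_of_pos f1).symm⟩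
        rw [hj, Nat.add_sub_cancel]; ring
      rw [this] at h
      exact (Nat.dvd_add_right (hd.mul_right m)).1 h)
    have c1 := k.sp.card_U hab
    have c2 := card_orbit hb hF (hT b hb)
    have hU := (k.sp.nil a).pcore_hall {d.p}
    have hL := hU.nml_inf (pcore_nml _ _).norm (inf_le_left : d.U a ⊓ C{w} ≤ d.U a)
    have e1 : O[{d.p}, d.U a] ⊓ (d.U a ⊓ C{w}) = d.P a ⊓ C{w} := by
      rw [← inf_assoc, inf_eq_left.2 (pcore_le _ _)]; rfl
    have e2 : d.U a ⊓ C{w} ⊓ stabilizer G b = d.P a ⊓ C{w} ⊓ d.A a b :=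
      le_antisymm (fun g hg => ⟨⟨k.pA a b hab ⟨hg.1.1, hg.2⟩, hg.1.2⟩, hg.1.1, hg.2⟩)
        fun g hg => ⟨⟨hg.2.1, hg.1.2⟩, hg.2.2⟩
    rw [e1] at hL
    rw [e2, hc, ← hL.card] at c2
    rw [cnt, ← hU.card] at c1
    have hA : IsPi {d.p} (d.A a b) := (k.P_pi a).of_le (k.pA a b hab)
    have c3 := (pi_part_unique ((k.P_pi a).piNat.mul 
      (hp.of_le (inf_le_left : d.P a ⊓ C{w} ⊓ d.A a b ≤ _)).piNat)
      hU.idx (hp.piNat.mul hA.piNat) (hL.idx.mul ((piNat_compl_singleton k.pp).2 h3)) (by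
        change ♯(d.P a) * _ = _ * _ * ♯(d.A a b) at c1
        calc ♯(d.P a) * ♯(d.P a ⊓ C{w} ⊓ d.A a b) * O[{d.p}, d.U a].relIndex (d.U a)
            = ♯(d.P a) * O[{d.p}, d.U a].relIndex (d.U a) * ♯(d.P a ⊓ C{w} ⊓ d.A a b) := by ring
          _ = (1 + (fixedBy Ω w).ncard * m) * ♯(d.A a b) *
              (((fixedBy Ω w).ncard - 1) * ♯(d.P a ⊓ C{w} ⊓ d.A a b)) := by
            rw [c1]; ring
          _ = _ := by rw [← c2]; ring))
    exact k.sign2 hab hw h2 h1 (isProd_of_card inf_le_left (k.pA a b hab) c3.le).mul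
  · refine k.sign1 hab hw h2 h1 fun g hg => ⟨d.P_le a hg.1, ?_⟩
    exact nml_fix hX hF hT (by
      rw [hc]; exact hp.piNat.coprime ((piNat_compl_singleton k.pp).2 hd)) g hg b hb

theorem Cx.false (k : Cx d) (hab : a ≠ b) : False := by
  have hD := k.D_odd hab
  have hB : Odd ♯(stabilizer G a) := by
    rw [k.sp.card_B hab]
    refine Odd.mul ((k.odd a).of_dvd_nat ?_) hD
    rw [k.sp.card_U hab]; exact dvd_mul_right _ _
  obtain ⟨t, s⟩ := k.exists_t hab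
  obtain ⟨y, l⟩ := s.lk k
  have hK : Ks t (St G a b) = Ks t (d.D0 a b) := by
    ext x
    refine ⟨fun h => ⟨⟨h.1, ?_⟩, h.2⟩, fun h => ⟨h.1.1, h.2⟩⟩
    have h1 : x * x ∈ C[d.W a b] := mem_C'.2 fun z hz => by
      have h2 := conj_eq_of_mem_C s.cw (conj_mem' (k.norm_W a b h.1) hz)
      have h3 := conj_eq_of_mem_C s.cw hz
      rw [s.sw.inv_eq] at h2 h3
      have h4 : t * x⁻¹ * t = x := by
        rw [← inv_inj, mul_inv_rev, mul_inv_rev, s.sw.inv_eq, inv_inv, ← mul_assoc, h.2]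
      have h5 : x⁻¹ * z * x = x * z * x⁻¹ := by
        calc x⁻¹ * z * x = t * (x⁻¹ * z * x) * t := h2.symm
          _ = (t * x⁻¹ * t) * (t * z * t) * (t * x * t) := by
            rw [show (t * x⁻¹ * t) * (t * z * t) * (t * x * t)
              = t * x⁻¹ * (t * t) * z * (t * t) * x * t by group, s.sw.sq]; group
          _ = _ := by rw [h4, h3, h.2]
      calc x * x * z = x * (x * z * x⁻¹) * x := by group
        _ = z * (x * x) := by rw [← h5]; group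
    obtain ⟨j, hj⟩ := exists_sqrt (hD.of_dvd_nat (orderOf_dvd_card' h.1))
    rw [← hj, ← (Commute.refl x).mul_pow]
    exact pow_mem h1 j
  rw [l.ks] at hK
  by_cases h1 : y = 1
  · have h2 := k.sp.reg_of_abl (k.sp.te hB s.sw fun x hx => by
      rw [hK, h1] at hx; simpa using hx).abl
    obtain ⟨x, hx, h3⟩ := exists_ne_one (k.W1 a b hab)
    exact h3 (h2 a b hab x hx.1.1 hx.1.2)
  obtain ⟨X, h2, h3, h4, h5⟩ := l.reg k h1
  obtain ⟨V, sp, hV, -⟩ := exists_family k.sp.faith k.sp.two hab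
    ⟨h2.trans (k.sp.le_stab a), h3⟩ ((k.sp.nil a).of_le h2) h5
  obtain ⟨y', h6, h7⟩ := sp.zr (sp.reg_of hab (hV ▸ h4)) hB s.sw
  have h8 : zpowers y' = zpowers y := SetLike.coe_injective (h6.symm.trans hK)
  have h9 : orderOf y' = orderOf y := by rw [← Nat.card_zpowers, h8, Nat.card_zpowers]
  rcases h7 with ⟨h7, -⟩ | ⟨-, h7⟩
  · rw [h7, orderOf_one] at h9
    exact h1 (orderOf_eq_one_iff.1 h9.symm)
  rcases l.alt with ⟨h10, -⟩ | ⟨-, h10⟩
  · exact h1 h10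
  refine k.Ln_ne hab (Set.eq_of_subset_of_ncard_le (Set.subset_univ _) ?_)
  rw [Set.ncard_univ, ← h10, ← h7, h9]

theorem ko_aux (n : ℕ) : ∀ (G Ω : Type u) [Group G] [Finite G] [MulAction G Ω] [Finite Ω]
    (U : Ω → Subgroup G), Nat.card Ω = n → Sp U → (∀ c, Odd ♯(U c)) → Reg U := by
  induction n using Nat.strong_induction_on with
  | _ n ih =>
  intro G Ω _ _ _ _ U hn h odd
  by_contra hr
  obtain ⟨p, i, k⟩ := exists_cx h odd (fun L Φ hΦ s => s.regOn h odd fun Γ _ _ _ V sp o =>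
    ih _ (by
      rw [← hn, Nat.card_coe_set_eq, ← Set.ncard_univ]
      exact Set.ncard_lt_ncard (Set.ssubset_univ_iff.2 hΦ)) Γ Φ V rfl sp o) hr
  exact hr fun a b hab => (k.false hab).elim

theorem Sp.ko (h : Sp U) (odd : ∀ c, Odd ♯(U c)) : Reg U := ko_aux _ G Ω U rfl h odd

end H1.KS
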