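import Mathlib
import Cfsg.Agent.H1.KS0
import Cfsg.Agent.H14.MinNorm
import Cfsg.Agent.H1.KSO
import Cfsg.Agent.H1.KE1
import Cfsg.Agent.H1.KE2
import Cfsg.Agent.H1.KE3

set_option autoImplicit false
set_option linter.unusedSectionVars false
set_option linter.unusedVariables false

namespace H1.KS

open Cfsg H24 MulAction Subgroup

universe u

variable {G Ω : Type u} [Group G] [Finite G] [MulAction G Ω] [Finite Ω] {U : Ω → Subgroup G}
  {d : Dt G Ω} {a b c : Ω} {t w x y z : G} {p m : ℕ} {X L N : Subgroup G} {Φ : Set Ω}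

theorem Sp.nml_tr (h : Sp U) (hN : N.Normal) (h1 : N ≠ ⊥) (a b : Ω) : ∃ g ∈ N, g • a = b := by
  by_cases hab : a = b
  · exact ⟨1, one_mem _, by rw [one_smul, hab]⟩
  obtain ⟨x, hx, x1⟩ := exists_ne_one h1
  obtain ⟨e, he⟩ := not_forall.1 (mt (h.faith x) x1)
  obtain ⟨g, rfl, rfl⟩ := h.two e (x • e) a b (Ne.symm he) hab
  exact ⟨g * x * g⁻¹, hN.conj_mem x hx g, by rw [mul_smul, inv_smul_smul, mul_smul]⟩

theorem Sp.main (h : Sp U) (a : Ω) :
    Reg U ∨ ∀ X ≤ U a, U a ≤ N[X] → Abl X → Cyc X := by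
  by_cases h0 : ∀ b, a = b
  · exact Or.inl fun b c hbc => (hbc ((h0 b).symm.trans (h0 c))).elim
  obtain ⟨b, hab⟩ := not_forall.1 h0
  rcases Nat.even_or_odd (Nat.card Ω) with he | ho
  · refine Or.inl (h.ko fun c => Nat.not_even_iff_odd.1 fun h2 => ?_)
    have h3 := h.dvd_n Nat.prime_two h2.two_dvd
    have h4 := he.two_dvd
    have : Nonempty Ω := ⟨a⟩
    have h5 : 0 < Nat.card Ω := Nat.card_pos
    omega
  obtain ⟨g, hg⟩ := h.trans a b
  obtain ⟨N, hN, -⟩ := exists_minNml (A := ⊤) (K := (⊤ : Subgroup G))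
    (ne_bot_of_mem (mem_top g) fun e => hab (by rw [← hg, e, one_smul])) (norm_self _)
  have hn : N.Normal := nml_top_iff.1 ⟨le_top, hN.norm⟩
  have tr := h.nml_tr hn hN.ne_bot
  by_cases ab : Abl N
  · refine Or.inr fun X h1 h2 h3 => h.aff hn ab tr (fun g hg c hc => h.faith g fun e => ?_) h1 h2 h3
    obtain ⟨x, hx, rfl⟩ := tr c e
    rw [← mul_smul, ab.comm hg hx, mul_smul, hc]
  have : FaithfulSMul G Ω := ⟨fun {x y} e => by
    rw [← mul_inv_eq_one]
    exact h.faith _ fun c => by rw [mul_smul, e, smul_inv_smul]⟩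
  rcases H14.burnside_two_trans h.two' N hN.ne_bot
    (fun M hM hle => hN.eq_or hle (norm_of_normal _ M)) with h1 | ⟨h1, -⟩
  · exact absurd h1.1 ab
  obtain ⟨h2, h3⟩ := h.ev1 ho hab hn ab tr
  exact Or.inl (h.ev3 (h.ev2 hab hn tr h2 h3))

end H1.KS
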