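import Mathlib
import Cfsg.Agent.H1.MC0

/-!
# The cover engine: two-level closure of orbits on the Leech lattice modulo 2
-/

set_option autoImplicit false
set_option linter.all false

namespace H10.Mon

open Cfsg H9 H29 Matrix Finset

/-- For every group `T` acting through the matrices `gens` and all `T`-invariant sets `Z l`
containing the seeds `(l, number)`, there are disjoint finite pieces of the given sizes. -/
def Cov (gens : List (List ℕ)) (seeds : List (ℕ × ℕ)) (n : List ℕ) : Prop :=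
  ∀ (T : Subgroup G0) (Z : ℕ → Set C), (∀ A ∈ gens, ∃ h ∈ T, Cols h A) →
    (∀ l, ∀ h ∈ T, ∀ c ∈ Z l, h • c ∈ Z l) → (∀ s ∈ seeds, dec s.2 ∈ Z s.1) →
    ∃ D : ℕ → Finset C, (∀ l, ↑(D l) ⊆ Z l) ∧ (∀ l, (D l).card = nth 0 n l) ∧
      ∀ l l', l ≠ l' → Disjoint (D l) (D l')

/-! ### Counting bits -/

theorem tb_m16 (i : ℕ) : m16.testBit i = decide (i < 4096 ∧ i % 16 = 0) := by
  rw [m16_eq]
  simp only [land_eq, xor_eq, Nat.testBit_and, Nat.testBit_xor, testBit_ones, testBit_idp]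
  by_cases h : i < 4096
  · simp only [Nat.testBit_eq_decide_div_mod_eq, h, decide_true, Bool.true_and, true_and, show i < 2 ^ 12 from h, Bool.true_xor]
    rw [Bool.eq_iff_iff]
    simp only [Bool.and_eq_true, Bool.not_eq_true', decide_eq_false_iff_not, decide_eq_true_eq]
    omega
  · simp [h]

theorem mod_eq_sum (x : ℕ) : ∀ n, x % 2 ^ n = ∑ i ∈ range n, if x.testBit i then 2 ^ i else 0
  | 0 => by simp [Nat.mod_one]
  | n + 1 => by
    rw [Nat.mod_pow_succ, mod_eq_sum x n, sum_range_succ, Nat.testBit_eq_decide_div_mod_eq]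
    rcases Nat.mod_two_eq_zero_or_one (x / 2 ^ n) with h | h <;> simp [h]

theorem sum_16 (f : ℕ → ℕ) : ∀ n, ∑ i ∈ range (16 * n), f i = ∑ r ∈ range 16, ∑ k ∈ range n, f (r + 16 * k)
  | 0 => by simp
  | n + 1 => by
    rw [mul_add, mul_one, sum_range_add, sum_16 f n, ← sum_add_distrib]
    exact sum_congr rfl fun r _ => by rw [sum_range_succ, add_comm r]

/-- Number of set bits below 4096. -/
noncomputable def pc (x : ℕ) : ℕ :=
  Nat.mod (Nat.rec 0 (fun r ih => Nat.add ih (Nat.land (Nat.shiftRight x r) m16)) 16) 65535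

set_option exponentiation.threshold 5000 in
theorem pc_eq (x : ℕ) : pc x = ((range 4096).filter fun i => x.testBit i = true).card := by
  have h1 : ∀ n : ℕ, (Nat.rec 0 (fun r ih => Nat.add ih (Nat.land (Nat.shiftRight x r) m16)) n : ℕ) =
      ∑ r ∈ range n, (x >>> r &&& m16) := fun n => by
    induction n with
    | zero => rfl
    | succ n ih => rw [sum_range_succ, ← ih]; rfl
  have h2 : ∀ r, (x >>> r &&& m16) ≡ ∑ k ∈ range 256, (if x.testBit (r + 16 * k) then 1 else 0)
      [MOD 65535] := fun r => by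
    have h3 : x >>> r &&& m16 < 2 ^ 4096 :=
      Nat.lt_pow_two_of_testBit _ fun i hi => by simp [tb_m16, show ¬ i < 4096 by omega]
    rw [← Nat.mod_eq_of_lt h3, mod_eq_sum, show 4096 = 16 * 256 from rfl, sum_16,
      sum_eq_single 0 (fun s hs h0 => sum_eq_zero fun k _ => by
        have := mem_range.1 hs
        rw [if_neg]
        simp only [Nat.testBit_and, tb_m16, Bool.and_eq_true, decide_eq_true_eq]
        omega) (by simp)]
    refine Nat.ModEq.sum fun k hk => ?_
    have := mem_range.1 hk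
    rw [zero_add, Nat.testBit_and, tb_m16, Nat.testBit_shiftRight, decide_eq_true (by omega),
      Bool.and_true]
    split_ifs
    · rw [pow_mul]
      exact (Nat.ModEq.pow k (show 2 ^ 16 ≡ 1 [MOD 65535] by decide)).trans (by rw [one_pow])
    · rfl
  have h4 := Nat.ModEq.sum (s := range 16) fun r _ => h2 r
  rw [← sum_16 (fun i => if x.testBit i then 1 else 0) 256, ← card_filter] at h4
  change _ % 65535 = _
  rw [h1, h4, Nat.mod_eq_of_lt]
  exact (card_filter_le _ _).trans_lt (by simp)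

/-! ### Matrices and words -/

theorem apC_cons (a : ℕ) (A : List ℕ) (n : ℕ) :
    apC (a :: A) n = if n.testBit 0 then a ^^^ apC A (n >>> 1) else apC A (n >>> 1) := by
  change Bool.rec (motive := fun _ => ℕ) (apC A (n >>> 1)) (a ^^^ apC A (n >>> 1))
    (Nat.beq (Nat.land (Nat.shiftRight n 0) 1) 1) = _
  rw [bit_beq]
  cases n.testBit 0 <;> rfl

theorem apC_zero : ∀ A : List ℕ, apC A 0 = 0
  | [] => rfl
  | a :: A => by rw [apC_cons]; simpa using apC_zero A

theorem cdv_shr (a : ℕ) (A : List ℕ) (i : ℕ) : cdv (a :: A) i >>> 1 = cdv A i :=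
  Nat.eq_of_testBit_eq fun j => by
    rw [Nat.testBit_shiftRight, tb_cdv, tb_cdv, add_comm]; rfl

theorem tb_apC_cdv (p i : ℕ) : ∀ Q A : List ℕ,
    (apC Q (cdv A i)).testBit p = (apC A (cdv Q p)).testBit i
  | [], A => by rw [show cdv [] p = 0 from rfl, apC_zero]; simp [show apC [] (cdv A i) = 0 from rfl]
  | Q, [] => by rw [show cdv [] i = 0 from rfl, apC_zero]; simp [show apC [] (cdv Q p) = 0 from rfl]
  | q :: Q, a :: A => by
    rw [apC_cons, apC_cons, cdv_shr, cdv_shr, tb_cdv, tb_cdv]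
    change (if a.testBit i = true then _ else _ : ℕ).testBit p =
      (if q.testBit p = true then _ else _ : ℕ).testBit i
    cases ha : a.testBit i <;> cases hq : q.testBit p <;>
      simp [Nat.testBit_xor, tb_apC_cdv p i Q A, ha, hq]

/-- Map with forced values. -/
noncomputable def mapK {α : Type} (f : ℕ → ℕ) (B : List ℕ) (r : List ℕ) : (List ℕ → α) → α :=
  List.rec (motive := fun _ => (List ℕ → α) → α) (fun k => k r)
    (fun b _ ih k => lit (f b) fun x => ih fun t => k (x :: t)) B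

theorem mapK_eq {α : Type} (f : ℕ → ℕ) (r : List ℕ) : ∀ (B : List ℕ) (k : List ℕ → α),
    mapK f B r k = k (B.map f ++ r)
  | [], _ => rfl
  | b :: B, k => mapK_eq f r B fun t => k (f b :: t)

/-- All matrices of the list come from `T`. -/
def InT (T : Subgroup G0) (E : List (List ℕ)) : Prop := ∀ A ∈ E, ∃ h ∈ T, Cols h A

theorem InT.nth {T : Subgroup G0} {E : List (List ℕ)} (h : InT T E) (c : ℕ) :
    ∃ h ∈ T, Cols h (nth hCI E c) :=
  nth_forall (p := fun A => ∃ h ∈ T, Cols h A) ⟨1, T.one_mem, cols_one⟩ h c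

noncomputable def prodA {α : Type} (E : List (List ℕ)) (w : List ℕ) : List ℕ → (List ℕ → α) → α :=
  List.rec (motive := fun _ => List ℕ → (List ℕ → α) → α) (fun M k => k M)
    (fun c _ ih M k => mapK (apC (nth hCI E c)) M [] fun M' => ih M' k) w

/-- The matrix of a word. -/
noncomputable def prodW {α : Type} (E : List (List ℕ)) (w : List ℕ) (k : List ℕ → α) : α :=
  List.rec (motive := fun _ => α) (k hCI) (fun c w _ => prodA E w (nth hCI E c) k) w

theorem prodA_spec {T : Subgroup G0} {E : List (List ℕ)} (hE : InT T E) :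
    ∀ (w M : List ℕ), (∃ h ∈ T, Cols h M) → ∃ A, (∃ h ∈ T, Cols h A) ∧
      ∀ (α : Type) (k : List ℕ → α), prodA E w M k = k A
  | [], M, h => ⟨M, h, fun _ _ => rfl⟩
  | c :: w, M, ⟨h, hh, hM⟩ => by
    obtain ⟨g, hg, hc⟩ := hE.nth c
    obtain ⟨A, h1, h2⟩ := prodA_spec hE w _ ⟨g * h, T.mul_mem hg hh, hc.mul hM⟩
    refine ⟨A, h1, fun α k => ?_⟩
    change mapK _ M [] _ = _
    rw [mapK_eq, List.append_nil, ← mulC_eq]
    exact h2 α k

theorem prodW_spec {T : Subgroup G0} {E : List (List ℕ)} (hE : InT T E) :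
    ∀ w : List ℕ, ∃ A, (∃ h ∈ T, Cols h A) ∧ ∀ (α : Type) (k : List ℕ → α), prodW E w k = k A
  | [] => ⟨hCI, ⟨1, T.one_mem, cols_one⟩, fun _ _ => rfl⟩
  | c :: w => prodA_spec hE w _ (hE.nth c)

noncomputable def beqL (A : List ℕ) : List ℕ → Bool :=
  List.rec (motive := fun _ => List ℕ → Bool)
    (fun B => List.rec (motive := fun _ => Bool) true (fun _ _ _ => false) B)
    (fun a _ ih B => List.rec (motive := fun _ => Bool) false
      (fun b B _ => and2 (Nat.beq a b) (ih B)) B) A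

theorem eq_of_beqL : ∀ {A B : List ℕ}, beqL A B = true → A = B
  | [], [], _ => rfl
  | [], _ :: _, h => absurd h Bool.false_ne_true
  | _ :: _, [], h => absurd h Bool.false_ne_true
  | a :: A, b :: B, h => by
    obtain ⟨h1, h2⟩ := and2_true.1 (show and2 (Nat.beq a b) (beqL A B) = true from h)
    rw [H29.beq_true.1 h1, eq_of_beqL h2]

/-- The matrices of `E'` are given by words in `E`. -/
noncomputable def chkEnv (E E' : List (List ℕ)) : List (List ℕ) → Bool :=
  List.rec (motive := fun _ => List (List ℕ) → Bool) (fun _ => true)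
    (fun A _ ih ws => List.rec (motive := fun _ => Bool) false
      (fun w ws _ => and2 (prodW E w (beqL A)) (ih ws)) ws) E'

def Env (E E' : List (List ℕ)) : Prop := ∀ T, InT T E → InT T E'

theorem env_of_chk {E : List (List ℕ)} : ∀ {E' ws : List (List ℕ)}, chkEnv E E' ws = true → Env E E'
  | [], _, _ => fun _ _ _ h => absurd h List.not_mem_nil
  | _ :: _, [], h => absurd h Bool.false_ne_true
  | A :: E', w :: ws, h => fun T hT B hB => by
    obtain ⟨h1, h2⟩ := and2_true.1 (show and2 (prodW E w (beqL A)) (chkEnv E E' ws) = true from h)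
    rcases List.mem_cons.1 hB with rfl | hB
    · obtain ⟨A, h3, h4⟩ := prodW_spec hT w
      rw [h4] at h1
      rwa [eq_of_beqL h1]
    · exact env_of_chk h2 T hT B hB

theorem Env.trans {E E' E'' : List (List ℕ)} (h : Env E E') (h' : Env E' E'') : Env E E'' :=
  fun T hT => h' T (h T hT)

/-- Apply a word to a number. -/
noncomputable def apW (E : List (List ℕ)) (w : List ℕ) : ℕ → ℕ :=
  List.rec (motive := fun _ => ℕ → ℕ) (fun x => x) (fun c _ ih x => lit (apC (nth hCI E c) x) ih) w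

theorem apW_spec {T : Subgroup G0} {E : List (List ℕ)} (hE : InT T E) :
    ∀ (w : List ℕ) (x : ℕ), ∃ h ∈ T, dec (apW E w x) = h • dec x
  | [], x => ⟨1, T.one_mem, (one_smul _ _).symm⟩
  | c :: w, x => by
    obtain ⟨g, hg, hc⟩ := hE.nth c
    obtain ⟨h, hh, e⟩ := apW_spec hE w (apC (nth hCI E c) x)
    exact ⟨h * g, T.mul_mem hh hg, by rw [mul_smul, ← hc.ap, ← e]; rfl⟩

/-! ### Networks and closures -/

noncomputable def mkNet {α : Type} (ds : List ℕ) : (Net → α) → α :=
  List.rec (motive := fun _ => (Net → α) → α) (fun k => k .nil) (fun c _ ih k =>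
    lit (Nat.land c 15) fun i => lit (Nat.shiftLeft 1 i) fun d =>
      lit (Nat.land (apC PL13 (Nat.shiftRight c 4)) (nth 0 NL12 i)) fun m =>
        ih fun r => k (.cons d m r)) ds

theorem mkNet_spec : ∀ ds : List ℕ, ∃ n, ∀ (α : Type) (k : Net → α), mkNet ds k = k n
  | [] => ⟨.nil, fun _ _ => rfl⟩
  | c :: ds => by
    obtain ⟨n, h⟩ := mkNet_spec ds
    exact ⟨_, fun α k => h α _⟩

/-- All members of the bit set are below 4096 and have the property. -/
def AllB (Pr : ℕ → Prop) (S : ℕ) : Prop := ∀ p, S.testBit p = true → p < 4096 ∧ Pr p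

def NetOK (Pr : ℕ → Prop) (n : Net) : Prop :=
  n.valid 4096 = true ∧ ∀ p < 4096, Pr (n.perm p) → Pr p

theorem AllB.lor {Pr : ℕ → Prop} {S S' : ℕ} (h : AllB Pr S) (h' : AllB Pr S') :
    AllB Pr (Nat.lor S S') := fun p hp => by
  rw [lor_eq, Nat.testBit_or, Bool.or_eq_true] at hp
  exact hp.elim (h p) (h' p)

theorem AllB.pull {Pr : ℕ → Prop} {S : ℕ} {n : Net} (h : AllB Pr S) (hn : NetOK Pr n) :
    AllB Pr (n.pull S) := fun p hp => by
  rw [Net.testBit_pull hn.1] at hp
  obtain ⟨h1, h2⟩ := h _ hp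
  have h3 : p < 4096 := by
    by_contra h3
    rw [Net.perm_fix hn.1 (not_lt.1 h3)] at h1
    exact h3 h1
  exact ⟨h3, hn.2 p h3 h2⟩

theorem AllB.single {Pr : ℕ → Prop} {q : ℕ} (h : q < 4096) (h' : Pr q) :
    AllB Pr (Nat.shiftLeft 1 q) := fun p hp => by
  rw [shl_eq, Nat.one_shiftLeft, Nat.testBit_two_pow, decide_eq_true_eq] at hp
  exact hp ▸ ⟨h, h'⟩

noncomputable def clos (ns : List Net) (sch : List ℕ) : ℕ → ℕ :=
  List.rec (motive := fun _ => ℕ → ℕ) (fun S => S)
    (fun c _ ih S => lit (Nat.lor S ((nth Net.nil ns c).pull S)) ih) sch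

theorem AllB.clos {Pr : ℕ → Prop} {ns : List Net} (hn : ∀ n ∈ ns, NetOK Pr n) :
    ∀ (sch : List ℕ) {S : ℕ}, AllB Pr S → AllB Pr (clos ns sch S)
  | [], _, h => h
  | c :: sch, _, h => AllB.clos hn sch (h.lor (h.pull
      (nth_forall (p := NetOK Pr) ⟨rfl, fun _ _ h => by simpa [Net.perm] using h⟩ hn c)))

/-- Build the networks of a list of (word, network) and test them. -/
noncomputable def mkGens (E : List (List ℕ)) (tst : List ℕ → Net → Bool)
    (gs : List (List ℕ × List ℕ)) : (List Net → Bool) → Bool :=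
  List.rec (motive := fun _ => (List Net → Bool) → Bool) (fun k => k []) (fun g _ ih k =>
    Prod.rec (fun w ds => prodW E w fun A => mkNet ds fun n =>
      and2 (n.valid 4096) (and2 (tst A n) (ih fun r => k (n :: r)))) g) gs

theorem mkGens_spec {T : Subgroup G0} {E : List (List ℕ)} (hE : InT T E)
    {tst : List ℕ → Net → Bool} : ∀ {gs : List (List ℕ × List ℕ)} {k : List Net → Bool},
    mkGens E tst gs k = true → ∃ ns, k ns = true ∧ ∀ n ∈ ns, n.valid 4096 = true ∧
      ∃ h ∈ T, ∃ A, Cols h A ∧ tst A n = true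
  | [], k, h => ⟨[], h, fun _ h => absurd h List.not_mem_nil⟩
  | (w, ds) :: gs, k, h => by
    obtain ⟨A, ⟨g, hg, hA⟩, h1⟩ := prodW_spec hE w
    obtain ⟨n, h2⟩ := mkNet_spec ds
    change prodW E w (fun A => mkNet ds fun n => and2 (n.valid 4096) (and2 (tst A n)
      (mkGens E tst gs fun r => k (n :: r)))) = true at h
    rw [h1, h2, and2_true, and2_true] at h
    obtain ⟨ns, h3, h4⟩ := mkGens_spec hE h.2.2
    refine ⟨n :: ns, h3, fun m hm => ?_⟩
    rcases List.mem_cons.1 hm with rfl | hm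
    · exact ⟨h.1, g, hg, A, hA, h.2.1⟩
    · exact h4 m hm

theorem rows_spec {h : G0} {A : List ℕ} (hA : Cols h A) (Q : List ℕ) (p : ℕ) :
    (∀ j : Fin 12, (h • cv Q p).1 j = bt (apC Q (cdv A (12 + j))) p) ∧
      ∀ j : Fin 12, (h • cv Q p).2 j = bt (apC Q (cdv A j)) p := by
  rw [← dec_cdv, ← hA.ap]
  exact ⟨fun j => bt_congr (tb_apC_cdv p _ Q A).symm, fun j => bt_congr (tb_apC_cdv p _ Q A).symm⟩

noncomputable def Z12 : List ℕ := [0, 0, 0, 0, 0, 0, 0, 0, 0, 0, 0, 0]
noncomputable def I12 : List ℕ := [0, 1, 2, 3, 4, 5, 6, 7, 8, 9, 10, 11]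

theorem nth_app12 (f : ℕ → ℕ) {B : List ℕ} (hB : B.length = 12) (r : List ℕ) (j : Fin 12) :
    nth 0 (B.map f ++ r) j = f (nth 0 B j) ∧ nth 0 (B.map f ++ r) (12 + j) = nth 0 r j := by
  simp only [nth_eq]
  constructor
  · rw [List.getD_append _ _ _ _ (by simp [hB]), List.getD_eq_getElem _ _ (by simp [hB]),
      List.getD_eq_getElem _ _ (by simp [hB]), List.getElem_map]
  · rw [List.getD_append_right _ _ _ _ (by simp [hB])]
    simp [hB]

theorem bt_PL {p : ℕ} (hp : p < 4096) (j : Fin 12) : bt (nth 0 PL12 j) p = dK p j :=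
  bt_congr (by rw [PL12_eq j j.2, testBit_idp]; simp [hp])

/-- The constant plane. -/
noncomputable def cpl (u j : ℕ) : ℕ := Nat.mul (Nat.land (Nat.shiftRight u j) 1) on1

theorem bt_cpl {p : ℕ} (hp : p < 4096) (u : ℕ) (j : Fin 12) :
    bt (nth 0 (I12.map (cpl u) ++ []) j) p = dK u j := by
  rw [(nth_app12 _ rfl [] j).1, show nth 0 I12 j = j by revert j; decide]
  refine bt_congr ?_
  rw [cpl, on1_eq, land_eq, shr_eq, Nat.and_one_is_mod, Nat.mul_eq, Nat.testBit_eq_decide_div_mod_eq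
    (x := u), Nat.shiftRight_eq_div_pow]
  rcases Nat.mod_two_eq_zero_or_one (u / 2 ^ (j : ℕ)) with h | h <;> simp [h, testBit_ones, hp]

/-- Test of an element fixing a fibre; `cs` are the constant planes. -/
noncomputable def tst2 (cs A : List ℕ) (n : Net) : Bool :=
  mapK n.pull PL12 cs fun Q => allN 12 fun j =>
    and2 (lit (cdv A j) fun r => Nat.beq (apC Q r) (nth 0 PL12 j))
      (lit (cdv A (Nat.add 12 j)) fun r => Nat.beq (apC Q r) (nth 0 cs j))

theorem tst2_spec {h : G0} {A : List ℕ} (hA : Cols h A) {n : Net} (hn : n.valid 4096 = true) {u : ℕ}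
    (ht : tst2 (I12.map (cpl u) ++ []) A n = true) {p : ℕ} (hp : p < 4096) :
    h • ((dK u, dK (n.perm p)) : C) = (dK u, dK p) := by
  rw [tst2, mapK_eq, allN_true] at ht
  have h1 := rows_spec hA (PL12.map n.pull ++ (I12.map (cpl u) ++ [])) p
  have h2 : cv (PL12.map n.pull ++ (I12.map (cpl u) ++ [])) p = (dK u, dK (n.perm p)) := by
    refine Prod.ext (funext fun j => ?_) (funext fun j => ?_)
    · change bt _ p = _
      rw [(nth_app12 _ rfl _ j).2, bt_cpl hp]
    · change bt _ p = dK (n.perm p) j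
      rw [(nth_app12 _ rfl _ j).1, ← bt_PL (lt_of_fix (fun i => Net.perm_fix hn) hp)]
      exact bt_congr (Net.testBit_pull hn _ _)
  rw [h2] at h1
  refine Prod.ext (funext fun j => ?_) (funext fun j => ?_)
  · rw [h1.1, show apC _ (cdv A (12 + j)) = _ from H29.beq_true.1 (and2_true.1 (ht j j.2)).2,
      bt_cpl hp]
  · rw [h1.2, show apC _ (cdv A j) = _ from H29.beq_true.1 (and2_true.1 (ht j j.2)).1, bt_PL hp]

/-- Test of an element permuting the fibres. -/
noncomputable def tst1 (A : List ℕ) (n : Net) : Bool :=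
  mapK n.pull PL12 [] fun R => mapK (fun x => x) Z12 R fun Q => allN 12 fun j =>
    lit (cdv A (Nat.add 12 j)) fun r =>
      and2 (Nat.beq (apC Q r) (nth 0 PL12 j)) (Nat.beq (apC PL12 r) 0)

theorem tst1_spec {h : G0} {A : List ℕ} (hA : Cols h A) {n : Net} (hn : n.valid 4096 = true)
    (ht : tst1 A n = true) {p : ℕ} (hp : p < 4096) {c : C} (hc : c.1 = dK (n.perm p)) :
    (h • c).1 = dK p := by
  rw [tst1, mapK_eq, mapK_eq, allN_true] at ht
  obtain ⟨q, hq, e⟩ := dK_surj c.2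
  have h1 := (rows_spec hA (Z12.map (fun x => x) ++ (PL12.map n.pull ++ [])) p).1
  have h2 : cv (Z12.map (fun x => x) ++ (PL12.map n.pull ++ [])) p = (dK (n.perm p), 0) := by
    refine Prod.ext (funext fun j => ?_) (funext fun j => ?_)
    · change bt _ p = dK (n.perm p) j
      rw [(nth_app12 _ rfl _ j).2, (nth_app12 _ rfl _ j).1,
        ← bt_PL (lt_of_fix (fun i => Net.perm_fix hn) hp)]
      exact bt_congr (Net.testBit_pull hn _ _)
    · change bt _ p = _
      rw [(nth_app12 _ rfl _ j).1, show nth 0 Z12 j = 0 by revert j; decide, bt_zero]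
      rfl
  have h3 := (rows_spec hA PL12 q).1
  have h4 : cv PL12 q = (0, c.2) := by
    refine Prod.ext (funext fun j => ?_) (funext fun j => ?_)
    · change bt _ q = _
      rw [nth_eq, List.getD_eq_default _ _ (by simp [PL12]), bt_zero]
      rfl
    · change bt _ q = _
      rw [bt_PL hq, e]
  rw [h2] at h1
  rw [h4] at h3
  have h5 : c = (dK (n.perm p), 0) + (0, c.2) := Prod.ext (by simp [hc]) (by simp)
  funext j
  have h6 := and2_true.1 (show and2 _ _ = true from ht j j.2)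
  rw [h5, smul_add, Prod.fst_add, Pi.add_apply, h1, h3,
    show apC _ (cdv A (12 + j)) = _ from H29.beq_true.1 h6.1,
    show apC _ (cdv A (12 + j)) = _ from H29.beq_true.1 h6.2, bt_zero, add_zero, bt_PL hp]

/-! ### Pieces -/

/-- Disjoint pieces of the given sizes inside `W`. -/
def Pcs (Z : ℕ → Set C) (W : Set C) (n : ℕ → ℕ) : Prop :=
  ∃ D : ℕ → Finset C, (∀ l, ↑(D l) ⊆ Z l ∩ W) ∧ (∀ l, (D l).card = n l) ∧
    ∀ l l', l ≠ l' → Disjoint (D l) (D l')

theorem Pcs.zero (Z : ℕ → Set C) (W : Set C) : Pcs Z W fun _ => 0 :=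
  ⟨fun _ => ∅, fun _ => by simp, fun _ => rfl, fun _ _ _ => by simp⟩

theorem Pcs.mono {Z : ℕ → Set C} {W W' : Set C} {n : ℕ → ℕ} (h : Pcs Z W n) (h' : W ⊆ W') :
    Pcs Z W' n := by
  obtain ⟨D, h1, h2⟩ := h
  exact ⟨D, fun l => (h1 l).trans (Set.inter_subset_inter_right _ h'), h2⟩

theorem Pcs.union {Z : ℕ → Set C} {W W' : Set C} {n n' : ℕ → ℕ} (h : Pcs Z W n) (h' : Pcs Z W' n')
    (hd : Disjoint W W') : Pcs Z (W ∪ W') fun l => n l + n' l := by
  classical
  obtain ⟨D, h1, h2, h3⟩ := h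
  obtain ⟨D', h1', h2', h3'⟩ := h'
  have key : ∀ l l', Disjoint (D l) (D' l') := fun l l' => Finset.disjoint_left.2 fun c hc hc' =>
    Set.disjoint_left.1 hd (h1 l hc).2 (h1' l' hc').2
  refine ⟨fun l => D l ∪ D' l, fun l c hc => ?_, fun l => ?_, fun l l' hl => ?_⟩
  · rcases mem_union.1 hc with hc | hc
    · exact ⟨(h1 l hc).1, Or.inl (h1 l hc).2⟩
    · exact ⟨(h1' l hc).1, Or.inr (h1' l hc).2⟩
  · rw [card_union_of_disjoint (key l l), h2, h2']
  · exact disjoint_union_left.2 ⟨disjoint_union_right.2 ⟨h3 l l' hl, key l l'⟩,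
      disjoint_union_right.2 ⟨(key l' l).symm, h3' l l' hl⟩⟩

theorem Pcs.smul {Z : ℕ → Set C} {W W' : Set C} {n : ℕ → ℕ} (h : Pcs Z W n) {g : G0}
    (hZ : ∀ l, ∀ c ∈ Z l, g • c ∈ Z l) (hW : ∀ c ∈ W, g • c ∈ W') : Pcs Z W' n := by
  obtain ⟨D, h1, h2, h3⟩ := h
  refine ⟨fun l => (D l).map ⟨_, MulAction.injective g⟩, fun l c hc => ?_, fun l => ?_,
    fun l l' hl => ?_⟩
  · obtain ⟨d, hd, rfl⟩ := mem_map.1 hc
    exact ⟨hZ l d (h1 l hd).1, hW d (h1 l hd).2⟩
  · rw [card_map, h2]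
  · exact (disjoint_map _).2 (h3 l l' hl)

theorem Pcs.one {Z : ℕ → Set C} {u l S : ℕ} (h : AllB (fun p => (dK u, dK p) ∈ Z l) S) :
    Pcs Z {c | ∃ p < 4096, S.testBit p = true ∧ c = (dK u, dK p)}
      fun l' => if l' = l then pc S else 0 := by
  classical
  refine ⟨fun l' => if l' = l then ((range 4096).filter fun i => S.testBit i = true).image
    fun p => ((dK u, dK p) : C) else ∅, fun l' c hc => ?_, fun l' => ?_, fun l' l'' hl => ?_⟩
  all_goals beta_reduce at *
  · split_ifs at hc with e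
    · obtain ⟨p, hp, rfl⟩ := mem_image.1 hc
      obtain ⟨h1, h2⟩ := mem_filter.1 hp
      exact ⟨e ▸ (h p h2).2, p, mem_range.1 h1, h2, rfl⟩
    · simp at hc
  · split_ifs
    · rw [card_image_of_injOn, pc_eq]
      intro a ha b hb e
      exact dK_inj (mem_range.1 (mem_filter.1 ha).1) (mem_range.1 (mem_filter.1 hb).1)
        (congrArg Prod.snd e)
    · rfl
  · split_ifs with e1 e2
    · exact absurd (e1.trans e2.symm) hl
    all_goals simp

theorem Pcs.big {Z : ℕ → Set C} {m : ℕ → ℕ} {O : ℕ} (h : AllB (fun p => Pcs Z {c | c.1 = dK p} m) O) :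
    Pcs Z {c | ∃ p < 4096, O.testBit p = true ∧ c.1 = dK p} fun l => pc O * m l := by
  have key : ∀ k ≤ 4096, Pcs Z {c | ∃ p < k, O.testBit p = true ∧ c.1 = dK p}
      fun l => ((range k).filter fun i => O.testBit i = true).card * m l := by
    intro k
    induction k with
    | zero => intro _; simpa using Pcs.zero Z _
    | succ k ih =>
      intro hk
      have ih := ih (by omega)
      rw [range_add_one, filter_insert]
      split_ifs with h1
      · rw [card_insert_of_notMem (by simp)]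
        simp only [add_mul, one_mul]
        refine (ih.union (h k h1).2 (Set.disjoint_left.2 ?_)).mono ?_
        · rintro c ⟨p, hp, -, e⟩ e'
          have := dK_inj (by omega) (by omega) (e.symm.trans e')
          omega
        · rintro c (⟨p, hp, h2⟩ | e)
          · exact ⟨p, by omega, h2⟩
          · exact ⟨k, by omega, h1, e⟩
      · exact ih.mono fun c ⟨p, hp, h2⟩ => ⟨p, by omega, h2⟩
  rw [pc_eq]
  exact key 4096 le_rfl

/-! ### One fibre -/

noncomputable def starts (E : List (List ℕ)) (seeds : List (ℕ × ℕ)) (u l : ℕ)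
    (st : List (List ℕ)) : ℕ → (ℕ → Bool) → Bool :=
  List.rec (motive := fun _ => ℕ → (ℕ → Bool) → Bool) (fun S k => k S) (fun w _ ih S k =>
    List.rec (motive := fun _ => Bool) false (fun i w _ =>
      Prod.rec (fun l' x => and2 (Nat.beq l' l) (lit (apW E w x) fun y =>
        and2 (Nat.beq (Nat.shiftRight y 12) u)
          (lit (Nat.lor S (Nat.shiftLeft 1 (Nat.land y 4095))) fun S' => ih S' k)))
        (nth (Nat.succ l, 0) seeds i)) w) st

section

variable {T : Subgroup G0} {Z : ℕ → Set C} {E : List (List ℕ)} {seeds : List (ℕ × ℕ)}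
  (hE : InT T E) (hZ : ∀ l, ∀ h ∈ T, ∀ c ∈ Z l, h • c ∈ Z l) (hs : ∀ s ∈ seeds, dec s.2 ∈ Z s.1)

include hE hZ hs in
theorem starts_spec {u l : ℕ} : ∀ (st : List (List ℕ)) {S : ℕ} {k : ℕ → Bool},
    starts E seeds u l st S k = true → AllB (fun p => (dK u, dK p) ∈ Z l) S →
      ∃ S', AllB (fun p => (dK u, dK p) ∈ Z l) S' ∧ k S' = true
  | [], S, k, h, hS => ⟨S, hS, h⟩
  | [] :: st, S, k, h, hS => absurd h Bool.false_ne_true
  | (i :: w) :: st, S, k, h, hS => by
    have h1 := nth_forall (d := (Nat.succ l, 0)) (l := seeds)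
      (p := fun s => s.1 = l → dec s.2 ∈ Z l) (fun e => by simp at e) (fun s h e => e ▸ hs s h) i
    change Prod.rec (motive := fun _ => Bool) (fun l' x => and2 (Nat.beq l' l) (lit (apW E w x) fun y =>
        and2 (Nat.beq (Nat.shiftRight y 12) u) (lit (Nat.lor S (Nat.shiftLeft 1 (Nat.land y 4095)))
          fun S' => starts E seeds u l st S' k))) (nth (Nat.succ l, 0) seeds i) = true at h
    generalize nth (Nat.succ l, 0) seeds i = s at h h1
    obtain ⟨l', x⟩ := s
    obtain ⟨h2, h3⟩ := and2_true.1 h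
    obtain ⟨h3, h4⟩ := and2_true.1 h3
    obtain ⟨g, hg, e⟩ := apW_spec hE w x
    refine starts_spec st h4 (hS.lor (AllB.single (Nat.and_le_right.trans_lt (by norm_num)) ?_))
    have h5 := hZ l g hg _ (h1 (H29.beq_true.1 h2))
    rw [← e] at h5
    convert h5 using 1
    refine Prod.ext ?_ (funext fun j => bt_congr ?_)
    · rw [dec_fst, ← H29.beq_true.1 h3]; rfl
    · change (apW E w x &&& (2 ^ 12 - 1)).testBit j = _
      rw [Nat.testBit_and, Nat.testBit_two_pow_sub_one]
      simp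

/-- The labels `l, l + 1, …` of one fibre. -/
noncomputable def labs (E : List (List ℕ)) (seeds : List (ℕ × ℕ)) (u : ℕ) (ns : List Net)
    (ls : List (List (List ℕ) × List ℕ)) : ℕ → ℕ → List ℕ → Bool :=
  List.rec (motive := fun _ => ℕ → ℕ → List ℕ → Bool)
    (fun _ _ m => List.rec (motive := fun _ => Bool) true (fun _ _ _ => false) m)
    (fun x _ ih l U m => List.rec (motive := fun _ => Bool) false (fun a m _ =>
      Prod.rec (fun st sch => starts E seeds u l st 0 fun S => lit (clos ns sch S) fun F =>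
        and2 (disj U F) (and2 (Nat.beq (pc F) a)
          (lit (Nat.succ l) fun l' => lit (Nat.lor U F) fun U' => ih l' U' m))) x) m) ls

include hE hZ hs in
theorem labs_spec {u : ℕ} {ns : List Net} (hn : ∀ l, ∀ n ∈ ns, NetOK (fun p => (dK u, dK p) ∈ Z l) n) :
    ∀ (ls : List (List (List ℕ) × List ℕ)) {l U : ℕ} {m : List ℕ},
    labs E seeds u ns ls l U m = true →
      Pcs Z {c | ∃ p < 4096, U.testBit p = false ∧ c = (dK u, dK p)}
        fun l' => if l ≤ l' then nth 0 m (l' - l) else 0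
  | [], l, U, [], _ => by simpa [nth_eq] using Pcs.zero Z _
  | [], _, _, _ :: _, h => absurd h Bool.false_ne_true
  | _ :: _, _, _, [], h => absurd h Bool.false_ne_true
  | (st, sch) :: ls, l, U, a :: m, h => by
    obtain ⟨S, h1, h2⟩ := starts_spec hE hZ hs st h fun p hp => by simp at hp
    obtain ⟨h2, h3⟩ := and2_true.1 h2
    obtain ⟨h3, h4⟩ := and2_true.1 h3
    have h5 := labs_spec hn ls (l := l + 1) (U := U ||| clos ns sch S) h4
    have h6 := (Pcs.one (AllB.clos (hn l) sch h1)).union h5 (Set.disjoint_left.2 (by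
      rintro c ⟨p, hp, h7, rfl⟩ ⟨q, hq, h8, e⟩
      rw [← dK_inj hp hq (congrArg Prod.snd e), Nat.testBit_or, h7] at h8
      simp at h8))
    convert h6.mono (W' := {c | ∃ p < 4096, U.testBit p = false ∧ c = (dK u, dK p)}) ?_ using 2 with l'
    · rw [H29.beq_true.1 h3]
      rcases lt_trichotomy l' l with e | rfl | e
      · simp [e.ne, show ¬ l ≤ l' by omega, show ¬ l + 1 ≤ l' by omega]
      · simp [nth_eq]
      · rw [if_pos e.le, if_neg e.ne', if_pos (show l + 1 ≤ l' from e), zero_add, show l' - l = l' - (l + 1) + 1 by omega]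
        rfl
    · rintro c (⟨p, hp, h7, rfl⟩ | ⟨p, hp, h7, rfl⟩)
      · refine ⟨p, hp, ?_, rfl⟩
        by_contra h8
        rw [disj_true h2 (by simpa using h8)] at h7
        simp at h7
      · rw [Nat.testBit_or, Bool.or_eq_false_iff] at h7
        exact ⟨p, hp, h7.1, rfl⟩

end

/-- The check of one fibre. -/
noncomputable def chkFib (E : List (List ℕ)) (seeds : List (ℕ × ℕ)) (u : ℕ)
    (gs : List (List ℕ × List ℕ)) (ls : List (List (List ℕ) × List ℕ)) (m : List ℕ) : Bool :=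
  mapK (cpl u) I12 [] fun cs => mkGens E (tst2 cs) gs fun ns => labs E seeds u ns ls 0 0 m

/-- The statement about one fibre. -/
def Fib (E : List (List ℕ)) (seeds : List (ℕ × ℕ)) (u : ℕ) (m : List ℕ) : Prop :=
  ∀ (T : Subgroup G0) (Z : ℕ → Set C), InT T E → (∀ l, ∀ h ∈ T, ∀ c ∈ Z l, h • c ∈ Z l) →
    (∀ s ∈ seeds, dec s.2 ∈ Z s.1) → Pcs Z {c | c.1 = dK u} (nth 0 m)

theorem fib_of_chk {E : List (List ℕ)} {seeds : List (ℕ × ℕ)} {u : ℕ}
    (gs : List (List ℕ × List ℕ)) (ls : List (List (List ℕ) × List ℕ)) {m : List ℕ}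
    (h : chkFib E seeds u gs ls m = true) : Fib E seeds u m := fun T Z hE hZ hs => by
  rw [chkFib, mapK_eq] at h
  obtain ⟨ns, h1, h2⟩ := mkGens_spec hE h
  have := labs_spec hE hZ hs (fun l n hn => by
    obtain ⟨h3, g, hg, A, hA, h4⟩ := h2 n hn
    refine ⟨h3, fun p hp h5 => ?_⟩
    have := hZ l g hg _ h5
    rwa [tst2_spec hA h3 h4 hp] at this) ls h1
  exact (this.mono (W' := {c | c.1 = dK u}) (by rintro c ⟨p, -, -, rfl⟩; rfl))

/-! ### All fibres -/

noncomputable def axpy (k : ℕ) (m : List ℕ) : List ℕ → List ℕ :=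
  List.rec (motive := fun _ => List ℕ → List ℕ) (fun n => n) (fun a _ ih n =>
    List.rec (motive := fun _ => List ℕ) (Nat.mul k a :: ih [])
      (fun b n _ => Nat.add (Nat.mul k a) b :: ih n) n) m

theorem nth_axpy (k : ℕ) : ∀ (m n : List ℕ) (l : ℕ),
    nth 0 (axpy k m n) l = k * nth 0 m l + nth 0 n l
  | [], n, l => by simp [axpy, nth]
  | a :: m, [], 0 => rfl
  | a :: m, [], l + 1 => nth_axpy k m [] l
  | a :: m, b :: n, 0 => rfl
  | a :: m, b :: n, l + 1 => nth_axpy k m n l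

noncomputable def tops (ns : List Net) (n : List ℕ) (fs : List ((ℕ × List ℕ) × List ℕ)) :
    ℕ → List ℕ → Bool :=
  List.rec (motive := fun _ => ℕ → List ℕ → Bool) (fun _ acc => beqL acc n) (fun x _ ih U acc =>
    Prod.rec (fun y sch => Prod.rec (fun u m => and2 (Nat.ble u 4095)
      (lit (clos ns sch (Nat.shiftLeft 1 u)) fun O => and2 (disj U O) (lit (pc O) fun k =>
        lit (Nat.lor U O) fun U' => mapK (fun x => x) (axpy k m acc) [] (ih U')))) y) x) fs

theorem tops_spec {Z : ℕ → Set C} {ns : List Net} {n : List ℕ}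
    (hn : ∀ m, ∀ x ∈ ns, NetOK (fun p => Pcs Z {c | c.1 = dK p} m) x) :
    ∀ (fs : List ((ℕ × List ℕ) × List ℕ)) {U : ℕ} {acc : List ℕ}, tops ns n fs U acc = true →
      (∀ x ∈ fs, Pcs Z {c | c.1 = dK x.1.1} (nth 0 x.1.2)) →
      Pcs Z {c | ∃ p < 4096, U.testBit p = true ∧ c.1 = dK p} (nth 0 acc) →
      Pcs Z Set.univ (nth 0 n)
  | [], U, acc, h, _, h2 => eq_of_beqL h ▸ h2.mono (Set.subset_univ _)
  | ((u, m), sch) :: fs, U, acc, h, h1, h2 => by
    obtain ⟨h3, h4⟩ := and2_true.1 h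
    obtain ⟨h4, h5⟩ := and2_true.1 h4
    change mapK _ _ _ _ = true at h5
    rw [mapK_eq, List.map_id', List.append_nil] at h5
    refine tops_spec hn fs h5 (fun x hx => h1 x (List.mem_cons_of_mem _ hx)) ?_
    have h6 := (Pcs.big (AllB.clos (hn _) sch (AllB.single (Nat.lt_succ_of_le (H29.ble_true.1 h3))
      (h1 _ List.mem_cons_self)))).union h2 (Set.disjoint_left.2 (by
        rintro c ⟨p, hp, h7, e⟩ ⟨q, hq, h8, e'⟩
        rw [dK_inj hp hq (e.symm.trans e'), disj_true h4 h8] at h7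
        simp at h7))
    rw [funext (nth_axpy _ m acc)]
    refine h6.mono ?_
    rintro c (⟨p, hp, h7, e⟩ | ⟨p, hp, h7, e⟩) <;>
      exact ⟨p, hp, by rw [lor_eq, Nat.testBit_or, h7]; simp, e⟩

noncomputable def chkTop (E : List (List ℕ)) (gs : List (List ℕ × List ℕ))
    (fs : List ((ℕ × List ℕ) × List ℕ)) (n : List ℕ) : Bool :=
  mkGens E tst1 gs fun ns => tops ns n fs 0 []

/-- All fibre statements of a list. -/
def Fibs (E : List (List ℕ)) (seeds : List (ℕ × ℕ)) : List ((ℕ × List ℕ) × List ℕ) → Prop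
  | [] => True
  | x :: fs => Fib E seeds x.1.1 x.1.2 ∧ Fibs E seeds fs

theorem Fibs.nil {E : List (List ℕ)} {seeds : List (ℕ × ℕ)} : Fibs E seeds [] := trivial

theorem Fibs.cons {E : List (List ℕ)} {seeds : List (ℕ × ℕ)} {u : ℕ} {m : List ℕ}
    {fs : List ((ℕ × List ℕ) × List ℕ)} (sch : List ℕ) (h : Fib E seeds u m) (h' : Fibs E seeds fs) :
    Fibs E seeds (((u, m), sch) :: fs) := ⟨h, h'⟩

theorem Fibs.mem {E : List (List ℕ)} {seeds : List (ℕ × ℕ)} :
    ∀ {fs : List ((ℕ × List ℕ) × List ℕ)}, Fibs E seeds fs → ∀ x ∈ fs, Fib E seeds x.1.1 x.1.2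
  | [], _, _, h => absurd h List.not_mem_nil
  | y :: fs, h, x, hx => by
    rcases List.mem_cons.1 hx with rfl | hx
    · exact h.1
    · exact Fibs.mem h.2 x hx

theorem cov_of_chk {gens E : List (List ℕ)} {seeds : List (ℕ × ℕ)} (hE : Env gens E)
    (gs : List (List ℕ × List ℕ)) {fs : List ((ℕ × List ℕ) × List ℕ)} {n : List ℕ}
    (hf : Fibs E seeds fs) (h : chkTop E gs fs n = true) : Cov gens seeds n := fun T Z hT hZ hs => by
  have hE := hE T hT
  obtain ⟨ns, h1, h2⟩ := mkGens_spec hE h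
  obtain ⟨D, h3, h4⟩ := tops_spec (Z := Z) (fun m x hx => by
    obtain ⟨h3, g, hg, A, hA, h4⟩ := h2 x hx
    exact ⟨h3, fun p hp h5 => h5.smul (fun l => hZ l g hg) fun c hc => tst1_spec hA h3 h4 hp hc⟩)
    fs h1 (fun x hx => hf.mem x hx T Z hE hZ hs) (Pcs.zero Z _)
  exact ⟨D, fun l => (h3 l).trans Set.inter_subset_left, h4⟩

end H10.Mon
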