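import Mathlib
import Cfsg.Agent.H12.NGM
import Cfsg.Agent.H26.Coprime

/-!
# N-groups, case (A-I), `D = V`: elementary lemmas and the two module lemmas
-/

set_option autoImplicit false

namespace H1.NG

open Subgroup Cfsg H24 H26 H11.ZN H12.NG

universe u

variable {G : Type u} [Group G] {A B E H K P W W1 X : Subgroup G} {a b c f g k q t v w x z : G}

theorem mem_zp2 (hz : z * z = 1) : w ∈ zpowers z ↔ w = 1 ∨ w = z := by
  constructor
  · rintro ⟨n, rfl⟩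
    have h2 : z ^ (2 : ℤ) = 1 := by rw [zpow_two, hz]
    rcases Int.emod_two_eq_zero_or_one n with h | h
    · left
      show z ^ n = 1
      rw [← Int.emod_add_mul_ediv n 2, h, zero_add, zpow_mul, h2, one_zpow]
    · right
      show z ^ n = z
      rw [← Int.emod_add_mul_ediv n 2, h, zpow_add, zpow_mul, h2, one_zpow, mul_one, zpow_one]
  · rintro (rfl | rfl)
    · exact one_mem _
    · exact mem_zpowers _

theorem card_zp2 (hz : z * z = 1) (h1 : z ≠ 1) : ♯(zpowers z) = 2 := by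
  rw [card_zpowers']
  have : Fact (Nat.Prime 2) := ⟨Nat.prime_two⟩
  exact orderOf_eq_prime (by rw [sq, hz]) h1

theorem inv_of_sq (hz : z * z = 1) : z⁻¹ = z := inv_eq_of_mul_eq_one_right hz

theorem ea_sq (h : EA A) (ha : a ∈ A) : a * a = 1 := by rw [← sq]; exact h.2 a ha

theorem ea_of_sq (h : ∀ a ∈ A, a * a = 1) : EA A := by
  refine H12.isEA_iff.2 ⟨fun a ha b hb => ?_, fun a ha => by rw [sq, h a ha]⟩
  rw [← inv_of_sq (h _ (mul_mem ha hb)), mul_inv_rev, inv_of_sq (h a ha), inv_of_sq (h b hb)]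

theorem mem_of_sq_mem [Finite G] (ho : Odd (orderOf g)) (h : g * g ∈ K) : g ∈ K := by
  have : g ∈ zpowers (g ^ 2) := by
    rw [mem_zpowers_pow_iff]
    exact (Nat.coprime_two_left.2 ho)
  exact (zpowers_le.2 (by rwa [sq])) this

theorem four [Finite G] (hW : ♯W = 4) (ha : a ∈ W) (hb : b ∈ W) (hc : c ∈ W) (a1 : a ≠ 1) (b1 : b ≠ 1)
    (c1 : c ≠ 1) (ab : a ≠ b) (ac : a ≠ c) (bc : b ≠ c) (hw : w ∈ W) :
    w = 1 ∨ w = a ∨ w = b ∨ w = c := by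
  classical
  by_contra hn
  push Not at hn
  obtain ⟨n1, n2, n3, n4⟩ := hn
  have hs : (({w, 1, a, b, c} : Finset G) : Set G) ⊆ (W : Set G) := by
    intro y hy
    simp only [Finset.coe_insert, Finset.coe_singleton, Set.mem_insert_iff, Set.mem_singleton_iff] at hy
    rcases hy with rfl | rfl | rfl | rfl | rfl <;> first | assumption | exact one_mem _
  have h1 := Set.ncard_le_ncard hs (Set.toFinite _)
  rw [Set.ncard_coe_finset] at h1
  have h2 : (W : Set G).ncard = 4 := hW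
  rw [h2, Finset.card_insert_of_notMem (by simp [n1, n2, n3, n4]),
    Finset.card_insert_of_notMem (by simp [a1.symm, b1.symm, c1.symm]),
    Finset.card_insert_of_notMem (by simp [ab, ac]), Finset.card_insert_of_notMem (by simp [bc]),
    Finset.card_singleton] at h1
  omega

theorem orb4 [Finite G] (hW : ♯W = 4) (hg : g ∈ N[W]) (ho : Odd (orderOf g)) (hv : v ∈ W) (v1 : v ≠ 1)
    (hn : g ∉ C{v}) (hw : w ∈ W) :
    w = 1 ∨ w = v ∨ w = g * v * g⁻¹ ∨ w = g * g * v * (g * g)⁻¹ := by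
  refine four hW hv (conj_mem hg hv) (conj_mem (mul_mem hg hg) hv) v1 (mt conj_eq_one_iff'.1 v1)
    (mt conj_eq_one_iff'.1 v1) (fun e => hn (mem_C1_iff_conj.2 e.symm)) (fun e => hn ?_) (fun e => hn ?_) hw
  · exact mem_of_sq_mem ho (mem_C1_iff_conj.2 e.symm)
  · rw [mem_C1_iff_conj]
    have : g * v * g⁻¹ = g⁻¹ * (g * g * v * (g * g)⁻¹) * g := by group
    rw [this, ← e]; group

theorem relIndex_C1 (X : Subgroup G) (e : G) :
    C{e}.relIndex X = {y | ∃ x ∈ X, x * e * x⁻¹ = y}.ncard := by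
  let _ : MulAction X G := MulAction.compHom G ((MulAut.conj (G := G)).comp X.subtype)
  have h1 := MulAction.index_stabilizer X e
  have h2 : MulAction.orbit X e = {y | ∃ x ∈ X, x * e * x⁻¹ = y} := by
    ext y
    exact ⟨fun ⟨x, hx⟩ => ⟨x, x.2, hx⟩, fun ⟨x, hx, e'⟩ => ⟨⟨x, hx⟩, e'⟩⟩
  have h3 : MulAction.stabilizer X e = C{e}.subgroupOf X := by
    ext x
    rw [mem_subgroupOf, mem_C1_iff_conj]
    rfl
  rw [← h2, ← h1, h3, relIndex]

theorem five_dvd [Finite G] (h16 : ♯E = 16) (hH : H ≤ N[E]) (hz : z ∈ E) (z1 : z ≠ 1)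
    (h : ∀ e ∈ E, e ≠ 1 → ∃ k ∈ H, k * z * k⁻¹ = e) : 5 ∣ (H ⊓ C[E]).relIndex H := by
  have h1 : {y | ∃ x ∈ H, x * z * x⁻¹ = y} = (E : Set G) \ {1} := by
    ext y
    constructor
    · rintro ⟨x, hx, rfl⟩
      exact ⟨conj_mem (hH hx) hz, by simpa using z1⟩
    · rintro ⟨h1, h2⟩
      exact h y h1 h2
  have h2 : C{z}.relIndex H = 15 := by
    rw [relIndex_C1, h1, Set.ncard_sdiff_singleton_of_mem (one_mem E)]
    have : (E : Set G).ncard = 16 := h16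
    rw [this]
  have h3 := relIndex_dvd_of_le_left H (inf_le_right.trans (C_le_C1 hz) : H ⊓ C[E] ≤ C{z})
  rw [h2] at h3
  exact (by norm_num : 5 ∣ 15).trans h3

theorem odd_of_pi (h : PiElt {2}ᶜ g) : Odd (orderOf g) :=
  Nat.not_even_iff_odd.1 fun e => h 2 Nat.prime_two e.two_dvd rfl

theorem pi_of_odd (h : Odd (orderOf g)) : PiElt {2}ᶜ g :=
  (piNat_compl_singleton Nat.prime_two).2 fun e => Nat.not_even_iff_odd.2 h (even_iff_two_dvd.2 e)

theorem comm_mem_C1 (hW : EA W) (ht : t ∈ N[W]) (t2 : t * t = 1) (hx : x ∈ W) :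
    x * t * x⁻¹ * t⁻¹ ∈ C{t} := by
  rw [mem_C1_comm, mem_C1_iff_conj]
  have h1 := conj_mem ht hx
  have e1 : t * (x * t * x⁻¹ * t⁻¹) * t⁻¹ = (t * x * t⁻¹) * ((t * t) * x⁻¹ * (t * t)⁻¹) := by group
  have e2 : x * t * x⁻¹ * t⁻¹ = x * (t * x * t⁻¹)⁻¹ := by group
  rw [e1, e2, t2, inv_of_sq (ea_sq hW h1), inv_of_sq (ea_sq hW hx), H12.ea_comm hW hx h1]
  simp

theorem pow_conj (h1 : g * q = q * g) (h2 : g * a * g⁻¹ = q * a) (n : ℕ) :
    g ^ n * a * (g ^ n)⁻¹ = q ^ n * a := by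
  induction n with
  | zero => simp
  | succ n ih =>
    have h3 : g * q ^ n * g⁻¹ = q ^ n := by
      have : g * q ^ n = q ^ n * g := (Commute.pow_right (show Commute g q from h1) n).eq
      rw [this]; group
    calc g ^ (n + 1) * a * (g ^ (n + 1))⁻¹ = g * (g ^ n * a * (g ^ n)⁻¹) * g⁻¹ := by
          rw [pow_succ']; group
      _ = (g * q ^ n * g⁻¹) * (g * a * g⁻¹) := by rw [ih]; group
      _ = q ^ (n + 1) * a := by rw [h3, h2, pow_succ]; group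

/-- an element of odd order that acts quadratically on a `2`-section acts trivially -/
theorem odd_fix [Finite G] (hg : g ∈ N[P]) (ha : a ∈ N[P]) (ho : Odd (orderOf g))
    (hq : PiElt {2} (g * a * g⁻¹ * a⁻¹))
    (h : g * (g * a * g⁻¹ * a⁻¹) * g⁻¹ * (g * a * g⁻¹ * a⁻¹)⁻¹ ∈ P) : g * a * g⁻¹ * a⁻¹ ∈ P := by
  set q := g * a * g⁻¹ * a⁻¹ with hq'
  have qN : q ∈ N[P] := mul_mem (mul_mem (mul_mem hg ha) (inv_mem hg)) (inv_mem ha)
  have h1 : cs P g * cs P q = cs P q * cs P g := by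
    have : ap (coset P) _ = 1 := cs_of_mem h
    rw [ap_mul _ (mul_mem (mul_mem hg qN) (inv_mem hg)) (inv_mem qN), ap_conj _ hg qN,
      ap_inv _ qN] at this
    rw [mul_inv_eq_one, mul_inv_eq_iff_eq_mul] at this
    exact this
  have h2 : cs P g * cs P a * (cs P g)⁻¹ = cs P q * cs P a := by
    rw [← ap_conj _ hg ha, ← ap_mul _ qN ha]
    congr 1
    rw [hq']; group
  have h3 := pow_conj h1 h2 (orderOf g)
  rw [← ap_pow _ hg, pow_orderOf_eq_one, ap_one] at h3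
  have h4 : cs P q ^ orderOf g = 1 := by simpa using h3.symm
  exact (cs_eq_one qN).1 ((hq.ap _ qN).eq_one (piElt_of_pow_eq_one (pi_of_odd ho) h4))

theorem exists_odd_lift [Finite G] {Γ : Type u} [Group Γ] [Finite Γ] {D : Subgroup G} (ρ : D →* Γ)
    (hK : K ≤ D) (hc : c ∈ K) {γ : Γ} (ho : Odd (orderOf γ)) (h : ap ρ c = γ * γ) :
    ∃ g ∈ K, Odd (orderOf g) ∧ ap ρ g = γ := by
  obtain ⟨n, hn⟩ := ho
  have hm : c ^ (n + 1) ∈ K := pow_mem hc _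
  refine ⟨constt {2}ᶜ (c ^ (n + 1)), constt_mem _ hm, odd_of_pi (piElt_constt _ _), ?_⟩
  rw [constt_ap _ _ (hK hm), ap_pow _ (hK hc), h]
  have : (γ * γ) ^ (n + 1) = γ := by
    rw [← sq, ← pow_mul, show 2 * (n + 1) = orderOf γ + 1 by omega, pow_succ, pow_orderOf_eq_one,
      one_mul]
  rw [this]
  exact constt_eq_self (pi_of_odd ⟨n, hn⟩)

theorem norm_zp_inv (h : t * f * t⁻¹ = f⁻¹) : t ∈ N[zpowers f] := by
  rw [mem_N_iff_cj, cj_zpowers, h, zpowers_inv]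

theorem cop_ea [Finite G] (hW : IsPi {2} W) (ho : Odd (orderOf f)) : (♯W).Coprime ♯(zpowers f) :=
  hW.coprime (pi_of_odd ho).isPi

/-! ### the module lemmas -/

theorem idx_four [Finite G] (hW : EA W) (hW1 : W1 ≤ W) (hi : W1.relIndex W = 2) (hv : v ∈ W1)
    (h1 : W ⊓ C{t} ≤ W1) (h2 : ∀ u ∈ W1, t * u * t⁻¹ * u⁻¹ ∈ zpowers v) (h3 : ¬ W1 ≤ C{t}) :
    (W ⊓ C{t}).relIndex W = 4 := by
  have v2 := ea_sq hW (hW1 hv)
  have key : ∀ u ∈ W1, u ∉ C{t} → t * u * t⁻¹ = v * u := by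
    intro u hu hn
    rcases (mem_zp2 v2).1 (h2 u hu) with e | e
    · exact absurd (mem_C1_comm.1 (mem_C1_iff_conj.2 (mul_inv_eq_one.1 e))) hn
    · rw [← e]; group
  have h4 : (W ⊓ C{t}).relIndex W1 = 2 := by
    obtain ⟨u, hu, hn⟩ := SetLike.not_le_iff_exists.1 h3
    refine relIndex_eq_two_iff_exists_notMem_and.2 ⟨u, hu, fun e => hn e.2, fun b hb => ?_⟩
    by_cases hb' : b ∈ C{t}
    · exact Or.inr ⟨hW1 hb, hb'⟩
    · refine Or.inl ⟨hW1 (mul_mem hb hu), mem_C1_comm.1 (mem_C1_iff_conj.2 ?_)⟩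
      have e : t * (b * u) * t⁻¹ = (t * b * t⁻¹) * (t * u * t⁻¹) := by group
      rw [e, key b hb hb', key u hu hn, H12.ea_comm hW (hW1 hv) (hW1 hb), mul_assoc, ← mul_assoc v,
        v2, one_mul]
  rw [← relIndex_mul_relIndex _ _ _ h1 hW1, h4, hi]

theorem mod_a [Finite G] (h : Md W H) (hA : EA A) (hAH : A ≤ H) (hA1 : A ≠ ⊥) (hW1 : W1 ≤ W)
    (hi : W1.relIndex W = 2) (hv : v ∈ W1) (v1 : v ≠ 1) (vA : v ∈ C[A])
    (h1 : ∀ t ∈ A, t ≠ 1 → W ⊓ C{t} ≤ W1)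
    (h2 : ∀ t ∈ A, ∀ u ∈ W1, t * u * t⁻¹ * u⁻¹ ∈ zpowers v)
    (h3 : ∀ t ∈ A, t ≠ 1 → ¬ W1 ≤ C{t}) (h4 : ♯W = 4 * ♯A)
    (h5 : ∀ f ∈ F[H], f ∈ C{v} → f = 1) :
    ∃ a ∈ A, a ≠ 1 ∧ ∃ b ∈ A, ∃ g ∈ F[H], g ≠ 1 ∧ a * g = g * a ∧ b * g * b⁻¹ = g⁻¹ ∧
      ♯(W ⊓ C{a}) = 4 := by
  have idx : ∀ t ∈ A, t ≠ 1 → (W ⊓ C{t}).relIndex W = 4 := fun t ht t1 =>
    idx_four h.ea hW1 hi hv (h1 t ht t1) (h2 t ht) (h3 t ht t1)
  have v2 := ea_sq h.ea (hW1 hv)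
  have hz : zpowers v ≤ W ⊓ C[A] := zpowers_le.2 ⟨hW1 hv, vA⟩
  have hC : zpowers v = W ⊓ C[A] := by
    refine eq_of_card_ge hz ?_
    have hd := card_dvd hz
    rw [card_zp2 v2 v1] at hd ⊢
    by_contra hn
    have h6 := h.m2 hA hAH (by rw [h4, mul_comm]; exact Nat.mul_le_mul_left _ (by omega))
    refine hA1 (le_bot_iff.1 (h6.trans ((closure_le _).2 ?_)))
    rintro t ⟨ht, hT⟩
    by_contra t1
    have := idx t ht t1
    rw [hT] at this
    omega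
  obtain ⟨a0, ha0, a01⟩ := exists_ne_one hA1
  obtain ⟨B, hBA, hB, ha0B, f, hf, f1, fB, finv⟩ := h.hyper hA hAH ha0 a01
  have fo : Odd (orderOf f) := odd_of_pi (h.odd_F.piElt hf)
  have fN : f ∈ N[W] := h.le (Fitting_le _ hf)
  have hAf : A ≤ N[zpowers f] := fun a ha => by
    by_cases hb : a ∈ B
    · exact norm_zpowers_of_cent le_rfl (mem_C1.2 (mem_C.1 fB a hb))
    · exact norm_zp_inv (finv a ha hb)
  have hc : W ⊓ C{f} = ⊥ := by
    by_contra hn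
    have h6 := IsPi.inf_C_ne_bot Nat.prime_two (ea_pi hA) ((ea_pi h.ea).inf_left C{f})
      (norm_inf (hAH.trans h.le) (by rw [← C_zpowers]; exact norm_C hAf)) hn
    obtain ⟨w, ⟨⟨w1, w2⟩, w3⟩, w4⟩ := exists_ne_one h6
    have : w ∈ zpowers v := hC ▸ ⟨w1, w3⟩
    rcases (mem_zp2 v2).1 this with e | e
    · exact w4 e
    · exact f1 (h5 f hf (mem_C1_comm.1 (e ▸ w2)))
  have h6 := (free_inv h.ea fN (h.le (hAH ha0)) fo (by rw [ea_sq hA ha0]; exact one_mem _)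
    (by rw [finv a0 ha0 ha0B, inv_mul_cancel]; exact one_mem _) hc).2
  have h7 := card_mul_relIndex (inf_le_left : W ⊓ C{a0} ≤ W)
  rw [idx a0 ha0 a01, h6, sq] at h7
  have h8 : 4 = ♯(W ⊓ C{a0}) := Nat.eq_of_mul_eq_mul_left (card_pos _) h7
  rw [← h8] at h6
  have h9 := card_mul_relIndex hBA
  rw [hB] at h9
  have hB1 : B ≠ ⊥ := fun e => by
    rw [e, card_bot] at h9
    omega
  obtain ⟨a, ha, a1⟩ := exists_ne_one hB1
  refine ⟨a, hBA ha, a1, a0, ha0, f, hf, f1, mem_C.1 fB a ha, finv a0 ha0 ha0B, ?_⟩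
  have h10 := card_mul_relIndex (inf_le_left : W ⊓ C{a} ≤ W)
  rw [idx a (hBA ha) a1] at h10
  omega

theorem mod_b [Finite G] (h : Md W H) (ht : t ∈ H) (t2 : t * t = 1) (hT : Tv W t) (hv : v ∈ W ⊓ C{t})
    (hx : x ∈ W) (hx' : x ∉ C{t}) (h5 : ∀ f ∈ F[H], f ∈ C{v} → f = 1)
    (hu : w = x * t * x⁻¹ * t⁻¹) :
    ∃ f ∈ F[H], ∃ N ≤ W, ♯N = 4 ∧ w * v ∈ C{f} ∧ f * w * f⁻¹ ∉ C{t} ∧
      (∀ n ∈ N, n = 1 ∨ n = w ∨ n = f * w * f⁻¹ ∨ n = f * f * w * (f * f)⁻¹) ∧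
      w * (f * w * f⁻¹) ∈ N ∧
      ∀ k ∈ H, k ∈ C{w} ∨ k ∈ C{t} → f * w * f⁻¹ ∈ C{k} ∨ f * w * f⁻¹ ∈ C{k * t} := by
  classical
  have t1 : t ≠ 1 := fun e => hx' (by rw [e, C1_one]; exact mem_top _)
  obtain ⟨f, hf, f1, tf⟩ := h.inv ht t2 t1
  obtain ⟨f3, N4⟩ := h.m3 ht hT hf f1 tf
  have fo : Odd (orderOf f) := by rw [f3]; decide
  have fH : f ∈ H := Fitting_le _ hf
  have fN : f ∈ N[W] := h.le fH
  have tN : t ∈ N[W] := h.le ht
  have dp := coprime_abelian_cent_dprod (zpowers_le.2 fN) (cop_ea (ea_pi h.ea) fo) h.ea.1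
  rw [C_zpowers] at dp
  set N := ⁅W, zpowers f⁆ with hN
  have tz := norm_zp_inv tf
  have tNN : t ∈ N[N] := zpowers_le.1 (norm_comm (zpowers_le.2 tN) (zpowers_le.2 tz))
  have fNN : f ∈ N[N] := zpowers_le.1 (norm_comm_right _ _)
  have hw : ∀ y ∈ W, y ∉ C{t} → y * t * y⁻¹ * t⁻¹ = w := by
    intro y hy hy'
    have h1 : x⁻¹ * y ∈ W ⊓ C{t} := (mul_mem_idx2 hT (inv_mem hx) hy).2
      ⟨fun e => absurd (inv_mem_iff.1 (mem_inf.1 e).2) hx', fun e => absurd e.2 hy'⟩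
    have h2 := mem_C1_iff_conj.1 h1.2
    rw [hu]
    have : y * t * y⁻¹ = x * (x⁻¹ * y * t * (x⁻¹ * y)⁻¹) * x⁻¹ := by group
    rw [this, h2]
  have NC : ∀ n ∈ N, n ∈ C{f} → n = 1 := fun n h1 h2 => by
    have : n ∈ N ⊓ (W ⊓ C{f}) := ⟨h1, dp.left_le h1, h2⟩
    rwa [dp.inf] at this
  have hn : ¬ N ≤ C{t} := by
    intro e
    have h1 : t ∈ C[N] := mem_C_iff_le_C1.2 e
    have h2 : f * t * f⁻¹ * t⁻¹ ∈ C[N] := mul_mem (conj_mem (N_le_NC _ fNN) h1) (inv_mem h1)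
    have h3 : f * t * f⁻¹ * t⁻¹ = f * f := by
      have : f * t * f⁻¹ * t⁻¹ = f * (t * f * t⁻¹)⁻¹ := by group
      rw [this, tf, inv_inv]
    have h4 : f ∈ C[N] := mem_of_sq_mem fo (h3 ▸ h2)
    have h6 : N = ⊥ := (eq_bot_iff_forall _).2 fun n hn => NC n hn (mem_C_iff_le_C1.1 h4 hn)
    rw [h6, card_bot] at N4
    omega
  obtain ⟨n0, hn0, hn0'⟩ := SetLike.not_le_iff_exists.1 hn
  have wN : w ∈ N := by
    rw [← hw n0 (dp.left_le hn0) hn0']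
    have : n0 * t * n0⁻¹ * t⁻¹ = n0 * (t * n0 * t⁻¹)⁻¹ := by group
    rw [this]
    exact mul_mem hn0 (inv_mem (conj_mem tNN hn0))
  have w1 : w ≠ 1 := fun e => hx' (by
    rw [mem_C1_iff_conj]; rw [hu] at e; exact mul_inv_eq_one.1 e)
  have wt : w ∈ C{t} := hu ▸ comm_mem_C1 h.ea tN t2 hx
  have twt : t * w * t⁻¹ = w := mem_C1_iff_conj.1 (mem_C1_comm.1 wt)
  have hC : W ⊓ C{f} ≤ C{t} := by
    intro c hc
    by_contra hc'
    refine w1 (NC w wN ?_)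
    rw [← hw c hc.1 hc']
    have : c * t * c⁻¹ * t⁻¹ = c * (t * c * t⁻¹)⁻¹ := by group
    rw [this]
    refine mul_mem hc.2 (inv_mem (conj_mem ?_ hc.2))
    rw [← C_zpowers]; exact N_le_NC _ tz
  have fw : f ∉ C{w} := fun e => w1 (NC w wN (mem_C1_comm.1 e))
  have e1 : t * (f * w * f⁻¹) * t⁻¹ = f⁻¹ * w * f := by
    have : t * (f * w * f⁻¹) * t⁻¹ = (t * f * t⁻¹) * (t * w * t⁻¹) * (t * f * t⁻¹)⁻¹ := by group
    rw [this, tf, twt, inv_inv]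
  have hfw : f * w * f⁻¹ ∉ C{t} := by
    intro e
    have h1 := mem_C1_iff_conj.1 (mem_C1_comm.1 e)
    rw [e1] at h1
    refine fw (mem_of_sq_mem fo (inv_mem_iff.1 (mem_C1_iff_conj.2 ?_)))
    have : (f * f)⁻¹ * w * (f * f)⁻¹⁻¹ = f⁻¹ * (f⁻¹ * w * f) * f := by
      simp only [mul_inv_rev, inv_inv, mul_assoc]
    rw [this, h1]; group
  have ff : f * f = f⁻¹ := by
    have := pow_orderOf_eq_one f
    rw [f3] at this
    rw [eq_inv_iff_mul_eq_one, ← this, pow_succ, sq]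
  have o4 : ∀ n ∈ N, n = 1 ∨ n = w ∨ n = f * w * f⁻¹ ∨ n = f * f * w * (f * f)⁻¹ :=
    fun n hn => orb4 N4 fNN fo wN w1 fw hn
  refine ⟨f, hf, N, dp.left_le, N4, ?_, hfw, o4, mul_mem wN (conj_mem fNN wN), ?_⟩
  · obtain ⟨n, hn, c, hc, e⟩ := dp.isProd.mul v hv.1
    have nt : n ∈ C{t} := by
      have : n = v * c⁻¹ := by rw [e]; group
      rw [this]; exact mul_mem hv.2 (inv_mem (hC hc))
    rcases o4 n hn with e' | e' | e' | e'
    · rw [e', one_mul] at e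
      exact absurd (h5 f hf (mem_C1_comm.1 (e ▸ hc.2))) f1
    · rw [e, e', ← mul_assoc, ea_sq h.ea (dp.left_le wN), one_mul]; exact hc.2
    · exact absurd (e' ▸ nt) hfw
    · rw [ff, inv_inv, ← e1] at e'
      refine absurd ?_ hfw
      rw [e'] at nt
      exact (conj_mem_iff (le_normalizer (self_mem_C1 t))).1 nt
  · intro k hk kw
    have kN : k ∈ N[W] := h.le hk
    have kwk : k * w * k⁻¹ = w := by
      rcases kw with kw | kw
      · exact mem_C1_iff_conj.1 kw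
      · have h1 := hw (k * x * k⁻¹) (conj_mem kN hx)
          (fun e => hx' ((conj_mem_iff (le_normalizer kw)).1 e))
        have h2 := mem_C1_iff_conj.1 kw
        have h3 : k * (x * t * x⁻¹ * t⁻¹) * k⁻¹ =
            k * x * k⁻¹ * (k * t * k⁻¹) * (k * x * k⁻¹)⁻¹ * (k * t * k⁻¹)⁻¹ := by group
        rw [h2, h1, ← hu] at h3
        exact h3
    have e2 : ⁅W, zpowers (k * f * k⁻¹)⁆ = cj k N := by
      rw [hN, cj_comm, cj_zpowers, cj_of_mem_N kN]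
    have h6 := h.m4 hf (conj_mem ((Fitting_nml H).norm hk) hf) f3 (by rw [orderOf_conj, f3]) N4
      (by rw [e2, card_cj, N4])
    have h7 : k * f * k⁻¹ ∈ zpowers f := by
      rcases h6 with e | ⟨-, e, -⟩
      · rw [e]; exact mem_zpowers _
      · rw [e2] at e
        have : w ∈ N ⊓ cj k N := ⟨wN, kwk ▸ conj_mem_cj k wN⟩
        rw [e] at this
        exact absurd this w1
    have h8 : k * f * k⁻¹ = f ∨ k * f * k⁻¹ = f⁻¹ := by
      rw [mem_zpowers_iff_mem_range_orderOf, f3] at h7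
      simp only [Finset.mem_image, Finset.mem_range] at h7
      obtain ⟨i, hi, e⟩ := h7
      interval_cases i
      · exact absurd (by simpa using e.symm) f1
      · left; rw [← e, pow_one]
      · right; rw [← e, sq, ff]
    rcases h8 with e | e
    · left
      rw [mem_C1_comm, mem_C1_iff_conj]
      have : k * (f * w * f⁻¹) * k⁻¹ = (k * f * k⁻¹) * (k * w * k⁻¹) * (k * f * k⁻¹)⁻¹ := by group
      rw [this, e, kwk]
    · right
      rw [mem_C1_comm, mem_C1_iff_conj]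
      have : k * t * (f * w * f⁻¹) * (k * t)⁻¹ = k * (t * (f * w * f⁻¹) * t⁻¹) * k⁻¹ := by group
      rw [this, e1]
      have : k * (f⁻¹ * w * f) * k⁻¹ = (k * f * k⁻¹)⁻¹ * (k * w * k⁻¹) * (k * f * k⁻¹) := by group
      rw [this, e, kwk, inv_inv]

end H1.NG
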