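import Mathlib
import Cfsg.Agent.H12.NGA2
import Cfsg.Agent.H1.NGa1

/-!
# N-groups, case (A-I), `D = V`: translation to the module `U / ⟨z⟩`
-/

set_option autoImplicit false
set_option linter.unusedSectionVars false

namespace H1.NG

open Subgroup Cfsg H24 H26 H11.ZN H12.NG

universe u

variable {G : Type u} [Group G] {Γ : Type u} [Group Γ]

section
variable {X K H : Subgroup G} {ι : X →* Γ} {ρ : H →* Γ} {k x y : G}

theorem sec_comm (h : Sec X K H ι ρ) (hX : H ≤ N[X]) (hk : k ∈ H) (hx : x ∈ X) :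
    ap ι (k * x * k⁻¹ * x⁻¹) = ap ρ k * ap ι x * (ap ρ k)⁻¹ * (ap ι x)⁻¹ := by
  rw [ap_mul _ (conj_mem (hX hk) hx) (inv_mem hx), h.act k hk x hx, ap_inv _ hx]

theorem sec_comm' (h : Sec X K H ι ρ) (hX : H ≤ N[X]) (hk : k ∈ H) (hx : x ∈ X) :
    ap ι (x * k * x⁻¹ * k⁻¹) = ap ι x * ap ρ k * (ap ι x)⁻¹ * (ap ρ k)⁻¹ := by
  have : x * k * x⁻¹ * k⁻¹ = (k * x * k⁻¹ * x⁻¹)⁻¹ := by group
  rw [this, ap_inv _ (mul_mem (conj_mem (hX hk) hx) (inv_mem hx)), sec_comm h hX hk hx]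
  group

theorem sec_C1 (h : Sec X K H ι ρ) (hX : H ≤ N[X]) (hk : k ∈ H) (hx : x ∈ X) :
    ap ι x ∈ C{ap ρ k} ↔ k * x * k⁻¹ * x⁻¹ ∈ K := by
  rw [← h.ker _ (mul_mem (conj_mem (hX hk) hx) (inv_mem hx)), sec_comm h hX hk hx, mem_C1_comm,
    mem_C1_iff_conj, mul_inv_eq_one]

theorem sec_eq (h : Sec X K H ι ρ) (hx : x ∈ X) (hy : y ∈ X) : ap ι x = ap ι y ↔ x * y⁻¹ ∈ K := by
  rw [← h.ker _ (mul_mem hx (inv_mem hy)), ap_mul _ hx (inv_mem hy), ap_inv _ hy, mul_inv_eq_one]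

theorem sec_pre (h : Sec X K H ι ρ) (hK : K ≤ X) : pre ι ⊥ = K := by
  ext x
  rw [mem_pre_bot]
  exact ⟨fun e => (h.ker x e.1).1 e.2, fun e => ⟨hK e, (h.ker x (hK e)).2 e⟩⟩

theorem mem_rng {w : Γ} : w ∈ ι.range ↔ ∃ x ∈ X, ap ι x = w := by
  rw [← img_dom, mem_img_of_le le_rfl]

theorem ap_rng (ι : X →* Γ) (hx : x ∈ X) : ap ι x ∈ ι.range := mem_rng.2 ⟨x, hx, rfl⟩
end

variable [Finite G] {S V : Subgroup G} {z y t x u w f m : G}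

section
variable (h : CA S V z)
include h

theorem zp_le : zpowers z ≤ V := zpowers_le.2 h.z_mem

theorem exists_y : ∃ y ∈ V, y ≠ 1 ∧ y ≠ z := by
  by_contra hn
  push Not at hn
  have : V ≤ zpowers z := fun y hy => (mem_zp2 h.z_sq).2 (by
    by_cases e : y = 1
    · exact Or.inl e
    · exact Or.inr (hn y hy e))
  have := card_le this
  rw [h.card, card_zp2 h.z_sq h.z1] at this
  omega

theorem zp_comm (hw : w ∈ zpowers z) (hx : x ∈ C{z}) : x * w = w * x :=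
  mem_C1.1 (C1_le_C1_of_mem_zpowers hw hx)

theorem CV_le : C[V] ≤ C{z} := C_le_C1 h.z_mem

theorem U_le_S : Uz V z ≤ S := h.U_le_Q.trans h.Q_le_S

theorem U_le_C : Uz V z ≤ C{z} := h.U_nml.le

theorem S_pi : IsPi {2} S := h.syl.pi

theorem commQU (hx : x ∈ Qz z) (hu : u ∈ Uz V z) : x * u * x⁻¹ * u⁻¹ ∈ zpowers z := by
  rw [← h.comm_UQ, commC]; exact commutator_mem_commutator hx hu

theorem commUQ (hu : u ∈ Uz V z) (hx : x ∈ Qz z) : u * x * u⁻¹ * x⁻¹ ∈ zpowers z := by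
  rw [← h.comm_UQ]; exact commutator_mem_commutator hu hx

omit h in
theorem U_conj (hm : m ∈ N[V]) (y : G) : Uz V (m * y * m⁻¹) = cj m (Uz V y) := by
  rw [← CA.Uz_conj, cj_of_mem_N hm]

theorem other (hy : y ∈ V) (h1 : y ≠ 1) :
    ∃ m ∈ N[V], m * z * m⁻¹ = y ∧ CA (cj m S) V y := by
  obtain ⟨m, hm, e⟩ := h.trans hy h1
  exact ⟨m, hm.1, e, e ▸ h.conj hm.1⟩

theorem hU_other (hU : ¬ Uz V z ≤ C[V]) (hy : y ∈ V) (h1 : y ≠ 1) : ¬ Uz V y ≤ C[V] := by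
  obtain ⟨m, hm, rfl, -⟩ := other h hy h1
  rw [U_conj hm, ← cj_of_mem_N (N_le_NC _ hm), cj_le_cj]
  exact hU

theorem idx_U (hU : ¬ Uz V z ≤ C[V]) : (Uz V z ⊓ C[V]).relIndex (Uz V z) = 2 := by
  obtain ⟨x, hx, hx'⟩ := SetLike.not_le_iff_exists.1 hU
  refine relIndex_eq_two_iff_exists_notMem_and.2 ⟨x, hx, fun e => hx' e.2, fun b hb => ?_⟩
  by_cases hb' : b ∈ C[V]
  · exact Or.inr ⟨hb, hb'⟩
  · exact Or.inl ⟨mul_mem hb hx, ((mul_mem_idx2 h.idx_R (U_le_S h hb) (U_le_S h hx)).2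
      ⟨fun e => absurd e.2 hb', fun e => absurd e.2 hx'⟩).2⟩

theorem V_le_CV : V ≤ C[V] := H12.ea_le_centralizer h.ea

variable (hy : y ∈ V) (h1 : y ≠ 1) (h2 : y ≠ z)
include hy h1 h2

theorem yz_ne : y * z ≠ 1 ∧ y * z ≠ z ∧ y * z ≠ y :=
  ⟨fun e => h2 (by rw [eq_inv_of_mul_eq_one_left e, inv_of_sq h.z_sq]), by simpa using h1,
    by simpa using h.z1⟩

theorem memV (hw : w ∈ V) : w = 1 ∨ w = z ∨ w = y ∨ w = y * z := by
  obtain ⟨a, b, c⟩ := yz_ne h hy h1 h2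
  exact four h.card h.z_mem hy (mul_mem hy h.z_mem) h.z1 h1 a h2.symm b.symm c.symm hw

theorem mem_CV (hx : x ∈ C{z}) (hx' : x ∈ C{y}) : x ∈ C[V] := by
  refine mem_C_iff_le_C1.2 fun w hw => ?_
  have a := mem_C1_comm.1 hx
  have b := mem_C1_comm.1 hx'
  rcases memV h hy h1 h2 hw with rfl | rfl | rfl | rfl
  exacts [one_mem _, a, b, mul_mem b a]

theorem conj_y (hx : x ∈ C{z}) (hN : x ∈ N[V]) (hx' : x ∉ C[V]) : x * y * x⁻¹ = y * z := by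
  rcases memV h hy h1 h2 (conj_mem hN hy) with e | e | e | e
  · exact absurd (conj_eq_one_iff'.1 e) h1
  · rw [← mem_C1_iff_conj.1 hx] at e
    exact absurd (by simpa using e) h2
  · exact absurd (mem_CV h hy h1 h2 hx (mem_C1_iff_conj.2 e)) hx'
  · exact e

theorem mem_NV (hf : f ∈ C{z}) (hc : f * y * f⁻¹ * y⁻¹ ∈ zpowers z) : f ∈ N[V] := by
  refine mem_N_of_finite fun w hw => ?_
  have a := mem_C1_iff_conj.1 hf
  have b : f * y * f⁻¹ ∈ V := by simpa using mul_mem (zp_le h hc) hy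
  rcases memV h hy h1 h2 hw with rfl | rfl | rfl | rfl
  · simp
  · rwa [a]
  · exact b
  · have : f * (y * z) * f⁻¹ = f * y * f⁻¹ * (f * z * f⁻¹) := by group
    rw [this, a]; exact mul_mem b h.z_mem

theorem V_inf_C1 (hx : x ∈ C{z}) (hx' : x ∉ C[V]) (hw : w ∈ V) (hc : x ∈ C{w}) : w ∈ zpowers z := by
  rcases memV h hy h1 h2 hw with rfl | rfl | rfl | rfl
  · exact one_mem _
  · exact mem_zpowers _
  · exact absurd (mem_CV h hy h1 h2 hx hc) hx'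
  · refine absurd (mem_CV h hy h1 h2 hx (mem_C1_comm.1 ?_)) hx'
    simpa using mul_mem (mem_C1_comm.1 hc) (inv_mem (mem_C1_comm.1 hx))
end

/-- the module data -/
structure MD (V : Subgroup G) (z : G) (ι : Uz V z →* Γ) (ρ : C{z} →* Γ) : Prop where
  sec : Sec (Uz V z) (zpowers z) C{z} ι ρ
  md : Md ι.range ρ.range
  ker : ∀ g ∈ C{z}, ap ρ g = 1 ↔ g ∈ Qz z
  F : img ρ (F2 C{z}) = F[ρ.range]

theorem exists_MD (h : CA S V z) : ∃ (Γ : Type u) (_ : Group Γ) (_ : Finite Γ) (ι : Uz V z →* Γ)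
    (ρ : C{z} →* Γ), MD V z ι ρ := by
  obtain ⟨Γ, _, _, ι, ρ, a, b, c, d⟩ := h.exists_md
  exact ⟨Γ, _, inferInstance, ι, ρ, a, b, c, d⟩

variable [Finite Γ] {ι : Uz V z →* Γ} {ρ : C{z} →* Γ}

section
variable (h : CA S V z) (d : MD V z ι ρ)
include h d

omit [Finite Γ] in
theorem MD.C1 (hf : f ∈ C{z}) (hu : u ∈ Uz V z) :
    ap ι u ∈ C{ap ρ f} ↔ f * u * f⁻¹ * u⁻¹ ∈ zpowers z := sec_C1 d.sec h.U_nml.norm hf hu

omit [Finite Γ] in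
theorem MD.pre_bot : pre ι ⊥ = zpowers z := sec_pre d.sec ((zp_le h).trans h.V_le_U)

omit [Finite Γ] in
theorem MD.card_pre {X : Subgroup Γ} (hX : X ≤ ι.range) : ♯(pre ι X) = 2 * ♯X := by
  rw [H24.card_pre hX, d.pre_bot h, card_zp2 h.z_sq h.z1]

omit [Finite Γ] in
theorem MD.card_U : ♯(Uz V z) = 2 * ♯ι.range := by
  rw [← d.card_pre h le_rfl]
  congr 2
  ext x
  rw [mem_pre]
  exact ⟨fun e => ⟨e, ap_rng ι e⟩, fun e => e.1⟩

omit h [Finite G] [Finite Γ] in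
theorem MD.exF {γ : Γ} (hγ : γ ∈ F[ρ.range]) : ∃ f ∈ F2 C{z}, ap ρ f = γ := by
  rw [← d.F] at hγ
  obtain ⟨f, a, -, b⟩ := mem_img.1 hγ
  exact ⟨f, a, b⟩

variable (hy : y ∈ V) (h1 : y ≠ 1) (h2 : y ≠ z)
include hy h1 h2

omit [Finite Γ] in
theorem MD.v_ne : ap ι y ≠ 1 := fun e => by
  rcases (mem_zp2 h.z_sq).1 ((d.sec.ker y (h.V_le_U hy)).1 e) with e | e
  exacts [h1 e, h2 e]

omit [Finite Γ] in
theorem MD.ap_V (hw : w ∈ V) : ap ι w ∈ zpowers (ap ι y) := by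
  have e := (d.sec.ker z (h.V_le_U h.z_mem)).2 (mem_zpowers z)
  rcases memV h hy h1 h2 hw with rfl | rfl | rfl | rfl
  · rw [ap_one]; exact one_mem _
  · rw [e]; exact one_mem _
  · exact mem_zpowers _
  · rw [ap_mul _ (h.V_le_U hy) (h.V_le_U h.z_mem), e, mul_one]; exact mem_zpowers _

omit [Finite Γ] in
theorem MD.F_v : ∀ γ ∈ F[ρ.range], γ ∈ C{ap ι y} → γ = 1 := by
  intro γ hγ hc
  obtain ⟨f, hf, rfl⟩ := d.exF hγ
  have fC := F2_le _ hf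
  have := mem_NV h hy h1 h2 fC ((d.C1 h fC (h.V_le_U hy)).1 (mem_C1_comm.1 hc))
  exact (d.ker f fC).2 (h.F_inf ▸ (⟨hf, this⟩ : f ∈ F2 C{z} ⊓ N[V]))

omit [Finite Γ] in
/-- elements of `U` on the orbit of `v` are conjugate into `V` -/
theorem MD.into (hf : f ∈ C{z}) (hu : u ∈ Uz V z)
    (e : ap ι u = 1 ∨ ap ι u = ap ι y ∨ ap ι u = ap ρ f * ap ι y * (ap ρ f)⁻¹ ∨
      ap ι u = ap ρ f * ap ρ f * ap ι y * (ap ρ f * ap ρ f)⁻¹) :
    ∃ c ∈ zpowers f, ∃ w ∈ V, u = c * w * c⁻¹ := by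
  have key : ∀ c ∈ zpowers f, ap ι u = ap ρ c * ap ι y * (ap ρ c)⁻¹ → ∃ w ∈ V, u = c * w * c⁻¹ := by
    intro c hc e
    have cC : c ∈ C{z} := zpowers_le.2 hf hc
    have yU := h.V_le_U hy
    rw [← d.sec.act c cC y yU, sec_eq d.sec hu (conj_mem (h.U_nml.norm cC) yU)] at e
    refine ⟨(u * (c * y * c⁻¹)⁻¹) * y, mul_mem (zp_le h e) hy, ?_⟩
    rw [← mul_assoc, zp_comm h e cC]
    group
  rcases e with e | e | e | e
  · exact ⟨1, one_mem _, u, zp_le h ((d.sec.ker u hu).1 e), by simp⟩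
  · exact ⟨1, one_mem _, key 1 (one_mem _) (by rw [ap_one]; simpa using e)⟩
  · exact ⟨f, mem_zpowers _, key f (mem_zpowers _) e⟩
  · exact ⟨f * f, mul_mem (mem_zpowers _) (mem_zpowers _),
      key _ (mul_mem (mem_zpowers _) (mem_zpowers _)) (by rwa [ap_mul _ hf hf])⟩
end

theorem A_le_C (h : CA S V z) (y : G) : Uz V y ⊓ C[V] ≤ C{z} := inf_le_right.trans (CV_le h)

section
variable (h : CA S V z) (hU : ¬ Uz V z ≤ C[V]) (hD : Dv V = V) (hy : y ∈ V) (h1 : y ≠ 1) (h2 : y ≠ z)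
include h hU hD hy h1 h2

theorem A_inf_Q (ht : t ∈ Uz V y ⊓ C[V]) (hq : t ∈ Qz z) : t ∈ V := by
  rw [← hD, ← h.U1_inf_Q hU hy h1 h2]; exact ⟨ht, hq⟩

theorem phi_inj' (hx : x ∈ Uz V z) (hx' : x ∉ C[V]) (ht : t ∈ Uz V y ⊓ C[V])
    (hc : x * t * x⁻¹ * t⁻¹ ∈ V) : t ∈ V := by
  rw [← hD] at hc ⊢
  exact h.phi_inj hU hy h1 h2 hx hx' ht hc

omit hU in
theorem commAU (ht : t ∈ Uz V y ⊓ C[V]) (hu : u ∈ Uz V z ⊓ C[V]) : t * u * t⁻¹ * u⁻¹ ∈ V := by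
  have := h.comm_U1 hy h1 h2
  rw [hD, commC] at this
  exact this (commutator_mem_commutator ht hu)

omit hU hD h2 in
theorem A_sq (ht : t ∈ Uz V y ⊓ C[V]) : t * t ∈ V := by
  obtain ⟨m, -, -, h'⟩ := other h hy h1
  exact zp_le h' (h'.sq_U ht.1)

omit hU hD h2 [Finite Γ] in
theorem MD.ea_A (d : MD V z ι ρ) : EA (img ρ (Uz V y ⊓ C[V])) := by
  refine ea_of_sq fun a ha => ?_
  obtain ⟨t, ht, tC, rfl⟩ := mem_img.1 ha
  rw [← ap_mul _ tC tC, d.ker _ (mul_mem tC tC)]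
  exact h.V_le_Q (A_sq h hy h1 ht)

omit [Finite Γ] in
theorem MD.ap_A (d : MD V z ι ρ) (ht : t ∈ Uz V y ⊓ C[V]) : ap ρ t = 1 ↔ t ∈ V := by
  rw [d.ker _ (A_le_C h y ht)]
  exact ⟨A_inf_Q h hU hD hy h1 h2 ht, fun e => h.V_le_Q e⟩

omit [Finite Γ] in
theorem MD.C_le (d : MD V z ι ρ) (ht : t ∈ Uz V y ⊓ C[V]) (ht' : t ∉ V) (hu : u ∈ Uz V z)
    (hc : ap ι u ∈ C{ap ρ t}) : u ∈ C[V] := by
  by_contra hn
  refine ht' (phi_inj' h hU hD hy h1 h2 hu hn ht ?_)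
  have := inv_mem (zp_le h ((d.C1 h (A_le_C h y ht) hu).1 hc))
  convert this using 1
  group

omit [Finite Γ] in
theorem MD.card_A (d : MD V z ι ρ) : ♯ι.range = 4 * ♯(img ρ (Uz V y ⊓ C[V])) := by
  have a := card_img_mul ρ (A_le_C h y)
  have b : pre ρ ⊥ ⊓ (Uz V y ⊓ C[V]) = V := by
    obtain ⟨m, -, -, h'⟩ := other h hy h1
    ext t
    rw [mem_inf, mem_pre_bot]
    exact ⟨fun e => (d.ap_A h hU hD hy h1 h2 e.2).1 e.1.2, fun e =>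
      ⟨⟨CV_le h (V_le_CV h e), (d.ker _ (CV_le h (V_le_CV h e))).2 (h.V_le_Q e)⟩,
        h'.V_le_U e, V_le_CV h e⟩⟩
  rw [b, h.card, h.card_U1 hy h1] at a
  have c := card_mul_relIndex (inf_le_left : Uz V z ⊓ C[V] ≤ Uz V z)
  rw [idx_U h hU, d.card_U h] at c
  omega

omit hD hy h1 h2 [Finite Γ] in
theorem MD.idx_W1 (d : MD V z ι ρ) : (img ι (Uz V z ⊓ C[V])).relIndex ι.range = 2 := by
  rw [← img_dom, relIndex_img ι inf_le_left le_rfl, d.pre_bot h,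
    sup_eq_left.2 (le_inf ((zp_le h).trans h.V_le_U) ((zp_le h).trans (V_le_CV h))), idx_U h hU]
end

end H1.NG
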