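import Mathlib
import Cfsg.Agent.H1.NGa2

/-!
# N-groups, case (A-I), `D = V`, transvection case: the structure of `U = Q₈ ∘ Z₄`
-/

set_option autoImplicit false
set_option linter.unusedSectionVars false

namespace H1.NG

open Subgroup Cfsg H24 H26 H11.ZN H12.NG

universe u

variable {G : Type u} [Group G] [Finite G] {S V : Subgroup G} {z y t c : G}

/-- the structure of `U` and `S` in the transvection case -/
structure B1 (S V : Subgroup G) (z c : G) : Prop where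
  cU : c ∈ Uz V z
  cC : c ∈ C[Uz V z]
  c2 : c * c = z
  card : ♯(Uz V z) = 16
  idx : (Qz z).relIndex S = 2
  CV : C[V] ≤ S
  Z : ∀ u ∈ Uz V z ⊓ C[Uz V z], u ∈ zpowers c
  U1 : ∀ u ∈ Uz V z ⊓ C[V], u ∈ V ∨ u * c ∈ V
  no4 : ∀ a ∈ Uz V z, ∀ b ∈ Uz V z, a * a = 1 → b * b = 1 → a * b * (a * b) = 1 →
    a ∈ zpowers z ∨ b ∈ zpowers z ∨ a * b ∈ zpowers z

theorem exists_B1 (h : CA S V z) (hU : ¬ Uz V z ≤ C[V]) (hD : Dv V = V) (hy : y ∈ V) (h1 : y ≠ 1)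
    (h2 : y ≠ z) (ht : t ∈ Uz V y ⊓ C[V]) (ht' : t ∉ V)
    (hc : ∀ u ∈ Uz V z ⊓ C[V], t * u * t⁻¹ * u⁻¹ ∈ zpowers z) : ∃ c, B1 S V z c := by
  obtain ⟨Γ, _, _, ι, ρ, d⟩ := exists_MD h
  obtain ⟨x, hx, hxV⟩ := SetLike.not_le_iff_exists.1 hU
  have yU := h.V_le_U hy
  have AC := A_le_C h y
  have tC := AC ht
  have eaA := d.ea_A h hy h1
  have hW1 : ι.range ⊓ C{ap ρ t} = img ι (Uz V z ⊓ C[V]) := by
    ext w
    constructor
    · rintro ⟨a, b⟩
      obtain ⟨u, hu, rfl⟩ := mem_rng.1 a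
      exact ap_mem_img ι ⟨hu, d.C_le h hU hD hy h1 h2 ht ht' hu b⟩ hu
    · intro hw
      obtain ⟨u, hu, uU, rfl⟩ := mem_img.1 hw
      exact ⟨ap_rng ι uU, (d.C1 h tC uU).2 (hc u hu)⟩
  set u := x * t * x⁻¹ * t⁻¹ with hu
  have uU : u ∈ Uz V z ⊓ C[V] := h.phi_mem hU hy h1 h2 hx ht
  have uV : u ∉ V := fun e => ht' (phi_inj' h hU hD hy h1 h2 hx hxV ht e)
  obtain ⟨γ, hγ, N, NW, N4, e1, e2, e3, e4, e5⟩ := mod_b (w := ap ι u) d.md (ap_rng ρ tC)
    (ea_sq eaA (ap_mem_img ρ ht tC)) (by unfold Tv; rw [hW1]; exact d.idx_W1 h hU)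
    (v := ap ι y) (hW1 ▸ ap_mem_img ι ⟨yU, V_le_CV h hy⟩ yU) (ap_rng ι hx)
    (fun e => hxV (d.C_le h hU hD hy h1 h2 ht ht' hx e)) (d.F_v h hy h1 h2)
    (sec_comm' d.sec h.U_nml.norm tC hx)
  obtain ⟨f, hf, rfl⟩ := d.exF hγ
  have fC := F2_le _ hf
  have UN := h.U_nml.norm
  have u'U : f * u * f⁻¹ ∈ Uz V z := conj_mem (UN fC) uU.1
  rw [← d.sec.act f fC u uU.1] at e2 e4 e5
  set u' := f * u * f⁻¹ with hu'
  have u'V : u' ∉ C[V] := fun e => e2 ((d.C1 h tC u'U).2 (hc u' ⟨u'U, e⟩))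
  have uy : u * y = y * u := (mem_C.1 uU.2 y hy).symm
  have cU : u * y ∈ Uz V z ⊓ C[V] := mul_mem uU ⟨yU, V_le_CV h hy⟩
  set c := u * y with hcd
  have cV : c ∉ V := fun e => uV (by simpa [hcd] using mul_mem e (inv_mem hy))
  have cU1 : Uz V z ⊓ C[V] ≤ C{c} := fun a ha => mem_C1_comm.1
    (mul_mem (h.perp hU hy h1 h2 hx hxV ht ha (hc a ha)) (mem_C1_comm.1 (C_le_C1 hy ha.2)))
  have cu' : c ∈ C{u'} := by
    rw [← ap_mul _ uU.1 yU, d.C1 h fC cU.1] at e1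
    have a1 : f * c * f⁻¹ ∈ C{u'} := by
      rw [hu', ← cj_C1]; exact conj_mem_cj f (mem_C1_comm.1 (cU1 uU))
    have a2 : f * c * f⁻¹ * c⁻¹ ∈ C{u'} :=
      mem_C1_comm.1 (C1_le_C1_of_mem_zpowers e1 (U_le_C h u'U))
    have := mul_mem (inv_mem a2) a1
    rwa [show (f * c * f⁻¹ * c⁻¹)⁻¹ * (f * c * f⁻¹) = c by group] at this
  have gen : ∀ K : Subgroup G, Uz V z ⊓ C[V] ≤ K → u' ∈ K → Uz V z ≤ K := fun K k1 k2 a ha => by
    by_cases hn : a ∈ Uz V z ⊓ C[V]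
    · exact k1 hn
    · have := k1 ((mul_mem_idx2 (idx_U h hU) ha u'U).2
        ⟨fun e => absurd e hn, fun e => absurd e.2 u'V⟩)
      simpa using mul_mem this (inv_mem k2)
  have cC : c ∈ C[Uz V z] := mem_C_iff_le_C1.2 (gen _ cU1 (mem_C1_comm.1 cu'))
  have hA : V.relIndex (Uz V y ⊓ C[V]) = 2 := by
    refine relIndex_eq_two_iff_exists_notMem_and.2 ⟨t, ht, ht', fun a ha => ?_⟩
    by_contra hn
    push Not at hn
    rcases e5 _ (ap_rng ρ (AC ha)) (Or.inr (mem_C1.2 (H12.ea_comm eaA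
      (ap_mem_img ρ ha (AC ha)) (ap_mem_img ρ ht tC)))) with e | e
    · exact u'V (d.C_le h hU hD hy h1 h2 ha hn.2 u'U e)
    · rw [← ap_mul _ (AC ha) tC] at e
      exact u'V (d.C_le h hU hD hy h1 h2 (mul_mem ha ht) hn.1 u'U e)
  have c8 : ♯(Uz V z ⊓ C[V]) = 8 := by
    obtain ⟨m, -, -, h'⟩ := other h hy h1
    have := card_mul_relIndex (le_inf h'.V_le_U (V_le_CV h))
    rw [hA, h.card, h.card_U1 hy h1] at this
    exact this.symm
  have c16 : ♯(Uz V z) = 16 := by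
    have := card_mul_relIndex (inf_le_left : Uz V z ⊓ C[V] ≤ Uz V z)
    rw [idx_U h hU, c8] at this
    exact this.symm
  have iN : N.relIndex ι.range = 2 := by
    have a := card_mul_relIndex NW
    have b := d.card_U h
    rw [N4] at a
    omega
  have iV : V.relIndex (Uz V z ⊓ C[V]) = 2 := by
    have := card_mul_relIndex (le_inf h.V_le_U (V_le_CV h))
    rw [h.card, c8] at this
    omega
  have hU1 : ∀ a ∈ Uz V z ⊓ C[V], a ∈ V ∨ a * c ∈ V := fun a ha => by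
    by_cases hn : a ∈ V
    · exact Or.inl hn
    · exact Or.inr ((mul_mem_idx2 iV ha cU).2 ⟨fun e => absurd e hn, fun e => absurd e cV⟩)
  have sqN : ∀ n ∈ Uz V z, ap ι n ∈ N → n ∈ zpowers z ∨ n * n = u * u := by
    intro n hn hN
    have key : ∀ k ∈ C{z}, ap ι n = ap ρ k * ap ι u * (ap ρ k)⁻¹ → n * n = u * u := by
      intro k hk e
      have kU := conj_mem (UN hk) uU.1
      rw [← d.sec.act k hk u uU.1, sec_eq d.sec hn kU] at e
      obtain ⟨ζ, hζ, rfl⟩ : ∃ ζ ∈ zpowers z, n = ζ * (k * u * k⁻¹) := ⟨_, e, by group⟩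
      have a1 := zp_comm h hζ (U_le_C h kU)
      have a2 := zp_comm h (h.sq_U uU.1) hk
      calc ζ * (k * u * k⁻¹) * (ζ * (k * u * k⁻¹)) = ζ * (k * u * k⁻¹ * ζ) * (k * u * k⁻¹) := by group
        _ = (ζ * ζ) * (k * (u * u)) * k⁻¹ := by rw [a1]; group
        _ = _ := by rw [ea_sq h.ea (zp_le h hζ), a2]; group
    rcases e3 _ hN with e | e | e | e
    · exact Or.inl ((d.sec.ker n hn).1 e)
    · exact Or.inr (key 1 (one_mem _) (by rw [ap_one]; simpa using e))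
    · exact Or.inr (key f fC e)
    · exact Or.inr (key (f * f) (mul_mem fC fC) (by rwa [ap_mul _ fC fC]))
  have u2 : u * u = z := by
    refine ((mem_zp2 h.z_sq).1 (h.sq_U uU.1)).resolve_left fun e => ?_
    have a1 : u' * u' = 1 := by
      have : u' * u' = f * (u * u) * f⁻¹ := by rw [hu']; group
      rw [this, e]; simp
    have a2 : u * u' * (u * u') = 1 := by
      rcases sqN _ (mul_mem uU.1 u'U) (by rwa [ap_mul _ uU.1 u'U]) with e' | e'
      · exact ea_sq h.ea (zp_le h e')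
      · rw [e', e]
    have a3 : u ∈ C{u'} := by
      rw [mem_C1, ← inv_of_sq a2, mul_inv_rev, inv_of_sq a1, inv_of_sq e]
    refine u'V (mem_CV h hy h1 h2 (U_le_C h u'U) (mem_C1_comm.1 ?_))
    simpa [hcd] using mul_mem (inv_mem a3) cu'
  have c2 : c * c = z := by
    calc c * c = u * (y * u) * y := by rw [hcd]; group
      _ = (u * u) * (y * y) := by rw [← uy, hcd]; simp only [mul_assoc]
      _ = z := by rw [u2, ea_sq h.ea hy, mul_one]
  have VZ : ∀ a ∈ V, a ∈ C[Uz V z] → a ∈ zpowers z := fun a ha ha' =>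
    V_inf_C1 h hy h1 h2 (U_le_C h hx) hxV ha (mem_C1_comm.1 (C_le_C1 hx ha'))
  have CUV : C[Uz V z] ≤ C[V] := C_anti h.V_le_U
  have zc : zpowers z ≤ zpowers c := zpowers_le.2 (c2 ▸ mul_mem (mem_zpowers c) (mem_zpowers c))
  have rc : ∀ r ∈ C[V], r * c * r⁻¹ * c⁻¹ ∈ zpowers z := fun r hr => by
    have rC := CV_le h hr
    have a1 := conj_mem (UN rC) cU.1
    have a2 := conj_mem (N_le_NC _ (UN rC)) cC
    rcases hU1 _ ⟨a1, CUV a2⟩ with e | e
    · exact absurd ((conj_mem_iff (C_le_N _ hr)).1 e) cV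
    · have a3 := mul_mem (VZ _ e (mul_mem a2 cC)) (inv_mem (mem_zpowers z))
      convert a3 using 1
      rw [← c2]; group
  have toQ : ∀ r ∈ C[V], ap ι u' ∈ C{ap ρ r} → r ∈ Qz z := fun r hr e => by
    have rC := CV_le h hr
    have hV : V ≤ pre ι C{ap ρ r} := fun a ha => mem_pre.2 ⟨h.V_le_U ha,
      (d.C1 h rC (h.V_le_U ha)).2 (by rw [← mem_C.1 hr a ha]; simp)⟩
    have hc' : c ∈ pre ι C{ap ρ r} := mem_pre.2 ⟨cU.1, (d.C1 h rC cU.1).2 (rc r hr)⟩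
    have := gen (pre ι C{ap ρ r}) (fun a ha => by
      rcases hU1 a ha with e | e
      · exact hV e
      · simpa using mul_mem (hV e) (inv_mem hc')) (mem_pre.2 ⟨u'U, e⟩)
    exact h.mem_Q rC fun a ha => (d.C1 h rC ha).1 (mem_pre.1 (this ha)).2
  have hR : ∀ r ∈ C[V], r ∈ Qz z ∨ r * t ∈ Qz z := fun r hr => by
    have rC := CV_le h hr
    have a1 : ap ρ r ∈ C{ap ι u} := by
      refine mem_C1_comm.1 ((d.C1 h rC uU.1).2 ?_)
      have a2 := mem_C.1 hr y hy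
      have : r * c * r⁻¹ * c⁻¹ = r * u * r⁻¹ * u⁻¹ := by
        calc r * c * r⁻¹ * c⁻¹ = r * u * r⁻¹ * (r * y) * r⁻¹ * y⁻¹ * u⁻¹ := by rw [hcd]; group
          _ = _ := by rw [← a2]; group
      exact this ▸ rc r hr
    rcases e5 _ (ap_rng ρ rC) (Or.inl a1) with e | e
    · exact Or.inl (toQ r hr e)
    · rw [← ap_mul _ rC tC] at e
      exact Or.inr (toQ _ (mul_mem hr ht.2) e)
  have tS : t ∈ S := (h.U1_le hy h1 ht).1
  have tQ : t ∉ Qz z := fun e => ht' (A_inf_Q h hU hD hy h1 h2 ht e)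
  refine ⟨c, cU.1, cC, c2, c16, ?_, fun r hr => ?_, fun a ha => ?_, hU1, fun a ha b hb a2 b2 ab => ?_⟩
  · refine relIndex_eq_two_iff_exists_notMem_and.2 ⟨t, tS, tQ, fun s hs => ?_⟩
    by_cases hn : s ∈ C[V]
    · exact (hR s hn).symm
    · have xQ := h.U_le_Q hx
      have a1 := ((mul_mem_idx2 h.idx_R hs (h.Q_le_S xQ)).2
        ⟨fun e => absurd e.2 hn, fun e => absurd e.2 hxV⟩).2
      rcases hR _ a1 with e | e
      · right; simpa using mul_mem e (inv_mem xQ)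
      · left
        have := mul_mem e (inv_mem (conj_mem' ((pcore_nml _ _).norm tC) xQ))
        convert this using 1
        group
  · rcases hR r hr with e | e
    · exact h.Q_le_S e
    · simpa using mul_mem (h.Q_le_S e) (inv_mem tS)
  · rcases hU1 a ⟨ha.1, CUV ha.2⟩ with e | e
    · exact zc (VZ a e ha.2)
    · simpa using mul_mem (zc (VZ _ e (mul_mem ha.2 cC))) (inv_mem (mem_zpowers c))
  · have key : ∀ n ∈ Uz V z, n * n = 1 → ap ι n ∈ N → n ∈ zpowers z := fun n hn n2 hN =>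
      (sqN n hn hN).resolve_right fun e => h.z1 (by rw [← u2, ← e, n2])
    by_cases k1 : ap ι a ∈ N
    · exact Or.inl (key a ha a2 k1)
    by_cases k2 : ap ι b ∈ N
    · exact Or.inr (Or.inl (key b hb b2 k2))
    refine Or.inr (Or.inr (key _ (mul_mem ha hb) ab ?_))
    rw [ap_mul _ ha hb]
    exact (mul_mem_idx2 iN (ap_rng ι ha) (ap_rng ι hb)).2
      ⟨fun e => absurd e k1, fun e => absurd e k2⟩

end H1.NG
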