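import Mathlib
import Cfsg.Agent.H1.NGb1

/-!
# N-groups, case (A-I), `D = V`, transvection case: the subgroup `W = Z₄ × Z₄`
-/

set_option autoImplicit false
set_option linter.unusedSectionVars false

namespace H1.NG

open Subgroup Cfsg H24 H26 H11.ZN H12.NG

universe u

variable {G : Type u} [Group G] [Finite G] {S V T K W : Subgroup G} {z y t c a r d g x : G}

theorem card_zp4 (a2 : a * a = y) (y2 : y * y = 1) (y1 : y ≠ 1) : ♯(zpowers a) = 4 := by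
  rw [card_zpowers']
  have : Fact (Nat.Prime 2) := ⟨Nat.prime_two⟩
  exact orderOf_eq_prime_pow (p := 2) (n := 1) (by rwa [pow_one, sq, a2])
    (by rw [show 2 ^ (1 + 1) = 2 * 2 from rfl, pow_mul, sq a, a2, sq, y2])

theorem zp4 (a2 : a * a = y) (y2 : y * y = 1) (y1 : y ≠ 1) (hg : g ∈ zpowers a) :
    g = 1 ∨ g = a ∨ g = y ∨ g = a * y := by
  have ha := mem_zpowers a
  have hy : y ∈ zpowers a := a2 ▸ mul_mem ha ha
  have a1 : a ≠ 1 := fun e => y1 (by rw [← a2, e, mul_one])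
  have ay : a ≠ y := fun e => y1 (by rw [← a2, e, y2])
  refine four (card_zp4 a2 y2 y1) ha hy (mul_mem ha hy) a1 y1 (fun e => ay ?_) ay (by simpa using y1)
    (by simpa using a1) hg
  rw [eq_inv_of_mul_eq_one_left e, inv_of_sq y2]

theorem inv_or (a2 : a * a = y) (y2 : y * y = 1) (y1 : y ≠ 1) (hr : r ∈ N[zpowers a])
    (hr' : r ∈ C{y}) : r * a * r⁻¹ = a ∨ r * a * r⁻¹ = a * y := by
  have e0 : r * a * r⁻¹ * (r * a * r⁻¹) = y := by
    rw [← mem_C1_iff_conj.1 hr', ← a2]; group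
  rcases zp4 a2 y2 y1 (conj_mem hr (mem_zpowers a)) with e | e | e | e
  · rw [e, mul_one] at e0; exact absurd e0.symm y1
  · exact Or.inl e
  · rw [e, y2] at e0; exact absurd e0.symm y1
  · exact Or.inr e

theorem le_idx2 (hV : EA V) (h4 : ♯V = 4) (hd : d ∈ N[V]) (ho : Odd (orderOf d))
    (hc : V ⊓ C{d} = ⊥) (hT : V ≤ T) (hi : K.relIndex T = 2) (hK : d ∈ N[K]) : V ≤ K := by
  have nc : ∀ v ∈ V, v ≠ 1 → d ∉ C{v} := fun v hv v1 e => v1 (by
    have : v ∈ V ⊓ C{d} := ⟨hv, mem_C1_comm.1 e⟩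
    rwa [hc] at this)
  have key : ∀ v ∈ V, v ≠ 1 → v ∈ K → V ≤ K := fun v hv v1 vK w hw => by
    rcases orb4 h4 hd ho hv v1 (nc v hv v1) hw with rfl | rfl | rfl | rfl
    exacts [one_mem _, vK, conj_mem hK vK, conj_mem (mul_mem hK hK) vK]
  obtain ⟨v, hv, v1⟩ := exists_ne_one (H := V) (fun e => by rw [e, card_bot] at h4; omega)
  have hv' := conj_mem hd hv
  refine key (v * (d * v * d⁻¹)) (mul_mem hv hv') (fun e => nc v hv v1 ?_)
    ((mul_mem_idx2 hi (hT hv) (hT hv')).2 (conj_mem_iff hK).symm)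
  rw [mem_C1_iff_conj, eq_inv_of_mul_eq_one_right e, inv_of_sq (ea_sq hV hv)]

theorem exists_odd_pow (g : G) : ∃ d ∈ zpowers g, Odd (orderOf d) ∧
    ∀ K : Subgroup G, g ^ 3 ∈ K → d ∈ K → g ∈ K := by
  obtain ⟨e, d, he, hd, he', hd', hg⟩ := exists_piElt_decomp {2} g
  refine ⟨d, hd', odd_of_pi hd, fun K h3 hK => ?_⟩
  have c : Commute e d := (abl_zpowers g).comm he' hd'
  have h1 : e ^ 3 ∈ K := by
    rw [hg, c.mul_pow] at h3
    simpa using mul_mem h3 (inv_mem (pow_mem hK 3))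
  have h2 : e ∈ zpowers (e ^ 3) := by
    rw [mem_zpowers_pow_iff]
    exact (Nat.Prime.coprime_iff_not_dvd Nat.prime_three).2 (he.not_dvd Nat.prime_three (by simp))
  rw [hg]
  exact mul_mem (zpowers_le.2 h1 h2) hK

theorem exists_x (h : CA S V z) (hU : ¬ Uz V z ≤ C[V]) :
    ∃ x ∈ Uz V z, x ∉ C[V] ∧ x * x = 1 ∧ ∃ k : G, k * z * k⁻¹ = x := by
  by_contra hn
  push Not at hn
  refine hU (iSup₂_le fun g hg x hx => ?_)
  by_contra hx'
  have xU : x ∈ Uz V z := (le_iSup₂ (f := fun g (_ : g ∈ C{z}) => cj g V) g hg) hx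
  obtain ⟨v, hv, rfl⟩ := mem_cj'.1 hx
  have v1 : v ≠ 1 := fun e => hx' (by rw [e]; simp)
  obtain ⟨m, -, e⟩ := h.trans hv v1
  refine hn _ xU hx' ?_ (g * m) (by rw [← e]; group)
  have : g * v * g⁻¹ * (g * v * g⁻¹) = g * (v * v) * g⁻¹ := by group
  rw [this, ea_sq h.ea hv]; simp

/-- the structure of `W = U₁ U₁'` -/
structure B2 (S V W : Subgroup G) (z x d : G) : Prop where
  VW : V ≤ W
  WC : W ≤ C[V]
  nW : N[V] ≤ N[W]
  card : ♯W = 16
  inv : ∀ w ∈ W, w * w = 1 → w ∈ V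
  xS : x ∈ S
  xV : x ∉ C[V]
  x2 : x * x = 1
  xz : ∃ k : G, k * z * k⁻¹ = x
  out : ∀ w ∈ W, w * x * (w * x) = 1 → ∃ k : G, k * x * k⁻¹ = w * x
  two : ∀ r ∈ C[V], ∀ r' ∈ C[V], r ∉ W → r' ∉ W → r * r' ∈ W
  dN : d ∈ N[V]
  odd : Odd (orderOf d)
  fpf : W ⊓ C{d} = ⊥

theorem exists_B2 (h : CA S V z) (hU : ¬ Uz V z ≤ C[V]) (hD : Dv V = V) (β : B1 S V z c) :
    ∃ W x d, B2 S V W z x d := by
  obtain ⟨y, hy, h1, h2⟩ := exists_y h
  obtain ⟨x, hx, hxV, x2, xz⟩ := exists_x h hU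
  obtain ⟨m, hm, em, h'⟩ := other h hy h1
  obtain ⟨yz1, yz2, yz3⟩ := yz_ne h hy h1 h2
  have hyz := mul_mem hy h.z_mem
  have xS := U_le_S h hx
  have xN : x ∈ N[V] := h.nml.norm xS
  have xC := U_le_C h hx
  have e1 := conj_y h hy h1 h2 xC xN hxV
  have y2 := ea_sq h.ea hy
  have yz2' := ea_sq h.ea hyz
  let Z : G → Subgroup G := fun w => Uz V w ⊓ C[Uz V w]
  have Zc : ∀ k ∈ N[V], ∀ w, Z (k * w * k⁻¹) = cj k (Z w) := fun k hk w => by
    simp only [Z]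
    rw [U_conj hk, cj_inf, cj_C]
  have Zz : Z z = zpowers c := le_antisymm β.Z (zpowers_le.2 ⟨β.cU, β.cC⟩)
  have ZN : ∀ w ∈ V, w ≠ 1 → C[V] ≤ N[Z w] := fun w hw w1 r hr => by
    rw [mem_N_iff_cj, ← Zc r (C_le_N _ hr), mem_C1_iff_conj.1 (C_le_C1 hw hr)]
  obtain ⟨a, ha⟩ : ∃ a, a = m * c * m⁻¹ := ⟨_, rfl⟩
  have a2 : a * a = y := by rw [ha, ← em, ← β.c2]; group
  have Zy : Z y = zpowers a := by rw [← em, Zc m hm, Zz, cj_zpowers, ha]
  obtain ⟨b, hb⟩ : ∃ b, b = x * a * x⁻¹ := ⟨_, rfl⟩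
  have b2 : b * b = y * z := by rw [hb, ← e1, ← a2]; group
  have Zyz : Z (y * z) = zpowers b := by rw [← e1, Zc x xN, Zy, cj_zpowers, hb]
  have aZ : a ∈ Z y := Zy ▸ mem_zpowers a
  have aA : a ∈ Uz V y ⊓ C[V] := ⟨aZ.1, C_anti h'.V_le_U aZ.2⟩
  have aV : a ∉ V := fun e => h1 (by rw [← a2, ea_sq h.ea e])
  have aQ : a ∉ Qz z := fun e => aV (A_inf_Q h hU hD hy h1 h2 aA e)
  have bC : b ∈ C[V] := hb ▸ conj_mem (N_le_NC _ xN) aA.2
  have cC : c ∈ C[V] := C_anti h.V_le_U β.cC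
  have ra : ∀ r ∈ C[V], r * a * r⁻¹ = a ∨ r * a * r⁻¹ = a * y := fun r hr =>
    inv_or a2 y2 h1 (Zy ▸ ZN y hy h1 hr) (C_le_C1 hy hr)
  have rb : ∀ r ∈ C[V], r * b * r⁻¹ = b ∨ r * b * r⁻¹ = b * (y * z) := fun r hr =>
    inv_or b2 yz2' yz1 (Zyz ▸ ZN _ hyz yz1 hr) (C_le_C1 hyz hr)
  have rc : ∀ r ∈ C[V], r * c * r⁻¹ = c ∨ r * c * r⁻¹ = c * z := fun r hr =>
    inv_or β.c2 h.z_sq h.z1 (Zz ▸ ZN z h.z_mem h.z1 hr) (CV_le h hr)
  have cv : ∀ r ∈ C[V], ∀ v ∈ V, v * r = r * v := fun r hr v hv => mem_C.1 hr v hv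
  have ab : a * b = b * a := by
    rcases ra b bC with e | e
    · exact (mul_inv_eq_iff_eq_mul.1 e).symm
    · have e' : a * b * a⁻¹ = b * y := by
        have : a * b * a⁻¹ = a * (b * a * b⁻¹)⁻¹ * b := by group
        rw [this, e, ← cv b bC y hy, ← cv a aA.2 y hy]
        simp [inv_of_sq y2]
      rcases rb a aA.2 with e'' | e''
      · rw [e'] at e''; exact absurd (by simpa using e'') h1
      · rw [e'] at e''; exact absurd (by simpa using e'') h.z1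
  obtain ⟨v0, hv0, ec⟩ : ∃ v ∈ V, c = a * b⁻¹ * v := by
    have pU := h.phi_mem hU hy h1 h2 hx aA
    rcases β.U1 _ pU with e | e
    · exact absurd (phi_inj' h hU hD hy h1 h2 hx hxV aA e) aV
    · exact ⟨_, e, by rw [hb]; group⟩
  have rab : ∀ r ∈ C[V], (r * a * r⁻¹ = a ∧ r * b * r⁻¹ = b) ∨
      (r * a * r⁻¹ = a * y ∧ r * b * r⁻¹ = b * (y * z)) := fun r hr => by
    have e : r * c * r⁻¹ = (r * a * r⁻¹) * (r * b * r⁻¹)⁻¹ * v0 := by
      rw [ec, mul_assoc r, mul_assoc _ v0, cv r⁻¹ (inv_mem hr) v0 hv0]; group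
    have k : ∀ v ∈ V, r * c * r⁻¹ = c * v → v ∈ zpowers z := fun v _ e' => by
      rcases rc r hr with e'' | e'' <;> rw [e'] at e''
      · rw [mul_eq_left.1 e'']; exact one_mem _
      · rw [mul_left_cancel e'']; exact mem_zpowers _
    rcases ra r hr with ea | ea <;> rcases rb r hr with eb | eb
    · exact Or.inl ⟨ea, eb⟩
    · exfalso
      rcases (mem_zp2 h.z_sq).1 (k _ hyz (by
        rw [e, ea, eb, ec, mul_inv_rev, inv_of_sq yz2', cv _ (inv_mem bC) _ hyz, mul_assoc _ v0,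
          H12.ea_comm h.ea hv0 hyz]; group)) with e' | e'
      exacts [yz1 e', yz2 e']
    · exfalso
      rcases (mem_zp2 h.z_sq).1 (k _ hy (by
        rw [e, ea, eb, ec, mul_assoc a y, cv _ (inv_mem bC) _ hy, mul_assoc _ v0,
          H12.ea_comm h.ea hv0 hy]; group)) with e' | e'
      exacts [h1 e', h2 e']
    · exact Or.inr ⟨ea, eb⟩
  obtain ⟨W, hW⟩ : ∃ W, W = zpowers a ⊔ zpowers b := ⟨_, rfl⟩
  have aW : a ∈ W := hW ▸ mem_sup_left (mem_zpowers a)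
  have bW : b ∈ W := hW ▸ mem_sup_right (mem_zpowers b)
  have VW : V ≤ W := fun v hv => by
    have k1 : y ∈ W := a2 ▸ mul_mem aW aW
    have k2 : y * z ∈ W := b2 ▸ mul_mem bW bW
    rcases memV h hy h1 h2 hv with rfl | rfl | rfl | rfl
    exacts [one_mem _, by simpa using mul_mem (inv_mem k1) k2, k1, k2]
  have cW : c ∈ W := ec ▸ mul_mem (mul_mem aW (inv_mem bW)) (VW hv0)
  have ZW : ∀ w ∈ V, w ≠ 1 → Z w ≤ W := fun w hw w1 => by
    rcases memV h hy h1 h2 hw with rfl | rfl | rfl | rfl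
    · exact absurd rfl w1
    · rw [Zz]; exact zpowers_le.2 cW
    · rw [Zy]; exact zpowers_le.2 aW
    · rw [Zyz]; exact zpowers_le.2 bW
  have nW : N[V] ≤ N[W] := fun k hk => mem_N_of_cj_le (by
    conv_lhs => rw [hW, cj_sup, ← Zy, ← Zyz, ← Zc k hk, ← Zc k hk]
    exact sup_le (ZW _ (conj_mem hk hy) (mt conj_eq_one_iff'.1 h1))
      (ZW _ (conj_mem hk hyz) (mt conj_eq_one_iff'.1 yz1)))
  have WC : W ≤ C[V] := hW ▸ sup_le (zpowers_le.2 aA.2) (zpowers_le.2 bC)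
  have abC : zpowers b ≤ C[zpowers a] := by
    rw [C_zpowers]; exact zpowers_le.2 (mem_C1.2 ab.symm)
  have ablW : Abl W := hW ▸ (abl_zpowers a).sup (abl_zpowers b) (cents_symm abC)
  have memW : ∀ w ∈ W, ∃ α ∈ zpowers a, ∃ γ ∈ zpowers b, w = α * γ := fun w hw =>
    (mem_sup_of_norm (norm_of_cent abC)).1 (hW ▸ hw)
  have sqa : ∀ α ∈ zpowers a, α ∈ zpowers y ∨ α * α = y := fun α hα => by
    rcases zp4 a2 y2 h1 hα with rfl | rfl | rfl | rfl
    · exact Or.inl (one_mem _)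
    · exact Or.inr a2
    · exact Or.inl (mem_zpowers _)
    · right
      rw [mul_assoc, ← mul_assoc y, cv a aA.2 y hy, mul_assoc, y2, mul_one, a2]
  have sqb : ∀ α ∈ zpowers b, α ∈ zpowers (y * z) ∨ α * α = y * z := fun α hα => by
    rcases zp4 b2 yz2' yz1 hα with rfl | rfl | rfl | rfl
    · exact Or.inl (one_mem _)
    · exact Or.inr b2
    · exact Or.inl (mem_zpowers _)
    · right
      rw [mul_assoc, ← mul_assoc (y * z), cv b bC _ hyz, mul_assoc, yz2', mul_one, b2]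
  have abI : zpowers a ⊓ zpowers b = ⊥ := (eq_bot_iff_forall _).2 fun α hα => by
    rcases sqa α hα.1 with e | e <;> rcases sqb α hα.2 with e' | e'
    · rcases (mem_zp2 y2).1 e with e | e
      · exact e
      · rcases (mem_zp2 yz2').1 e' with e' | e'
        · exact e'
        · exact absurd (e'.symm.trans e) yz3
    · rw [ea_sq h.ea (zpowers_le.2 hy e)] at e'; exact absurd e'.symm yz1
    · rw [ea_sq h.ea (zpowers_le.2 hyz e')] at e; exact absurd e.symm h1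
    · exact absurd (e'.symm.trans e) yz3
  have invW : ∀ w ∈ W, w * w = 1 → w ∈ V := fun w hw w2 => by
    obtain ⟨α, hα, γ, hγ, rfl⟩ := memW w hw
    have e0 : α * α * (γ * γ) = 1 := by
      rw [← w2, mul_assoc, mul_assoc, ← mul_assoc α γ, ← mul_assoc γ α, comm_of_cent abC hγ hα]
    rcases sqa α hα with e | e <;> rcases sqb γ hγ with e' | e'
    · exact mul_mem (zpowers_le.2 hy e) (zpowers_le.2 hyz e')
    · rw [ea_sq h.ea (zpowers_le.2 hy e), e', one_mul] at e0; exact absurd e0 yz1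
    · rw [ea_sq h.ea (zpowers_le.2 hyz e'), e, mul_one] at e0; exact absurd e0 h1
    · rw [e, e', ← mul_assoc, y2, one_mul] at e0; exact absurd e0 h.z1
  -- the centraliser of `W`
  have CWV : C[W] ≤ C[V] := C_anti VW
  have CWS : C[W] ≤ S := CWV.trans β.CV
  have aS : a ∈ S := β.CV aA.2
  have SN : S ≤ N[W] := h.nml.norm.trans nW
  have CN : C[W] ≤ N[W] := C_le_N _
  have dec : ∀ s ∈ S, s ∉ Qz z → s * a ∈ Qz z := fun s hs hn =>
    (mul_mem_idx2 β.idx hs aS).2 ⟨fun e => absurd e hn, fun e => absurd e aQ⟩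
  have xT : x ∈ centQ C[W] W := by
    refine (mem_centQ CN).2 ⟨nW xN, fun s hs => ?_⟩
    rw [commutatorElement_def]
    by_cases hn : s ∈ Qz z
    · exact VW (zp_le h (commUQ h hx hn))
    · have q := dec s (CWS hs) hn
      have e : x * s * x⁻¹ * s⁻¹ = (x * (s * a) * x⁻¹ * (s * a)⁻¹) *
          ((s * a) * (b⁻¹ * a) * (s * a)⁻¹) := by rw [hb]; group
      rw [e]
      exact mul_mem (VW (zp_le h (commUQ h hx q)))
        (conj_mem (SN (h.Q_le_S q)) (mul_mem (inv_mem bW) aW))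
  have mT : m ∈ N[centQ C[W] W] := zpowers_le.1 (norm_centQ (norm_C (zpowers_le.2 (nW hm)))
    (zpowers_le.2 (nW hm)))
  obtain ⟨x', hx'⟩ : ∃ x', x' = m * x * m⁻¹ := ⟨_, rfl⟩
  have x'T : x' ∈ centQ C[W] W := hx' ▸ conj_mem mT xT
  have x'N : x' ∈ N[V] := hx' ▸ mul_mem (mul_mem hm xN) (inv_mem hm)
  have x'C : x' ∈ C{y} := by rw [hx', ← em, ← cj_C1]; exact conj_mem_cj m xC
  have x'V : x' ∉ C[V] := fun e => hxV ((conj_mem_iff (N_le_NC _ hm)).1 (hx' ▸ e))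
  have e2 := conj_y h' h.z_mem h.z1 h2.symm x'C x'N x'V
  have xz' := mem_C1_iff_conj.1 xC
  have gy : x * x' * y * (x * x')⁻¹ = y * z := by
    rw [← e1]; nth_rewrite 2 [← mem_C1_iff_conj.1 x'C]; group
  have gz : x * x' * z * (x * x')⁻¹ = y := by
    have : x * x' * z * (x * x')⁻¹ = x * (x' * z * x'⁻¹) * x⁻¹ := by group
    rw [this, e2]
    have : x * (z * y) * x⁻¹ = x * z * x⁻¹ * (x * y * x⁻¹) := by group
    rw [this, xz', e1, H12.ea_comm h.ea hy h.z_mem, ← mul_assoc, h.z_sq, one_mul]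
  obtain ⟨g, hg⟩ : ∃ g, g = x * x' := ⟨_, rfl⟩
  rw [← hg] at gy gz
  have gyz : g * (y * z) * g⁻¹ = z := by
    have : g * (y * z) * g⁻¹ = g * y * g⁻¹ * (g * z * g⁻¹) := by group
    rw [this, gy, gz, H12.ea_comm h.ea hy h.z_mem, mul_assoc, y2, mul_one]
  have g3 : g ^ 3 ∈ C[V] := by
    have k : ∀ w, g ^ 3 * w * (g ^ 3)⁻¹ = g * (g * (g * w * g⁻¹) * g⁻¹) * g⁻¹ := fun w => by
      rw [pow_succ, sq]; group
    exact mem_CV h hy h1 h2 (mem_C1_iff_conj.2 (by rw [k, gz, gy, gyz]))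
      (mem_C1_iff_conj.2 (by rw [k, gy, gyz, gz]))
  obtain ⟨d, hd, dodd, hdK⟩ := exists_odd_pow g
  have dT : d ∈ centQ C[W] W := zpowers_le.2 (hg ▸ mul_mem xT x'T) hd
  have dN : d ∈ N[V] := zpowers_le.2 (hg ▸ mul_mem xN x'N) hd
  have dV : ∀ w ∈ V, w ∈ C{d} → w = 1 := fun w hw hc => by
    have := mem_C1_iff_conj.1 (hdK C{w} (C_le_C1 hw g3) (mem_C1_comm.1 hc))
    rcases memV h hy h1 h2 hw with rfl | rfl | rfl | rfl
    · rfl
    · exact absurd (gz.symm.trans this) h2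
    · exact absurd (gy.symm.trans this) yz3
    · exact absurd (this.symm.trans gyz) yz2
  have WW : W ≤ C[W] := ablW.le_C
  have nE : N[V] ≤ N[OZ C[W]] := norm_OZ (norm_C nW)
  have EQ : OZ C[W] ≤ Qz z := fun e he => by
    by_contra hn
    obtain ⟨k1, -, -⟩ := mem_OZ.1 he
    have q := dec e (CWS k1) hn
    have q2 : e * a * (e * a) = y := by
      rw [mul_assoc, ← mul_assoc a, mem_C.1 k1 a aW, mul_assoc, ← mul_assoc, OZ_sq he, one_mul, a2]
    obtain ⟨ζ, hζ, e3⟩ : ∃ ζ ∈ zpowers z, x * (e * a) * x⁻¹ = ζ * (e * a) :=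
      ⟨_, commUQ h hx q, by group⟩
    have e4 : x * y * x⁻¹ = y := by
      have k := zp_comm h hζ ((pcore_le _ _) q)
      calc x * y * x⁻¹ = (x * (e * a) * x⁻¹) * (x * (e * a) * x⁻¹) := by rw [← q2]; group
        _ = ζ * (e * a * ζ) * (e * a) := by rw [e3]; group
        _ = (ζ * ζ) * (e * a * (e * a)) := by rw [k]; group
        _ = y := by rw [ea_sq h.ea (zp_le h hζ), q2, one_mul]
    exact yz3 (e1.symm.trans e4)
  have EV : OZ C[W] ≤ V := fun e he => by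
    by_contra hn
    have := h.delta (X := Uz V) (E := OZ C[W])
      (fun w hw w1 => by obtain ⟨k, -, -, hk⟩ := other h hw w1; exact hk.U_le_Q)
      (fun w _ _ k hk => U_conj ((sup_le h.nml.norm h.L_nml.le : S ⊔ Lv V ≤ N[V]) hk) w) hU
      (OZ_ea _) (fun v hv => mem_OZ.2 ⟨WW (VW hv), le_CC W (VW hv), h.ea.2 v hv⟩)
      (h.nml.norm.trans nE) (fun w hw w1 => by
        obtain ⟨k, hk, rfl, hk'⟩ := other h hw w1
        rw [← hk'.comm_UQ, commC]
        refine comm_mono_right ?_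
        rw [CA.Qz_conj, ← cj_of_mem_N (nE hk)]
        exact cj_mono k EQ) he hn
    rw [comm_eq_bot.2] at this
    · exact h.z1 (mem_bot.1 (this ▸ mem_zpowers z))
    · refine zpowers_le.2 (C_anti (fun u hu => ?_) (OZ_le _ he))
      rcases β.U1 u hu with e' | e'
      · exact VW e'
      · simpa using mul_mem (VW e') (inv_mem cW)
  have piC : IsPi {2} C[W] := (S_pi h).of_le CWS
  have piW : IsPi {2} W := piC.of_le WW
  have pr := coprime_isProd_of_comm_le (zpowers_le.2 (nW dN)) (cop_ea piW dodd) (Or.inl ablW.sol) WW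
    (by rw [commC]; exact ((le_centQ CN).1 (zpowers_le.2 dT)).2)
  rw [C_zpowers] at pr
  have C0 : C[W] ⊓ C{d} = ⊥ := by
    by_contra hn
    obtain ⟨e, he, e1⟩ := exists_ne_one (OZ_ne_bot (piC.inf_left _) hn)
    obtain ⟨k1, k2, k3⟩ := mem_OZ.1 he
    refine e1 (dV e (EV (mem_OZ.2 ⟨k1.1, ?_, k3⟩)) k1.2)
    rw [← pr.sup_eq, C_sup]
    exact ⟨k1.1, k2⟩
  have CW : C[W] ≤ W := by
    have := pr.sup_eq
    rw [C0, sup_bot_eq] at this
    exact this.ge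
  have memCW : ∀ r, r * a * r⁻¹ = a → r * b * r⁻¹ = b → r ∈ W := fun r k1 k2 => CW (by
    rw [hW, C_sup, C_zpowers, C_zpowers]
    exact ⟨mem_C1_iff_conj.2 k1, mem_C1_iff_conj.2 k2⟩)
  refine ⟨W, x, d, VW, WC, nW, ?_, invW, xS, hxV, x2, xz, fun w hw w2 => ?_,
    fun r hr r' hr' k1 k2 => ?_, dN, dodd, le_bot_iff.1 (C0 ▸ inf_le_inf_right _ WW)⟩
  · rw [hW, card_sup_of_inf (norm_of_cent abC) abI, card_zp4 a2 y2 h1, card_zp4 b2 yz2' yz1]
  · obtain ⟨α, hα, γ, hγ, rfl⟩ := memW w hw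
    have k1 : x * α * x⁻¹ ∈ zpowers b := by
      rw [hb, ← cj_zpowers]; exact conj_mem_cj x hα
    have k2 : x * γ * x⁻¹ ∈ zpowers a := by
      have : a = x * b * x⁻¹ := by
        rw [hb, ← mul_assoc, ← mul_assoc, x2, one_mul, mul_assoc, ← mul_inv_rev, x2]; simp
      rw [this, ← cj_zpowers]; exact conj_mem_cj x hγ
    have k3 : α * (γ * (x * α * x⁻¹)) * (x * γ * x⁻¹) = 1 := by
      rw [← w2, inv_of_sq x2]
      calc α * (γ * (x * α * x)) * (x * γ * x) = α * γ * x * α * (x * x) * γ * x := by group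
        _ = _ := by rw [x2]; group
    have k4 : γ * (x * α * x⁻¹) ∈ zpowers a ⊓ zpowers b := mem_inf.2 ⟨by
      have : γ * (x * α * x⁻¹) = α⁻¹ * (x * γ * x⁻¹)⁻¹ := by
        rw [← mul_one α⁻¹, ← k3]; group
      rw [this]; exact mul_mem (inv_mem hα) (inv_mem k2), mul_mem hγ k1⟩
    rw [abI, mem_bot] at k4
    refine ⟨α, ?_⟩
    rw [eq_inv_of_mul_eq_one_left k4]; group
  · rcases rab r hr with ⟨p1, p2⟩ | ⟨p1, p2⟩
    · exact absurd (memCW r p1 p2) k1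
    rcases rab r' hr' with ⟨q1, q2⟩ | ⟨q1, q2⟩
    · exact absurd (memCW r' q1 q2) k2
    refine memCW _ ?_ ?_
    · have : r * r' * a * (r * r')⁻¹ = r * (r' * a * r'⁻¹) * r⁻¹ := by group
      rw [this, q1, mul_assoc r, mul_assoc a, cv _ (inv_mem hr) _ hy, ← mul_assoc, ← mul_assoc, p1,
        mul_assoc, y2, mul_one]
    · have : r * r' * b * (r * r')⁻¹ = r * (r' * b * r'⁻¹) * r⁻¹ := by group
      rw [this, q2, mul_assoc r, mul_assoc b, cv _ (inv_mem hr) _ hyz, ← mul_assoc, ← mul_assoc, p2,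
        mul_assoc, yz2', mul_one]

end H1.NG
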