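import Mathlib
import Cfsg.Agent.H1.NGa1
import Cfsg.Agent.H3.NG1

/-!
# N-groups, case (A-II): the module lemma
-/

set_option autoImplicit false
set_option linter.unusedSectionVars false

namespace H1.NG

open Subgroup Cfsg H24 H26 H11.ZN H12.NG

universe u

variable {G : Type u} [Group G] {A D F H K T W X : Subgroup G} {a b c f g k q t v w x : G}

/-- the operator `g + g⁻¹` -/
def tau (g w : G) : G := g * w * g⁻¹ * (g⁻¹ * w * g)

theorem tau_mem (hg : g ∈ N[W]) (hw : w ∈ W) : tau g w ∈ W :=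
  mul_mem (conj_mem hg hw) (conj_mem' hg hw)

theorem tau_conj (q g w : G) : q * tau g w * q⁻¹ = tau (q * g * q⁻¹) (q * w * q⁻¹) := by
  unfold tau; group

theorem tau_mul (hW : Abl W) (hg : g ∈ N[W]) (ha : a ∈ W) (hb : b ∈ W) :
    tau g (a * b) = tau g a * tau g b := by
  have e := hW.comm (conj_mem hg hb) (conj_mem' hg ha)
  calc tau g (a * b) = g * a * g⁻¹ * ((g * b * g⁻¹) * (g⁻¹ * a * g)) * (g⁻¹ * b * g) := by
        unfold tau; group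
    _ = _ := by rw [e]; unfold tau; group

theorem tau_comm (hW : Abl W) (hg : g ∈ N[W]) (hk : k ∈ N[W]) (e : g * k = k * g) (hw : w ∈ W) :
    tau g (tau k w) = tau k (tau g w) := by
  have c : Commute g k := e
  have e1 : g * k⁻¹ = k⁻¹ * g := c.inv_right.eq
  have e2 : g⁻¹ * k = k * g⁻¹ := c.inv_left.eq
  have e3 : g⁻¹ * k⁻¹ = k⁻¹ * g⁻¹ := c.inv_inv.eq
  have e4 := hW.comm (conj_mem (mul_mem (inv_mem hk) hg) hw) (conj_mem (mul_mem hk (inv_mem hg)) hw)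
  calc tau g (tau k w) = (g * k) * w * (g * k)⁻¹ * (((g * k⁻¹) * w * (g * k⁻¹)⁻¹) *
        ((g⁻¹ * k) * w * (g⁻¹ * k)⁻¹)) * ((g⁻¹ * k⁻¹) * w * (g⁻¹ * k⁻¹)⁻¹) := by unfold tau; group
    _ = _ := by rw [e, e1, e2, e3, e4]; unfold tau; group

theorem tau_C1 (hW : Abl W) (hg : g ∈ N[W]) (hw : w ∈ W) (hi : t * g * t⁻¹ = g⁻¹) (hc : w ∈ C{t}) :
    tau g w ∈ C{t} := by
  rw [mem_C1_comm, mem_C1_iff_conj, tau_conj, hi, mem_C1_iff_conj.1 (mem_C1_comm.1 hc)]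
  unfold tau
  rw [inv_inv, hW.comm (conj_mem hg hw) (conj_mem' hg hw)]

variable [Finite G]

theorem four' (hW : ♯W ≤ 4) (ha : a ∈ W) (hb : b ∈ W) (hc : c ∈ W) (a1 : a ≠ 1) (b1 : b ≠ 1)
    (c1 : c ≠ 1) (ab : a ≠ b) (ac : a ≠ c) (bc : b ≠ c) : ♯W = 4 := by
  classical
  have hs : (({1, a, b, c} : Finset G) : Set G) ⊆ (W : Set G) := by
    intro y hy
    simp only [Finset.coe_insert, Finset.coe_singleton, Set.mem_insert_iff, Set.mem_singleton_iff] at hy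
    rcases hy with rfl | rfl | rfl | rfl <;> first | assumption | exact one_mem _
  have h1 := Set.ncard_le_ncard hs (Set.toFinite _)
  rw [Set.ncard_coe_finset, Finset.card_insert_of_notMem (by simp [a1.symm, b1.symm, c1.symm]),
    Finset.card_insert_of_notMem (by simp [ab, ac]), Finset.card_insert_of_notMem (by simp [bc]),
    Finset.card_singleton] at h1
  have h2 : (W : Set G).ncard = ♯W := rfl
  omega

theorem orb4' (hW : ♯W ≤ 4) (hg : g ∈ N[W]) (ho : Odd (orderOf g)) (hv : v ∈ W) (v1 : v ≠ 1)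
    (hn : g ∉ C{v}) : ♯W = 4 := by
  refine four' hW hv (conj_mem hg hv) (conj_mem (mul_mem hg hg) hv) v1 (mt conj_eq_one_iff'.1 v1)
    (mt conj_eq_one_iff'.1 v1) (fun e => hn (mem_C1_iff_conj.2 e.symm)) (fun e => hn ?_)
    (fun e => hn ?_)
  · exact mem_of_sq_mem ho (mem_C1_iff_conj.2 e.symm)
  · rw [mem_C1_iff_conj]
    have : g * v * g⁻¹ = g⁻¹ * (g * g * v * (g * g)⁻¹) * g := by group
    rw [this, ← e]; group

theorem free_F (hW : EA W) (hF : Abl F) (ho : IsPi {2}ᶜ F) (t2 : t * t = 1)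
    (hi : ∀ f ∈ F, t * f * t⁻¹ = f⁻¹) :
    ∀ X ≤ W, F ≤ N[X] → t ∈ N[X] → X ⊓ C[F] = ⊥ → X ⊓ C{t} ≤ ⁅W, zpowers t⁆ := by
  intro X
  induction X using subgroup_ind with
  | h X ih =>
  intro XW FN tN hc
  by_cases hn : F ≤ C[X]
  · have : X = ⊥ := le_bot_iff.1 (hc ▸ le_inf le_rfl (cents_symm hn))
    rw [this]; exact inf_le_left.trans bot_le
  obtain ⟨f, hf, hf'⟩ := SetLike.not_le_iff_exists.1 hn
  have ea : EA X := ea_le hW XW
  have fo := odd_of_pi (ho.piElt hf)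
  have dp := odd_dp ea (zpowers_le.2 (FN hf)) (pi_of_odd fo).isPi
  rw [C_zpowers] at dp
  have tz := norm_zp_inv (hi f hf)
  have tN1 : t ∈ N[⁅X, zpowers f⁆] := mem_N_comm1 tN tz
  have tN2 : t ∈ N[X ⊓ C{f}] := mem_N_inf tN (by rw [← C_zpowers]; exact N_le_NC _ tz)
  have FC : F ≤ C{f} := hF.le_C.trans (C_le_C1 hf)
  intro w hw
  obtain ⟨n, hn', c, hc', rfl⟩ := dp.isProd.mul w hw.1
  have e : t * n * t⁻¹ * (t * c * t⁻¹) = n * c := by
    rw [← mem_C1_iff_conj.1 (mem_C1_comm.1 hw.2)]; group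
  obtain ⟨e1, e2⟩ := mul_eq_mul_of_inf dp.inf (conj_mem tN1 hn') hn' (conj_mem tN2 hc') hc' e
  refine mul_mem ?_ (ih (X ⊓ C{f}) (lt_of_le_of_ne inf_le_left fun e => hf' ?_) (inf_le_left.trans XW)
    (norm_inf FN (norm_C1 FC)) tN2 (le_bot_iff.1 (hc ▸ inf_le_inf_right _ inf_le_left))
    ⟨hc', mem_C1_comm.1 (mem_C1_iff_conj.2 e2)⟩)
  · have := (free_inv' (ea_le ea dp.left_le) (zpowers_le.1 (norm_comm_right _ _)) tN1
      (by rw [t2]; exact one_mem _) (by rw [hi f hf, inv_mul_cancel]; exact one_mem _)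
      (odd_TI1 ea (FN hf) fo)).1
    exact comm_mono_left (dp.left_le.trans XW)
      (this ▸ (⟨hn', mem_C1_comm.1 (mem_C1_iff_conj.2 e1)⟩ : n ∈ ⁅X, zpowers f⁆ ⊓ C{t}))
  · exact mem_C_iff_le_C1.2 (e ▸ inf_le_right)

theorem card_sup2 (ha : a * a = 1) (hb : b * b = 1) (e : a * b = b * a) :
    ♯(zpowers a ⊔ zpowers b) ≤ 4 := by
  have k : ∀ a : G, a * a = 1 → ♯(zpowers a) ≤ 2 := fun a ha => by
    rw [card_zpowers']; exact orderOf_le_of_pow_eq_one two_pos (by rw [sq, ha])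
  have h1 := card_sup (A := zpowers a) (B := zpowers b)
    (norm_zpowers_of_cent (zpowers_le.2 (mem_C1.2 e.symm)))
  have h2 := Nat.mul_le_mul (k a ha) (k b hb)
  have h3 := card_pos (zpowers a ⊓ zpowers b)
  nlinarith

/-- the case `|W| = 16` with an element of `F` having fixed points -/
theorem split16 (hW : EA W) (h16 : ♯W = 16) (hF : Abl F) (ho : IsPi {2}ᶜ F) (FN : F ≤ N[W])
    (hc : W ⊓ C[F] = ⊥) (hf : f ∈ F) (h1 : f ∉ C[W]) (h2 : W ⊓ C{f} ≠ ⊥) :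
    ∃ g ∈ F, (∀ w ∈ W, w ∈ C{f} → w ∈ C{g} → w = 1) ∧ (∀ w ∈ W, g * w * g⁻¹ * w⁻¹ ∈ C{f}) ∧
      ∃ n₀ ∈ W, ∃ n₁ ∈ W, ∀ X : Subgroup G, W ⊓ C{f} ≤ X → n₀ ∈ X → n₁ ∈ X → W ≤ X := by
  have fo := odd_of_pi (ho.piElt hf)
  have dp := odd_dp hW (zpowers_le.2 (FN hf)) (pi_of_odd fo).isPi
  rw [C_zpowers] at dp
  set N := ⁅W, zpowers f⁆ with hN
  have FC : F ≤ C{f} := hF.le_C.trans (C_le_C1 hf)
  have FN1 : F ≤ N[N] := norm_comm FN (norm_zpowers_of_cent FC)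
  have FN2 : F ≤ N[W ⊓ C{f}] := norm_inf FN (norm_C1 FC)
  have big : ∀ X ≤ W, X ≠ ⊥ → F ≤ N[X] → ∃ k, 2 ≤ k ∧ ♯X = 2 ^ k := fun X XW X1 XN => by
    obtain ⟨k, hk⟩ := ea_card (ea_le hW XW)
    refine ⟨k, ?_, hk⟩
    by_contra hn
    refine X1 (le_bot_iff.1 (hc ▸ le_inf XW (cents_symm fun g hg =>
      mem_C_of_card_le_two (XN hg) ?_)))
    have : k ≤ 1 := by omega
    rw [hk]; interval_cases k <;> norm_num
  have N1 : N ≠ ⊥ := fun e => h1 (zpowers_le.1 (comm_eq_bot'.1 e))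
  obtain ⟨k, hk, ek⟩ := big N dp.left_le N1 FN1
  obtain ⟨l, hl, el⟩ := big _ inf_le_left h2 FN2
  have e16 := dp.card
  rw [h16, ek, el, ← pow_add, show 16 = 2 ^ 4 from rfl] at e16
  have e4 := Nat.pow_right_injective le_rfl e16
  have N4 : ♯N = 4 := by rw [ek, show k = 2 by omega]; rfl
  have C4 : ♯(W ⊓ C{f}) = 4 := by rw [el, show l = 2 by omega]; rfl
  have NC : ∀ n ∈ N, n ∈ C{f} → n = 1 := fun n h1 h2 => by
    have : n ∈ N ⊓ (W ⊓ C{f}) := ⟨h1, dp.left_le h1, h2⟩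
    rwa [dp.inf] at this
  obtain ⟨n, hn, n1⟩ := exists_ne_one N1
  have fn : f ∉ C{n} := fun e => n1 (NC n hn (mem_C1_comm.1 e))
  have o4 := fun w hw => orb4 N4 (FN1 hf) fo hn n1 fn (w := w) hw
  obtain ⟨g, hg, hg'⟩ := SetLike.not_le_iff_exists.1 (fun e : F ≤ C[W ⊓ C{f}] =>
    h2 (le_bot_iff.1 (hc ▸ le_inf inf_le_left (cents_symm e))))
  obtain ⟨k, hk, ek⟩ : ∃ k ∈ zpowers f, g * n * g⁻¹ = k * n * k⁻¹ := by
    rcases o4 _ (conj_mem (FN1 hg) hn) with e | e | e | e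
    · exact absurd (conj_eq_one_iff'.1 e) n1
    · exact ⟨1, one_mem _, by simpa using e⟩
    · exact ⟨f, mem_zpowers _, e⟩
    · exact ⟨f * f, mul_mem (mem_zpowers _) (mem_zpowers _), e⟩
  have kF : k ∈ F := zpowers_le.2 hf hk
  have gF : k⁻¹ * g ∈ F := mul_mem (inv_mem kF) hg
  have gn : n ∈ C{k⁻¹ * g} := by
    rw [mem_C1_comm, mem_C1_iff_conj]
    calc k⁻¹ * g * n * (k⁻¹ * g)⁻¹ = k⁻¹ * (g * n * g⁻¹) * k := by group
      _ = n := by rw [ek]; group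
  have fg : f ∈ N[C{k⁻¹ * g}] := mem_N_C1 (mem_C1_comm.1 (FC gF))
  have NC' : N ≤ C{k⁻¹ * g} := fun w hw => by
    rcases o4 w hw with rfl | rfl | rfl | rfl
    exacts [one_mem _, gn, conj_mem fg gn, conj_mem (mul_mem fg fg) gn]
  have kC : k ∈ C[W ⊓ C{f}] := zpowers_le.2 (mem_C_iff_le_C1.2 inf_le_right) hk
  have gC : k⁻¹ * g ∉ C[W ⊓ C{f}] := fun e => hg' (by simpa using mul_mem kC e)
  refine ⟨k⁻¹ * g, gF, fun w hw w1 w2 => ?_, fun w hw => ?_, n, dp.left_le hn, f * n * f⁻¹,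
    dp.left_le (conj_mem (FN1 hf) hn), fun X x1 x2 x3 => ?_⟩
  · by_contra hn
    obtain ⟨w', hw', hw''⟩ := SetLike.not_le_iff_exists.1 (fun e => gC (mem_C_iff_le_C1.2 e))
    have s := mem_N_C1 (self_mem_C1 (k⁻¹ * g))
    rcases orb4 C4 (FN2 gF) (odd_of_pi (ho.piElt gF)) hw' (fun e => hw'' (e ▸ one_mem _))
      (fun e => hw'' (mem_C1_comm.1 e)) (w := w) ⟨hw, w1⟩ with e | e | e | e
    · exact hn e
    · exact hw'' (e ▸ w2)
    · exact hw'' ((conj_mem_iff s).1 (e ▸ w2))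
    · exact hw'' ((conj_mem_iff (mul_mem s s)).1 (e ▸ w2))
  · obtain ⟨m, hm, c, hc', rfl⟩ := dp.isProd.mul w hw
    have e := mem_C1_iff_conj.1 (mem_C1_comm.1 (NC' hm))
    have e' : k⁻¹ * g * (m * c) * (k⁻¹ * g)⁻¹ * (m * c)⁻¹ =
        (k⁻¹ * g * m * (k⁻¹ * g)⁻¹) * ((k⁻¹ * g * c * (k⁻¹ * g)⁻¹) * c⁻¹) * m⁻¹ := by group
    have hx := mul_mem (conj_mem (FN2 gF) hc') (inv_mem hc')
    rw [e', e, H12.ea_comm hW (dp.left_le hm) hx.1, mul_inv_cancel_right]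
    exact hx.2
  · rw [← dp.sup]
    refine sup_le (fun w hw => ?_) x1
    rcases H3.NG.four_cases (ea_le hW dp.left_le) N4 hn (conj_mem (FN1 hf) hn) n1
      (mt conj_eq_one_iff'.1 n1) (fun e => fn (mem_C1_iff_conj.2 e.symm)) hw with
      rfl | rfl | rfl | rfl
    exacts [one_mem _, x2, x3, mul_mem x2 x3]

theorem mod_c (h : Md W H) (hA : EA A) (A1 : A ≠ ⊥) (AT : A ≤ T) (TH : T ≤ H) (TA : T ≤ C[A])
    (piT : IsPi {2} T) (DW : D ≤ W) (DA : D ≤ C[A]) (WA : ⁅W, A⁆ ≤ D) (hv : v ∈ D) (v1 : v ≠ 1)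
    (vT : v ∈ C[T]) (DT : ∀ e ∈ D, ∀ q ∈ T, q * e * q⁻¹ * e⁻¹ ∈ zpowers v)
    (CT : D ⊓ C[T] ≤ zpowers v) (a6 : ∀ g ∈ H, g * v * g⁻¹ ∈ D → g ∈ C{v})
    (a4 : ∀ f ∈ F[H], f ∈ C{v} → f = 1)
    (gen : ∀ X : Subgroup G, (∀ k ∈ H, k * v * k⁻¹ ∈ X) → W ≤ X) :
    ♯A = 2 ∧ (♯W = 4 ∨ (♯W = 16 ∧ ♯D = 4 ∧
      (∀ t ∈ A, t ≠ 1 → W ⊓ C{t} ≤ D ∧ v ∈ ⁅W, zpowers t⁆ ∧ ∀ f ∈ F[H], t * f * t⁻¹ = f⁻¹) ∧
      (∀ X ≤ W, X ≠ ⊥ → T ≤ N[X] → v ∈ X) ∧
      ((♯F[H] = 5 ∧ ♯H = 20 ∧ ∀ S, IsPi {2} S → T ≤ S → S ≤ H → S ≤ T) ∨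
        ∃ f ∈ F[H], ∃ g ∈ F[H], f ≠ 1 ∧ (∀ w ∈ W, w ∈ C{f} → w ∈ C{g} → w = 1) ∧
          (∀ w ∈ W, g * w * g⁻¹ * w⁻¹ ∈ C{f}) ∧
          ∃ n₀ ∈ W, ∃ n₁ ∈ W, ∀ X : Subgroup G, W ⊓ C{f} ≤ X → n₀ ∈ X → n₁ ∈ X → W ≤ X))) := by
  have hW := h.ea
  have v2 := ea_sq hW (DW hv)
  have vmem : ∀ X ≤ W, X ≠ ⊥ → T ≤ N[X] → X ⊓ C[T] ≤ D → v ∈ X := fun X XW X1 XN XD => by
    obtain ⟨w, hw, w1⟩ := exists_ne_one
      (IsPi.inf_C_ne_bot Nat.prime_two piT (ea_pi (ea_le hW XW)) XN X1)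
    rcases (mem_zp2 v2).1 (CT ⟨XD hw, hw.2⟩) with e | e
    · exact absurd e w1
    · exact e ▸ hw.1
  have cD : ∀ a ∈ A, ⁅W, zpowers a⁆ ≤ D := fun a ha => (comm_mono_right (zpowers_le.2 ha)).trans WA
  have vc : ∀ a ∈ A, a ≠ 1 → v ∈ ⁅W, zpowers a⁆ := fun a ha a1 =>
    vmem _ ((cD a ha).trans DW) (h.comm_ne (TH (AT ha)) a1)
      (norm_comm (TH.trans h.le) (norm_zpowers_of_cent (TA.trans (C_le_C1 ha))))
      (inf_le_left.trans (cD a ha))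
  have Cv : ∀ a ∈ A, a ≠ 1 → ∀ g ∈ H, g ∈ C{a} → g ∈ C{v} := fun a ha a1 g hg hc =>
    a6 g hg (cD a ha (conj_mem (mem_N_comm1 (h.le hg)
      (zpowers_le.1 (norm_zpowers_of_cent (zpowers_le.2 hc)))) (vc a ha a1)))
  have FH : F[H] ≤ H := Fitting_le H
  have FN : F[H] ≤ N[W] := FH.trans h.le
  obtain ⟨t, ht, t1⟩ := exists_ne_one A1
  have A2 : ♯A = 2 := by
    obtain ⟨B, BA, iB, -, f, hf, f1, fB, -⟩ := h.hyper hA (AT.trans TH) ht t1
    have hB : B = ⊥ := (eq_bot_iff_forall _).2 fun a ha => by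
      by_contra a1
      exact f1 (a4 f hf (Cv a (BA ha) a1 f (FH hf) (C_le_C1 ha fB)))
    rw [hB, relIndex_bot_left] at iB
    exact iB
  refine ⟨A2, ?_⟩
  have fpf : ∀ t ∈ A, t ≠ 1 → F[H] ⊓ C{t} = ⊥ := fun t ht t1 =>
    (eq_bot_iff_forall _).2 fun f hf => a4 f hf.1 (Cv t ht t1 f (FH hf.1) hf.2)
  have tF : ∀ t ∈ H, t ∈ N[F[H]] := fun t ht => (Fitting_nml H).norm ht
  have inv : ∀ t ∈ A, t ≠ 1 → ∀ f ∈ F[H], t * f * t⁻¹ = f⁻¹ := fun t ht t1 f hf => by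
    obtain ⟨k, -, e⟩ := exists_conj_of_fpf (tF t (TH (AT ht))) (fpf t ht t1) hf
    have t2 := ea_sq hA ht
    rw [show f = k * t * k⁻¹ * t⁻¹ by rw [e]; group, inv_of_sq t2]
    calc t * (k * t * k⁻¹ * t) * t = t * k * t * k⁻¹ * (t * t) := by group
      _ = _ := by rw [t2, mul_inv_rev, mul_inv_rev, mul_inv_rev, inv_of_sq t2]; group
  have t2 := ea_sq hA ht
  have tH := TH (AT ht)
  have tN : t ∈ N[W] := h.le tH
  have ablF : Abl F[H] := abl_iff.2 (le_C_iff.2 fun a ha b hb => by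
    have e := inv t ht t1 _ (mul_mem ha hb)
    have e' : t * (a * b) * t⁻¹ = (t * a * t⁻¹) * (t * b * t⁻¹) := by group
    rw [e', inv t ht t1 a ha, inv t ht t1 b hb, ← mul_inv_rev] at e
    exact (inv_injective e).symm)
  have genF : ∀ X : Subgroup G, (∀ g ∈ F[H], g * v * g⁻¹ ∈ X) → W ≤ X := fun X hX =>
    gen X fun k hk => by
      have c1 : k * t * k⁻¹ * t⁻¹ ∈ F[H] := by
        refine cent_sub_Fitting h.sol (mem_inf.2
          ⟨mul_mem (mul_mem (mul_mem hk tH) (inv_mem hk)) (inv_mem tH), mem_C'.2 fun f hf => ?_⟩)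
        have e1 := inv t ht t1 _ (conj_mem' (tF k hk) (inv_mem hf))
        have e2 : t⁻¹ * f * t = f⁻¹ := by
          have := inv t ht t1 f hf
          rwa [inv_of_sq t2] at this ⊢
        calc k * t * k⁻¹ * t⁻¹ * f = k * (t * (k⁻¹ * (t⁻¹ * f * t) * k) * t⁻¹) * t * k⁻¹ * t⁻¹ := by
              group
          _ = _ := by rw [e2, e1]; group
      obtain ⟨f, hf, e⟩ := exists_conj_of_fpf (tF t tH) (fpf t ht t1) c1
      have c2 := mem_C1_iff_conj.1 (Cv t ht t1 (f⁻¹ * k) (mul_mem (inv_mem (FH hf)) hk) (by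
        rw [mem_C1_iff_conj]
        calc f⁻¹ * k * t * (f⁻¹ * k)⁻¹ = f⁻¹ * (k * t * k⁻¹ * t⁻¹ * t) * f := by group
          _ = t := by rw [← e]; group))
      have : k * v * k⁻¹ = f * v * f⁻¹ := by
        nth_rewrite 2 [← c2]; group
      rw [this]; exact hX f hf
  obtain ⟨f0, hf0, f01, -⟩ := h.inv tH t2 t1
  have dp := odd_dp hW FN h.odd_F
  have CF : W ⊓ C[F[H]] = ⊥ := by
    have k1 : ⁅W ⊓ C[F[H]], zpowers t⁆ = ⊥ := by
      by_contra hn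
      have k2 : ⁅W ⊓ C[F[H]], zpowers t⁆ ≤ D := (comm_mono_left inf_le_left).trans (cD t ht)
      have k3 := vmem _ (k2.trans DW) hn (norm_comm (norm_inf (TH.trans h.le)
        (norm_C fun k hk => tF k (TH hk))) (norm_zpowers_of_cent (TA.trans (C_le_C1 ht))))
        (inf_le_left.trans k2)
      have k4 := comm_le_left (zpowers_le.2 (mem_N_inf tN (N_le_NC _ (tF t tH)))) k3
      exact f01 (a4 f0 hf0 (mem_C1_comm.1 (C_le_C1 hf0 k4.2)))
    have nN : H ≤ N[⁅W, F[H]⁆] := norm_comm h.le (Fitting_nml H).norm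
    have k2 : v ∈ ⁅W, F[H]⁆ := by
      obtain ⟨w, hw, e⟩ := (mem_comm1 hW.1 tN).1 (vc t ht t1)
      obtain ⟨n, hn, c, hc, rfl⟩ := dp.isProd.mul w hw
      have k3 := mem_C1_iff_conj.1 (mem_C1_comm.1 (C_zpowers t ▸ comm_eq_bot.1 k1 hc))
      have : t * (n * c) * t⁻¹ * (n * c)⁻¹ = t * n * t⁻¹ * (t * c * t⁻¹) * c⁻¹ * n⁻¹ := by group
      rw [← e, this, k3, mul_inv_cancel_right]
      exact mul_mem (conj_mem (nN tH) hn) (inv_mem hn)
    exact le_bot_iff.1 (dp.inf ▸ le_inf (inf_le_left.trans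
      (gen _ fun k hk => conj_mem (nN hk) k2)) le_rfl)
  have fr : ∀ t ∈ A, t ≠ 1 → W ⊓ C{t} ≤ ⁅W, zpowers t⁆ := fun t ht t1 =>
    free_F hW ablF h.odd_F (ea_sq hA ht) (inv t ht t1) W le_rfl FN (h.le (TH (AT ht))) CF
  have DC : D ≤ W ⊓ C{t} := le_inf DW (DA.trans (C_le_C1 ht))
  have D1 : W ⊓ C{t} = D := le_antisymm ((fr t ht t1).trans (cD t ht)) DC
  have D2 : ⁅W, zpowers t⁆ = D := le_antisymm (cD t ht) (DC.trans (fr t ht t1))
  have cW := card_comm1 hW.1 tN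
  rw [D1, D2] at cW
  have tvt : t * v * t⁻¹ = v := mem_C1_iff_conj.1 (mem_C1_comm.1 (DC hv).2)
  have tD : ∀ g ∈ F[H], ∀ e ∈ D, tau g e ∈ D := fun g hg e he =>
    D1 ▸ ⟨tau_mem (FN hg) (DW he), tau_C1 hW.1 (FN hg) (DW he) (inv t ht t1 g hg) (DC he).2⟩
  have Dle : ∀ K ≤ D, (∀ g ∈ F[H], tau g v ∈ K) → D ≤ K := fun K KD hK => by
    have k1 : zpowers t ≤ N[K] := norm_of_cent (cents_symm (by
      rw [C_zpowers]; exact KD.trans (DC.trans inf_le_right)))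
    rw [← D2]
    refine ((le_centQ k1).1 (genF _ fun g hg => (mem_centQ k1).2
      ⟨Abl.norm hW.1 le_rfl (KD.trans DW) (conj_mem (FN hg) (DW hv)), fun u hu => ?_⟩)).2
    rcases (mem_zp2 t2).1 hu with rfl | rfl
    · simp
    · have e : g * v * g⁻¹ * u * (g * v * g⁻¹)⁻¹ * u⁻¹ =
          g * v * g⁻¹ * ((u * g * u⁻¹) * (u * v * u⁻¹)⁻¹ * (u * g * u⁻¹)⁻¹) := by group
      rw [commutatorElement_def, e, inv u ht t1 g hg, tvt, inv_of_sq v2, inv_inv]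
      exact hK g hg
  have zD : zpowers v ≤ D := zpowers_le.2 hv
  by_cases hc : ∀ g ∈ F[H], tau g v ∈ C[T]
  · left
    have := le_antisymm (Dle _ zD fun g hg => CT ⟨tD g hg v hv, hc g hg⟩) zD
    rw [← cW, this, card_zp2 v2 v1]
  right
  push Not at hc
  obtain ⟨k, hk, hk'⟩ := hc
  obtain ⟨q, hq, hq'⟩ := SetLike.not_le_iff_exists.1 (fun e => hk' (mem_C_iff_le_C1.2 e))
  have qv : q * v * q⁻¹ = v := mem_C1_iff_conj.1 (mem_C_iff_le_C1.1 vT hq)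
  have mv : ∀ e ∈ D, q * e * q⁻¹ = e ∨ q * e * q⁻¹ = v * e := fun e he => by
    rcases (mem_zp2 v2).1 (DT e he q hq) with e' | e'
    · exact Or.inl (mul_inv_eq_one.1 e')
    · exact Or.inr (mul_inv_eq_iff_eq_mul.1 e')
  have eD := tD k hk v hv
  have qe : q * tau k v * q⁻¹ = v * tau k v :=
    (mv _ eD).resolve_left fun e => hq' (mem_C1_iff_conj.2 e)
  have D4 : ♯D = 4 := by
    have KD : zpowers v ⊔ zpowers (tau k v) ≤ D := sup_le zD (zpowers_le.2 eD)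
    have vK : zpowers v ≤ zpowers v ⊔ zpowers (tau k v) := le_sup_left
    have eK : tau k v ∈ zpowers v ⊔ zpowers (tau k v) := mem_sup_right (mem_zpowers _)
    have k1 := Dle _ KD fun g hg => by
      have g' := conj_mem (tF q (TH hq)) hg
      have e1 : q * tau g v * q⁻¹ = tau (q * g * q⁻¹) v := by rw [tau_conj, qv]
      have gD := tD g hg v hv
      have xD := tD k hk _ gD
      have e2 : q * tau k (tau g v) * q⁻¹ = tau (q * g * q⁻¹) v * tau k (tau (q * g * q⁻¹) v) := by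
        rw [← tau_comm hW.1 (FN hg) (FN hk) (ablF.comm hg hk) (DW hv), tau_conj, qe,
          tau_mul hW.1 (FN g') (DW hv) (DW eD),
          tau_comm hW.1 (FN g') (FN hk) (ablF.comm g' hk) (DW hv)]
      have k2 := vK (DT _ xD q hq)
      rw [e2, ← e1] at k2
      rcases mv _ gD with e | e
      · rw [e, mul_inv_cancel_right] at k2; exact k2
      · rw [e, tau_mul hW.1 (FN hk) (DW hv) (DW gD), ← mul_assoc, mul_inv_cancel_right] at k2
        simpa [mul_assoc] using mul_mem (mul_mem (inv_mem (vK (mem_zpowers v))) k2) (inv_mem eK)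
    have k2 := (card_le k1).trans (card_sup2 v2 (ea_sq hW (DW eD)) (H12.ea_comm hW (DW hv) (DW eD)))
    have k3 := two_mul_card_le (lt_of_le_of_ne zD fun e => hk' (zpowers_le.2 vT (e ▸ eD)))
    rw [card_zp2 v2 v1] at k3
    omega
  have W16 : ♯W = 16 := by rw [← cW, D4]
  refine ⟨W16, D4, fun t ht t1 => ⟨(fr t ht t1).trans (cD t ht), vc t ht t1, inv t ht t1⟩,
    fun X XW X1 XN => vmem X XW X1 XN fun w hw => D1 ▸ ⟨XW hw.1, C_le_C1 (AT ht) hw.2⟩, ?_⟩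
  by_cases hs : Semireg W F[H]
  swap
  · right
    obtain ⟨f, hf, f1, hn⟩ : ∃ f ∈ F[H], f ≠ 1 ∧ W ⊓ C{f} ≠ ⊥ := by
      by_contra hn
      push Not at hn
      exact hs hn
    obtain ⟨g, hg, k⟩ := split16 hW W16 ablF h.odd_F FN CF hf (fun e => f1 (h.eq_one (FH hf) e)) hn
    exact ⟨f, hf, g, hg, f1, k⟩
  left
  have dv := hs.dvd_pred FN
  rw [W16] at dv
  have F5 : ♯F[H] = 5 := by
    have k0 : ♯F[H] ≠ 1 := fun e => f01 (mem_bot.1 (card_eq_one'.1 e ▸ hf0))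
    have k3 : ♯F[H] ≠ 3 := fun e => by
      have zp := zpowers_eq_of_prime (e ▸ Nat.prime_three) hf0 f01
      have o3 : orderOf f0 = 3 := by rw [← card_zpowers', zp, e]
      have f0D := tD f0 hf0 v hv
      have k1 := card_le (Dle _ (zpowers_le.2 f0D) fun g hg => by
        classical
        rw [← zp, mem_zpowers_iff_mem_range_orderOf, o3] at hg
        simp only [Finset.mem_image, Finset.mem_range] at hg
        obtain ⟨i, hi, rfl⟩ := hg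
        interval_cases i
        · simp [tau, v2]
        · simp
        · have ff : f0 ^ 2 = f0⁻¹ := by
            rw [eq_inv_iff_mul_eq_one, ← pow_succ]
            have := pow_orderOf_eq_one f0
            rwa [o3] at this
          have : tau (f0 ^ 2) v = tau f0 v := by
            rw [ff]; unfold tau
            rw [inv_inv, Abl.comm hW.1 (conj_mem (FN hf0) (DW hv)) (conj_mem' (FN hf0) (DW hv))]
          rw [this]; exact mem_zpowers _)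
      have k2 : ♯(zpowers (tau f0 v)) ≤ 2 := by
        rw [card_zpowers']
        exact orderOf_le_of_pow_eq_one two_pos (by rw [sq, ea_sq hW (DW f0D)])
      omega
    have k15 : ♯F[H] ≠ 15 := fun e => by
      have k1 := relIndex_C1 F[H] v
      have k2 := card_inf_mul_relIndex C{v} F[H]
      rw [(eq_bot_iff_forall _).2 fun f (hf : f ∈ C{v} ⊓ F[H]) => a4 f hf.2 hf.1, card_bot,
        one_mul, e] at k2
      have k4 : {y | ∃ x ∈ F[H], x * v * x⁻¹ = y} = (W : Set G) \ {1} := by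
        refine Set.eq_of_subset_of_ncard_le ?_ ?_
        · rintro y ⟨x, hx, rfl⟩
          exact ⟨conj_mem (FN hx) (DW hv), by simpa using v1⟩
        · rw [← k1, k2, Set.ncard_sdiff_singleton_of_mem (one_mem W)]
          have : (W : Set G).ncard = 16 := W16
          rw [this]
      have k5 : tau k v ∈ {y | ∃ x ∈ F[H], x * v * x⁻¹ = y} :=
        k4 ▸ ⟨DW eD, fun e => hk' (by rw [Set.mem_singleton_iff.1 e]; exact one_mem _)⟩
      obtain ⟨x, hx, e'⟩ := k5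
      have := mem_C1_iff_conj.1 (a6 x (FH hx) (e' ▸ eD))
      exact hk' (e' ▸ this.symm ▸ vT)
    have : ♯F[H] ∈ Nat.divisors 15 := Nat.mem_divisors.2 ⟨dv, by norm_num⟩
    have e : Nat.divisors 15 = {1, 3, 5, 15} := by decide
    rw [e] at this
    simp only [Finset.mem_insert, Finset.mem_singleton] at this
    omega
  have p5 : (♯F[H]).Prime := by rw [F5]; norm_num
  have H20 : ♯H ≤ 20 := by
    have k1 := card_inf_mul_relIndex C{f0} H
    have k2 : ♯(C{f0} ⊓ H) ≤ 5 := F5 ▸ card_le (by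
      rw [inf_comm, ← C_eq_C1_of_prime p5 hf0 f01]; exact cent_sub_Fitting h.sol)
    have k3 : C{f0}.relIndex H ≤ 4 := by
      rw [relIndex_C1]
      refine (Set.ncard_le_ncard (t := (F[H] : Set G) \ {1}) ?_).trans ?_
      · rintro y ⟨x, hx, rfl⟩
        exact ⟨conj_mem (tF x hx) hf0, by simpa using f01⟩
      · rw [Set.ncard_sdiff_singleton_of_mem (one_mem _)]
        have : (F[H] : Set G).ncard = 5 := F5
        rw [this]
    nlinarith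
  have two : ∀ S, IsPi {2} S → S ≤ H → 5 * ♯S ∣ ♯H := fun S hS SH => by
    rw [← F5]
    exact (h.odd_F.coprime' hS).mul_dvd_of_dvd_of_dvd (card_dvd FH) (card_dvd SH)
  have T4 : 4 ≤ ♯T := by
    have := two_mul_card_le (lt_of_le_of_ne (zpowers_le.2 (AT ht)) fun e =>
      hq' (zpowers_le.2 (mem_C1_comm.1 (DC eD).2) (e ▸ hq)))
    rwa [card_zp2 t2 t1] at this
  have k1 := Nat.le_of_dvd (card_pos H) (two T piT TH)
  refine ⟨F5, by omega, fun S hS TS SH => (eq_of_card_ge TS ?_).ge⟩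
  have k2 := Nat.le_of_dvd (card_pos H) (two S hS SH)
  omega

end H1.NG
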