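import Mathlib
import Cfsg.Agent.H1.NGa2
import Cfsg.Agent.H1.NGc1

/-!
# N-groups, case (A-II): translation to the module, facts about pairs of points
-/

set_option autoImplicit false
set_option linter.unusedSectionVars false

namespace H1.NG

open Subgroup Cfsg H24 H26 H11.ZN H12.NG

universe u

variable {G : Type u} [Group G] [Finite G] {Γ : Type u} [Group Γ] [Finite Γ] {S V : Subgroup G}
  {z y t x u a b k q : G}

theorem mul_C_iff (z2 : z * z = 1) (z1 : z ≠ 1) (ha : a ∈ C{z}) (h1 : a * x * a⁻¹ * x⁻¹ ∈ zpowers z)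
    (h2 : b * x * b⁻¹ * x⁻¹ ∈ zpowers z) : a * b ∈ C{x} ↔ (a ∈ C{x} ↔ b ∈ C{x}) := by
  have k : ∀ c, c ∈ C{x} ↔ c * x * c⁻¹ * x⁻¹ = 1 := fun c => by rw [mem_C1_iff_conj, mul_inv_eq_one]
  have e : a * b * x * (a * b)⁻¹ * x⁻¹ = a * (b * x * b⁻¹ * x⁻¹) * a⁻¹ * (a * x * a⁻¹ * x⁻¹) := by
    group
  rw [k, k, k, e]
  rcases (mem_zp2 z2).1 h1 with e1 | e1 <;> rcases (mem_zp2 z2).1 h2 with e2 | e2 <;> rw [e1, e2]
  · simp
  · simp [z1]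
  · simp [z1]
  · rw [mem_C1_iff_conj.1 ha]; simp [z2, z1]

theorem comm_symm {K : Subgroup G} (h : a * b * a⁻¹ * b⁻¹ ∈ K) : b * a * b⁻¹ * a⁻¹ ∈ K :=
  H3.NG.cm_symm h

section
variable (h : CA S V z)
include h

theorem QC : Qz z ≤ C{z} := pcore_le _ _

theorem mulQ (ha : a ∈ Qz z) (hb : b ∈ Qz z) (hu : u ∈ Uz V z) :
    a * b ∈ C{u} ↔ (a ∈ C{u} ↔ b ∈ C{u}) :=
  mul_C_iff h.z_sq h.z1 (QC h ha) (commQU h ha hu) (commQU h hb hu)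

theorem mulU (ha : a ∈ Uz V z) (hb : b ∈ Uz V z) (hq : q ∈ Qz z) :
    a * b ∈ C{q} ↔ (a ∈ C{q} ↔ b ∈ C{q}) :=
  mul_C_iff h.z_sq h.z1 (U_le_C h ha) (commUQ h ha hq) (commUQ h hb hq)

theorem dual (hk : k ∈ C{z}) (hq : q ∈ Qz z) (hu : u ∈ Uz V z) :
    k * q * k⁻¹ * q⁻¹ ∈ C{u} ↔ k⁻¹ * u * k * u⁻¹ ∈ C{q} := by
  rw [mulQ h (conj_mem ((pcore_nml _ _).norm hk) hq) (inv_mem hq) hu,
    mulU h (conj_mem' (h.U_nml.norm hk) hu) (inv_mem hu) hq, inv_mem_iff, inv_mem_iff,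
    mem_C1_comm (g := u), mem_C1_comm (g := k⁻¹ * u * k)]
  have : k * q * k⁻¹ ∈ C{u} ↔ q ∈ C{k⁻¹ * u * k} := by
    have e := cj_C1 k (k⁻¹ * u * k)
    rw [show k * (k⁻¹ * u * k) * k⁻¹ = u by group] at e
    rw [← e, conj_mem_cj_iff]
  rw [this]

theorem zp_le_C (hq : q ∈ C{z}) : zpowers z ≤ C{q} := zpowers_le.2 (mem_C1_comm.1 hq)

theorem ea_U (hU : Abl (Uz V z)) : EA (Uz V z) := by
  refine ⟨hU, fun u hu => ((H12.mem_omega_iff hU.le_C).1 (H3.NG.ncl_le (fun g hg w hw => ?_) hu)).2⟩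
  exact H12.mem_omega (H3.NG.le_ncl hg hw) ((H3.NG.ea_cj h.ea g).2 w hw)

theorem abl_other (hU : Abl (Uz V z)) (hy : y ∈ V) (h1 : y ≠ 1) : Abl (Uz V y) := by
  obtain ⟨m, hm, rfl, -⟩ := other h hy h1
  rw [U_conj hm]; exact hU.cj m

theorem card_other (hy : y ∈ V) (h1 : y ≠ 1) : ♯(Uz V y) = ♯(Uz V z) := by
  obtain ⟨m, hm, rfl, -⟩ := other h hy h1
  rw [U_conj hm, card_cj]

theorem U_le_CV (hU : Abl (Uz V z)) : Uz V z ≤ C[V] := hU.le_C.trans (C_anti h.V_le_U)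

theorem two_trans (hy : y ∈ V) (h1 : y ≠ 1) (h2 : y ≠ z) (ha : a ∈ V) (a1 : a ≠ 1) (hb : b ∈ V)
    (b1 : b ≠ 1) (ba : b ≠ a) : ∃ m ∈ N[V], m * z * m⁻¹ = a ∧ m * y * m⁻¹ = b := by
  obtain ⟨m, hm, e, h'⟩ := other h ha a1
  have k1 := conj_mem hm hy
  have k2 : m * y * m⁻¹ ≠ 1 := mt conj_eq_one_iff'.1 h1
  have k3 : m * y * m⁻¹ ≠ a := fun e' => h2 (by simpa using e'.trans e.symm)
  by_cases hn : m * y * m⁻¹ = b
  · exact ⟨m, hm, e, hn⟩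
  obtain ⟨x, hx, hx'⟩ := SetLike.not_le_iff_exists.1 h'.Q_not_le
  have xN := h'.nml.norm (h'.Q_le_S hx)
  refine ⟨x * m, mul_mem xN hm, ?_, ?_⟩
  · rw [← mem_C1_iff_conj.1 (QC h' hx), ← e]; group
  · have := conj_y h' k1 k2 k3 (QC h' hx) xN hx'
    rw [show x * m * y * (x * m)⁻¹ = x * (m * y * m⁻¹) * x⁻¹ by group, this]
    rcases memV h' k1 k2 k3 hb with e' | e' | e' | e'
    exacts [absurd e' b1, absurd e' ba, absurd e'.symm hn, e'.symm]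

theorem A_not_le (hU : Abl (Uz V z)) (hW : ¬ Abl (Wv V)) (hy : y ∈ V) (h1 : y ≠ 1) (h2 : y ≠ z) :
    ¬ Uz V y ≤ Qz z := by
  intro hn
  have k : ∀ a ∈ V, a ≠ 1 → ∀ b ∈ V, b ≠ 1 → b ≠ a → Uz V b ≤ Qz a := fun a ha a1 b hb b1 ba => by
    obtain ⟨m, hm, rfl, rfl⟩ := two_trans h hy h1 h2 ha a1 hb b1 ba
    rw [U_conj hm, CA.Qz_conj]; exact cj_mono m hn
  refine hW (abl_iff.2 (H3.NG.sup3_le fun a ha a1 => cents_symm (H3.NG.sup3_le fun b hb b1 => ?_)))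
  by_cases ba : b = a
  · rw [ba]; exact (abl_other h hU ha a1).le_C
  obtain ⟨m, -, -, ha'⟩ := other h ha a1
  obtain ⟨m', -, -, hb'⟩ := other h hb b1
  refine le_C_iff.2 fun u hu w hw => ?_
  have k1 := commQU ha' (k a ha a1 b hb b1 ba hu) hw
  have k2 := commUQ hb' hu (k b hb b1 a ha a1 (Ne.symm ba) hw)
  rcases (mem_zp2 ha'.z_sq).1 k1 with e | e
  · rw [mul_inv_eq_one, mul_inv_eq_iff_eq_mul] at e; exact e
  · rcases (mem_zp2 hb'.z_sq).1 k2 with e' | e'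
    · exact absurd (e.symm.trans e') a1
    · exact absurd (e'.symm.trans e) ba
end

variable {ι : Uz V z →* Γ} {ρ : C{z} →* Γ}

theorem MD.pre_rho (d : MD V z ι ρ) : pre ρ ⊥ = Qz z := by
  ext g
  rw [mem_pre_bot]
  exact ⟨fun e => (d.ker g e.1).1 e.2, fun e => ⟨pcore_le _ _ e, (d.ker g (pcore_le _ _ e)).2 e⟩⟩

theorem MD.mem_of (h : CA S V z) (d : MD V z ι ρ) {K : Subgroup G} (hK : zpowers z ≤ K)
    (hu : u ∈ Uz V z) (e : ap ι u ∈ img ι K) : u ∈ K := by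
  obtain ⟨w, hw, wU, e'⟩ := mem_img.1 e
  simpa using mul_mem (hK ((sec_eq d.sec hu wU).1 e'.symm)) hw

theorem run (h : CA S V z) (hU : Abl (Uz V z)) (hW : ¬ Abl (Wv V)) (hy : y ∈ V) (h1 : y ≠ 1)
    (h2 : y ≠ z) (d : MD V z ι ρ) :
    ♯(img ρ (Uz V y)) = 2 ∧ (♯ι.range = 4 ∨ (♯ι.range = 16 ∧ ♯(img ι (Dv V)) = 4 ∧
      (∀ t ∈ img ρ (Uz V y), t ≠ 1 → ι.range ⊓ C{t} ≤ img ι (Dv V) ∧ ap ι y ∈ ⁅ι.range, zpowers t⁆ ∧
        ∀ f ∈ F[ρ.range], t * f * t⁻¹ = f⁻¹) ∧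
      (∀ X ≤ ι.range, X ≠ ⊥ → img ρ (Qz y ⊓ C[V]) ≤ N[X] → ap ι y ∈ X) ∧
      ((♯F[ρ.range] = 5 ∧ ♯ρ.range = 20 ∧
          ∀ T, IsPi {2} T → img ρ (Qz y ⊓ C[V]) ≤ T → T ≤ ρ.range → T ≤ img ρ (Qz y ⊓ C[V])) ∨
        ∃ f ∈ F[ρ.range], ∃ g ∈ F[ρ.range], f ≠ 1 ∧ (∀ w ∈ ι.range, w ∈ C{f} → w ∈ C{g} → w = 1) ∧
          (∀ w ∈ ι.range, g * w * g⁻¹ * w⁻¹ ∈ C{f}) ∧ ∃ n₀ ∈ ι.range, ∃ n₁ ∈ ι.range,
            ∀ X : Subgroup Γ, ι.range ⊓ C{f} ≤ X → n₀ ∈ X → n₁ ∈ X → ι.range ≤ X))) := by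
  obtain ⟨m, -, -, h'⟩ := other h hy h1
  have hU' := abl_other h hU hy h1
  have AV := U_le_CV h' hU'
  have AC : Uz V y ≤ C{z} := AV.trans (CV_le h)
  have TC : Qz y ⊓ C[V] ≤ C{z} := inf_le_right.trans (CV_le h)
  have yU := h.V_le_U hy
  have DU : Dv V ≤ Uz V z := h.D_le_U₂
  have UN := h.U_nml.norm
  have zD : zpowers z ≤ Dv V := (zp_le h).trans h.V_le_D
  refine mod_c d.md (H12.ea_map (H12.ea_subgroupOf (ea_U h' hU') _) _) (fun e => ?_)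
    (img_mono ρ (le_inf h'.U_le_Q AV)) (img_le_range _ _) ?_ (((pcore_pi _ _).inf_left _).img ρ)
    (img_le_range _ _) ?_ ?_ (ap_mem_img ι (h.V_le_D hy) yU) (d.v_ne h hy h1 h2) ?_ ?_ ?_ ?_
    (d.F_v h hy h1 h2) ?_
  · exact A_not_le h hU hW hy h1 h2 (d.pre_rho ▸ (img_eq_bot AC).1 e)
  · refine (comm_le_ker TC AC).1 ?_
    rw [d.pre_rho, commC]
    exact (comm_mono_right inf_le_left).trans (h'.comm_UQ.le.trans ((zp_le h').trans h.V_le_Q))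
  · intro e he
    obtain ⟨u, hu, uU, rfl⟩ := mem_img.1 he
    refine mem_C_iff_le_C1.2 fun a ha => ?_
    obtain ⟨t, ht, tC, rfl⟩ := mem_img.1 ha
    refine mem_C1_comm.1 ((d.C1 h tC uU).2 ?_)
    rw [hU'.comm ht (h'.D_le_U₂ hu)]; simp
  · refine commutator_le.2 fun w hw a ha => ?_
    obtain ⟨u, hu, rfl⟩ := mem_rng.1 hw
    obtain ⟨t, ht, tC, rfl⟩ := mem_img.1 ha
    rw [commutatorElement_def, ← sec_comm' d.sec UN tC hu]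
    have := h.comm_U1 hy h1 h2 (commutator_mem_commutator ⟨hu, U_le_CV h hU hu⟩ ⟨ht, AV ht⟩)
    exact ap_mem_img ι this (DU this)
  · refine mem_C_iff_le_C1.2 fun a ha => ?_
    obtain ⟨t, ht, tC, rfl⟩ := mem_img.1 ha
    refine mem_C1_comm.1 ((d.C1 h tC yU).2 ?_)
    rw [← mem_C.1 ht.2 y hy]; simp
  · intro e he a ha
    obtain ⟨u, hu, uU, rfl⟩ := mem_img.1 he
    obtain ⟨t, ht, tC, rfl⟩ := mem_img.1 ha
    rw [← sec_comm d.sec UN tC uU]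
    exact d.ap_V h hy h1 h2 (zp_le h' (commQU h' ht.1 (h'.D_le_U₂ hu)))
  · rintro e ⟨he, he'⟩
    obtain ⟨u, hu, uU, rfl⟩ := mem_img.1 he
    refine d.ap_V h hy h1 h2 ?_
    by_contra hn
    have k : zpowers y ≤ zpowers z := by
      rw [← h.comm_DQ hu hn hy h1]
      refine commutator_le.2 fun w hw q hq => ?_
      rcases (mem_zp2 (ea_sq h.D_ea hu)).1 hw with rfl | rfl
      · simp
      · exact comm_symm ((d.C1 h (TC hq) uU).1 (C_le_C1 (ap_mem_img ρ hq (TC hq)) he'))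
    rcases (mem_zp2 h.z_sq).1 (k (mem_zpowers y)) with e | e
    exacts [h1 e, h2 e]
  · intro γ hγ e
    obtain ⟨c, hc, rfl⟩ := mem_rng.1 hγ
    rw [← d.sec.act c hc y yU] at e
    have k1 := d.mem_of h zD (conj_mem (UN hc) yU) e
    have cz := mem_C1_iff_conj.1 hc
    have k2 : cj c V = V := h.line_D (cz ▸ conj_mem_cj c h.z_mem) (cj_le_iff.2
      (four_le₂ h.card h.z_mem hy h.z1 h1 h2 (mem_cj.2 (by
        rw [inv_inv, cz]; exact zD (mem_zpowers z))) (mem_cj.2 (by rwa [inv_inv]))))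
    exact mem_C1_comm.1 ((d.C1 h hc yU).2
      (H3.NG.four_cm h.ea h.card h.z_mem h.z1 (mem_N_iff_cj.2 k2) hc hy))
  · intro X hX
    rw [← img_dom, img_le_iff le_rfl]
    refine H3.NG.ncl_le fun c hc w hw => ?_
    obtain ⟨v, hv, rfl⟩ := mem_cj'.1 hw
    have vU := h.V_le_U hv
    refine mem_pre.2 ⟨conj_mem (UN hc) vU, ?_⟩
    rw [d.sec.act c hc v vU]
    rcases (mem_zp2 (ea_sq d.md.ea (ap_rng ι yU))).1 (d.ap_V h hy h1 h2 hv) with e | e <;> rw [e]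
    · simp
    · exact hX _ (ap_rng ρ hc)

/-- facts about a pair of points -/
structure PF (V : Subgroup G) (z y : G) : Prop where
  idx : (Qz z).relIndex (Uz V y) = 2
  cU : ♯(Uz V z) = 32
  cD : ♯(Dv V) = 8
  cen : ∀ t ∈ Uz V y, t ∉ Qz z → ∀ u ∈ Uz V z, t * u * t⁻¹ * u⁻¹ ∈ zpowers z → u ∈ Dv V

theorem pf (h : CA S V z) (hU : Abl (Uz V z)) (hW : ¬ Abl (Wv V)) (h8 : ♯(Uz V z) ≠ 8) (hy : y ∈ V)
    (h1 : y ≠ 1) (h2 : y ≠ z) : PF V z y := by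
  obtain ⟨Γ, _, _, ι, ρ, d⟩ := exists_MD h
  obtain ⟨m, -, -, h'⟩ := other h hy h1
  have AC : Uz V y ≤ C{z} := (U_le_CV h' (abl_other h hU hy h1)).trans (CV_le h)
  have zD : zpowers z ≤ Dv V := (zp_le h).trans h.V_le_D
  have cU := d.card_U h
  obtain ⟨k1, k2 | ⟨k2, k3, k4, -⟩⟩ := run h hU hW hy h1 h2 d
  · omega
  refine ⟨by rwa [card_img ρ AC, d.pre_rho] at k1, by omega, ?_, fun t ht ht' u hu e => ?_⟩
  · have := card_img_mul ι h.D_le_U₂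
    rw [d.pre_bot h, inf_eq_left.2 zD, card_zp2 h.z_sq h.z1, k3] at this
    exact this.symm
  · exact d.mem_of h zD hu ((k4 _ (ap_mem_img ρ ht (AC ht))
      (fun e => ht' ((d.ker t (AC ht)).1 e))).1 ⟨ap_rng ι hu, (d.C1 h (AC ht) hu).2 e⟩)

theorem pf_all (h : CA S V z) (hU : Abl (Uz V z)) (hW : ¬ Abl (Wv V)) (h8 : ♯(Uz V z) ≠ 8)
    (ha : a ∈ V) (a1 : a ≠ 1) (hb : b ∈ V) (b1 : b ≠ 1) (ba : b ≠ a) : PF V a b := by
  obtain ⟨m, -, -, h'⟩ := other h ha a1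
  exact pf h' (abl_other h hU ha a1) hW (by rwa [card_other h ha a1]) hb b1 ba

theorem comm_out (h : CA S V z) (hU : Abl (Uz V z)) (hy : y ∈ V) (h1 : y ≠ 1) (h2 : y ≠ z)
    (p : PF V z y) (p' : PF V y z) (hb : b ∈ Uz V z) (hb' : b ∉ Qz y) (ht : t ∈ Uz V y)
    (ht' : t ∉ Qz z) : b * t * b⁻¹ * t⁻¹ ∈ Dv V ∧ b * t * b⁻¹ * t⁻¹ ∉ V := by
  obtain ⟨m, -, -, h'⟩ := other h hy h1
  have AV := U_le_CV h' (abl_other h hU hy h1)
  have DQ : Dv V ≤ Qz y := h'.D_le_U₂.trans h'.U_le_Q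
  refine ⟨h.comm_U1 hy h1 h2 (commutator_mem_commutator ⟨hb, U_le_CV h hU hb⟩ ⟨ht, AV ht⟩),
    fun hn => ?_⟩
  obtain ⟨a, ha, ha'⟩ : ∃ a ∈ Qz y ⊓ Uz V z, a ∉ Dv V := by
    by_contra hc
    push Not at hc
    have k1 := card_le (show Qz y ⊓ Uz V z ≤ Dv V from hc)
    have k2 := card_inf_mul_relIndex (Qz y) (Uz V z)
    rw [p'.idx, p.cU] at k2
    rw [p.cD] at k1
    omega
  have ea : a * t * a⁻¹ * t⁻¹ = y := by
    refine ((mem_zp2 h'.z_sq).1 (commQU h' ha.1 ht)).resolve_left fun e => ha' ?_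
    exact p.cen t ht ht' a ha.2 (comm_symm (e ▸ one_mem _))
  have k : ∀ w ∈ V, w ∈ zpowers z ∨ w * y ∈ zpowers z := fun w hw => by
    rcases memV h hy h1 h2 hw with rfl | rfl | rfl | rfl
    · exact Or.inl (one_mem _)
    · exact Or.inl (mem_zpowers _)
    · right; rw [h'.z_sq]; exact one_mem _
    · right; rw [H12.ea_comm h.ea hy h.z_mem, mul_assoc, h'.z_sq, mul_one]; exact mem_zpowers _
  rcases k _ hn with e | e
  · exact hb' (DQ (p.cen t ht ht' b hb (comm_symm e)))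
  · have e' : a * b * t * (a * b)⁻¹ * t⁻¹ = a * (b * t * b⁻¹ * t⁻¹) * a⁻¹ * (a * t * a⁻¹ * t⁻¹) := by
      group
    rw [ea, conj_eq_of_mem_C (U_le_CV h hU ha.2) hn] at e'
    have := DQ (p.cen t ht ht' _ (mul_mem ha.2 hb) (comm_symm (e' ▸ e)))
    exact hb' (by simpa using mul_mem (inv_mem (mem_inf.1 ha).1) this)

end H1.NG
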