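import Mathlib
import Cfsg.Agent.H1.NGc2

/-!
# N-groups, case (A-II): the case `F/Q = 3²` is impossible
-/

set_option autoImplicit false
set_option linter.unusedSectionVars false

namespace H1.NG

open Subgroup Cfsg H24 H26 H11.ZN H12.NG

universe u

variable {G : Type u} [Group G] [Finite G] {Γ : Type u} [Group Γ] [Finite Γ] {S V Y : Subgroup G}
  {z y t x u w a b c k q : G} {ι : Uz V z →* Γ} {ρ : C{z} →* Γ}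

theorem K0 (h : CA S V z) (hy : y ∈ V) (h1 : y ≠ 1) (h2 : y ≠ z) (d : MD V z ι ρ)
    (vm : ∀ X ≤ ι.range, X ≠ ⊥ → img ρ (Qz y ⊓ C[V]) ≤ N[X] → ap ι y ∈ X) (hu : u ∈ Uz V z)
    (hc : ∀ q ∈ Qz z, u ∈ C{q}) : u ∈ zpowers z := by
  by_contra hn
  have uC : u ∈ C[Qz z] := mem_C_iff_le_C1.2 fun q hq => mem_C1_comm.1 (hc q hq)
  have zK : zpowers z ≤ Uz V z ⊓ C[Qz z] :=
    le_inf ((zp_le h).trans h.V_le_U) (cents_symm ((QC h).trans (C_zpowers z).ge))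
  have k := vm (img ι (Uz V z ⊓ C[Qz z])) (img_le_range _ _) (fun e => hn ?_) fun γ hγ => ?_
  · exact h.Q_not_le fun q hq => mem_CV h hy h1 h2 (QC h hq)
      (mem_C_iff_le_C1.1 (d.mem_of h zK (h.V_le_U hy) k).2 hq)
  · exact (d.sec.ker u hu).1 (mem_bot.1 (e ▸ ap_mem_img ι ⟨hu, uC⟩ hu))
  · obtain ⟨s, -, sC, rfl⟩ := mem_img.1 hγ
    refine mem_N_of_finite fun w hw => ?_
    obtain ⟨v, hv, vU, rfl⟩ := mem_img.1 hw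
    rw [← d.sec.act s sC v vU]
    have := conj_mem (norm_inf h.U_nml.norm (norm_C (pcore_nml _ _).norm) sC) hv
    exact ap_mem_img ι this this.1

theorem comm_le_C (h : CA S V z) (hk : k ∈ C{z}) (hu : u ∈ Uz V z)
    (K : ∀ u ∈ Uz V z, (∀ q ∈ Qz z, u ∈ C{q}) → u ∈ zpowers z) :
    ⁅Qz z, zpowers k⁆ ≤ C{u} ↔ k * u * k⁻¹ * u⁻¹ ∈ zpowers z := by
  constructor
  · intro hY
    refine K _ (mul_mem (conj_mem (h.U_nml.norm hk) hu) (inv_mem hu)) fun q hq => ?_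
    have := (dual h (inv_mem hk) hq hu).1
      (comm_symm (hY (H3.NG.cm_mem hq (inv_mem (mem_zpowers k)))))
    rwa [inv_inv] at this
  · intro e
    obtain ⟨Γ, _, _, ι, ρ, d⟩ := exists_MD h
    refine H3.NG.cm_le fun q hq s hs => comm_symm ?_
    have sC : s ∈ C{z} := zpowers_le.2 hk hs
    refine (dual h sC hq hu).2 (zp_le_C h (QC h hq) ?_)
    have e1 : zpowers k ≤ pre ρ C{ap ι u} :=
      zpowers_le.2 (mem_pre.2 ⟨hk, mem_C1_comm.1 ((d.C1 h hk hu).2 e)⟩)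
    have := (d.C1 h (inv_mem sC) hu).1 (mem_C1_comm.1 (mem_pre.1 (e1 (inv_mem hs))).2)
    rwa [inv_inv] at this

theorem core (h : CA S V z) (hU : Abl (Uz V z)) (ha : a ∈ Qz z) (hb : b ∈ Qz z) (hc : c ∈ Qz z)
    (hk : k ∈ C{z}) (e1 : k * a * k⁻¹ = b) (e2 : k * b * k⁻¹ = c) (hu : a * b * c ∈ Uz V z)
    (b2 : b * b ∈ Uz V z) (hY : ∀ w ∈ Uz V z, k * w * k⁻¹ * w⁻¹ ∈ zpowers z → a ∈ C{w}) :
    b ∈ C{a * a} := by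
  have UN := h.U_nml.norm
  have a2 : a * a ∈ Uz V z := by
    have := conj_mem' (UN hk) b2
    rwa [← e1, show k⁻¹ * (k * a * k⁻¹ * (k * a * k⁻¹)) * k = a * a by group] at this
  have c2 : c * c ∈ Uz V z := by
    have := conj_mem (UN hk) b2
    rwa [H3.NG.cjm, e2] at this
  have k1 : a * b * a⁻¹ * b⁻¹ ∈ Uz V z := by
    have := mul_mem (mul_mem (mul_mem (mul_mem hu (conj_mem' (UN (QC h hc)) hu)) (inv_mem c2))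
      (conj_mem' (UN (QC h hb)) (inv_mem a2))) (inv_mem b2)
    rwa [show a * b * c * (c⁻¹ * (a * b * c) * c) * (c * c)⁻¹ * (b⁻¹ * (a * a)⁻¹ * b) * (b * b)⁻¹ =
      a * b * a⁻¹ * b⁻¹ by group] at this
  have k2 : k * (a * b * a⁻¹ * b⁻¹) * k⁻¹ * (a * b * a⁻¹ * b⁻¹)⁻¹ ∈ zpowers z := by
    have m1 := conj_mem' (CA.zp_norm₁ z (QC h ha)) (commUQ h hu (inv_mem hb))
    have m2 := commQU h (inv_mem (mul_mem hb ha)) k1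
    have := mul_mem m1 m2
    rw [show k * (a * b * a⁻¹ * b⁻¹) * k⁻¹ = k * a * k⁻¹ * (k * b * k⁻¹) * (k * a * k⁻¹)⁻¹ *
      (k * b * k⁻¹)⁻¹ by group, e1, e2]
    convert this using 1
    group
  have k3 := mem_C1_iff_conj.1 (hY _ k1 k2)
  rw [mem_C1_comm, mem_C1_iff_conj, ← mul_inv_eq_one,
    show a * a * b * (a * a)⁻¹ * b⁻¹ = a * (a * b * a⁻¹ * b⁻¹) * a⁻¹ * (a * b * a⁻¹ * b⁻¹) by group, k3]
  exact ea_sq (ea_U h hU) k1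

theorem fin (h : CA S V z) (hU : Abl (Uz V z)) (hY : Y ≤ Qz z) (hk : k ∈ C{z}) (kY : k ∈ N[Y])
    (t2 : t * t = 1) (tk : t * k * t⁻¹ = k⁻¹)
    (tE : ∀ q ∈ Qz z, q ∈ C[Uz V z] → t * q * t⁻¹ * q⁻¹ ∈ Uz V z)
    (hY' : ∀ w ∈ Uz V z, Y ≤ C{w} ↔ k * w * k⁻¹ * w⁻¹ ∈ zpowers z) (hx : x ∈ Y)
    (hb : t * x * t⁻¹ * x⁻¹ = b) (bY : b ∈ Y) (b2 : b * b ∈ Uz V z)
    (cov : ∀ w ∈ Y, w ∈ C[Uz V z] ∨ (k⁻¹ * b * k)⁻¹ * w ∈ C[Uz V z] ∨ b⁻¹ * w ∈ C[Uz V z] ∨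
      (k * b * k⁻¹)⁻¹ * w ∈ C[Uz V z])
    (hc : (k * b * k⁻¹)⁻¹ * x ∈ C[Uz V z]) : Y ≤ C{b * b} := by
  have aY := conj_mem' kY bY
  have cY := conj_mem kY bY
  have ti := inv_of_sq t2
  have tb : t * b * t⁻¹ = b⁻¹ := by
    rw [← hb, ti, show t * (t * x * t * x⁻¹) * t = t * t * x * t * x⁻¹ * t by group, t2, mul_inv_rev,
      mul_inv_rev, mul_inv_rev, ti]
    group
  have u1 := tE _ (mul_mem (inv_mem (hY cY)) (hY hx)) hc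
  have hu : k⁻¹ * b * k * b * (k * b * k⁻¹) ∈ Uz V z := by
    have e : t * (k * b * k⁻¹)⁻¹ * t⁻¹ = k⁻¹ * b * k := by
      rw [show t * (k * b * k⁻¹)⁻¹ * t⁻¹ = t * k * t⁻¹ * (t * b * t⁻¹)⁻¹ * (t * k * t⁻¹)⁻¹ by group,
        tk, tb, inv_inv, inv_inv]
    rwa [show t * ((k * b * k⁻¹)⁻¹ * x) * t⁻¹ * ((k * b * k⁻¹)⁻¹ * x)⁻¹ = t * (k * b * k⁻¹)⁻¹ * t⁻¹ *
      (t * x * t⁻¹ * x⁻¹) * (k * b * k⁻¹) by group, e, hb] at u1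
  have a2 : k⁻¹ * b * k * (k⁻¹ * b * k) ∈ Uz V z := by
    have := conj_mem' (h.U_nml.norm hk) b2
    rwa [show k⁻¹ * (b * b) * k = k⁻¹ * b * k * (k⁻¹ * b * k) by group] at this
  have m2 := core h hU (hY aY) (hY bY) (hY cY) hk (by group) rfl hu b2
    fun w hw e => (hY' w hw).2 e aY
  have m1 : k⁻¹ * b * k ∈ C{k⁻¹ * b * k * (k⁻¹ * b * k)} := mem_C1.2 (by group)
  have m0 : C[Uz V z] ≤ C{k⁻¹ * b * k * (k⁻¹ * b * k)} := C_le_C1 a2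
  have m3 : k * b * k⁻¹ ∈ C{k⁻¹ * b * k * (k⁻¹ * b * k)} :=
    (Subgroup.mul_mem_cancel_left _ (mul_mem m1 m2)).1 (m0 (hU.le_C hu))
  have m4 : Y ≤ C{k⁻¹ * b * k * (k⁻¹ * b * k)} := fun w hw => by
    rcases cov w hw with e | e | e | e
    · exact m0 e
    · exact (Subgroup.mul_mem_cancel_left _ (inv_mem m1)).1 (m0 e)
    · exact (Subgroup.mul_mem_cancel_left _ (inv_mem m2)).1 (m0 e)
    · exact (Subgroup.mul_mem_cancel_left _ (inv_mem m3)).1 (m0 e)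
  refine (hY' _ b2).2 ?_
  have := conj_mem (CA.zp_norm₁ z hk) ((hY' _ a2).1 m4)
  convert this using 1
  group

theorem not_mem_Q (h : CA S V z) (hy : y ∈ V) (h1 : y ≠ 1) (h2 : y ≠ z) (ht : t ∈ Uz V y)
    (ht' : t ∉ Qz z) : t ∉ Qz (y * z) := by
  obtain ⟨m, -, -, h'⟩ := other h hy h1
  obtain ⟨x, hx, hx'⟩ := SetLike.not_le_iff_exists.1 h'.Q_not_le
  have e := conj_y h' h.z_mem h.z1 (Ne.symm h2) (QC h' hx) (h'.nml.norm (h'.Q_le_S hx)) hx'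
  rw [H12.ea_comm h.ea hy h.z_mem, ← e, CA.Qz_conj, mem_cj]
  intro hn
  have k := h.V_le_Q (zp_le h' (commQU h' (inv_mem hx) ht))
  rw [inv_inv] at k
  exact ht' (inv_mem_iff.1 ((Subgroup.mul_mem_cancel_left _ hn).1 k))

/-- a lift of `f` inverted by `t` -/
theorem exists_lift (d : MD V z ι ρ) (tC : t ∈ C{z}) (t2 : t * t = 1) {f : Γ}
    (hf : f ∈ F[ρ.range]) (hi : ap ρ t * f * (ap ρ t)⁻¹ = f⁻¹) :
    ∃ k ∈ C{z}, Odd (orderOf k) ∧ ap ρ k = f ∧ t * k * t⁻¹ = k⁻¹ ∧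
      ∀ E : Subgroup G, C{z} ≤ N[E] → t ∈ E → k ∈ E := by
  obtain ⟨c, hc, rfl⟩ := mem_rng.1 (Fitting_le _ hf)
  have cC := mul_mem (conj_mem (le_normalizer hc) tC) (inv_mem tC)
  obtain ⟨k, hk, ko, e⟩ := exists_odd_lift ρ (zpowers_le.2 cC) (mem_zpowers _)
    (d.md.odd hf) (γ := ap ρ c) (by
      rw [ap_mul _ (conj_mem (le_normalizer hc) tC) (inv_mem tC), ap_conj _ hc tC, ap_inv _ tC]
      calc _ = ap ρ c * (ap ρ t * ap ρ c * (ap ρ t)⁻¹)⁻¹ := by group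
        _ = _ := by rw [hi, inv_inv])
  refine ⟨k, zpowers_le.2 cC hk, ko, e, ?_, fun E hE tE =>
    zpowers_le.2 (mul_mem (conj_mem (hE hc) tE) (inv_mem tE)) hk⟩
  obtain ⟨n, rfl⟩ := mem_zpowers_iff.1 hk
  rw [← conj_zpow, ← inv_zpow]
  congr 1
  rw [inv_of_sq t2, show t * (c * t * c⁻¹ * t) * t = t * c * t * c⁻¹ * (t * t) by group, t2,
    mul_inv_rev, mul_inv_rev, mul_inv_rev, inv_of_sq t2]
  group

theorem pigeon {o0 o1 a0 a1 b0 b1 c0 c1 w0 w1 : Prop} (n1 : ¬ ((b0 ↔ c0) ∧ (b1 ↔ c1)))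
    (n2 : ¬ ((a0 ↔ b0) ∧ (a1 ↔ b1))) (n3 : ¬ ((a0 ↔ c0) ∧ (a1 ↔ c1)))
    (n4 : ¬ ((o0 ↔ b0) ∧ (o1 ↔ b1))) (n5 : ¬ ((o0 ↔ a0) ∧ (o1 ↔ a1)))
    (n6 : ¬ ((o0 ↔ c0) ∧ (o1 ↔ c1))) :
    ((o0 ↔ w0) ∧ (o1 ↔ w1)) ∨ ((a0 ↔ w0) ∧ (a1 ↔ w1)) ∨ ((b0 ↔ w0) ∧ (b1 ↔ w1)) ∨
      ((c0 ↔ w0) ∧ (c1 ↔ w1)) := by
  grind

theorem kill (h : CA S V z) (hU : Abl (Uz V z)) (hW : ¬ Abl (Wv V)) (h8 : ♯(Uz V z) ≠ 8)
    (hy : y ∈ V) (h1 : y ≠ 1) (h2 : y ≠ z) (d : MD V z ι ρ)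
    (k4 : ∀ t ∈ img ρ (Uz V y), t ≠ 1 → ι.range ⊓ C{t} ≤ img ι (Dv V) ∧
      ap ι y ∈ ⁅ι.range, zpowers t⁆ ∧ ∀ f ∈ F[ρ.range], t * f * t⁻¹ = f⁻¹)
    (vm : ∀ X ≤ ι.range, X ≠ ⊥ → img ρ (Qz y ⊓ C[V]) ≤ N[X] → ap ι y ∈ X) {f g n₀ n₁ : Γ}
    (hf : f ∈ F[ρ.range]) (hg : g ∈ F[ρ.range]) (f1 : f ≠ 1)
    (fg : ∀ w ∈ ι.range, w ∈ C{f} → w ∈ C{g} → w = 1) (gf : ∀ w ∈ ι.range, g * w * g⁻¹ * w⁻¹ ∈ C{f})
    (hn₀ : n₀ ∈ ι.range) (hn₁ : n₁ ∈ ι.range)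
    (gen : ∀ X : Subgroup Γ, ι.range ⊓ C{f} ≤ X → n₀ ∈ X → n₁ ∈ X → ι.range ≤ X) : False := by
  obtain ⟨m, -, -, h'⟩ := other h hy h1
  have hU' := abl_other h hU hy h1
  have AC : Uz V y ≤ C{z} := (U_le_CV h' hU').trans (CV_le h)
  have UN := h.U_nml.norm
  have QN : C{z} ≤ N[Qz z] := (pcore_nml _ _).norm
  have yU := h.V_le_U hy
  have p' := pf_all h hU hW h8 hy h1 h.z_mem h.z1 (Ne.symm h2)
  obtain ⟨t, ht, ht'⟩ := SetLike.not_le_iff_exists.1 (A_not_le h hU hW hy h1 h2)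
  have tC := AC ht
  have t2 := ea_sq (ea_U h' hU') ht
  obtain ⟨-, k5, k6⟩ := k4 _ (ap_mem_img ρ ht tC) fun e => ht' ((d.ker t tC).1 e)
  have K := fun u (hu : u ∈ Uz V z) => K0 h hy h1 h2 d vm hu
  have Q0N : C{z} ≤ N[Qz z ⊓ C[Uz V z]] := norm_inf QN (norm_C UN)
  have tE : ∀ q ∈ Qz z, q ∈ C[Uz V z] → t * q * t⁻¹ * q⁻¹ ∈ Uz V z := fun q hq hq' => by
    obtain ⟨b, hb, hb'⟩ := SetLike.not_le_iff_exists.1
      (A_not_le h' hU' hW h.z_mem h.z1 (Ne.symm h2))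
    have e1 : t * q * t⁻¹ * q⁻¹ ∈ Uz V y := comm_symm
      (mul_mem (conj_mem (h'.U_nml.norm (C_le_C1 yU hq')) ht) (inv_mem ht))
    have e2 : t * q * t⁻¹ * q⁻¹ ∈ C[Uz V z] :=
      mul_mem (conj_mem (norm_C UN tC) hq') (inv_mem hq')
    refine h.D_le_U₂ (p'.cen b hb hb' _ e1 ?_)
    rw [mem_C1_iff_conj.1 (mem_C1_comm.1 (C_le_C1 hb e2)), mul_inv_cancel]
    exact one_mem _
  obtain ⟨k, hk, ko, rfl, tk, -⟩ := exists_lift d tC t2 hf (k6 f hf)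
  obtain ⟨l, hl, lo, rfl, -, lE⟩ := exists_lift d tC t2 hg (k6 g hg)
  have N0 : Qz z ⊓ C[Uz V z] ≤ N[Uz V z] := inf_le_right.trans (norm_of_cent le_rfl)
  have lE' := ((mem_centQ N0).1 (lE _ (norm_centQ Q0N UN)
    ((mem_centQ N0).2 ⟨UN tC, fun q hq => tE q hq.1 hq.2⟩))).2
  set Y := ⁅Qz z, zpowers k⁆ with hYd
  have hY : Y ≤ Qz z := H3.NG.cm_le fun q hq s hs =>
    comm_symm (mul_mem (conj_mem (QN (zpowers_le.2 hk hs)) hq) (inv_mem hq))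
  have kY : k ∈ N[Y] := norm_comm_right _ _ (mem_zpowers k)
  have tY : t ∈ N[Y] := mem_N_comm1 (QN tC) (norm_zp_inv tk)
  have hY' : ∀ w ∈ Uz V z, Y ≤ C{w} ↔ k * w * k⁻¹ * w⁻¹ ∈ zpowers z := fun w hw =>
    comm_le_C h hk hw K
  have hY'' : ∀ w ∈ Uz V z, Y ≤ C{w} ↔ ap ι w ∈ C{ap ρ k} := fun w hw =>
    (hY' w hw).trans (d.C1 h hk hw).symm
  obtain ⟨x, hx, hx'⟩ : ∃ x ∈ Y, x ∉ C[V] := SetLike.not_le_iff_exists.1 fun e =>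
    f1 (d.F_v h hy h1 h2 _ hf (mem_C1_comm.1 ((hY'' y yU).1 (e.trans (C_le_C1 hy)))))
  have xC := QC h (hY hx)
  obtain ⟨b, hb⟩ : ∃ b, t * x * t⁻¹ * x⁻¹ = b := ⟨_, rfl⟩
  have bY : b ∈ Y := hb ▸ mul_mem (conj_mem tY hx) (inv_mem hx)
  obtain ⟨yz1, yz2, yz3⟩ := yz_ne h hy h1 h2
  have yzV := mul_mem hy h.z_mem
  have xN := h.nml.norm (h.Q_le_S (hY hx))
  have xy := conj_y h hy h1 h2 xC xN hx'
  have b2 : b * b ∈ Dv V ∧ b * b ∉ V := by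
    have e := comm_out h' hU' yzV yz1 yz3 (pf_all h hU hW h8 hy h1 yzV yz1 yz3)
      (pf_all h hU hW h8 yzV yz1 hy h1 yz3.symm) ht (not_mem_Q h hy h1 h2 ht ht') (t := x * t * x⁻¹)
      (by rw [← xy, U_conj xN]; exact conj_mem_cj x ht) (fun e => not_mem_Q h hy h1 h2 ht ht' (by
        have := conj_y h yzV yz1 yz2 xC xN hx'
        rw [mul_assoc y, h.z_sq, mul_one] at this
        rwa [← this, CA.Qz_conj, conj_mem_cj_iff] at e))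
    rwa [show t * (x * t * x⁻¹) * t⁻¹ * (x * t * x⁻¹)⁻¹ = b * b by
      rw [← hb, mul_inv_rev, mul_inv_rev, inv_of_sq t2]; group] at e
  have bU := h.D_le_U₂ b2.1
  have b0 : b ∉ C[Uz V z] := fun e => by
    obtain ⟨w, hw, e'⟩ := (mem_comm1 d.md.ea.1 (d.md.le (ap_rng ρ tC))).1 k5
    obtain ⟨u, hu, rfl⟩ := mem_rng.1 hw
    rw [← sec_comm d.sec UN tC hu] at e'
    have e1 := zp_le_C h xC
      ((sec_eq d.sec (mul_mem (conj_mem (UN tC) hu) (inv_mem hu)) yU).1 e')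
    have e2 := (dual h tC (hY hx) hu).1 (hb ▸ C_le_C1 hu e)
    rw [inv_of_sq t2] at e1 e2
    exact hx' (mem_CV h hy h1 h2 xC
      (mem_C1_comm.1 (inv_mem_iff.1 ((Subgroup.mul_mem_cancel_left _ e2).1 e1))))
  have b3 : ap ι (b * b) ∈ C{ap ρ l} := by
    have e0 : l * b * l⁻¹ * b⁻¹ ∈ Qz z := mul_mem (conj_mem (QN hl) (hY bY)) (inv_mem (hY bY))
    have e1 : l * b * l⁻¹ * b⁻¹ ∈ C[Uz V z] := mem_C_iff_le_C1.2 fun u hu => by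
      have lu := conj_mem' (UN hl) hu
      refine mem_C1_comm.1 ((dual h hl (hY bY) hu).2
        (mem_C1_comm.1 ((hY'' _ (mul_mem lu (inv_mem hu))).2 ?_ bY)))
      have := inv_mem (gf _ (ap_rng ι lu))
      rwa [← sec_comm d.sec UN hl lu, ← ap_inv _ (mul_mem (conj_mem (UN hl) lu) (inv_mem lu)),
        show (l * (l⁻¹ * u * l) * l⁻¹ * (l⁻¹ * u * l)⁻¹)⁻¹ = l⁻¹ * u * l * u⁻¹ by group] at this
    have e2 := odd_fix (UN hl) (UN (QC h (hY bY))) lo ((pcore_pi _ _).piElt e0) (lE' _ ⟨e0, e1⟩)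
    refine (d.C1 h hl bU).2 ?_
    have e3 := commQU h (hY bY) e2
    have e4 := ea_sq (ea_U h hU) e2
    rw [show l * (b * b) * l⁻¹ * (b * b)⁻¹ = (l * b * l⁻¹ * b⁻¹) * (b * (l * b * l⁻¹ * b⁻¹) * b⁻¹ *
      (l * b * l⁻¹ * b⁻¹)⁻¹) * (l * b * l⁻¹ * b⁻¹)⁻¹ * ((l * b * l⁻¹ * b⁻¹) * (l * b * l⁻¹ * b⁻¹)) by
        group, e4, mul_one]
    exact conj_mem (CA.zp_norm₁ z (QC h e0)) e3
  suffices H : Y ≤ C{b * b} from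
    b2.2 (zp_le h ((d.sec.ker _ bU).1 (fg _ (ap_rng ι bU) ((hY'' _ bU).1 H) b3)))
  obtain ⟨u₀, hu₀, rfl⟩ := mem_rng.1 hn₀
  obtain ⟨u₁, hu₁, rfl⟩ := mem_rng.1 hn₁
  have iff0 : ∀ p ∈ Y, ∀ q ∈ Y, p⁻¹ * q ∈ C[Uz V z] ↔
      (p ∈ C{u₀} ↔ q ∈ C{u₀}) ∧ (p ∈ C{u₁} ↔ q ∈ C{u₁}) := fun p hp q hq => by
    rw [← inv_mem_iff (x := p), ← inv_mem_iff (x := p), ← mulQ h (inv_mem (hY hp)) (hY hq) hu₀,
      ← mulQ h (inv_mem (hY hp)) (hY hq) hu₁]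
    refine ⟨fun e => ⟨C_le_C1 hu₀ e, C_le_C1 hu₁ e⟩, fun e => ?_⟩
    have pq := mul_mem (inv_mem hp) hq
    have zK : zpowers z ≤ Uz V z ⊓ C{p⁻¹ * q} :=
      le_inf ((zp_le h).trans h.V_le_U) (zp_le_C h (QC h (hY pq)))
    have := gen (img ι (Uz V z ⊓ C{p⁻¹ * q})) (fun w hw => by
      obtain ⟨u, hu, rfl⟩ := mem_rng.1 hw.1
      exact ap_mem_img ι ⟨hu, mem_C1_comm.1 ((hY'' u hu).2 hw.2 pq)⟩ hu)
      (ap_mem_img ι ⟨hu₀, mem_C1_comm.1 e.1⟩ hu₀) (ap_mem_img ι ⟨hu₁, mem_C1_comm.1 e.2⟩ hu₁)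
    exact mem_C_iff_le_C1.2 fun u hu => (d.mem_of h zK hu (this (ap_rng ι hu))).2
  have mv : ∀ s ∈ C{z}, Odd (orderOf s) → (∀ u ∈ Uz V z, s * u * s⁻¹ * u⁻¹ ∈ zpowers z → b ∈ C{u}) →
      b⁻¹ * (s * b * s⁻¹) ∉ C[Uz V z] := fun s hs so hs' e => b0 (by
    have e' : s * b * s⁻¹ * b⁻¹ ∈ C[Uz V z] := by
      have := conj_mem (norm_C UN (QC h (hY bY))) e
      rwa [show b * (b⁻¹ * (s * b * s⁻¹)) * b⁻¹ = s * b * s⁻¹ * b⁻¹ by group] at this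
    have dp := odd_dp (ea_U h hU) (zpowers_le.2 (UN (inv_mem hs)))
      (pi_of_odd (by rwa [orderOf_inv])).isPi
    refine mem_C_iff_le_C1.2 fun u hu => ?_
    obtain ⟨n, hn, c, hc, rfl⟩ := dp.isProd.mul u hu
    obtain ⟨w, hw, rfl⟩ := (mem_comm1 hU (UN (inv_mem hs))).1 hn
    refine mul_mem ?_ (mem_C1_comm.1 (hs' c hc.1 ?_))
    · rw [inv_inv]; exact (dual h hs (hY bY) hw).1 (C_le_C1 hw e')
    · rw [mem_C1_iff_conj.1 (mem_C1_comm.1 (C_le_C1 (inv_mem_iff.1 (mem_zpowers _)) hc.2)),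
        mul_inv_cancel]
      exact one_mem _)
  have kC := norm_C UN hk
  have aY := conj_mem' kY bY
  have cY := conj_mem kY bY
  have n1 := mv k hk ko fun u hu e => (hY' u hu).2 e bY
  have n2 : (k⁻¹ * b * k)⁻¹ * b ∉ C[Uz V z] := fun e => n1 (by
    convert conj_mem kC e using 1; group)
  have n3 : (k⁻¹ * b * k)⁻¹ * (k * b * k⁻¹) ∉ C[Uz V z] := fun e => by
    have kk := mul_mem hk hk
    refine mv (k * k) kk (by rw [← sq]; exact ko.of_dvd_nat (orderOf_pow_dvd 2)) (fun u hu e => ?_)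
      (by convert conj_mem kC e using 1; group)
    exact (hY'' u hu).2 (mem_C1_comm.1 (mem_pre.1 (mem_of_sq_mem ko (K := pre ρ C{ap ι u})
      (mem_pre.2 ⟨kk, mem_C1_comm.1 ((d.C1 h kk hu).2 e)⟩))).2) bY
  have n4 : 1⁻¹ * b ∉ C[Uz V z] := by rwa [inv_one, one_mul]
  have n5 : 1⁻¹ * (k⁻¹ * b * k) ∉ C[Uz V z] := by rwa [inv_one, one_mul, conj_mem_iff' kC]
  have n6 : 1⁻¹ * (k * b * k⁻¹) ∉ C[Uz V z] := by rwa [inv_one, one_mul, conj_mem_iff kC]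
  have cov : ∀ w ∈ Y, w ∈ C[Uz V z] ∨ (k⁻¹ * b * k)⁻¹ * w ∈ C[Uz V z] ∨ b⁻¹ * w ∈ C[Uz V z] ∨
      (k * b * k⁻¹)⁻¹ * w ∈ C[Uz V z] := fun w hw => by
    rw [← one_mul w, ← inv_one, iff0 _ (one_mem _) _ hw, inv_one, one_mul, iff0 _ aY _ hw,
      iff0 _ bY _ hw, iff0 _ cY _ hw]
    rw [iff0 _ bY _ cY] at n1
    rw [iff0 _ aY _ bY] at n2
    rw [iff0 _ aY _ cY] at n3
    rw [iff0 _ (one_mem _) _ bY] at n4
    rw [iff0 _ (one_mem _) _ aY] at n5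
    rw [iff0 _ (one_mem _) _ cY] at n6
    exact pigeon n1 n2 n3 n4 n5 n6
  rcases cov x hx with e | e | e | e
  · exact absurd (C_anti h.V_le_U e) hx'
  · refine fin h hU hY (inv_mem hk) (inv_mem kY) t2 (by rw [← conj_inv, tk]) tE (fun w hw => ?_) hx hb bY
      bU (fun w hw => ?_) (by rwa [inv_inv])
    · rw [hY'' w hw, ← d.C1 h (inv_mem hk) hw, ap_inv _ hk, mem_C1_comm, mem_C1_comm (x := _⁻¹),
        inv_mem_iff]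
    · rw [inv_inv]
      rcases cov w hw with e | e | e | e
      exacts [Or.inl e, Or.inr (Or.inr (Or.inr e)), Or.inr (Or.inr (Or.inl e)), Or.inr (Or.inl e)]
  · refine absurd ?_ b0
    have e1 := tE _ (mul_mem (inv_mem (hY bY)) (hY hx)) e
    have tb : t * b⁻¹ * t⁻¹ = b := by
      rw [← hb, show t * (t * x * t⁻¹ * x⁻¹)⁻¹ * t⁻¹ = t * x * t * x⁻¹ * (t * t)⁻¹ by group, t2,
        inv_of_sq t2, inv_one, mul_one]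
    rw [show t * (b⁻¹ * x) * t⁻¹ * (b⁻¹ * x)⁻¹ = t * b⁻¹ * t⁻¹ * (t * x * t⁻¹ * x⁻¹) * b by group,
      tb, hb] at e1
    exact hU.le_C ((Subgroup.mul_mem_cancel_left _ bU).1 e1)
  · exact fin h hU hY hk kY t2 tk tE hY' hx hb bY bU cov e

end H1.NG
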