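import Mathlib
import Cfsg.Agent.H2.QDefs
import Cfsg.Agent.H13.DihMain
import Cfsg.Agent.H1.QP2

/-!
# General lemmas for the quasi-dihedral case
-/

set_option autoImplicit false
set_option linter.unusedSectionVars false

namespace H1.QP

open H24 H26 Cfsg Subgroup H13.Dih

universe u

variable {G : Type u} [Group G] [Finite G] {Ω L X : Subgroup G} {t s x : G} {p : ℕ}

theorem inv_cent (hΩ : Odd ♯Ω) (hf : Four t s) (hV : V4 t s ≤ N[Ω]) (h : Ω ⊓ C{t * s} ≤ C{t})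
    (hx : x ∈ Ω) (hi : t * x * t⁻¹ = x⁻¹) : x ∈ C{s} := by
  have tN := hV Four.t_mem
  have sN := hV Four.s_mem
  have t2 := sq_of hf.ht
  have ti := inv_of hf.ht
  have st : s * t = t * s := hf.comm
  obtain ⟨y, hy⟩ : ∃ y, s * x * s⁻¹ = y := ⟨_, rfl⟩
  have yΩ : y ∈ Ω := hy ▸ conj_mem sN hx
  have sy : s * y * s⁻¹ = x := by
    rw [← hy, show s * (s * x * s⁻¹) * s⁻¹ = s * s * x * (s * s)⁻¹ by group, sq_of hf.hs]; group
  have ty : t * y * t⁻¹ = y⁻¹ := by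
    rw [← hy, show t * (s * x * s⁻¹) * t⁻¹ = t * s * x * (t * s)⁻¹ by group, ← st,
      show s * t * x * (s * t)⁻¹ = s * (t * x * t⁻¹) * s⁻¹ by group, hi]; group
  have gΩ := mul_mem yΩ hx
  obtain ⟨n, hn⟩ := mem_zpowers_iff.1 (mem_zpowers_sq (odd_orderOf hΩ gΩ))
  obtain ⟨r, hr⟩ : ∃ r, (y * x) ^ n = r := ⟨_, rfl⟩
  have r2 : r * r = y * x := by rw [← hr, ← Commute.mul_zpow (Commute.refl _), hn]
  have rΩ : r ∈ Ω := hr ▸ zpow_mem gΩ n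
  have e1 : t * s * r * (t * s)⁻¹ = r⁻¹ := by
    rw [← hr, ← conj_zpow, ← inv_zpow]; congr 1
    rw [show t * s * (y * x) * (t * s)⁻¹ = t * (s * y * s⁻¹) * t⁻¹ * (t * (s * x * s⁻¹) * t⁻¹) by group,
      sy, hy, hi, ty, mul_inv_rev]
  have e2 : x⁻¹ * t * r * (x⁻¹ * t)⁻¹ = r⁻¹ := by
    rw [← hr, ← conj_zpow, ← inv_zpow]; congr 1
    rw [show x⁻¹ * t * (y * x) * (x⁻¹ * t)⁻¹ = x⁻¹ * (t * y * t⁻¹) * (t * x * t⁻¹) * x by group, hi, ty]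
    group
  have e3 : r * x⁻¹ ∈ C{t} := h (mem_inf.2 ⟨mul_mem rΩ (inv_mem hx), mem_C1_comm.1 (mem_C1_iff_conj.2 (by
    rw [show t * s * (r * x⁻¹) * (t * s)⁻¹ = t * s * r * (t * s)⁻¹ * (t * (s * x * s⁻¹) * t⁻¹)⁻¹ by
      group, e1, hy, ty, inv_inv, show y = r * r * x⁻¹ by rw [r2]; group]
    group))⟩)
  have e4 : t * (r * x⁻¹) * t⁻¹ = (r * x⁻¹)⁻¹ := by
    rw [show t * (r * x⁻¹) * t⁻¹ = x * (x⁻¹ * t * r * (x⁻¹ * t)⁻¹) * x⁻¹ * (t * x * t⁻¹)⁻¹ by group,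
      e2, hi]
    group
  rw [mem_C1_iff_conj.1 (mem_C1_comm.1 e3)] at e4
  have e5 := eq_one_of_inv_eq (odd_orderOf hΩ (mul_mem rΩ (inv_mem hx))) e4.symm
  rw [mul_inv_eq_one] at e5
  rw [e5, mul_left_inj] at r2
  exact mem_C1_comm.1 (mem_C1_iff_conj.2 (hy.trans r2.symm))

theorem gwc (hΩ : Odd ♯Ω) (hf : Four t s) (hV : V4 t s ≤ N[Ω]) (h : Ω ⊓ C{t * s} ≤ C{t}) :
    ⁅Ω, zpowers t⁆ ≤ C{s} ∧ ⁅Ω, zpowers t⁆ ≤ C[⁅Ω, zpowers s⁆] := by
  have h1 : ⁅Ω, zpowers t⁆ ≤ C{s} := commutator_le.2 fun w hw a ha => by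
    rcases (mem_zpowers_of_sq (sq_of hf.ht)).1 ha with rfl | rfl
    · simp
    refine inv_cent hΩ hf hV h (comm_le_left (zpowers_le.2 (hV Four.t_mem))
      (commutator_mem_commutator hw ha)) ?_
    rw [commutatorElement_def, show a * (w * a * w⁻¹ * a⁻¹) * a⁻¹ = a * w * a * w⁻¹ * (a * a)⁻¹ by group,
      sq_of hf.ht, mul_inv_rev, mul_inv_rev, mul_inv_rev, inv_of hf.ht, inv_inv, inv_one, mul_one,
      inv_of hf.ht, mul_assoc, mul_assoc]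
  refine ⟨h1, cents_symm (commutator_le.2 fun w hw a ha => ?_)⟩
  have h2 : a ∈ C[⁅Ω, zpowers t⁆] := zpowers_le.2 (mem_C_iff_le_C1.2 h1) ha
  exact mul_mem (conj_mem (norm_C (norm_comm_left _ _) hw) h2) (inv_mem h2)

theorem le_pcore_of_odd (ht : orderOf t = 2) (htL : t ∈ L) (hp : p.Prime) (hX : IsPi {p} X)
    (hXL : X ≤ O[{2}ᶜ, L]) (htX : t ∈ N[X]) (hXt : X ≤ ⁅X, zpowers t⁆)
    (hN : O[{2}ᶜ, L] ⊓ C{t} ≤ N[X]) : X ≤ O[{p}, L] := by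
  have hK := pcore_nml {2}ᶜ L
  have hKo := odd_pcore L
  have htK := hK.norm htL
  set K := O[{2}ᶜ, L]
  refine le_trans ?_ (hK.pcore_le {p})
  have hP := pcore_nml {p} K
  have htP : t ∈ N[O[{p}, K]] := N_le_N_pcore _ _ htK
  have hPo := odd_of_le hKo hP.le
  rw [← quo_eq_bot (hXL.trans hP.norm)]
  refine lemB_odd (odd_quo hKo _) (pcore_quo_pcore _ K) (two_cs hPo ht htP) (cs_mem_N htK htP) hp
    (hX.quo _) (quo_mono _ hXL) (cs_mem_N htX htP) ?_ ?_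
  · rw [← quo_zpowers htP, ← quo_comm (hXL.trans hP.norm) (zpowers_le.2 htP)]
    exact quo_mono _ hXt
  · rw [← quo_C1 hPo ht htP hP.le]
    exact quo_norm _ hN

theorem gw_res (hG : CD G) (hs : ¬ Sol L) : GW (res L) := by
  refine gw_of_cd (hG.subgroup _) ?_ fun e => res_ne_bot hs ?_
  · apply map_injective (res L).subtype_injective
    rw [map_commutator, map_subtype_top, res_perfect]
  · rw [← map_subtype_top (res L), e, Subgroup.map_bot]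

theorem lemB_G (hG : CD G) (ht : orderOf t = 2) (htL : t ∈ L) (hp : p.Prime) (hp2 : p ≠ 2)
    (hX : IsPi {p} X) (hXL : X ≤ L) (hXt : X ≤ ⁅X, zpowers t⁆) (hN : L ⊓ C{t} ≤ N[X]) :
    X ≤ O[{p}, L] := by
  have hK := pcore_nml {2}ᶜ L
  have hKo := odd_pcore L
  have htK := hK.norm htL
  refine le_pcore_of_odd ht htL hp hX ?_ (hN ⟨htL, self_mem_C1 t⟩) hXt
    ((inf_le_inf_right _ hK.le).trans hN)
  rw [← quo_eq_bot (hXL.trans hK.norm)]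
  refine lemB_bar (hG.qn _) (pcore_quo_pcore _ L) (gw_res (hG.qn _))
    (two_cs hKo ht htK) (cs_mem_quo htL htK) hp hp2 (hX.quo _) (quo_mono _ hXL) ?_ ?_
  · rw [← quo_zpowers htK, ← quo_comm (hXL.trans hK.norm) (zpowers_le.2 htK)]
    exact quo_mono _ hXt
  · rw [← quo_C1 hKo ht htK hK.le]
    exact quo_norm _ hN

theorem lemB_cd (hL : CD L) (ht : orderOf t = 2) (htL : t ∈ L) (hp : p.Prime) (hp2 : p ≠ 2)
    (hX : IsPi {p} X) (hXL : X ≤ L) (hXt : X ≤ ⁅X, zpowers t⁆) (hN : L ⊓ C{t} ≤ N[X]) :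
    X ≤ O[{p}, L] := by
  have e : (zpowers t).subgroupOf L = zpowers ⟨t, htL⟩ := map_injective L.subtype_injective (by
    rw [map_subgroupOf' (zpowers_le.2 htL), MonoidHom.map_zpowers]; rfl)
  have := lemB_G (L := ⊤) (X := X.subgroupOf L) (t := ⟨t, htL⟩) hL
    ((Subgroup.orderOf_mk _ _).trans ht) (mem_top _) hp hp2 (isPi_subgroupOf hX L) le_top
    (by rw [← e, ← subgroupOf_comm hXL (zpowers_le.2 htL)]; exact subgroupOf_mono _ hXt)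
    fun g hg => mem_N_of_finite fun x hx => mem_subgroupOf.2 (conj_mem (hN
      ⟨g.2, mem_C1.2 (congrArg Subtype.val (mem_C1.1 hg.2))⟩) (mem_subgroupOf.1 hx))
  rwa [← le_map_subtype_iff hXL, ← pcore_map_subtype, map_subtype_top] at this

theorem k3 {P : Subgroup G} {k : ℕ} {y : G} (hp : p.Prime) (h2 : p ≠ 2) (hP : IsPi {p} P)
    (hy : y ∈ N[P])
    (hk : ∀ j : ℕ, ¬ k ∣ j → ∀ x ∈ P, y ^ j * x * (y ^ j)⁻¹ * x⁻¹ ∈ Phi P → x ∈ Phi P)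
    {θ : ↥(P ⊔ zpowers y) → ℂ} (hθ : IsCharacter (P ⊔ zpowers y : Subgroup G) θ) {d : ℕ} (hd : θ 1 = d)
    (hne : ∃ x : ↥(P ⊔ zpowers y), (x : G) ∈ P ∧ θ x ≠ θ 1) :
    3 * k ≤ 4 * d ∧ (Odd k → k ≤ d) := by
  obtain ⟨n, ρ, rfl⟩ := hθ
  have := Fintype.ofFinite P
  have e : d = Module.finrank ℂ (Fin n → ℂ) := by
    rw [Representation.char_one] at hd; exact_mod_cast hd.symm
  let σ : MulAut P := P.normalizerMonoidHom ⟨y, hy⟩
  have hσ : ∀ (j : ℕ) (x : P), ((σ ^ j) x : G) = y ^ j * x * (y ^ j)⁻¹ := fun j x => by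
    rw [← map_pow]; rfl
  have mΦ : ∀ {x : P}, x ∈ frattini P ↔ x.1 ∈ Phi P := by simp [Phi]
  rw [e]
  refine H1.HH.key (ρ := MonoidHom.comp ρ (inclusion le_sup_left)) (σ := σ)
    (c := ρ ⟨y, mem_sup_right (mem_zpowers y)⟩) hp h2 ((isPi_iff_isPGroup hp).1 hP)
    ((Group.isUnit _).map ρ) (fun x => ?_) (fun j hj N hN => ?_) ?_
  · rw [MonoidHom.comp_apply, MonoidHom.comp_apply, ← map_mul, ← map_mul]
    congr 1
    exact Subtype.ext (by simpa using mul_inv_eq_iff_eq_mul.1 (hσ 1 x).symm |>.symm)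
  · refine frattini_nongenerating ((H1.HH.fpf_iff (σ ^ j) (frattini P)
      (fun a b => mΦ.2 (hP.der1_le_Phi hp (commutator_mem_commutator a.2 b.2)))
      fun a ha => mΦ.2 ?_).1 (fun x hx => mΦ.2 (hk j hj x x.2 (by rw [← hσ]; exact mΦ.1 hx))) _
      le_sup_right fun x => mem_sup_left (hN x))
    rw [hσ]
    exact conj_mem (pow_mem (norm_Phi (zpowers_le.2 hy) (mem_zpowers y)) j) (mΦ.1 ha)
  · obtain ⟨x, hx, hx'⟩ := hne
    refine ⟨⟨x, hx⟩, fun e => hx' ?_⟩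
    have : ρ x = 1 := e
    simp only [Representation.character, this, map_one]

theorem cover {Γ : Type} [Group Γ] [Finite Γ] {D Y : Subgroup G} (κ : D →* Γ) (hp : p.Prime)
    {X : Subgroup Γ} {z : Γ} (hX : IsElementaryAbelian p X) (hz : z ∈ N[X])
    (hz' : ¬ p ∣ orderOf z) (h1 : X ≤ img κ Y) (h2 : z ∈ img κ Y) :
    ∃ P ≤ Y ⊓ D, ∃ y ∈ Y ⊓ D, IsPi {p} P ∧ img κ P = X ∧ P ⊓ pre κ ⊥ = Phi P ∧ y ∈ N[P] ∧
      ap κ y = z ∧ ∀ r, r.Prime → r ∣ orderOf y → r ∣ orderOf z := by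
  obtain ⟨P₀, hP⟩ := Sylow_exists hp (Y ⊓ pre κ X)
  have l1 : ∀ Z, Y ⊓ pre κ Z ≤ Y ⊓ D := fun Z => inf_le_inf_left _ (pre_le κ Z)
  have l0 := hP.le.trans (l1 X)
  have e0 : img κ P₀ = X := by
    have := hP.img κ ((l1 X).trans inf_le_right)
    rw [img_inf_pre, inf_eq_right.2 h1] at this
    exact this.eq_self (H25.Cfsg.IsElementaryAbelian.isPi hX hp)
  obtain ⟨y₀, a, b, rfl⟩ := mem_img.1 h2
  obtain ⟨c, hc, n, hn, rfl⟩ := (Frattini_arg hp (M := Y ⊓ pre κ N[X]) ⟨inf_le_inf_left _ (pre_mono κ le_normalizer),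
    norm_inf (norm_of_le inf_le_left) (inf_le_right.trans (pre_norm κ le_rfl))⟩ hP).mul y₀
    ⟨a, mem_pre.2 ⟨b, hz⟩⟩
  obtain ⟨q, hq, qD, e⟩ := mem_img.1 (e0.ge (mem_pre.1 hc.2).2)
  have nD := (l1 _ hn.1).2
  let π : Set ℕ := {r | r ∣ orderOf (ap κ (c * n))}
  have m1 : constt π (q * n) ∈ Y ⊓ D := constt_mem _ (mul_mem (l0 hq) (l1 _ hn.1))
  have m2 : constt π (q * n) ∈ N[P₀] := constt_mem _ (mul_mem (le_normalizer hq) hn.2)
  have m3 : ap κ (constt π (q * n)) = ap κ (c * n) := by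
    rw [constt_ap _ _ (mul_mem qD nD), ap_mul _ qD nD, e, ← ap_mul _ (l1 _ hc).2 nD]
    exact constt_eq_self fun r _ hr => hr
  have m4 := piElt_constt π (q * n)
  set y := constt π (q * n)
  obtain ⟨P, l2, ⟨n1, e1⟩, hm⟩ := exists_min (P := fun P => y ∈ N[P] ∧ img κ P = X) ⟨m2, e0⟩
  have pP := hP.pi.of_le l2
  have PD := (l2.trans l0).trans inf_le_right
  have hΦ := Phi_nml P
  have yΦ := norm_Phi (zpowers_le.2 n1)
  refine ⟨P, l2.trans l0, y, m1, pP, e1, le_antisymm ?_ (le_inf hΦ.le ?_), n1, m3, m4⟩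
  · obtain ⟨W, hW, nW⟩ := Maschke_abelem hp (Phi_quo_elem hp pP) (A := quo (zpowers y) (Phi P))
      (IsPi.quo (PiElt.isPi fun r hr h3 (e : r = p) => hz' (e ▸ m4 r hr h3)) _)
      (quo_mono _ (inf_le_left : P ⊓ pre κ ⊥ ≤ P)) (quo_norm _ (zpowers_le.2 n1))
      (quo_norm _ (norm_inf (zpowers_le.2 n1) ((zpowers_le.2 m1.2).trans (ker_nml κ).norm)))
    have l3 := coq_le_of_le_quo hΦ hW.right_le
    have e2 := hm _ ⟨norm_coq yΦ nW (mem_zpowers y), le_antisymm (e1 ▸ img_mono κ l3) (by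
      rw [← e1, img_le_img_iff PD (l3.trans PD)]
      refine hΦ.coq_quo.ge.trans ?_
      rw [← hW.sup, coq_sup, coq_quo (inf_le_left.trans hΦ.norm)]
      exact sup_le (sup_le (inf_le_right.trans le_sup_right) ((le_coq _).trans le_sup_left))
        le_sup_left)⟩ l3
    rw [← quo_eq_bot (inf_le_left.trans hΦ.norm), ← hW.inf, eq_comm, inf_eq_left, ← quo_coq W, e2]
    exact quo_mono _ inf_le_left
  · rw [← img_eq_bot (hΦ.le.trans PD), img_Phi hp pP κ PD, e1, Phi_eq_bot_of_elem hp hX]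

end H1.QP
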