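import Mathlib
import Cfsg.Agent.H2.QDefs
import Cfsg.Agent.H3.Transfer

/-!
# The odd part of the Schur multiplier of `PSL₂(q)`
-/

set_option autoImplicit false
set_option linter.unusedSectionVars false

namespace H1.QS

open H24 H26 Cfsg Subgroup H16 H0.WM Polynomial
open scoped MatrixGroups

universe u

variable {G : Type u} [Group G] [Finite G] {F : Type} [Field F] [Finite F]

theorem steinberg {b : F → F → G} (h1 : ∀ x x' y, b (x + x') y = b x y * b x' y)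
    (h2 : ∀ x y y', b x (y + y') = b x y * b x y') {ν : F} (h0 : ν ≠ 0)
    (h3 : ∀ x y, b (ν * x) (ν * y) = b x y) (h4 : ∀ x y, b ((1 + ν) * x) ((1 + ν) * y) = b x y)
    (h5 : ν ^ 2 + ν + 1 ≠ 0) (x y : F) : b x y = 1 := by
  have k : ∀ y, b x ((ν + ν⁻¹ + 1) * y) = 1 := fun y => by
    have e := h4 x y
    rw [add_mul, add_mul, one_mul, one_mul, h1, h2, h2, h3, mul_assoc, mul_eq_left,
      ← mul_inv_cancel_left₀ h0 y, h3, mul_inv_cancel_left₀ h0] at e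
    rw [add_mul, add_mul, one_mul, h2, h2, mul_assoc, e]
  have h6 : ν + ν⁻¹ + 1 ≠ 0 := fun e => h5 (by
    rw [← zero_mul ν, ← e]; field_simp; ring)
  simpa [mul_inv_cancel_left₀ h6] using k ((ν + ν⁻¹ + 1)⁻¹ * y)

theorem prime_case {b : F → F → G} (h1 : ∀ x x' y, b (x + x') y = b x y * b x' y)
    (h2 : ∀ x y y', b x (y + y') = b x y * b x y') (h0 : ∀ x, b x x = 1) (hp : (Nat.card F).Prime)
    (x y : F) : b x y = 1 := by
  have := Fact.mk hp
  obtain ⟨g, hg⟩ := (isAddCyclic_of_prime_card (α := F) rfl).exists_generator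
  have k : ∀ (c : F → G), (∀ x y, c (x + y) = c x * c y) → c g = 1 → ∀ x, c x = 1 := fun c hc h x => by
    obtain ⟨n, rfl⟩ := mem_multiples_iff_mem_zmultiples.2 (hg x)
    induction n with
    | zero => simpa using hc 0 0
    | succ n ih => simp only [succ_nsmul] at ih ⊢; rw [hc, h, mul_one]; exact ih
  exact k (b · y) (fun x x' => h1 x x' y) (k _ (h2 g) (h0 g) y) x

theorem exists_nu (hq : 4 < Nat.card F) : ∃ ν : F, ν ≠ 0 ∧ 1 + ν ≠ 0 ∧ ν ^ 2 + ν + 1 ≠ 0 := by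
  have := Fintype.ofFinite F
  by_contra! h
  have e := eq_zero_of_natDegree_lt_card_of_eval_eq_zero (X * ((1 + X) * (X ^ 2 + X + 1)) : Polynomial F)
    Function.injective_id (fun i => by
      by_cases h0 : i = 0
      · simp [h0]
      by_cases h1 : 1 + i = 0
      · simp [h1]
      simp [h i h0 h1]) (lt_of_le_of_lt (by compute_degree) (Nat.card_eq_fintype_card (α := F) ▸ hq))
  simpa using congrArg (eval 0) ((mul_eq_zero.1 e).resolve_left X_ne_zero)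

theorem exists_nu_sq (h2 : (2 : F) ≠ 0) (hq : 13 < Nat.card F) :
    ∃ a c : F, a ≠ 0 ∧ c ≠ 0 ∧ 1 + a * a = c * c ∧ (a * a) ^ 2 + a * a + 1 ≠ 0 := by
  have := Fintype.ofFinite F
  by_contra! h
  have e := eq_zero_of_natDegree_lt_card_of_eval_eq_zero (X * ((1 - X ^ 2) * (1 + X ^ 2) *
    ((1 - X ^ 2) ^ 4 + (1 - X ^ 2) ^ 2 * (C 2 * X) ^ 2 + (C 2 * X) ^ 4)) : Polynomial F)
    Function.injective_id (fun i => by
      by_cases h0 : i = 0
      · simp [h0]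
      by_cases h1 : 1 - i ^ 2 = 0
      · simp [h1]
      by_cases h3 : 1 + i ^ 2 = 0
      · simp [h3]
      have := h ((1 - i ^ 2) / (2 * i)) ((1 + i ^ 2) / (2 * i)) (by simp [*]) (by simp [*])
        (by field_simp; ring)
      field_simp at this
      simp only [eval_mul, eval_add, eval_sub, eval_pow, eval_X, eval_C, eval_one, id]
      linear_combination i * (1 - i ^ 2) * (1 + i ^ 2) * this)
    (lt_of_le_of_lt (by compute_degree) (Nat.card_eq_fintype_card (α := F) ▸ hq))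
  simpa using congrArg (eval 0) ((mul_eq_zero.1 e).resolve_left X_ne_zero)

theorem card_cases (h2 : (2 : F) ≠ 0) : (Nat.card F).Prime ∨ Nat.card F = 9 ∨ 13 < Nat.card F := by
  have := Fintype.ofFinite F
  have h1 := FiniteField.odd_card_of_char_ne_two (F := F) fun e => h2 (by
    rw [← Nat.cast_ofNat, ← e]; exact ringChar.Nat.cast_ringChar)
  have h3 := Fintype.one_lt_card (α := F)
  rw [Nat.card_eq_fintype_card]
  by_contra! h
  obtain ⟨h4, h5, h6⟩ := h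
  interval_cases Fintype.card F <;> simp_all (config := { decide := true })

theorem eq_one_of_abl {J P : Subgroup G} {r : ℕ} (hJ : ⁅J, J⁆ = J) (hP : Syl r J P)
    (hA : Abl P) {z : G} (hz : z ∈ P) (hc : z ∈ C[J]) : z = 1 := by
  have h1 : commutator J = ⊤ := map_injective J.subtype_injective (by
    rw [map_subtype_commutator, hJ, map_subtype_top])
  have h2 := H3.abelian_hall_inf_commutator_inf_center (hA.subgroupOf J)
    (by rw [card_subgroupOf_of_le hP.le]; exact hP.coprime)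
  have h3 : (⟨z, hP.le hz⟩ : J) ∈ (⊥ : Subgroup J) := h2 ▸ ⟨⟨hz, h1 ▸ mem_top _⟩,
    mem_center_iff.2 fun g => Subtype.ext (mem_C.1 hc g g.2)⟩
  exact congrArg Subtype.val (mem_bot.1 h3)

variable [DecidableEq F]

theorem core (h2 : (2 : F) ≠ 0) {Γ : Type} [Group Γ] [Finite Γ] {ι : PGL(2, F) →* Γ}
    (hι : Function.Injective ι) {D J : Subgroup G} (κ : D →* Γ) (hD : J ≤ D) (hJ : ⁅J, J⁆ = J)
    (him : img κ J = (PB F).map ι) (hZ : J ⊓ pre κ ⊥ ≤ C[J]) {r : ℕ} (hr : r.Prime) (hr2 : r ≠ 2)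
    (hd : r ∣ ♯(J ⊓ pre κ ⊥)) : r = ringChar F ∧ Nat.card F = 9 ∧
      ∀ s ∈ D, s ∈ N[J] → s ∈ C[J ⊓ pre κ ⊥] → ap κ s ∈ ι.range → ap κ s ∈ (PB F).map ι := by
  obtain ⟨z, hz, ho⟩ := exists_orderOf_eq hr hd
  obtain ⟨P, hP, hzP⟩ := Sylow_superset hr (isPi_of_card_prime hr ((card_zpowers' z).trans ho))
    (zpowers_le.2 hz.1)
  have hA : ¬ Abl P := fun h => hr.one_lt.ne' (by
    rw [← ho, eq_one_of_abl hJ hP h (hzP (mem_zpowers z)) (hZ hz), orderOf_one])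
  have PD := hP.le.trans hD
  have l1 : img κ P ≤ ι.range := (img_mono κ hP.le).trans (him ▸ map_le_range _ _)
  have c1 : ♯((img κ P).comap ι) = ♯(img κ P) := by
    conv_rhs => rw [← map_comap_eq_self l1]
    exact (card_map_of_injective hι).symm
  have p1 := hP.pi.img κ
  have mZ : ∀ {a c}, a ∈ J → c ∈ J → ap κ a = ap κ c → a * c⁻¹ ∈ J ⊓ pre κ ⊥ := fun ha hc e =>
    mem_inf.2 ⟨mul_mem ha (inv_mem hc), mem_pre_bot.2 ⟨hD (mul_mem ha (inv_mem hc)), by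
      rw [ap_mul _ (hD ha) (hD (inv_mem hc)), ap_inv _ (hD hc), e, mul_inv_cancel]⟩⟩
  have cm : ∀ {a a' c c'}, a ∈ J → a' ∈ J → c ∈ J → c' ∈ J → ap κ a = ap κ a' → ap κ c = ap κ c' →
      a * c * a⁻¹ * c⁻¹ = a' * c' * a'⁻¹ * c'⁻¹ := fun {a a' c c'} ha ha' hc hc' e e' => by
    have k1 := mem_C.1 (hZ (mZ ha ha' e))
    have k2 := mem_C.1 (hZ (mZ hc hc' e'))
    rw [← inv_mul_cancel_right a a', ← inv_mul_cancel_right c c']
    have hv := mul_mem hc (inv_mem hc')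
    generalize a * a'⁻¹ = u at *
    generalize c * c'⁻¹ = v at *
    calc _ = u * (a' * v) * c' * a'⁻¹ * u⁻¹ * c'⁻¹ * v⁻¹ := by group
      _ = u * (v * (a' * c' * a'⁻¹)) * u⁻¹ * c'⁻¹ * v⁻¹ := by rw [k2 a' ha']; group
      _ = v * (a' * c' * a'⁻¹ * c'⁻¹) * v⁻¹ := by
        rw [← k1 _ (mul_mem hv (conj_mem (le_normalizer ha') hc'))]; group
      _ = _ := by rw [← k2 _ (mul_mem (conj_mem (le_normalizer ha') hc') (inv_mem hc'))]; group
  have hp : r = ringChar F := by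
    by_contra hp
    have hc : Cyc (img κ P) := map_comap_eq_self l1 ▸ Cyc.map (cyc_of_odd _
      (by rw [c1]; exact H13.Dih.odd_of_pi hr2 p1) (by
        rw [c1]; exact fun e => hp (p1 _ factChar.out e).symm)) ι
    obtain ⟨g, hg', e⟩ := hc.exists_gen
    obtain ⟨g, hg, gD, rfl⟩ := mem_img.1 hg'
    refine hA (abl_iff.2 (le_C_iff.2 fun a ha c hc => ?_))
    obtain ⟨m, hm⟩ := mem_zpowers_iff.1 (e.ge (ap_mem_img κ ha (PD ha)))
    obtain ⟨n, hn⟩ := mem_zpowers_iff.1 (e.ge (ap_mem_img κ hc (PD hc)))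
    have := cm (hP.le ha) (hP.le (zpow_mem hg m)) (hP.le hc) (hP.le (zpow_mem hg n))
      (by rw [ap_zpow _ gD, hm]) (by rw [ap_zpow _ gD, hn])
    rwa [zpow_mul_comm g m n, mul_inv_cancel_right, mul_inv_cancel, mul_inv_eq_one,
      mul_inv_eq_iff_eq_mul] at this
  subst hp
  obtain ⟨w, hw⟩ : ∃ w, (img κ P).comap ι ≤ Ux w := by
    by_cases h0 : (img κ P).comap ι = ⊥
    · exact ⟨OnePoint.infty, h0 ▸ bot_le⟩
    · exact le_Ux _ (IsPi.isPGroup hr (by rwa [IsPi, c1])) h0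
  obtain ⟨c, rfl⟩ := exists_std1 w
  have lift : ∀ g ∈ PB F, ∃ a ∈ J, ap κ a = ι g := fun g hg =>
    (mem_img_of_le hD).1 (him ▸ mem_map_of_mem ι hg)
  choose l lJ hl using fun x : F => lift _ (Ux_le h2 _ (mem_Ux_std.2 ⟨x, rfl⟩ : _ ∈ Ux (c • _)))
  have ladd : ∀ x y, ap κ (l (x + y)) = ap κ (l x * l y) := fun x y => by
    rw [ap_mul _ (hD (lJ x)) (hD (lJ y)), hl, hl, hl, ← map_mul, transl_add]; congr 1; group
  let b : F → F → G := fun x y => l x * l y * (l x)⁻¹ * (l y)⁻¹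
  have bZ : ∀ x y, b x y ∈ J ⊓ pre κ ⊥ := fun x y => by
    have := mZ (mul_mem (lJ x) (lJ y)) (mul_mem (lJ y) (lJ x)) (by rw [← ladd, ← ladd, add_comm])
    rwa [mul_inv_rev, ← mul_assoc] at this
  have b1 : ∀ x x' y, b (x + x') y = b x y * b x' y := fun x x' y => by
    refine (cm (lJ _) (mul_mem (lJ x') (lJ x)) (lJ y) (lJ y) (by rw [add_comm, ladd]) rfl).trans ?_
    rw [show l x' * l x * l y * (l x' * l x)⁻¹ * (l y)⁻¹ = l x' * b x y * (l x')⁻¹ * b x' y by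
      simp only [b]; group, mem_C.1 (hZ (bZ x y)) _ (lJ x'), mul_inv_cancel_right]
  have b2 : ∀ x y y', b x (y + y') = b x y * b x y' := fun x y y' => by
    refine (cm (lJ x) (lJ x) (lJ _) (mul_mem (lJ y) (lJ y')) rfl (ladd _ _)).trans ?_
    rw [show l x * (l y * l y') * (l x)⁻¹ * (l y * l y')⁻¹ = b x y * (l y * b x y' * (l y)⁻¹) by
      simp only [b]; group, mem_C.1 (hZ (bZ x y')) _ (lJ y), mul_inv_cancel_right]
  have b3 : ∀ a : Fˣ, ∀ d ∈ D, d ∈ N[J] → d ∈ C[J ⊓ pre κ ⊥] → ap κ d = ι (c * dil a * c⁻¹) →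
      ∀ x y, b (a * x) (a * y) = b x y := fun a d dD dN dC e x y => by
    have k : ∀ x, ap κ (l (a * x)) = ap κ (d * l x * d⁻¹) := fun x => by
      rw [ap_conj _ dD (hD (lJ x)), hl, hl, e, ← map_inv, ← map_mul, ← map_mul,
        ← mul_inv_eq_iff_eq_mul.2 (dil_mul_transl a x)]
      congr 1; group
    refine (cm (lJ _) (conj_mem dN (lJ x)) (lJ _) (conj_mem dN (lJ y)) (k x) (k y)).trans ?_
    rw [← conj_eq_of_mem_C dC (bZ x y)]
    simp only [b]; group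
  have b4 : ∀ a : Fˣ, c * dil a * c⁻¹ ∈ PB F → ∀ x y, b (a * x) (a * y) = b x y := fun a ha =>
    let ⟨d, dJ, e⟩ := lift _ ha
    b3 a d (hD dJ) (le_normalizer dJ) (cents_symm hZ dJ) e
  have key : ¬ ∀ x y, b x y = 1 := fun h => hA (abl_iff.2 (le_C_iff.2 fun a ha a' ha' => by
    obtain ⟨g, hg⟩ := l1 (ap_mem_img κ ha (PD ha))
    obtain ⟨g', hg'⟩ := l1 (ap_mem_img κ ha' (PD ha'))
    obtain ⟨x, rfl⟩ := mem_Ux_std.1 (hw (mem_comap.2 (hg ▸ ap_mem_img κ ha (PD ha))))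
    obtain ⟨y, rfl⟩ := mem_Ux_std.1 (hw (mem_comap.2 (hg' ▸ ap_mem_img κ ha' (PD ha'))))
    have := (cm (hP.le ha) (lJ x) (hP.le ha') (lJ y) (by rw [hl, hg]) (by rw [hl, hg'])).trans (h x y)
    rwa [mul_inv_eq_one, mul_inv_eq_iff_eq_mul] at this))
  have h9 : Nat.card F = 9 := by
    rcases card_cases h2 with h | h | h
    · exact absurd (prime_case b1 b2 (fun x => by simp [b]) h) key
    · exact h
    obtain ⟨a, e, a0, e0, h3, h4⟩ := exists_nu_sq h2 h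
    have k : ∀ a : F, a ≠ 0 → ∀ x y, b (a * a * x) (a * a * y) = b x y := fun a ha =>
      b4 (Units.mk0 a ha * Units.mk0 a ha)
        (normal_PB.conj_mem _ (by rw [dil_mul]; exact sq_mem_PB _) c)
    exact absurd (steinberg b1 b2 (mul_ne_zero a0 a0) (k a a0) (h3 ▸ k e e0) h4) key
  refine ⟨rfl, h9, fun s sD sN sC ⟨g, hg⟩ => by_contra fun hn => ?_⟩
  have k : ∀ a : F, a ≠ 0 → ∀ x y, b (a * x) (a * y) = b x y := fun a ha => by
    by_cases h : c * dil (Units.mk0 a ha) * c⁻¹ ∈ PB F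
    · exact b4 _ h
    obtain ⟨d, dJ, e⟩ := lift _ (mul_mem_PB h (mt (inv_mem_iff (x := g)).1
      fun e => hn (hg ▸ mem_map_of_mem ι e)))
    exact b3 (Units.mk0 a ha) (d * s) (mul_mem (hD dJ) sD) (mul_mem (le_normalizer dJ) sN)
      (mul_mem (cents_symm hZ dJ) sC) (by
        rw [ap_mul _ (hD dJ) sD, e, ← hg, ← map_mul, inv_mul_cancel_right])
  obtain ⟨ν, h3, h4, h5⟩ := exists_nu (F := F) (by omega)
  exact key (steinberg b1 b2 h3 (k ν h3) (k _ h4) h5)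

end H1.QS
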