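import Mathlib
import Cfsg.Agent.H1.QTGen
import Cfsg.Agent.H29.Ext

/-! Elementary abelian subgroups of order `p ^ 2` from words in a permutation network model. -/

set_option autoImplicit false
set_option linter.all false

namespace H1.QT

open H16.QT H29 Subgroup

/-- The test: `u ^ p = v ^ p = [u, v] = 1`, `u ≠ 1` and `v ≠ u ^ i`. -/
noncomputable def chkNC (K k : ℕ) (nets : ℕ → Net) (p : ℕ) (u v : List ℕ) : Bool :=
  and2 (allN k fun j => and2 (chkEq K k nets (powW p u) [] j)
      (and2 (chkEq K k nets (powW p v) [] j) (chkEq K k nets (u ++ v) (v ++ u) j)))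
    (and2 (not (Nat.beq (pullW nets u (idK K k 0)) (pullW nets [] (idK K k 0))))
      (allN p fun i => not (Nat.beq (pullW nets v (idK K k 0)) (pullW nets (powW i u) (idK K k 0)))))

theorem pullW_congr {K : ℕ} {nets : ℕ → Net} (hn : NetsOK K nets) {u v : List ℕ}
    (h : ev (sg nets) u = ev (sg nets) v) (x : ℕ) : pullW nets u x = pullW nets v x :=
  Nat.eq_of_testBit_eq fun i => by rw [testBit_pullW hn, testBit_pullW hn, h]

theorem nc_of_nets {G : Type*} [Group G] {e : ℕ → G} {ρ : G →* Equiv.Perm ℕ} {nets : ℕ → Net}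
    {K k N p : ℕ} (hp : 0 < p) (hn : NetsOK K nets) (hK : K ≤ 2 ^ k)
    (hρ : ∀ c, ρ (e c) = sg nets c) (hf : ∀ g : G, (∀ i < N, ρ g i = i) → g = 1)
    (u v : List ℕ) (h : chkNC K k nets p u v = true) : NC p G := by
  simp only [chkNC, and2_true, allN_true, Bool.not_eq_true'] at h
  obtain ⟨h1, h2, h3⟩ := h
  have inj : Function.Injective ρ := (injective_iff_map_eq_one ρ).2 fun g hg =>
    hf g fun i _ => by rw [hg]; rfl
  have m : ∀ w, ρ (ev e w) = ev (sg nets) w := fun w => map_ev_sg fun c _ => hρ c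
  have eq : ∀ a b : List ℕ, (∀ j < k, chkEq K k nets a b j = true) → ev e a = ev e b :=
    fun a b hab => inj (by
      rw [m, m]; exact ev_eq_of_planeEq hn hK fun j hj => chkEq_sound hn hK (hab j hj))
  have ne : ∀ a b : List ℕ, ∀ x, Nat.beq (pullW nets a x) (pullW nets b x) = false →
      ev e a ≠ ev e b := fun a b x hab h => by
    rw [pullW_congr hn (u := a) (v := b) (by rw [← m, ← m, h]), beq_true.2 rfl] at hab
    exact absurd hab (by simp)
  have hx : ev e u ^ p = 1 := by
    rw [← ev_powW]; exact eq _ _ fun j hj => (h1 j hj).1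
  refine ⟨ev e u, ev e v, hx, ?_, ?_, ne _ _ _ h2, fun hm => ?_⟩
  · rw [← ev_powW]; exact eq _ _ fun j hj => (h1 j hj).2.1
  · have := eq _ _ fun j hj => (h1 j hj).2.2
    rwa [ev_append, ev_append] at this
  · have hfin : IsOfFinOrder (ev e u) := isOfFinOrder_iff_pow_eq_one.2 ⟨p, hp, hx⟩
    obtain ⟨i, hi⟩ := (hfin.mem_powers_iff_mem_zpowers).2 hm
    simp only at hi
    rw [← Nat.mod_add_div i p, pow_add, pow_mul, hx, one_pow, mul_one, ← ev_powW] at hi
    exact ne _ _ _ (h3 _ (Nat.mod_lt _ hp)) hi.symm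

end H1.QT
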