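import Mathlib
import Cfsg.Prelude.Def_Spor_Th
import Cfsg.Prelude.Def_Spor_Ly
import Cfsg.Agent.H1.QTGen

/-! Piece SPO of the quasithin project: `Th` and `Ly`, from the presentations alone. -/

set_option autoImplicit false
set_option linter.all false
set_option maxRecDepth 100000

namespace H1.QT

open Cfsg Cfsg.Spor H16.QT H22.QT Subgroup

section Gen

variable {G : Type*} [Group G]

theorem one_of_cop {x : G} {m n : ℕ} (hm : x ^ m = 1) (hn : x ^ n = 1) (h : m.Coprime n) :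
    x = 1 :=
  orderOf_eq_one_iff.1 (Nat.eq_one_of_dvd_coprimes h (orderOf_dvd_of_pow_eq_one hm)
    (orderOf_dvd_of_pow_eq_one hn))

theorem comm_of_rel {x y : G} (h : x⁻¹ * y⁻¹ * x * y = 1) : Commute x y := by
  have : x * y = y * x * (x⁻¹ * y⁻¹ * x * y) := by group
  rw [h, mul_one] at this
  exact this

theorem subsingleton_of_gens {α : Type*} {R : Set (FreeGroup α)}
    (h : ∀ x, (PresentedGroup.of x : PresentedGroup R) = 1) : Subsingleton (PresentedGroup R) := by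
  have : (⊤ : Subgroup (PresentedGroup R)) ≤ ⊥ := by
    rw [← PresentedGroup.closure_range_of, closure_le]
    rintro _ ⟨x, rfl⟩
    exact h x
  exact ⟨fun a b => by rw [mem_bot.1 (this (mem_top a)), mem_bot.1 (this (mem_top b))]⟩

theorem rel_extra {α : Type*} [DecidableEq α] (edges : List (α × ℕ × α))
    (extra : List (FreeGroup α)) : ∃ φ : FreeGroup α →* CoxPresented α edges extra,
    (∀ x, φ (FreeGroup.of x) = PresentedGroup.of x) ∧ ∀ r ∈ extra, φ r = 1 :=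
  ⟨PresentedGroup.mk (coxRelators edges ∪ {r | r ∈ extra}), fun _ => rfl, fun _ hr =>
    PresentedGroup.one_of_mem (Or.inr hr)⟩

theorem th_core {a b c d e s t u : G} (ha : a ^ 2 = 1) (hb : b ^ 2 = 1) (hc : c ^ 2 = 1)
    (hd : d ^ 2 = 1) (he : e ^ 2 = 1) (hab : (a * b) ^ 3 = 1) (hae : (a * e) ^ 2 = 1)
    (hbc : (b * c) ^ 3 = 1) (hbd : (b * d) ^ 2 = 1) (hbe : (b * e) ^ 2 = 1)
    (hcd : a * ((c * d) ^ 4)⁻¹ = 1) (hce : (c * e) ^ 2 = 1) (hde : (d * e) ^ 3 = 1)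
    (hs : s ^ 7 = 1) (hsd : (s * d) ^ 2 = 1) (ht : t ^ 3 = 1)
    (hta : t⁻¹ * a⁻¹ * t * a = 1) (htd : t⁻¹ * d⁻¹ * t * d = 1)
    (htb : t⁻¹ * b⁻¹ * t * b = 1) (hte : t⁻¹ * e⁻¹ * t * e = 1)
    (hst : t⁻¹ * s * t * (s ^ 2)⁻¹ = 1) (hu : u ^ 2 * (a * c)⁻¹ = 1)
    (hue : u⁻¹ * (b⁻¹ * (a * c) * b)⁻¹ * u * (b⁻¹ * (a * c) * b) * e⁻¹ = 1)
    (htu : u⁻¹ * t * u * t⁻¹⁻¹ = 1) (hus : a * c * ((u * s) ^ 3)⁻¹ = 1)
    (hn : ¬ (a = 1 ∧ b = 1 ∧ c = 1 ∧ d = 1 ∧ e = 1 ∧ s = 1 ∧ t = 1 ∧ u = 1)) :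
    G3 G ∧ t ≠ 1 := by
  rw [pow_two] at ha hb hc hd he
  have a4 : a = (c * d) ^ 4 := mul_inv_eq_one.1 hcd
  have u2 : u ^ 2 = a * c := mul_inv_eq_one.1 hu
  have us : a * c = (u * s) ^ 3 := mul_inv_eq_one.1 hus
  have ci := inv_eq_self hc
  have di := inv_eq_self hd
  have a8 : (c * d) ^ 4 * (c * d) ^ 4 = 1 := by rw [← a4, ha]
  have ad : Commute a d := by
    have h1 : d * (c * d) * d⁻¹ = (c * d)⁻¹ := by rw [mul_inv_rev, ci, di, ← mul_assoc, mul_assoc _ d d, hd, mul_one]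
    have h2 : d * a * d⁻¹ = a := by
      rw [a4, ← conj_pow, h1, inv_pow]
      exact inv_eq_of_mul_eq_one_right a8
    exact (mul_inv_eq_iff_eq_mul.1 h2).symm
  have ac : Commute a c := by
    have h1 : c * (c * d) * c⁻¹ = (c * d)⁻¹ := s3_inv hc hd
    have h2 : c * a * c⁻¹ = a := by
      rw [a4, ← conj_pow, h1, inv_pow]
      exact inv_eq_of_mul_eq_one_right a8
    exact (mul_inv_eq_iff_eq_mul.1 h2).symm
  have ae := commute_of_sq ha he hae
  have bd := commute_of_sq hb hd hbd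
  have be := commute_of_sq hb he hbe
  have ce := commute_of_sq hc he hce
  have ta := comm_of_rel hta
  have tb := comm_of_rel htb
  have td := comm_of_rel htd
  have te := comm_of_rel hte
  have na : a ≠ 1 := by
    rintro rfl
    have b1 : b = 1 := one_of_cop (m := 3) (n := 2) (by simpa using hab) (by rw [pow_two, hb])
      (by norm_num)
    subst b1
    have c1 : c = 1 := one_of_cop (m := 3) (n := 2) (by simpa using hbc) (by rw [pow_two, hc])
      (by norm_num)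
    subst c1
    have e1 : e = 1 := by simpa using hue
    subst e1
    have d1 : d = 1 := one_of_cop (m := 3) (n := 2) (by simpa using hde) (by rw [pow_two, hd])
      (by norm_num)
    subst d1
    have s1 : s = 1 := one_of_cop (m := 7) (n := 2) hs (by simpa using hsd) (by norm_num)
    subst s1
    have u1 : u = 1 := one_of_cop (m := 3) (n := 2) (by simpa using us.symm) (by simpa using u2)
      (by norm_num)
    subst u1
    have t1 : t = 1 := one_of_cop (m := 3) (n := 2) ht (by simpa [pow_two] using htu)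
      (by norm_num)
    exact hn ⟨rfl, rfl, rfl, rfl, rfl, rfl, t1, rfl⟩
  have cd : ¬ Commute c d := fun h => na (by
    rw [a4, h.mul_pow, show 4 = 2 * 2 by rfl, pow_mul, pow_mul, pow_two c, pow_two d, hc, hd]
    simp)
  have n1 : a ≠ b := by
    rintro rfl
    have : a = c := eq_of_two_three hc (by rw [ac.mul_pow, pow_two, pow_two, ha, hc, one_mul]) hbc
    exact cd (this ▸ ad)
  have n2 : d ≠ e := by
    rintro rfl
    exact cd ce
  have n3 : t ≠ 1 := by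
    rintro rfl
    have s1 : s = 1 := by
      have : s = s ^ 2 := by simpa [mul_inv_eq_one] using hst
      rw [pow_two] at this
      exact (left_eq_mul.1 this)
    subst s1
    rw [mul_one, ← u2, pow_succ u 2] at us
    have u1 : u = 1 := left_eq_mul.1 us
    subst u1
    have e1 : e = 1 := by
      rw [inv_one, one_mul, mul_one, inv_mul_cancel, one_mul] at hue
      exact inv_eq_one.1 hue
    subst e1
    have d1 : d = 1 := one_of_cop (m := 3) (n := 2) (by simpa using hde) (by rw [pow_two, hd])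
      (by norm_num)
    exact n2 d1
  refine ⟨G3.of_sep (p := 3) (x := a * b) (y := d * e) (z := t) (g₁ := a) (g₂ := d) (g₃ := u⁻¹)
    (by norm_num) (by norm_num) hab hde ht ((ad.mul_right ae).mul_left (bd.mul_right be))
    (ta.mul_right tb).symm (td.mul_right te).symm (mul_ne_one hb n1) (mul_ne_one he n2) n3
    (s3_inv ha hb) (s3_inv hd he) ?_ (ad.mul_right ae) ta.symm td.symm, n3⟩
  rw [inv_inv]
  exact mul_inv_eq_one.1 htu

end Gen

theorem th_hom {G : Type*} [Group G] (φ : FreeGroup Th.Gen →* G) (hr : ∀ r ∈ Th.extra, φ r = 1)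
    (hn : ¬ ∀ x, φ (FreeGroup.of x) = 1) : G3 G ∧ ∃ t : G, t ^ 3 = 1 ∧ t ≠ 1 := by
  simp only [Th.extra, List.forall_mem_cons, map_mul, map_pow, map_inv] at hr
  obtain ⟨r1, r2, r3, r4, r5, r6, r7, r8, r9, r10, r11, r12, r13, -, r15, -, -, -, r19, -, r21,
    r22, r23, -, r25, r26, r27, r28, -, -, -, -, r33, -, r35, -, r37, -⟩ := hr
  have := th_core r1 r2 r3 r4 r5 r6 r7 r8 r9 r10 r11 r12 r13 r15 r19 r21 r22 r25 r23 r26 r27 r28
    r33 r35 r37 fun h => hn fun x => by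
      obtain ⟨h1, h2, h3, h4, h5, h6, h7, h8⟩ := h
      cases x <;> assumption
  exact ⟨this.1, _, r21, this.2⟩

theorem ly_core {G : Type*} [Group G] {a b c1 c2 c3 c4 c5 : G}
    (e2 : c2 = a⁻¹ * c1 * a) (e4 : c4 = b⁻¹⁻¹ * c1 * b⁻¹) (e5 : c5 = c1⁻¹ * c2⁻¹ * c1 * c2)
    (p1 : c1 ^ 5 = 1) (p5 : c5 ^ 5 = 1) (k1 : Commute c1 c5) (k2 : Commute c2 c5)
    (k3 : Commute c3 c5) (k4 : Commute c4 c5) (k24 : Commute c2 c4)
    (r18 : c1⁻¹ * c4⁻¹ * c1 * c4 = c5 ^ 2) (r19 : c2⁻¹ * c3⁻¹ * c2 * c3 = c5⁻¹)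
    (r21 : c3⁻¹ * c4⁻¹ * c3 * c4 = c5⁻¹) (r22 : a⁻¹ * c2 * a = (c1 ^ 2)⁻¹)
    (r25 : a⁻¹ * c5 * a = c5 ^ 2) (n5 : c5 ≠ 1) : G3 G := by
  haveI : Fact (Nat.Prime 5) := ⟨by norm_num⟩
  have inv5 : ∀ x : G, x ^ 5 = 1 → x ^ 4 = x⁻¹ := fun x hx =>
    eq_inv_of_mul_eq_one_left (by rw [← pow_succ, hx])
  have R1 : Rl c1 := by
    have h1 : (a * a)⁻¹ * c1 * (a * a)⁻¹⁻¹ = (c1 ^ 2)⁻¹ := by
      rw [← r22, e2]; simp only [mul_inv_rev, inv_inv, mul_assoc]
    refine ⟨(a * a)⁻¹ * (a * a)⁻¹, ?_⟩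
    have h2 : (a * a)⁻¹ * (a * a)⁻¹ * c1 * ((a * a)⁻¹ * (a * a)⁻¹)⁻¹ =
        (a * a)⁻¹ * ((a * a)⁻¹ * c1 * (a * a)⁻¹⁻¹) * (a * a)⁻¹⁻¹ := by group
    rw [h2, h1, ← inv_pow, ← conj_pow, ← conj_inv, h1, inv_inv, ← pow_mul]
    exact inv5 _ p1
  have Rc : ∀ g : G, Rl (g * c1 * g⁻¹) := fun g => R1.map (MulAut.conj g).toMonoidHom
  have R5 : Rl c5 := by
    refine ⟨a⁻¹ * a⁻¹, ?_⟩
    have h2 : a⁻¹ * a⁻¹ * c5 * (a⁻¹ * a⁻¹)⁻¹ = a⁻¹ * (a⁻¹ * c5 * a) * a⁻¹⁻¹ := by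
      simp only [mul_inv_rev, inv_inv, mul_assoc]
    rw [h2, r25, ← conj_pow, inv_inv, r25, ← pow_mul]
    exact inv5 _ p5
  have p2 : c2 ^ 5 = 1 := by
    rw [e2, show a⁻¹ * c1 * a = a⁻¹ * c1 * a⁻¹⁻¹ by rw [inv_inv], conj_pow, p1]; simp
  have p4 : c4 ^ 5 = 1 := by rw [e4, inv_inv, conj_pow, p1]; simp
  have o5 : orderOf c5 = 5 := orderOf_eq_prime p5 n5
  -- conjugation formulas
  have f12 : c1⁻¹ * c2 * c1⁻¹⁻¹ = c2 * c5⁻¹ := by
    rw [e5]; group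
  have f14 : c1⁻¹ * c4 * c1⁻¹⁻¹ = c4 * (c5 ^ 2)⁻¹ := by
    rw [← r18]; group
  have f32 : c3⁻¹ * c2 * c3⁻¹⁻¹ = c2 * c5⁻¹ := by rw [← r19]; group
  have f34 : c3⁻¹ * c4 * c3⁻¹⁻¹ = c4 * c5 := by
    rw [← inv_inv c5, ← r21]; group
  have f15 : c1⁻¹ * c5 * c1⁻¹⁻¹ = c5 := by rw [k1.inv_left.eq]; group
  have f35 : c3⁻¹ * c5 * c3⁻¹⁻¹ = c5 := by rw [k3.inv_left.eq]; group
  have key : ∀ (g u v : G) (i j k : ℕ), Commute c2 u → Commute c4 u → Commute c4 v →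
      Commute c5 u → Commute c5 v →
      g * c2 * g⁻¹ = c2 * u → g * c4 * g⁻¹ = c4 * v → g * c5 * g⁻¹ = c5 →
      c2 ^ i * c4 ^ j * c5 ^ k = 1 → u ^ i * v ^ j = 1 := by
    intro g u v i j k h1 h2 h3 h4 h5 g2 g4 g5 e
    have e1 : (g * c2 * g⁻¹) ^ i * (g * c4 * g⁻¹) ^ j * (g * c5 * g⁻¹) ^ k = 1 := by
      rw [conj_pow, conj_pow, conj_pow]
      have : g * c2 ^ i * g⁻¹ * (g * c4 ^ j * g⁻¹) * (g * c5 ^ k * g⁻¹) =
        g * (c2 ^ i * c4 ^ j * c5 ^ k) * g⁻¹ := by group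
      rw [this, e]; simp
    rw [g2, g4, g5, h1.mul_pow, h3.mul_pow, mul_assoc (c2 ^ i), ← mul_assoc (u ^ i),
      ← (h2.pow_pow j i).eq, mul_assoc (c4 ^ j), ← mul_assoc (c2 ^ i), mul_assoc,
      ← ((h4.pow_pow k i).mul_right (h5.pow_pow k j)).eq, ← mul_assoc, e, one_mul] at e1
    exact e1
  refine ⟨5, by norm_num, by norm_num, c2, c4, c5, p2, p4, p5, k24, k2, k4, ?_, ?_, R5, ?_⟩
  · have := Rc a⁻¹
    rwa [inv_inv, ← e2] at this
  · have := Rc b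
    rwa [← inv_inv b, inv_inv b⁻¹, ← e4] at this
  · intro i j k e
    have h1 := key c1⁻¹ _ _ i j k k2.inv_right k4.inv_right (k4.pow_right 2).inv_right
      (Commute.refl _).inv_right ((Commute.refl _).pow_right 2).inv_right f12 f14 f15 e
    have h2 := key c3⁻¹ _ _ i j k k2.inv_right k4.inv_right k4
      (Commute.refl _).inv_right (Commute.refl _) f32 f34 f35 e
    rw [inv_pow, inv_pow, ← mul_inv_rev, inv_eq_one, ← pow_mul, ← pow_add,
      ← orderOf_dvd_iff_pow_eq_one, o5] at h1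
    rw [inv_pow, inv_mul_eq_one, pow_eq_pow_iff_modEq, o5] at h2
    unfold Nat.ModEq at h2
    have hi : 5 ∣ i := by omega
    have hj : 5 ∣ j := by omega
    obtain ⟨i', rfl⟩ := hi
    obtain ⟨j', rfl⟩ := hj
    rw [pow_mul, pow_mul, p2, p4, one_pow, one_pow, one_mul, one_mul,
      ← orderOf_dvd_iff_pow_eq_one, o5] at e
    exact ⟨dvd_mul_right _ _, dvd_mul_right _ _, e⟩

theorem ly_hom {G : Type*} [Group G] (φ : FreeGroup Ly.Gen →* G) (hr : ∀ r ∈ Ly.extra, φ r = 1)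
    (hn : ¬ ∀ x, φ (FreeGroup.of x) = 1) : G3 G ∧ ∃ t : G, t ^ 3 = 1 ∧ t ≠ 1 := by
  simp only [Ly.extra, List.forall_mem_cons, map_mul, map_pow, map_inv, mul_inv_eq_one] at hr
  obtain ⟨r1, r2, r3, -, r5, r6, r7, r8, r9, r10, r11, r12, r13, r14, r15, r16, r17, r18, r19,
    r20, r21, r22, -, -, r25, -, -, -, r29, -, r31, -, -, -, -, -, -, r38, -, r40, -, r42, r43, -,
    r45, r46, r47, r48, r49, r50, r51, r52, r53, r54, r55, r56, r57, r58, r59, r60, r61, r62, r63,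
    r64, r65, r66, r67, r68, r69, r70, r71, r72, -, -, -, -, -, -, -, -, r81, r82, -⟩ := hr
  have n5 : φ Ly.c5 ≠ 1 := by
    intro c5
    have a8 : (φ Ly.a ^ 4) ^ 2 = 1 := by rw [← pow_mul]; exact r1
    have d1 : φ Ly.d = 1 := one_of_cop (m := 5) (n := 4) (by simpa [c5] using r43)
      (by rw [show 4 = 2 * 2 by rfl, pow_mul, r40, a8]) (by norm_num)
    have a2 : φ Ly.a ^ 2 = 1 := by
      rw [d1, inv_one, one_mul, mul_one, pow_succ' _ 2] at r42
      exact left_eq_mul.1 r42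
    have ai : (φ Ly.a)⁻¹ = φ Ly.a := inv_eq_self (by rw [← pow_two, a2])
    have c1 : φ Ly.c1 = 1 := by
      refine one_of_cop (m := 5) (n := 3) r11 ?_ (by norm_num)
      rw [r7, ← r6, ai, ← mul_assoc, ← mul_assoc, ← pow_two, a2, one_mul, mul_assoc, ← pow_two, a2,
        mul_one, eq_inv_iff_mul_eq_one, ← pow_succ'] at r22
      exact r22
    have c : φ Ly.c = 1 := r6 ▸ c1
    have c2 : φ Ly.c2 = 1 := by rw [r7, c]; simp
    have c3 : φ Ly.c3 = 1 := by rw [r8, c]; simp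
    have c4 : φ Ly.c4 = 1 := by rw [r9, c]; simp
    have b1 : φ Ly.b = 1 := one_of_cop (m := 5) (n := 2) r2
      (by simpa [c1, c3, pow_two] using r31.symm) (by norm_num)
    have e1 : φ Ly.e = φ Ly.a := by simpa [b1, c1, d1] using r29
    have a1 : φ Ly.a = 1 := by
      refine one_of_cop (m := 7) (n := 2) ?_ a2 (by norm_num)
      rw [← r38, e1, c2, c3, c4]; group
    have u1 : φ Ly.u = 1 := by rw [r49, a2]
    have a41 : φ Ly.a4 = 1 := by rw [r48, a1]; simp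
    have z1 : φ Ly.z = 1 := one_of_cop (m := 3) (n := 2) (by simpa [u1, a41] using r82)
      (by rw [r81, u1]) (by norm_num)
    refine hn fun x => ?_
    cases x
    all_goals first
      | assumption
      | simp only [Ly.a, Ly.b, Ly.c, Ly.d, Ly.e, Ly.a1, Ly.a2, Ly.a3, Ly.x23, Ly.x24, Ly.x25,
          Ly.x29, Ly.x47, Ly.x96, Ly.x129, Ly.x162, Ly.x163, Ly.x164, Ly.x165, Ly.x166, Ly.x167,
          Ly.x168, Ly.x169, Ly.x364, Ly.x365, Ly.x366, Ly.x367, Ly.x368, Ly.x369, Ly.x370,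
          Ly.x371] at *
        simp only [e1, r45, r46, r47, r50, r51, r52, r53, r54, r55, r56, r57, r58, r59, r60, r61,
          r62, r63, r64, r65, r66, r67, r68, r69, r70, r71, r72, a1, b1, c, d1, one_pow, inv_one,
          mul_one]
  refine ⟨ly_core (a := φ Ly.a) (b := φ Ly.b) (c3 := φ Ly.c3) (r6 ▸ r7) (r6 ▸ r9) r10 r11 r12
    (comm_of_rel r13) (comm_of_rel r14) (comm_of_rel r15) (comm_of_rel r16) (comm_of_rel r20)
    r18 r19 r21 r22 r25 n5, _, r5, fun h => n5 ?_⟩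
  have hc := comm_of_rel h
  have b1 : φ Ly.b = 1 := by
    refine one_of_cop (m := 5) (n := 8) r2 ?_ (by norm_num)
    have : (φ Ly.a * φ Ly.b) ^ 8 = 1 := by rw [show 8 = 4 * 2 by rfl, pow_mul, r3, one_pow]
    rwa [hc.mul_pow, r1, one_mul] at this
  refine one_of_cop (m := 5) (n := 2) r12 ?_ (by norm_num)
  rw [← r18, r9, b1, r6]; group

theorem cox_G3 {α : Type} [DecidableEq α] {edges : List (α × ℕ × α)} {extra : List (FreeGroup α)}
    (h : ∀ {G : Type} [Group G] (φ : FreeGroup α →* G), (∀ r ∈ extra, φ r = 1) →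
      (¬ ∀ x, φ (FreeGroup.of x) = 1) → G3 G ∧ ∃ t : G, t ^ 3 = 1 ∧ t ≠ 1)
    {K : Type*} [Group K] [Finite K] [Nontrivial K] (e : K ≃* CoxPresented α edges extra) :
    KA K := by
  obtain ⟨φ, hφ, hr⟩ := rel_extra edges extra
  haveI := e.symm.toEquiv.nontrivial
  obtain ⟨h1, t, h2, h3⟩ := h φ hr fun h4 =>
    not_subsingleton _ (subsingleton_of_gens fun x => (hφ x).symm.trans (h4 x))
  exact KA.of_G3 (h1.of_equiv e) (three_dvd_card (x := e.symm t) (by rw [← map_pow, h2, map_one])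
    (by simpa using h3))

end H1.QT

namespace H16.QT

open Cfsg H1.QT

variable {K : Type*} [Group K] [Finite K] [IsSimpleGroup K]

theorem ka_Th (hK : ¬ IsMulCommutative K) (h : Spor.IsoTh K) : KA K := by
  obtain ⟨e⟩ := h
  exact cox_G3 th_hom e

theorem ka_Ly (h : Spor.IsoLy K) : KA K := by
  obtain ⟨e⟩ := h
  exact cox_G3 ly_hom e

end H16.QT
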