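import Mathlib
import Cfsg.Agent.H1.QTNet
import Cfsg.Agent.H7.J2
import Cfsg.Agent.H7.J3
import Cfsg.Agent.H29.He
import Cfsg.Agent.H29.Suz
import Cfsg.Agent.H11.J1M

/-! Piece SPO of the quasithin project: `J₁`, `J₂`, `J₃`, `He`, `Suz`. -/

set_option autoImplicit false
set_option linter.all false
set_option maxRecDepth 100000

namespace H1.QT

open Cfsg H16.QT H29 H9 H9.MX

theorem nc3_J2 : NC 3 H7.J2.S :=
  nc_of_nets (k := 9) (by norm_num) H7.J2P.hn (by norm_num) (pe_rho _) (PG_faithful H7.J2P.hn)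
    [1, 10] [8] (by decide +kernel)

theorem nc3_J3 : NC 3 H7.J3.S :=
  nc_of_nets (k := 13) (by norm_num) H7.J3P.hn (by norm_num) (pe_rho _) (PG_faithful H7.J3P.hn)
    [1, 10] [8] (by decide +kernel)

theorem nc3_He : NC 3 H29.He.P.G :=
  nc_of_nets (k := 12) (by norm_num) He5.hn (by norm_num) H29.He.hρ H29.He.card.2
    (powW 7 [0, 1, 2, 3]) [1, 2] (by decide +kernel)

theorem nc3_Suz : NC 3 H29.Suz.P.G :=
  nc_of_nets (k := 11) (by norm_num) Suz1.hn (by norm_num) H29.Suz.hρ H29.Suz.card.2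
    [3, 4] [1, 5] (by decide +kernel)

theorem nc5_Suz : NC 5 H29.Suz.P.G :=
  nc_of_nets (k := 11) (by norm_num) Suz1.hn (by norm_num) H29.Suz.hρ H29.Suz.card.2
    (powW 2 [1, 2, 4, 3]) (powW 2 [1, 3, 2]) (by decide +kernel)

end H1.QT

namespace H16.QT

open Cfsg H1.QT

variable {K : Type*} [Group K] [Finite K] [IsSimpleGroup K]

theorem ka_J1 (h : Spor.IsoJ1 K) : KA K := by
  obtain ⟨e⟩ := h
  have hc : Nat.card K = 175560 := (Nat.card_congr e.toEquiv).trans H11.J1M.J1_card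
  exact ⟨Or.inr (Or.inr (Or.inr (Or.inr (Or.inl hc)))), Or.inl (Or.inr (Or.inr (Or.inr ⟨e⟩))),
    Or.inr (by rw [hc]; norm_num)⟩

theorem ka_J2 (h : Spor.IsoJ2 K) : KA K := by
  obtain ⟨e⟩ := h
  obtain ⟨f, -⟩ := H7.J2.exists_iso
  exact ka_num ((Nat.card_congr (e.trans f).toEquiv).trans H7.J2.card)
    (nc3_J2.of_equiv (e.trans f)) [2, 3, 5, 7] (by decide +kernel) (by simp; norm_num)
    (by decide +kernel) (by decide +kernel)

theorem ka_J3 (h : Spor.IsoJ3 K) : KA K := by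
  obtain ⟨F, _, _, ω, hF, hω, ⟨e⟩⟩ := h
  obtain ⟨-, -, ⟨f⟩⟩ := H7.J3.three (H7.J3.two_eq_zero hF) hω
  exact ka_num ((Nat.card_congr (e.trans f.symm).toEquiv).trans H7.J3.card)
    (nc3_J3.of_equiv (e.trans f.symm)) [2, 3, 5, 17, 19] (by decide +kernel) (by simp; norm_num)
    (by decide +kernel) (by decide +kernel)

theorem ka_He (h : Spor.IsoHe K) : KA K := by
  obtain ⟨e⟩ := h
  exact ka_num ((Nat.card_congr e.toEquiv).trans H29.He.card.1)
    (nc3_He.of_equiv e) [2, 3, 5, 7, 17] (by decide +kernel) (by simp; norm_num)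
    (by decide +kernel) (by decide +kernel)

theorem ka_Suz (h : Spor.IsoSuz K) : KA K := by
  obtain ⟨e⟩ := h
  exact ka_num5 ((Nat.card_congr e.toEquiv).trans H29.Suz.card.1)
    (nc3_Suz.of_equiv e) (nc5_Suz.of_equiv e) [2, 3, 5, 7, 11, 13] (by decide +kernel)
    (by simp; norm_num) (by decide +kernel)

end H16.QT
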