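import Mathlib
import Cfsg.Agent.H1.QTMat
import Cfsg.Agent.H1.QTSpoA
import Cfsg.Agent.H1.QTSpoB
import Cfsg.Agent.H10.RuMain
import Cfsg.Agent.H29.HN
import Cfsg.Agent.S1703
import Cfsg.Agent.S1711

/-! Piece SPO of the quasithin project: `J₄`, `HN`, `Ru` (the others are imported). -/

set_option autoImplicit false
set_option linter.all false
set_option maxRecDepth 100000

namespace H1.QT

open Cfsg H16.QT H29 H9 H9.MX

theorem nc3_Ru : NC 3 Spor.Ru :=
  nc_of_nets (k := 12) (by norm_num) H10.RuD.hn (by norm_num) H10.Ru.ρ_e0 H10.Ru.faith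
    (powW 4 [3, 6, 2, 6, 5]) [6, 0, 1, 6] (by decide +kernel)

theorem nc5_Ru : NC 5 Spor.Ru :=
  nc_of_nets (k := 12) (by norm_num) H10.RuD.hn (by norm_num) H10.Ru.ρ_e0 H10.Ru.faith
    (powW 2 [0, 1, 3, 4, 1, 6, 1]) (powW 2 [0, 1, 0, 3, 4, 1, 6]) (by decide +kernel)

theorem nc3_HK : NC 3 HK.K :=
  nc_of_nets (k := 11) (by norm_num) HKM.hn (by norm_num) (pe_rho _) HK.faithful
    (powW 2 [0, 4, 8]) (powW 2 [0, 4, 7]) (by decide +kernel)

end H1.QT

namespace H16.QT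

open Cfsg H1.QT

variable {K : Type*} [Group K] [Finite K] [IsSimpleGroup K]

theorem ka_J4 (h : Spor.IsoJ4 K) : KA K := by
  obtain ⟨e⟩ := h
  obtain ⟨f⟩ := Cfsg.Agent.S1711.result
  exact ka_of_card e Cfsg.Agent.S1703.result.2 ((nc3_M24.of_equiv f).of_subgroup _)
    [2, 3, 5, 7, 11, 23, 29, 31, 37, 43] (by decide +kernel) (by simp; norm_num)
    (by decide +kernel) (by decide +kernel)

theorem ka_HN (h : Spor.IsoHN K) : KA K := by
  obtain ⟨e⟩ := h
  exact ka_of_card (G := H29.HNP.P.G) e H29.HN.card (nc3_HK.map _ H29.HN.φ_inj)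
    [2, 3, 5, 7, 11, 19] (by decide +kernel) (by simp; norm_num)
    (by decide +kernel) (by decide +kernel)

theorem ka_Ru (h : Spor.IsoRu K) : KA K := by
  obtain ⟨e⟩ := h
  exact ka_num5 ((Nat.card_congr e.toEquiv).trans H10.Ru.card_Ru)
    (nc3_Ru.of_equiv e) (nc5_Ru.of_equiv e) [2, 3, 5, 7, 13, 29] (by decide +kernel)
    (by simp; norm_num) (by decide +kernel)

end H16.QT
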