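import Mathlib
import Cfsg.Agent.H24.Base4
import Cfsg.Agent.H5.ClassMul

/-!
# General tools for section sums
-/

set_option autoImplicit false

namespace H1.WS

open H24 Cfsg Subgroup Finset

universe u v

section
variable {X : Type u} [Group X]

theorem odd_iff_pi {y : X} : Odd (orderOf y) ↔ PiElt {2}ᶜ y := by
  rw [PiElt, piNat_compl_singleton Nat.prime_two, ← Nat.not_even_iff_odd, even_iff_two_dvd]

theorem odd_card_iff {O : Subgroup X} : Odd ♯O ↔ IsPi {2}ᶜ O := by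
  rw [isPi_compl_iff Nat.prime_two, ← Nat.not_even_iff_odd, even_iff_two_dvd]

theorem two_of_pow {x : X} {k : ℕ} (h : x ^ 2 ^ k = 1) : PiElt {2} x :=
  piElt_of_pow_eq_one (piNat_self_pow Nat.prime_two k) h

theorem two_of_sq {x : X} (h : x * x = 1) : PiElt {2} x :=
  two_of_pow (k := 1) (by rw [pow_one, sq, h])

theorem eq_one_of_two_odd {x : X} (h : PiElt {2} x) (h' : Odd (orderOf x)) : x = 1 :=
  h.eq_one (odd_iff_pi.1 h')

theorem odd_conj {y : X} (h : Odd (orderOf y)) (g : X) : Odd (orderOf (g * y * g⁻¹)) := by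
  rwa [orderOf_conj]

theorem odd_inv {y : X} (h : Odd (orderOf y)) : Odd (orderOf y⁻¹) := by rwa [orderOf_inv]

theorem odd_mul {x y : X} (hx : Odd (orderOf x)) (hy : Odd (orderOf y)) (h : x * y = y * x) :
    Odd (orderOf (x * y)) := odd_iff_pi.2 ((odd_iff_pi.1 hx).mul (odd_iff_pi.1 hy) h)

theorem odd_of_mem_zpowers {x y : X} (hx : Odd (orderOf x)) (h : y ∈ zpowers x) :
    Odd (orderOf y) := odd_iff_pi.2 ((odd_iff_pi.1 hx).of_mem_zpowers h)

theorem comm_of_zpowers {g x y : X} (hx : x ∈ zpowers g) (hy : y ∈ zpowers g) : x * y = y * x :=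
  (abl_zpowers g).comm hx hy

theorem decomp [Finite X] (g : X) : ∃ x y, PiElt {2} x ∧ Odd (orderOf y) ∧ x ∈ zpowers g ∧
    y ∈ zpowers g ∧ g = x * y ∧ x * y = y * x := by
  obtain ⟨x, y, h1, h2, h3, h4, h5⟩ := exists_piElt_decomp {2} g
  exact ⟨x, y, h1, odd_iff_pi.2 h2, h3, h4, h5, comm_of_zpowers h3 h4⟩

theorem left_mem [Finite X] {x y : X} (hx : PiElt {2} x) (hy : Odd (orderOf y))
    (h : x * y = y * x) : x ∈ zpowers (x * y) := by
  have := constt_mem_zpowers {2} (x * y)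
  rwa [constt_mul_of hx (odd_iff_pi.1 hy) h] at this

theorem right_mem [Finite X] {x y : X} (hx : PiElt {2} x) (hy : Odd (orderOf y))
    (h : x * y = y * x) : y ∈ zpowers (x * y) := by
  have := constt_mem_zpowers {2}ᶜ (x * y)
  rwa [constt_mul_of' hx (odd_iff_pi.1 hy) h] at this

theorem inv_unique [Finite X] {g v v' : X} (hv : v ∈ zpowers g) (hv' : v' ∈ zpowers g)
    (h : orderOf v = 2) (h' : orderOf v' = 2) : v = v' := by
  classical
  letI := Fintype.ofFinite (zpowers g)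
  have key := IsCyclic.card_orderOf_eq_totient (α := zpowers g) (d := 2) (by
    rw [← h, ← Nat.card_eq_fintype_card]; exact orderOf_dvd_card' hv)
  rw [Nat.totient_two, Finset.card_eq_one] at key
  obtain ⟨a, ha⟩ := key
  have h1 : (⟨v, hv⟩ : zpowers g) ∈ ({a} : Finset _) := by
    rw [← ha]; simp [← h, Subgroup.orderOf_mk]
  have h2 : (⟨v', hv'⟩ : zpowers g) ∈ ({a} : Finset _) := by
    rw [← ha]; simp [← h', Subgroup.orderOf_mk]
  rw [Finset.mem_singleton] at h1 h2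
  exact congrArg Subtype.val (h1.trans h2.symm)

theorem exists_inv [Finite X] {x : X} (hx : ¬ Odd (orderOf x)) :
    ∃ v ∈ zpowers x, orderOf v = 2 := by
  rw [Nat.not_odd_iff_even, even_iff_two_dvd, ← card_zpowers'] at hx
  exact exists_orderOf_eq Nat.prime_two hx

theorem not_odd_of_two {x : X} (hx : PiElt {2} x) (h1 : x ≠ 1) : ¬ Odd (orderOf x) :=
  fun h => h1 (eq_one_of_two_odd hx h)

theorem not_odd_of_inv {g v : X} (hv : v ∈ zpowers g) (h : orderOf v = 2) :
    ¬ Odd (orderOf g) := fun ho => by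
  have := odd_of_mem_zpowers ho hv
  rw [h] at this
  exact absurd this (by decide)

/-- an involution of `⟨x y⟩` lies in `⟨x⟩` -/
theorem inv_mem_left [Finite X] {x y v : X} (hx : PiElt {2} x) (hy : Odd (orderOf y))
    (h : x * y = y * x) (hv : v ∈ zpowers (x * y)) (h2 : orderOf v = 2) : v ∈ zpowers x := by
  have h1 : x ≠ 1 := by
    rintro rfl
    rw [one_mul] at hv
    exact not_odd_of_inv hv h2 hy
  obtain ⟨v', hv', h2'⟩ := exists_inv (not_odd_of_two hx h1)
  rwa [inv_unique hv (zpowers_le.2 (left_mem hx hy h) hv') h2 h2']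

theorem sq_eq_one_of {v : X} (h : orderOf v = 2) : v * v = 1 := by
  rw [← sq, ← h, pow_orderOf_eq_one]

theorem ord_two {v : X} (h : v * v = 1) (h1 : v ≠ 1) : orderOf v = 2 :=
  orderOf_eq_prime (by rw [sq, h]) h1

theorem mem_zpowers_conj {v g : X} (h : X) :
    h * v * h⁻¹ ∈ zpowers (h * g * h⁻¹) ↔ v ∈ zpowers g := by
  rw [← cj_zpowers, conj_mem_cj_iff]

/-- 2-elements congruent modulo a normal subgroup of odd order are conjugate -/
theorem conj_of_mod [Finite X] {O : Subgroup X} (hO : Odd ♯O) {x x' : X} (hx : x ∈ N[O])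
    (h2 : PiElt {2} x) (h2' : PiElt {2} x') (h : x⁻¹ * x' ∈ O) : ∃ o ∈ O, x' = o * x * o⁻¹ := by
  have hn : zpowers x ≤ N[O] := zpowers_le.2 hx
  have hS : Syl 2 (O ⊔ zpowers x) (zpowers x) :=
    (isProd_sup hn).hall_right (odd_card_iff.1 hO) h2.isPi
  have hx' : x' ∈ O ⊔ zpowers x := by
    have : x' = x * (x⁻¹ * x') := by group
    rw [this]
    exact mul_mem (mem_sup_right (mem_zpowers x)) (mem_sup_left h)
  obtain ⟨g, hg, hle⟩ := Sylow_Jsub Nat.prime_two hS h2'.isPi (zpowers_le.2 hx')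
  obtain ⟨o, ho, b, hb, e⟩ := (mem_sup_of_norm hn).1 (inv_mem hg)
  have h1 : g * x' * g⁻¹ ∈ zpowers x := hle (conj_mem_cj g (mem_zpowers x'))
  have hg' : g = b⁻¹ * o⁻¹ := by rw [← mul_inv_rev, ← e, inv_inv]
  have h3 : o⁻¹ * x' * o ∈ zpowers x := by
    have : o⁻¹ * x' * o = b * (g * x' * g⁻¹) * b⁻¹ := by rw [hg']; group
    rw [this]
    exact mul_mem (mul_mem hb h1) (inv_mem hb)
  have h4 : x⁻¹ * (o⁻¹ * x' * o) ∈ O := by
    have : x⁻¹ * (o⁻¹ * x' * o) = (x⁻¹ * o⁻¹ * x) * (x⁻¹ * x') * o := by group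
    rw [this]
    exact mul_mem (mul_mem (conj_mem' hx (inv_mem ho)) h) ho
  have h5 : x⁻¹ * (o⁻¹ * x' * o) ∈ O ⊓ zpowers x :=
    Subgroup.mem_inf.2 ⟨h4, mul_mem (inv_mem (mem_zpowers x)) h3⟩
  rw [(odd_card_iff.1 hO).inf_eq_bot' h2.isPi, mem_bot] at h5
  refine ⟨o, ho, ?_⟩
  calc x' = o * (x * (x⁻¹ * (o⁻¹ * x' * o))) * o⁻¹ := by group
    _ = _ := by rw [h5, mul_one]

theorem cs_mul {O : Subgroup X} {x y : X} (hx : x ∈ N[O]) (hy : y ∈ N[O]) :
    cs O (x * y) = cs O x * cs O y := ap_mul _ hx hy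

theorem cs_inv {O : Subgroup X} {x : X} (hx : x ∈ N[O]) : cs O x⁻¹ = (cs O x)⁻¹ := ap_inv _ hx

theorem cs_pow {O : Subgroup X} {x : X} (hx : x ∈ N[O]) (n : ℕ) : cs O (x ^ n) = cs O x ^ n :=
  ap_pow _ hx n

theorem cs_comm {O : Subgroup X} {r y : X} (hr : r ∈ N[O]) (hy : y ∈ N[O])
    (hc : y * r * y⁻¹ * r⁻¹ ∈ O) : cs O r * cs O y = cs O y * cs O r := by
  have := cs_of_mem hc
  rw [cs_mul (mul_mem (mul_mem hy hr) (inv_mem hy)) (inv_mem hr), cs_mul (mul_mem hy hr) (inv_mem hy),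
    cs_mul hy hr, cs_inv hr, cs_inv hy] at this
  calc cs O r * cs O y = (cs O y * cs O r * (cs O y)⁻¹ * (cs O r)⁻¹) * (cs O r * cs O y) := by
        rw [this, one_mul]
    _ = _ := by group

theorem odd_of_cs [Finite X] {O : Subgroup X} (hO : Odd ♯O) {g : X} (hg : g ∈ N[O])
    (h : Odd (orderOf (cs O g))) : Odd (orderOf g) := by
  have h1 : g ^ orderOf (cs O g) ∈ O := by
    rw [← cs_eq_one (pow_mem hg _), cs_pow hg, pow_orderOf_eq_one]
  have h2 : orderOf g ∣ orderOf (cs O g) * ♯O := by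
    rw [orderOf_dvd_iff_pow_eq_one, pow_mul]
    exact orderOf_dvd_iff_pow_eq_one.1 (orderOf_dvd_card' h1)
  exact (h.mul hO).of_dvd_nat h2

theorem odd_ap {Y : Type v} [Group Y] {D : Subgroup X} (f : D →* Y) {g : X} (hg : g ∈ D)
    (h : Odd (orderOf g)) : Odd (orderOf (ap f g)) := h.of_dvd_nat (orderOf_ap_dvd f hg)

theorem odd_mul_core [Finite X] {O : Subgroup X} (hO : Odd ♯O) {o y : X} (ho : o ∈ O)
    (hy : y ∈ N[O]) (h : Odd (orderOf y)) : Odd (orderOf (o * y)) := by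
  have ho' : o ∈ N[O] := norm_self O ho
  refine odd_of_cs hO (mul_mem ho' hy) ?_
  rw [cs_mul ho' hy, cs_of_mem ho, one_mul]
  exact odd_ap _ hy h

/-- normal form modulo `O` of `r y` where `r` is central modulo `O` -/
theorem normal_form [Finite X] {O : Subgroup X} (hO : Odd ♯O) {r y : X} (hr : r ∈ N[O])
    (hy : y ∈ N[O]) (h2 : PiElt {2} r) (ho : Odd (orderOf y)) (hc : y * r * y⁻¹ * r⁻¹ ∈ O) :
    ∃ o ∈ O, ∃ y' ∈ C{r}, Odd (orderOf y') ∧ r * y = o * (r * y') * o⁻¹ := by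
  obtain ⟨x, z, hx, hz, hx', hz', e, hxz⟩ := decomp (r * y)
  have hry : r * y ∈ N[O] := mul_mem hr hy
  have hxN : x ∈ N[O] := zpowers_le.2 hry hx'
  have hzN : z ∈ N[O] := zpowers_le.2 hry hz'
  have c1 := cs_comm hr hy hc
  have c2 : cs O x * cs O z = cs O z * cs O x := by rw [← cs_mul hxN hzN, hxz, cs_mul hzN hxN]
  have c3 : cs O r * cs O y = cs O x * cs O z := by rw [← cs_mul hr hy, e, cs_mul hxN hzN]
  have c4 := (piElt_decomp_unique (h2.ap _ hr) ((odd_iff_pi.1 ho).ap _ hy) (hx.ap _ hxN)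
    ((odd_iff_pi.1 hz).ap _ hzN) c1 c2 c3).1
  obtain ⟨o, hoO, rfl⟩ := conj_of_mod hO hr h2 hx ((cs_eq_cs hr hxN).1 c4)
  refine ⟨o, hoO, o⁻¹ * z * o, mem_C1.2 ?_, by simpa using odd_conj hz o⁻¹, ?_⟩
  · calc o⁻¹ * z * o * r = o⁻¹ * (z * (o * r * o⁻¹)) * o := by group
      _ = o⁻¹ * ((o * r * o⁻¹) * z) * o := by rw [hxz]
      _ = _ := by group
  · rw [e]; group

/-- uniqueness of the central part -/
theorem central_unique [Finite X] {O : Subgroup X} {r r' y y' : X} (hr : r ∈ N[O])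
    (hy : y ∈ N[O]) (h2 : PiElt {2} r) (ho : Odd (orderOf y)) (hc : y * r * y⁻¹ * r⁻¹ ∈ O)
    (hr' : r' ∈ N[O]) (hy' : y' ∈ N[O]) (h2' : PiElt {2} r') (ho' : Odd (orderOf y'))
    (hc' : y' * r' * y'⁻¹ * r'⁻¹ ∈ O) (e : r * y = r' * y') : r⁻¹ * r' ∈ O := by
  have c3 : cs O r * cs O y = cs O r' * cs O y' := by rw [← cs_mul hr hy, e, cs_mul hr' hy']
  exact (cs_eq_cs hr hr').1 (piElt_decomp_unique (h2.ap _ hr) ((odd_iff_pi.1 ho).ap _ hy)
    (h2'.ap _ hr') ((odd_iff_pi.1 ho').ap _ hy') (cs_comm hr hy hc) (cs_comm hr' hy' hc') c3).1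

/-- fixed points of `x y` -/
theorem fixedBy_mul [Finite X] {Ω : Type*} [Finite Ω] [MulAction X Ω] {x y : X} (hx : PiElt {2} x)
    (hy : Odd (orderOf y)) (h : x * y = y * x) (h2 : Nat.card (MulAction.fixedBy Ω x) ≤ 2) :
    MulAction.fixedBy Ω (x * y) = MulAction.fixedBy Ω x := by
  ext a
  simp only [MulAction.mem_fixedBy]
  constructor
  · intro ha
    obtain ⟨k, hk⟩ := left_mem hx hy h
    have : (x * y) ^ k ∈ MulAction.stabilizer X a := zpow_mem (show x * y ∈ _ from ha) k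
    simp only at hk
    rwa [hk] at this
  · intro ha
    have m : ∀ b : Ω, x • b = b → x • y • b = y • b := fun b hb => by
      rw [← mul_smul, h, mul_smul, hb]
    have h3 : y • y • a = a := by
      by_contra hne
      have n1 : y • a ≠ a := fun e => hne (by rw [e, e])
      have n2 : y • y • a ≠ y • a := fun e => n1 (MulAction.injective y e)
      have : ({a, y • a, y • y • a} : Set Ω) ⊆ MulAction.fixedBy Ω x := by
        rintro b (rfl | rfl | rfl)
        · exact ha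
        · exact m _ ha
        · exact m _ (m _ ha)
      have h4 := Set.ncard_le_ncard this
      rw [Set.ncard_eq_three.2 ⟨a, y • a, y • y • a, n1.symm, (Ne.symm hne), n2.symm, rfl⟩,
        ← Nat.card_coe_set_eq] at h4
      omega
    have h5 : y * y ∈ MulAction.stabilizer X a := by
      rw [MulAction.mem_stabilizer_iff, mul_smul, h3]
    have h6 : y ∈ MulAction.stabilizer X a := by
      obtain ⟨k, hk⟩ := hy
      have : y = ((y * y) ^ k)⁻¹ := by
        rw [eq_inv_iff_mul_eq_one, ← sq, ← pow_mul, ← pow_succ', ← hk, pow_orderOf_eq_one]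
      rw [this]
      exact inv_mem (pow_mem h5 k)
    rw [mul_smul, MulAction.mem_stabilizer_iff.1 h6, ha]

/-- number of conjugates under a subgroup -/
theorem ncard_conj (O : Subgroup X) (x : X) :
    {g | ∃ o ∈ O, g = o * x * o⁻¹}.ncard = (O ⊓ C{x}).relIndex O := by
  let _ : MulAction O X := MulAction.compHom X ((MulAut.conj (G := X)).comp O.subtype)
  have := MulAction.index_stabilizer O x
  have e1 : MulAction.stabilizer O x = (O ⊓ C{x}).subgroupOf O := by
    ext o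
    rw [MulAction.mem_stabilizer_iff, mem_subgroupOf, Subgroup.mem_inf, mem_C1_iff_conj]
    exact ⟨fun h => ⟨o.2, h⟩, fun h => h.2⟩
  have e2 : MulAction.orbit O x = {g | ∃ o ∈ O, g = o * x * o⁻¹} := by
    ext g
    constructor
    · rintro ⟨o, rfl⟩
      exact ⟨o, o.2, rfl⟩
    · rintro ⟨o, ho, rfl⟩
      exact ⟨⟨o, ho⟩, rfl⟩
  rw [e1, e2] at this
  exact this.symm

end

section Sums

variable {X : Type u} [Group X] [Fintype X] {Y : Type v} [Group Y] [Fintype Y]

open Classical in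
/-- the elements of a subgroup as a finset -/
noncomputable def FS (H : Subgroup X) : Finset X := univ.filter (· ∈ H)

@[simp] theorem mem_FS {H : Subgroup X} {x : X} : x ∈ FS H ↔ x ∈ H := by simp [FS]

theorem card_FS (H : Subgroup X) : (FS H).card = ♯H := by
  classical
  rw [Nat.card_eq_fintype_card, Fintype.card_subtype]
  unfold FS
  congr

theorem FS_top : FS (⊤ : Subgroup X) = univ := by ext; simp

theorem sum_conj {H : Subgroup X} {h : X} (hh : h ∈ N[H]) (F : X → ℂ) :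
    ∑ g ∈ FS H, F (h * g * h⁻¹) = ∑ g ∈ FS H, F g := by
  refine Finset.sum_bij' (fun g _ => h * g * h⁻¹) (fun g _ => h⁻¹ * g * h) ?_ ?_ ?_ ?_ ?_
  · intro g hg; exact mem_FS.2 (conj_mem hh (mem_FS.1 hg))
  · intro g hg; exact mem_FS.2 (conj_mem' hh (mem_FS.1 hg))
  · intro g _; group
  · intro g _; group
  · intro g _; rfl

theorem sum_mul_left' {H : Subgroup X} {h : X} (hh : h ∈ H) (F : X → ℂ) :
    ∑ g ∈ FS H, F (h * g) = ∑ g ∈ FS H, F g := by
  refine Finset.sum_bij' (fun g _ => h * g) (fun g _ => h⁻¹ * g) ?_ ?_ ?_ ?_ ?_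
  · intro g hg; exact mem_FS.2 (mul_mem hh (mem_FS.1 hg))
  · intro g hg; exact mem_FS.2 (mul_mem (inv_mem hh) (mem_FS.1 hg))
  · intro g _; group
  · intro g _; group
  · intro g _; rfl

open Classical in
/-- reduction to the elements whose cyclic group contains a fixed involution -/
theorem sum_inv {H : Subgroup X} (f : H →* Y) (hf : Function.Surjective f) {t : Y}
    (ht : orderOf t = 2) (φ : X → ℂ) (hc : ∀ h ∈ H, ∀ g ∈ H, φ (h * g * h⁻¹) = φ g)
    (hφ : ∀ g ∈ H, φ g ≠ 0 → ∃ v ∈ zpowers (ap f g), IsConj t v) :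
    ∑ g ∈ FS H, φ g = (H5.cl t).card * ∑ g ∈ FS H with t ∈ zpowers (ap f g), φ g := by
  have h1 : ∀ g ∈ FS H, φ g = ∑ v ∈ H5.cl t, if v ∈ zpowers (ap f g) then φ g else 0 := by
    intro g hg
    by_cases h0 : φ g = 0
    · simp [h0]
    obtain ⟨v, hv, hv'⟩ := hφ g (mem_FS.1 hg) h0
    rw [Finset.sum_eq_single v, if_pos hv]
    · intro v' h1 h2
      rw [if_neg]
      intro h3
      refine h2 (inv_unique h3 hv ?_ ?_)
      · obtain ⟨c, rfl⟩ := isConj_iff.1 (H5.mem_cl.1 h1); rwa [orderOf_conj]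
      · obtain ⟨c, rfl⟩ := isConj_iff.1 hv'; rwa [orderOf_conj]
    · intro h; exact absurd (H5.mem_cl.2 hv') h
  rw [Finset.sum_congr rfl h1, Finset.sum_comm, Finset.sum_filter, Finset.card_eq_sum_ones,
    Nat.cast_sum, Finset.sum_mul]
  refine Finset.sum_congr rfl fun v hv => ?_
  obtain ⟨c, rfl⟩ := isConj_iff.1 (H5.mem_cl.1 hv)
  obtain ⟨⟨h, hh⟩, rfl⟩ := hf c
  rw [← sum_conj (norm_self H hh), Nat.cast_one, one_mul]
  refine Finset.sum_congr rfl fun g hg => ?_
  rw [hc h hh g (mem_FS.1 hg), ap_conj _ hh (mem_FS.1 hg), ap_of_mem f hh]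
  simp only [mem_zpowers_conj]

/-- sums of functions factoring through a surjection -/
theorem sum_ap {H : Subgroup X} (f : H →* Y) (hf : Function.Surjective f) (Φ : Y → ℂ) :
    ∑ g ∈ FS H, Φ (ap f g) = Nat.card f.ker * ∑ y, Φ y := by
  classical
  have h1 : ∑ g ∈ FS H, Φ (ap f g) = ∑ g : H, Φ (f g) := by
    rw [Finset.sum_subtype (F := inferInstance) (FS H) (p := (· ∈ H)) (fun _ => mem_FS)]
    simp only [ap_coe]
  rw [h1, ← Finset.sum_fiberwise_of_maps_to (g := f) (t := univ) (fun _ _ => mem_univ _),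
    Finset.mul_sum]
  refine Finset.sum_congr rfl fun y _ => ?_
  rw [Finset.sum_congr rfl (g := fun _ => Φ y) (fun g hg => by rw [(mem_filter.1 hg).2]),
    Finset.sum_const, nsmul_eq_mul]
  congr 2
  obtain ⟨g, rfl⟩ := hf y
  rw [Nat.card_eq_fintype_card, Fintype.card_subtype]
  refine Finset.card_bij' (fun a _ => g⁻¹ * a) (fun a _ => g * a) ?_ ?_ ?_ ?_
  · intro a ha
    simp only [mem_filter, mem_univ, true_and, MonoidHom.mem_ker] at ha ⊢
    rw [map_mul, map_inv, ha, inv_mul_cancel]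
  · intro a ha
    simp only [mem_filter, mem_univ, true_and, MonoidHom.mem_ker] at ha ⊢
    rw [map_mul, ha, mul_one]
  · intro a _; group
  · intro a _; group

open Classical in
/-- sum of a linear character over a subgroup covering the quotient -/
theorem sum_lam (lam : Y →* ℂˣ) {L W : Subgroup Y} (hL : L ≤ lam.ker)
    (h : ∀ y, ∃ l ∈ L, ∃ w ∈ W, y = l * w) :
    ∑ y ∈ FS W, (lam y : ℂ) = (if lam = 1 then 1 else 0) * ♯W := by
  have h1 : ∑ y ∈ FS W, (lam y : ℂ) =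
      ∑ y : W, ((Units.coeHom ℂ).comp (lam.comp W.subtype)) y := by
    rw [Finset.sum_subtype (FS W) (p := (· ∈ W)) (fun _ => mem_FS)]
    rfl
  rw [h1, sum_hom_units]
  by_cases h0 : lam = 1
  · subst h0
    rw [if_pos (by ext; simp), if_pos rfl, one_mul, Nat.card_eq_fintype_card]
  · rw [if_neg, if_neg h0]
    · simp
    intro e
    apply h0
    ext y
    obtain ⟨l, hl, w, hw, rfl⟩ := h y
    have := DFunLike.congr_fun e ⟨w, hw⟩
    simp only [MonoidHom.comp_apply, coe_subtype, Units.coeHom_apply, MonoidHom.one_apply] at this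
    rw [map_mul, MonoidHom.mem_ker.1 (hL hl), one_mul, this]
    rfl

end Sums

end H1.WS
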