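import Mathlib
import Cfsg.Agent.H2.QB2
import Cfsg.Agent.H2.QCh1
import Cfsg.Agent.H26.Coprime
import Cfsg.Agent.H5.Kernel

/-! Passing to a section `X / O` in the quasi-dihedral case. -/

set_option autoImplicit false
set_option linter.unusedSectionVars false

namespace H1.QZ

open H24 Cfsg Subgroup H4 H2.QD
open H13.Dih (isPi_odd piElt_odd sq_of ne_one_of isPi_zp)

universe u

section general
variable {G K Γ : Type*} [Group G] [Group K] [Group Γ]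

theorem descend {D D' A : Subgroup G} (π : D →* K) (f : D' →* Γ) (hA : A ≤ D) (hA' : A ≤ D')
    (hk : ∀ x ∈ A, ap π x = 1 → ap f x = 1) {Y : Subgroup K} (hY : img π A = Y) :
    ∃ f' : Y →* Γ, ∀ x ∈ A, ap f' (ap π x) = ap f x := by
  subst hY
  let π' : A →* img π A := (π.comp (inclusion hA)).codRestrict _ fun x => by
    have := ap_mem_img π x.2 (hA x.2)
    rwa [ap_of_mem _ (hA x.2)] at this
  have e : ∀ x (hx : x ∈ A), (⟨ap π x, ap_mem_img π hx (hA hx)⟩ : img π A) = π' ⟨x, hx⟩ :=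
    fun x hx => Subtype.ext (ap_of_mem π (hA hx))
  have hs : Function.Surjective π' := by
    rintro ⟨y, hy⟩
    obtain ⟨x, hx, rfl⟩ := (mem_img_of_le hA).1 hy
    exact ⟨⟨x, hx⟩, (e x hx).symm⟩
  have hker : π'.ker ≤ (f.comp (inclusion hA')).ker := by
    intro x hx
    have h1 : ap π x = 1 := congrArg Subtype.val ((e x x.2).trans hx)
    have := hk x x.2 h1
    rwa [ap_of_mem f (hA' x.2)] at this
  refine ⟨π'.liftOfSurjective hs ⟨_, hker⟩, fun x hx => ?_⟩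
  rw [ap_of_mem _ (ap_mem_img π hx (hA hx)), e x hx, MonoidHom.liftOfRightInverse_comp_apply,
    ap_of_mem f (hA' hx)]
  rfl

theorem ap_cod {D : Subgroup G} (f : D →* Γ) (Y : Subgroup Γ) (h : ∀ x, f x ∈ Y) (x : G) :
    ((ap (f.codRestrict Y h) x : Y) : Γ) = ap f x := by
  unfold ap
  split_ifs <;> rfl

theorem mem_ext {A : Subgroup G} {t x : G} (ht : t * t = 1) (hn : t ∈ N[A]) :
    x ∈ A ⊔ zpowers t ↔ x ∈ A ∨ x * t ∈ A := by
  constructor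
  · intro h
    obtain ⟨o, ho, z, hz, rfl⟩ := (mem_sup_of_norm (zpowers_le.2 hn)).1 h
    rcases (H13.Dih.mem_zpowers_of_sq ht).1 hz with rfl | rfl
    · left; rwa [mul_one]
    · right; rwa [mul_assoc, ht, mul_one]
  · rintro (h | h)
    · exact mem_sup_left h
    · have := mul_mem (mem_sup_left h : x * t ∈ A ⊔ zpowers t) (mem_sup_right (mem_zpowers t))
      rwa [mul_assoc, ht, mul_one] at this

theorem conj_into [Finite G] {V P : Subgroup G} (hV : Odd ♯V) (hP : IsPi {2} P) (hn : P ≤ N[V])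
    {x : G} (hx : PiElt {2} x) (h : x ∈ V ⊔ P) : ∃ v ∈ V, v * x * v⁻¹ ∈ P := by
  have hS : Syl 2 (V ⊔ P) P := (isProd_sup hn).hall_right (isPi_odd.2 hV) hP
  obtain ⟨g, hg, hle⟩ := Sylow_Jsub Nat.prime_two hS hx.isPi (zpowers_le.2 h)
  rw [sup_comm] at hg
  obtain ⟨p, hp, o, ho, rfl⟩ := (mem_sup_of_norm' hn).1 hg
  rw [cj_zpowers, zpowers_le] at hle
  refine ⟨o, ho, ?_⟩
  simpa [mul_assoc] using mul_mem (mul_mem (inv_mem hp) hle) hp

/-- deflation of characters -/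
theorem defl [Fintype G] [Finite K] (π : G →* K) (hπ : Function.Surjective π) {ψ : G → ℂ}
    (hψ : IsCharacter G ψ) : ∃ φ θ, IsCharacter K φ ∧ IsCharacter G θ ∧
      (∀ x, ψ x = φ (π x) + θ x) ∧ ∀ x, (∀ o, π o = 1 → ψ (o * x) = ψ x) → θ x = 0 := by
  classical
  have key : ∃ φ θ, IsCharacter K φ ∧ IsCharacter G θ ∧ (∀ x, ψ x = φ (π x) + θ x) ∧
      ∀ x, ∑ o, (if π o = 1 then 1 else 0) * θ (o * x) = 0 := by
    refine hψ.induction (P := fun ψ => ∃ φ θ, IsCharacter K φ ∧ IsCharacter G θ ∧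
      (∀ x, ψ x = φ (π x) + θ x) ∧ ∀ x, ∑ o, (if π o = 1 then 1 else 0) * θ (o * x) = 0) ?_ ?_ ?_
    · exact ⟨0, 0, isCharacter_zero, isCharacter_zero, by simp, by simp⟩
    · intro χ hχ
      by_cases h : π.ker ≤ H5.charKer χ
      · obtain ⟨φ, h1, h2⟩ := H5.exists_deflation π hπ hχ.isCharacter h
        exact ⟨φ, 0, h1, isCharacter_zero, fun x => by simp [congrFun h2 x], by simp⟩
      · refine ⟨0, χ, isCharacter_zero, hχ.isCharacter, by simp, fun x => ?_⟩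
        obtain ⟨k, hk, hk'⟩ := SetLike.not_le_iff_exists.1 h
        have hf : IsClassFunction G fun o => if π o = 1 then (1 : ℂ) else 0 := fun a b => by
          simp only [map_mul, map_inv, conj_eq_one_iff']
        have h1 := hχ.sum_classFun_mul hf k
        have h2 : ∑ g, (if π g = 1 then (1 : ℂ) else 0) * χ (g * k) =
            ∑ g, (if π g = 1 then (1 : ℂ) else 0) * χ g := by
          rw [← Equiv.sum_comp (Equiv.mulRight k) fun g => (if π g = 1 then (1 : ℂ) else 0) * χ g]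
          simp [MonoidHom.mem_ker.1 hk]
        rw [h2] at h1
        have h3 : χ k ≠ χ 1 := fun e => hk' ((H5.mem_charKer_iff hχ.isCharacter).2 e)
        have h4 := hχ.apply_one_ne_zero
        rw [hχ.sum_classFun_mul hf x]
        generalize ∑ g, (if π g = 1 then (1 : ℂ) else 0) * χ g = s at h1
        have : s * (χ k - χ 1) = 0 := by field_simp at h1; linear_combination -h1
        rw [(mul_eq_zero.1 this).resolve_right (sub_ne_zero.2 h3)]; simp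
    · rintro _ _ - - ⟨φ, θ, a1, a2, a3, a4⟩ ⟨φ', θ', b1, b2, b3, b4⟩
      refine ⟨φ + φ', θ + θ', a1.add b1, a2.add b2, fun x => ?_, fun x => ?_⟩
      · simp only [Pi.add_apply, a3 x, b3 x]; ring
      · simp only [Pi.add_apply, mul_add, Finset.sum_add_distrib, a4 x, b4 x, add_zero]
  obtain ⟨φ, θ, h1, h2, h3, h4⟩ := key
  refine ⟨φ, θ, h1, h2, h3, fun x hx => ?_⟩
  have h5 : ∀ o, (if π o = 1 then (1 : ℂ) else 0) * θ (o * x) = (if π o = 1 then 1 else 0) * θ x := by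
    intro o
    split_ifs with k
    · have := hx o k
      rw [h3, h3 x, map_mul, k, one_mul] at this
      rw [add_left_cancel this]
    · simp
  have h6 := h4 x
  rw [Finset.sum_congr rfl fun o _ => h5 o, ← Finset.sum_mul, Finset.sum_boole] at h6
  refine (mul_eq_zero.1 h6).resolve_left (Nat.cast_ne_zero.2 (Finset.card_ne_zero.2 ⟨1, by simp⟩))

end general

variable {G K : Type u} [Group G] [Finite G] [Group K] [Finite K] {c : QC G}

/-- a section `X / O` with `O` of odd order -/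
structure Sec (M : Mod c) (X : Subgroup G) (π : X →* K) (g : G) : Prop where
  q5 : 5 ≤ M.N.q
  big : M.Big X
  surj : Function.Surjective π
  odd : Odd ♯(pre π ⊥)
  gX : g ∈ X
  rot : c.Rot g

namespace Sec

variable {M : Mod c} {X : Subgroup G} {π : X →* K} {g x y : G} (h : Sec M X π g)
include h

theorem ωX : c.ω ∈ X := h.big.S_le c.ω_mem_S
theorem sX : c.s ∈ X := h.big.S_le c.s_mem_S
theorem tX : c.t ∈ X := pow_mem h.ωX _
theorem iX : c.i ∈ X := pow_mem h.ωX _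

theorem ex (y : K) : ∃ x ∈ X, ap π x = y := by
  obtain ⟨x, rfl⟩ := h.surj y
  exact ⟨x, x.2, ap_coe π x⟩

theorem img_top : img π X = ⊤ := by rw [img_dom, MonoidHom.range_eq_top.2 h.surj]

theorem inj2 (hx : x ∈ X) (h2 : PiElt {2} x) (e : ap π x = 1) : x = 1 :=
  h2.eq_one ((isPi_odd.2 h.odd).piElt (mem_pre_bot.2 ⟨hx, e⟩))

theorem ord2 (hx : x ∈ X) (h2 : PiElt {2} x) : orderOf (ap π x) = orderOf x :=
  Nat.dvd_antisymm (orderOf_ap_dvd π hx) (orderOf_dvd_of_pow_eq_one (h.inj2 (pow_mem hx _)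
    (h2.pow _) (by rw [ap_pow π hx, pow_orderOf_eq_one])))

theorem lift (hx : x ∈ X) (h2 : PiElt {2} x) {y : K} (hy : y ∈ C{ap π x}) :
    ∃ z ∈ X ⊓ C{x}, ap π z = y := by
  obtain ⟨z, hz, rfl⟩ := h.ex y
  obtain ⟨v, hv, e⟩ := H26.coprime_lift_cent (A := zpowers x) (V := pre π ⊥)
    ((zpowers_le.2 hx).trans (ker_nml π).2) ((isPi_odd.2 h.odd).coprime' h2.isPi)
    (Or.inr (cyc_zpowers x).sol) (g := z) fun a ha => by
      have aX := zpowers_le.2 hx ha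
      refine mem_pre_bot.2 ⟨mul_mem (mul_mem (mul_mem aX hz) (inv_mem aX)) (inv_mem hz), ?_⟩
      have : ap π z ∈ C{ap π a} := C1_le_C1_of_mem_zpowers
        (img_zpowers π hx ▸ ap_mem_img π ha aX) hy
      rw [ap_mul π (mul_mem (mul_mem aX hz) (inv_mem aX)) (inv_mem hz), ap_conj π aX hz,
        ap_inv π hz, ← mem_C1.1 this]
      group
  rw [C_zpowers] at e
  have vX := pre_le _ _ hv
  exact ⟨v * z, ⟨mul_mem vX hz, e⟩, by rw [ap_mul π vX hz, (mem_pre_bot.1 hv).2, one_mul]⟩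

theorem lift_odd (hx : x ∈ X) (h2 : PiElt {2} x) {y : K} (hy : y ∈ C{ap π x})
    (ho : Odd (orderOf y)) : ∃ z ∈ X ⊓ C{x}, Odd (orderOf z) ∧ ap π z = y := by
  obtain ⟨z, hz, rfl⟩ := h.lift hx h2 hy
  exact ⟨_, constt_mem {2}ᶜ hz, piElt_odd.1 (piElt_constt _ _), by
    rw [constt_ap π _ hz.1, constt_eq_self (piElt_odd.2 ho)]⟩

theorem O_le : pre π ⊥ ⊓ c.H ≤ c.U :=
  M.le_U_of_cov h.q5 h.big.cov h.odd (inf_le_left.trans (ker_nml π).2)

theorem fus : ∃ k ∈ X, k * c.i * k⁻¹ = c.ω * c.s := by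
  have hQ : c.ω * c.s ∈ c.Q := mem_sup_right (mem_zpowers _)
  have hS := c.Q_le_S hQ
  have hH := c.S_le_H hS
  have hX := h.big.S_le hS
  have hL : ap M.κ (c.ω * c.s) ∈ M.L := (M.mem_Lt.1 (M.Q_syl.le hQ)).2
  have iH := c.i_mem_H
  have tH := c.pg_tH
  have tt := sq_of c.pg_t
  have hsq : c.ω * c.s * (c.ω * c.s) = c.t := by
    obtain ⟨k, e⟩ := c.fus
    have e' : k * c.i * k⁻¹ = c.ω * c.s := e
    have h1 : orderOf (c.ω * c.s) = 4 := by rw [← e', orderOf_conj, c.ord_i]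
    refine (c.Q_invol (mul_mem hQ hQ) ?_).resolve_left fun e => ?_
    · have := pow_orderOf_eq_one (c.ω * c.s)
      rw [h1] at this
      rw [← this]; simp only [pow_succ, pow_zero, one_mul, mul_assoc]
    · have := orderOf_dvd_of_pow_eq_one (show (c.ω * c.s) ^ 2 = 1 by rw [pow_two, e])
      rw [h1] at this; omega
  have h2 : PiElt {2} (c.ω * c.s) := c.S_pi.piElt hS
  have ho : orderOf (ap M.κ (c.ω * c.s)) = 2 := H13.Dih.two_of
    (by rw [← ap_mul _ hH hH, hsq, M.κ_t]) fun e => by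
      rcases M.b2_two hH e h2 with e | e <;> rw [e] at hsq
      · exact ne_one_of c.pg_t (by rw [← hsq, one_mul])
      · exact ne_one_of c.pg_t (by rw [← hsq, tt])
  obtain ⟨l, hl, e⟩ := M.invol_in ho hL
  obtain ⟨k, hk, kH, rfl⟩ := mem_img.1 (h.big.cov (inv_mem hl) : l⁻¹ ∈ _) |>.imp
    fun k hk => (⟨hk.1, hk.2.1, by rw [hk.2.2, inv_inv]⟩ : k ∈ X ∧ k ∈ c.H ∧ l = (ap M.κ k)⁻¹)
  set v := k * c.i * k⁻¹ with hv
  have vH : v ∈ c.H := mul_mem (mul_mem kH iH) (inv_mem kH)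
  have vX : v ∈ X := mul_mem (mul_mem hk h.iX) (inv_mem hk)
  have ev : ap M.κ v = ap M.κ (c.ω * c.s) := by
    rw [hv, ap_conj _ kH iH, show ap M.κ c.i = M.σ from rfl, ← e]; group
  have hP : IsPi {2} (zpowers (c.ω * c.s)) := h2.isPi
  have tP : c.t ∈ zpowers (c.ω * c.s) := hsq ▸ mul_mem (mem_zpowers _) (mem_zpowers _)
  have hm : v ∈ (c.U ⊓ X) ⊔ zpowers (c.ω * c.s) := by
    have k1 : ap M.κ (v * (c.ω * c.s)⁻¹) = 1 := by
      rw [ap_mul _ vH (inv_mem hH), ap_inv _ hH, ev, mul_inv_cancel]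
    have k2 := mul_mem vX (inv_mem hX)
    rcases M.b2_cases (mul_mem vH (inv_mem hH)) k1 with k3 | k3
    · simpa [mul_assoc] using mul_mem (mem_sup_left ⟨k3, k2⟩ : _ ∈ (c.U ⊓ X) ⊔ zpowers (c.ω * c.s))
        (mem_sup_right (mem_zpowers _))
    · have := mul_mem (mem_sup_left ⟨k3, mul_mem k2 h.tX⟩ : _ ∈ (c.U ⊓ X) ⊔ zpowers (c.ω * c.s))
        (mem_sup_right (mul_mem (inv_mem tP) (mem_zpowers _)))
      simpa [mul_assoc] using this
  obtain ⟨o, ho', k4⟩ := conj_into (H24.odd_of_le c.odd_U inf_le_left) hP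
    (norm_inf ((zpowers_le.2 hH).trans c.U_nml.2) (norm_of_le (zpowers_le.2 hX)))
    ((c.S_pi.piElt (c.Q_le_S c.i_mem_Q)).conj k) hm
  have oH := c.U_le_H ho'.1
  have wH := mul_mem (mul_mem oH vH) (inv_mem oH)
  have k5 : ap M.κ ((c.ω * c.s)⁻¹ * (o * v * o⁻¹)) = 1 := by
    rw [ap_mul _ (inv_mem hH) wH, ap_conj _ oH vH, M.κ_U ho'.1, ap_inv _ hH, ev]; group
  rcases M.b2_two (mul_mem (inv_mem hH) wH) k5 (hP.piElt (mul_mem (inv_mem (mem_zpowers _)) k4))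
    with e | e
  · refine ⟨o * k, mul_mem ho'.2 hk, ?_⟩
    rw [inv_mul_eq_one] at e
    rw [e, hv]; group
  · refine ⟨c.i⁻¹ * o * k, mul_mem (mul_mem (inv_mem h.iX) ho'.2) hk, ?_⟩
    have e1 : c.i * (c.ω * c.s) * c.i⁻¹ = c.ω * c.s * c.t := by
      have : c.i * c.ω = c.ω * c.i := (Commute.pow_self c.ω _).eq
      rw [← mul_assoc, this, mul_assoc, mul_assoc, ← mul_assoc c.i, c.i_s, ← c.four.comm, mul_assoc]
    calc c.i⁻¹ * o * k * c.i * (c.i⁻¹ * o * k)⁻¹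
        = c.i⁻¹ * (c.ω * c.s * ((c.ω * c.s)⁻¹ * (o * (k * c.i * k⁻¹) * o⁻¹))) * c.i := by group
      _ = c.ω * c.s := by rw [← hv, e, ← e1]; group

theorem img_S : img π c.S = zpowers (ap π c.ω) ⊔ zpowers (ap π c.s) := by
  rw [QC.S, img_sup π (zpowers_le.2 h.ωX) (zpowers_le.2 h.sX), img_zpowers π h.ωX,
    img_zpowers π h.sX]

/-- the coordinates on the section -/
noncomputable def qc : QC K where
  a := c.a
  ha := c.ha
  ω := ap π c.ω
  s := ap π c.s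
  ρ := ap π g
  ord_ω := by rw [h.ord2 h.ωX (c.S_pi.piElt c.ω_mem_S), c.ord_ω]
  ord_s := by rw [h.ord2 h.sX (c.S_pi.piElt c.s_mem_S), c.ord_s]
  rel := by rw [← ap_conj π h.sX h.ωX, c.rel, ap_pow π h.ωX]
  s_not := by
    rintro ⟨k, hk⟩
    have hk' : ap π c.ω ^ k = ap π c.s := hk
    have hm : c.ω ^ k ∈ c.S := zpow_mem c.ω_mem_S k
    have := h.inj2 (h.big.S_le (mul_mem (inv_mem hm) c.s_mem_S))
      (c.S_pi.piElt (mul_mem (inv_mem hm) c.s_mem_S)) (by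
        rw [ap_mul π (inv_mem (h.big.S_le hm)) h.sX, ap_inv π (h.big.S_le hm), ap_zpow π h.ωX, hk',
          inv_mul_cancel])
    exact c.s_not ⟨k, inv_mul_eq_one.1 this⟩
  syl := by
    have := (c.S_syl.of_le h.big.S_le le_top).img π le_rfl
    rwa [h.img_top, h.img_S] at this
  ρ_t := by rw [← ap_pow π h.ωX, ← h.rot.1, ap_conj π h.gX h.tX]; rfl
  ρ_s := by rw [← ap_pow π h.ωX, ← ap_conj π h.gX h.sX, h.rot.2, ap_mul π h.tX h.sX]; rfl
  fus := by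
    obtain ⟨k, hk, e⟩ := h.fus
    exact ⟨ap π k, by rw [← ap_pow π h.ωX, ← ap_mul π h.ωX h.sX, ← e, ap_conj π hk h.iX]; rfl⟩

theorem qc_t : h.qc.t = ap π c.t := (ap_pow π h.ωX _).symm
theorem qc_S : h.qc.S = img π c.S := h.img_S.symm

theorem qc_H : img π (X ⊓ c.H) = h.qc.H := by
  rw [show h.qc.H = C{ap π c.t} by rw [← h.qc_t]; rfl]
  refine le_antisymm (img_cent1 π inf_le_right h.tX) fun y hy => ?_
  obtain ⟨z, hz, rfl⟩ := h.lift h.tX (isPi_zp c.pg_t |>.piElt (mem_zpowers _)) hy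
  exact ap_mem_img π hz hz.1

theorem mem_H (hx : x ∈ X ⊓ c.H) : ap π x ∈ h.qc.H := h.qc_H ▸ ap_mem_img π hx hx.1

theorem ex_H {y : K} (hy : y ∈ h.qc.H) : ∃ x ∈ X ⊓ c.H, ap π x = y :=
  (mem_img_of_le inf_le_left).1 (h.qc_H.ge hy)

theorem mem_U (hx : x ∈ X ⊓ c.H) : ap π x ∈ h.qc.U ↔ x ∈ c.U := by
  constructor
  · intro k
    refine M.le_U_of_cov h.q5 h.big.cov (Y := pre π h.qc.U) (isPi_odd.1 (isPi_of_img (f := π)
      (pre_le _ _) ((isPi_odd.2 h.odd).inf_left _) ((isPi_odd.2 h.qc.odd_U).of_le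
        (img_pre_le _ _)))) (norm_pre inf_le_left (h.qc_H.le.trans h.qc.U_nml.2))
      ⟨mem_pre.2 ⟨hx.1, k⟩, hx.2⟩
  · intro k
    have hn : img π (c.U ⊓ (X ⊓ c.H)) ⊴ h.qc.H :=
      h.qc_H ▸ (c.U_nml.inf_right inf_le_right).img π
    exact pcore_max (((isPi_odd.2 c.odd_U).inf_left _).img π) hn (ap_mem_img π ⟨k, hx⟩ hx.1)

theorem inv {f : G → ℂ} {d : Dat} (hf : IsClassFunction G f) (hs : M.Sp 1 f d) (hx : x ∈ X)
    (ht : c.t ∈ zpowers x) {o : G} (ho : o ∈ pre π ⊥) : f (o * x) = f x := by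
  obtain ⟨k, hk⟩ := ht
  have hk' : x ^ k = c.t := hk
  have oX := pre_le _ _ ho
  have wX := mul_mem oX hx
  have e1 : ap π (o * x) = ap π x := by rw [ap_mul π oX hx, (mem_pre_bot.1 ho).2, one_mul]
  set v := constt {2} ((o * x) ^ k) with hv
  have vw : v ∈ zpowers (o * x) := constt_mem _ (zpow_mem (mem_zpowers _) k)
  have vX : v ∈ X := zpowers_le.2 wX vw
  have t2 : PiElt {2} c.t := (isPi_zp c.pg_t).piElt (mem_zpowers _)
  have e2 : ap π v = ap π c.t := by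
    rw [hv, constt_ap π _ (zpow_mem wX k), ap_zpow π wX, e1, ← ap_zpow π hx, hk',
      constt_eq_self (t2.ap π h.tX)]
  obtain ⟨p, hp, k1⟩ := conj_into h.odd t2.isPi ((zpowers_le.2 h.tX).trans (ker_nml π).2)
    (piElt_constt {2} ((o * x) ^ k)) ((mem_ext (sq_of c.pg_t) ((ker_nml π).2 h.tX)).2 (Or.inr
      (mem_pre_bot.2 ⟨mul_mem vX h.tX, by
        rw [ap_mul π vX h.tX, e2, ← ap_mul π h.tX h.tX, sq_of c.pg_t, ap_one]⟩)))
  have pX := pre_le _ _ hp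
  have k2 : p * v * p⁻¹ = c.t := by
    refine ((H13.Dih.mem_zpowers_of_sq (sq_of c.pg_t)).1 k1).resolve_left fun e => ?_
    rw [show v = 1 from conj_eq_one_iff'.1 e, ap_one] at e2
    exact ne_one_of c.pg_t (h.inj2 h.tX t2 e2.symm)
  have k3 : p * (o * x) * p⁻¹ ∈ c.H := c.mem_H_of (by
    rw [← k2, ← cj_zpowers]; exact conj_mem_cj p vw)
  have xH : x ∈ c.H := c.mem_H_of ⟨k, hk⟩
  have k4 : x⁻¹ * (p * (o * x) * p⁻¹) ∈ c.U := h.O_le ⟨mem_pre_bot.2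
    ⟨mul_mem (inv_mem hx) (mul_mem (mul_mem pX wX) (inv_mem pX)), by
      rw [ap_mul π (inv_mem hx) (mul_mem (mul_mem pX wX) (inv_mem pX)), ap_conj π pX wX, e1,
        (mem_pre_bot.1 hp).2, ap_inv π hx]; group⟩, c.H.mul_mem (inv_mem xH) k3⟩
  rw [← hs.mul_U ⟨k, hk⟩ k4, mul_inv_cancel_left, hf]

theorem exists_mod : ∃ M' : Mod h.qc, M'.N = M.N ∧ ∀ x ∈ X ⊓ c.H, M'.St (ap π x) = M.St x := by
  obtain ⟨κ₀, k0⟩ := descend π M.κ (A := X ⊓ c.H) inf_le_left inf_le_right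
    (fun x hx e => M.κ_U (h.O_le ⟨mem_pre_bot.2 ⟨hx.1, e⟩, hx.2⟩)) h.qc_H
  have hm : ∀ y, κ₀ y ∈ img M.κ X := fun y => by
    obtain ⟨x, hx, e⟩ := h.ex_H y.2
    rw [← ap_coe, ← e, k0 x hx]; exact ap_mem_img _ hx.1 hx.2
  have hL0 : M.L0 ≤ img M.κ X := by
    rw [← M.L_sup_e]
    exact sup_le h.big.cov (zpowers_le.2 (ap_mem_img _ h.sX (c.S_le_H c.s_mem_S)))
  let κ := κ₀.codRestrict _ hm
  have k1 : ∀ x ∈ X ⊓ c.H, ((ap κ (ap π x) : img M.κ X) : M.Γ) = ap M.κ x := fun x hx => by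
    rw [ap_cod, k0 x hx]
  let E : H0.WM.Emb (img M.κ X) M.F :=
    { j := M.E.j.comp (img M.κ X).subtype
      inj := M.E.inj.comp Subtype.val_injective
      ι := M.E.ι.codRestrict _ fun y => hL0 ⟨y, rfl⟩
      jι := M.E.jι
      odd := by
        have : (M.E.ι.codRestrict _ fun y => hL0 ⟨y, rfl⟩).range = M.L0.subgroupOf (img M.κ X) := by
          ext z
          exact ⟨fun ⟨y, e⟩ => ⟨y, congrArg Subtype.val e⟩, fun ⟨y, e⟩ => ⟨y, Subtype.ext e⟩⟩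
        rw [this]
        have := M.L0_nml
        exact M.odd_index.of_dvd_nat (relIndex_dvd_index_of_normal _ _) }
  have kL : ∀ z : img M.κ X, z ∈ E.L ↔ (z : M.Γ) ∈ M.L := fun z => by
    rw [E.mem_L, Mod.L, M.E.mem_L]; rfl
  have LH : M.Lt ≤ c.H := pre_le _ _
  have hLt : img π (X ⊓ M.Lt) = pre κ E.L := by
    ext y
    rw [mem_img_of_le inf_le_left, mem_pre]
    constructor
    · rintro ⟨x, hx, rfl⟩
      have hx' : x ∈ X ⊓ c.H := ⟨hx.1, LH hx.2⟩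
      exact ⟨h.mem_H hx', (kL _).2 (by rw [k1 x hx']; exact (M.mem_Lt.1 hx.2).2)⟩
    · rintro ⟨a1, a2⟩
      obtain ⟨x, hx, rfl⟩ := h.ex_H a1
      exact ⟨x, ⟨hx.1, M.mem_Lt.2 ⟨hx.2, by rw [← k1 x hx]; exact (kL _).1 a2⟩⟩, rfl⟩
  have lU : ∀ x ∈ M.Lt, ap M.lam x = 1 ↔ x ∈ c.U := fun x hx => by
    rw [ap_of_mem M.lam hx, M.lam_ker]
  obtain ⟨lam, l0⟩ := descend π M.lam (A := X ⊓ M.Lt) inf_le_left inf_le_right
    (fun x hx e => (lU x hx.2).2 (h.O_le ⟨mem_pre_bot.2 ⟨hx.1, e⟩, LH hx.2⟩)) hLt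
  have exL : ∀ y : pre κ E.L, ∃ x ∈ X ⊓ M.Lt, ap π x = y := fun y =>
    (mem_img_of_le inf_le_left).1 (hLt.ge y.2)
  have tXH : c.t ∈ X ⊓ c.H := ⟨h.tX, c.pg_tH⟩
  refine ⟨{ F := M.F, h2 := M.h2, Γ := img M.κ X, E := E, N := M.N, hq := M.hq, hn := M.hn, κ := κ
            surj := ?_, ker := ?_, S_in := ?_, s_out := ?_, lam := lam, lam_surj := ?_,
            lam_ker := ?_, lam_κ := ?_ }, rfl, fun x hx => ?_⟩
  · rintro ⟨z, hz⟩
    obtain ⟨x, a1, a2, rfl⟩ := mem_img.1 hz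
    exact ⟨⟨_, h.mem_H ⟨a1, a2⟩⟩, Subtype.ext
      ((congrArg Subtype.val (ap_of_mem κ _).symm).trans (k1 x ⟨a1, a2⟩))⟩
  · intro y
    obtain ⟨x, hx, e⟩ := h.ex_H y.2
    rw [← ap_coe κ, ← e, Subtype.ext_iff, k1 x hx, OneMemClass.coe_one, M.mem_ker hx.2,
      mem_ext (sq_of c.pg_t) (c.U_nml.2 c.pg_tH),
      mem_ext (sq_of h.qc.pg_t) (h.qc.U_nml.2 h.qc.pg_tH), h.qc_t, ← ap_mul π hx.1 h.tX,
      h.mem_U hx, h.mem_U (mul_mem hx tXH)]
  · intro y hy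
    obtain ⟨x, hx, rfl⟩ := (mem_img_of_le h.big.S_le).1 (h.qc_S.le hy)
    obtain ⟨z, e⟩ := M.S_in x hx
    exact ⟨z, Subtype.ext (by rw [k1 x ⟨h.big.S_le hx, c.S_le_H hx⟩, ← e]; rfl)⟩
  · intro k
    have := (kL _).1 k
    rw [show h.qc.s = ap π c.s from rfl, k1 _ ⟨h.sX, c.S_le_H c.s_mem_S⟩] at this
    exact M.s_out this
  · intro z
    obtain ⟨⟨x, hx⟩, rfl⟩ := M.lam_surj z
    obtain ⟨u, hu, y, hy, rfl⟩ := (mem_sup_of_norm ((inf_le_right.trans LH).trans c.U_nml.2)).1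
      ((M.b2_sup h.big.cov).ge hx)
    refine ⟨⟨ap π y, hLt.le (ap_mem_img π hy hy.1)⟩, ?_⟩
    rw [← ap_of_mem lam, l0 y hy, ← ap_of_mem M.lam, ap_mul M.lam (M.U_le_Lt hu) hy.2,
      (lU u (M.U_le_Lt hu)).2 hu, one_mul]
  · intro y
    obtain ⟨x, hx, e⟩ := exL y
    rw [← ap_coe lam, ← e, l0 x hx, lU x hx.2, h.mem_U ⟨hx.1, LH hx.2⟩]
  · intro y
    obtain ⟨x, hx, e⟩ := exL y
    refine Subtype.ext ?_
    rw [← ap_coe lam, ← e, l0 x hx, k1 x ⟨hx.1, LH hx.2⟩, ap_of_mem M.lam hx.2]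
    exact M.lam_κ ⟨x, hx.2⟩
  · unfold Mod.St
    rw [← k1 x hx]
    rfl

theorem sp {M' : Mod h.qc} (hSt : ∀ x ∈ X ⊓ c.H, M'.St (ap π x) = M.St x) {f : G → ℂ} {d : Dat}
    (hs : M.Sp 1 f d) {φ : K → ℂ} (hφ : IsClassFunction K φ)
    (e : ∀ x ∈ X, c.t ∈ zpowers x → φ (ap π x) = f x) : M'.Sp 1 φ d where
  cls y _ k _ := hφ y k
  cen y hy ho := by
    rw [show h.qc.H = C{ap π c.t} by rw [← h.qc_t]; rfl] at hy
    obtain ⟨z, hz, hz', rfl⟩ := h.lift_odd h.tX ((isPi_zp c.pg_t).piElt (mem_zpowers _)) hy ho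
    rw [h.qc_t, ← ap_mul π h.tX hz.1, e _ (mul_mem h.tX hz.1) (c.D_cen hz.2 hz'),
      hs.cen z hz.2 hz', hSt z hz]
    rfl
  om j hj hj' y hy ho := by
    have e1 : h.qc.ω ^ j = ap π (c.ω ^ j) := (ap_pow π h.ωX j).symm
    rw [e1] at hy ⊢
    have wX := pow_mem h.ωX j
    obtain ⟨z, hz, hz', rfl⟩ := h.lift_odd wX (c.S_pi.piElt (pow_mem c.ω_mem_S j)) hy ho
    rw [← ap_mul π wX hz.1, e _ (mul_mem wX hz.1) (c.D_om hj' hz.2 hz').1, hs.om j hj hj' z hz.2 hz']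
    rfl

end Sec

end H1.QZ
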