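import Mathlib
import Cfsg.Agent.H1.BG36
import Cfsg.Agent.H1.ThompsonFPF

/-! # frobenius.v API, B & G §2 (2.5) and §3, Wielandt fixed point formula (collects
`H1.Frob`, `H1.BG33`, `H1.Wielandt`, `H1.BG34`, `H1.BG38`, `H1.BG36`, `H1.ThompsonFPF`) -/
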