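import Mathlib
import Cfsg.Agent.H1.WS1
import Cfsg.Agent.H13.WDefs

/-!
# Counting in the group `Γ ≤ PΓL₂(q)`
-/

set_option autoImplicit false
set_option linter.unusedSectionVars false

namespace H1.WS

open H24 Cfsg Subgroup Finset
open H13.W (PD)

variable {Γ : Type} [Group Γ] {n : ℕ} (d : PD Γ n)

/-- the involution of `⟨e⟩` -/
def uu : Γ := d.e ^ 2 ^ (n - 1)

/-- powers of `e` indexed by `Z_N` -/
def ee (a : ZMod (2 ^ n)) : Γ := d.e ^ a.val

/-- `ε St` -/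
noncomputable def St (γ : Γ) : ℤ := d.N.ε * (Nat.card (MulAction.fixedBy d.Ω γ) - 1)

theorem ee_add (a b : ZMod (2 ^ n)) : ee d (a + b) = ee d a * ee d b := by
  unfold ee
  rw [← pow_add, ZMod.val_add]
  have := pow_mod_orderOf d.e (a.val + b.val)
  rwa [d.ord_e] at this

theorem ee_zero : ee d 0 = 1 := by simp [ee]

theorem ee_eq_one {a : ZMod (2 ^ n)} : ee d a = 1 ↔ a = 0 := by
  refine ⟨fun h => ?_, fun h => h ▸ ee_zero d⟩
  have h1 := orderOf_dvd_of_pow_eq_one h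
  rw [d.ord_e] at h1
  exact (ZMod.val_eq_zero a).1 (Nat.eq_zero_of_dvd_of_lt h1 (ZMod.val_lt a))

theorem ee_neg (a : ZMod (2 ^ n)) : ee d (-a) = (ee d a)⁻¹ := by
  rw [eq_inv_iff_mul_eq_one, ← ee_add, neg_add_cancel, ee_zero]

theorem ee_mem (a : ZMod (2 ^ n)) : ee d a ∈ zpowers d.e := pow_mem (mem_zpowers _) _

theorem exists_ee [Finite Γ] {x : Γ} (hx : x ∈ zpowers d.e) : ∃ a, x = ee d a := by
  obtain ⟨k, rfl⟩ := (mem_powers_iff_mem_zpowers.2 hx)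
  refine ⟨k, ?_⟩
  simp only [ee]
  rw [ZMod.val_natCast, ← d.ord_e, pow_mod_orderOf]

theorem e_two : PiElt {2} d.e := two_of_pow (k := n) (by rw [← d.ord_e, pow_orderOf_eq_one])

theorem ee_two (a : ZMod (2 ^ n)) : PiElt {2} (ee d a) := (e_two d).pow _

theorem ord_uu (hn : 2 ≤ n) : orderOf (uu d) = 2 := by
  unfold uu
  rw [orderOf_pow' _ (by positivity), d.ord_e]
  obtain ⟨k, rfl⟩ : ∃ k, n = k + 1 := ⟨n - 1, by omega⟩
  rw [Nat.add_sub_cancel, pow_succ, Nat.gcd_mul_right_left, Nat.mul_div_cancel_left _ (by positivity)]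

theorem uu_mem : uu d ∈ zpowers d.e := pow_mem (mem_zpowers _) _

theorem e_mem_L0 : d.e ∈ d.L0 := d.T_le d.e_mem

theorem zp_le_T : zpowers d.e ≤ d.T := zpowers_le.2 d.e_mem

theorem sq_mem_L {x : Γ} (hx : x ∈ d.L0) : x * x ∈ d.L :=
  mul_self_mem_of_index_two (H := d.L.subgroupOf d.L0) d.L_index ⟨x, hx⟩

theorem odd_mem_L {x : Γ} (hx : x ∈ d.L0) (ho : Odd (orderOf x)) : x ∈ d.L := by
  obtain ⟨k, hk⟩ := ho
  have : x = ((x * x) ^ k)⁻¹ := by
    rw [eq_inv_iff_mul_eq_one, ← sq, ← pow_mul, ← pow_succ', ← hk, pow_orderOf_eq_one]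
  rw [this]
  exact inv_mem (pow_mem (sq_mem_L d hx) k)

theorem ee_dbl_mem (a : ZMod (2 ^ n)) : ee d (a + a) ∈ d.L := by
  rw [ee_add]; exact sq_mem_L d (d.T_le (zp_le_T d (ee_mem d a)))

theorem uu_mem_L (hn : 2 ≤ n) : uu d ∈ d.L := by
  unfold uu
  obtain ⟨k, rfl⟩ : ∃ k, n = k + 2 := ⟨n - 2, by omega⟩
  rw [show k + 2 - 1 = k + 1 by omega, pow_succ, mul_two, pow_add]
  exact sq_mem_L d (pow_mem (e_mem_L0 d) _)

theorem e_sq_ne (hn : 2 ≤ n) : d.e * d.e ≠ 1 := by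
  intro h
  have h1 : orderOf d.e ∣ 2 := orderOf_dvd_of_pow_eq_one (by rw [sq, h])
  rw [d.ord_e] at h1
  have h2 := Nat.le_of_dvd two_pos h1
  have h3 : 2 ^ 2 ≤ 2 ^ n := Nat.pow_le_pow_right two_pos hn
  omega

theorem T_abl : Abl d.T := by
  have := d.T_cyc
  exact IsCyclic.isMulCommutative

theorem T_le_Ce : d.T ≤ C{d.e} := fun _ hx => mem_C1.2 ((T_abl d).comm hx d.e_mem)

theorem Ce_inf (hn : 2 ≤ n) : d.L0 ⊓ C{d.e} = d.T :=
  le_antisymm (d.cent_T _ d.e_mem (e_sq_ne d hn)) (le_inf d.T_le (T_le_Ce d))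

theorem cover' (γ : Γ) : ∃ l ∈ d.L0, ∃ w ∈ C{d.e}, γ = l * w := by
  have := d.L0_nml
  exact (mem_sup_of_norm (norm_of_normal _ _)).1 (d.cover ▸ mem_top γ)

theorem s_inv_eq : d.s⁻¹ = d.s := inv_eq_of_mul_eq_one_left d.s_sq

theorem inv_of_not {g : Γ} (hg : g ∈ C{uu d}) (h : g ∉ C{d.e}) : g * d.e * g⁻¹ = d.e⁻¹ := by
  have h1 := mem_C1_iff_conj.1 ((d.cent_u g hg).resolve_left h)
  have h2 := d.s_inv _ d.e_mem
  calc g * d.e * g⁻¹ = (g * (d.s * d.e * d.s⁻¹) * g⁻¹)⁻¹ := by rw [h2]; group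
    _ = (g * d.s * d.e * (g * d.s)⁻¹)⁻¹ := by group
    _ = _ := by rw [h1]

theorem odd_mem_Ce {g : Γ} (hg : g ∈ C{uu d}) (ho : Odd (orderOf g)) : g ∈ C{d.e} := by
  by_contra h
  have h1 := inv_of_not d hg h
  have h2 : g * g ∈ C{d.e} := by
    rw [mem_C1_iff_conj]
    calc g * g * d.e * (g * g)⁻¹ = g * (g * d.e * g⁻¹) * g⁻¹ := by group
      _ = g * d.e⁻¹ * g⁻¹ := by rw [h1]
      _ = (g * d.e * g⁻¹)⁻¹ := by group
      _ = _ := by rw [h1, inv_inv]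
  obtain ⟨k, hk⟩ := ho
  have : g = ((g * g) ^ k)⁻¹ := by
    rw [eq_inv_iff_mul_eq_one, ← sq, ← pow_mul, ← pow_succ', ← hk, pow_orderOf_eq_one]
  exact h (this ▸ inv_mem (pow_mem h2 k))

theorem Ce_le_Cu : C{d.e} ≤ C{uu d} := C1_le_C1_of_mem_zpowers (uu_mem d)

theorem s_mem_Cu (hn : 2 ≤ n) : d.s ∈ C{uu d} := by
  rw [mem_C1_iff_conj, d.s_inv _ (zp_le_T d (uu_mem d))]
  exact inv_eq_of_mul_eq_one_left (sq_eq_one_of (ord_uu d hn))

theorem s_not_Ce (hn : 2 ≤ n) : d.s ∉ C{d.e} := fun h =>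
  d.s_not (Ce_inf d hn ▸ Subgroup.mem_inf.2 ⟨d.L_le d.s_mem, h⟩)

theorem es_sq : d.e * d.s * (d.e * d.s) = 1 := by
  calc d.e * d.s * (d.e * d.s) = d.e * (d.s * d.e * d.s⁻¹) := by rw [s_inv_eq]; group
    _ = 1 := by rw [d.s_inv _ d.e_mem, mul_inv_cancel]

theorem Ts_sq {τ : Γ} (h : τ ∈ d.T) : τ * d.s * (τ * d.s) = 1 := by
  calc τ * d.s * (τ * d.s) = τ * (d.s * τ * d.s⁻¹) := by rw [s_inv_eq]; group
    _ = 1 := by rw [d.s_inv _ h, mul_inv_cancel]

theorem Ts_ord {τ : Γ} (h : τ ∈ d.T) : orderOf (τ * d.s) = 2 :=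
  ord_two (Ts_sq d h) fun e => d.s_not (by
    rw [← inv_eq_of_mul_eq_one_right e]; exact inv_mem h)

theorem Ts_conj {τ : Γ} (h : τ ∈ d.T) (h' : τ ∈ d.L) : IsConj (uu d) (τ * d.s) := by
  obtain ⟨g, -, hg⟩ := d.inv_conj _ (mul_mem h' d.s_mem) (Ts_ord d h)
  exact isConj_iff.2 ⟨g, hg⟩

theorem St_conj (δ γ : Γ) : St d (δ * γ * δ⁻¹) = St d γ := by
  unfold St
  rw [← MulAction.smul_fixedBy, Set.natCard_smul_set]

theorem eps_sq : d.N.ε * d.N.ε = 1 := by rcases d.N.hε with h | h <;> rw [h] <;> norm_num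

theorem q_pos : 0 < d.N.q := by rw [d.N.hq]; exact pow_pos d.N.hp.pos _

variable [Fintype Γ]

theorem card_Ce (hn : 2 ≤ n) : ♯C{d.e} = d.N.m * d.L0.index := by
  have := d.L0_nml
  have h1 := (d.cover ▸ isProd_sup (norm_of_normal C{d.e} d.L0)).card
  rw [Ce_inf d hn, d.card_T, card_top, ← d.L0.card_mul_index, mul_assoc] at h1
  rw [← Nat.eq_of_mul_eq_mul_left (card_pos d.L0) h1, mul_comm]

theorem syl_e (hn : 2 ≤ n) : Syl 2 C{d.e} (zpowers d.e) := by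
  refine Syl.mk' Nat.prime_two (zpowers_le_C1 _) (e_two d).isPi fun h => ?_
  have h1 := card_mul_relIndex (zpowers_le_C1 d.e)
  rw [card_zpowers', d.ord_e, card_Ce d hn, d.hm, mul_assoc] at h1
  rw [Nat.eq_of_mul_eq_mul_left (by positivity) h1] at h
  exact (Nat.not_even_iff_odd.2 (d.odd_m'.mul d.odd_index)) (even_iff_two_dvd.2 h)

theorem two_mem (hn : 2 ≤ n) {x : Γ} (hx : x ∈ C{d.e}) (h2 : PiElt {2} x) : x ∈ zpowers d.e :=
  (syl_e d hn).mem_of_nml (norm_zpowers_of_cent le_rfl) h2 hx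

theorem uu_mem_zp (hn : 2 ≤ n) {x : Γ} (hx : x ∈ zpowers d.e) (h1 : x ≠ 1) :
    uu d ∈ zpowers x := by
  obtain ⟨v, hv, h2⟩ := exists_inv (not_odd_of_two ((e_two d).of_mem_zpowers hx) h1)
  rwa [inv_unique (uu_mem d) (zpowers_le.2 hx hv) (ord_uu d hn) h2]

theorem card_Cu (hn : 2 ≤ n) : ♯C{uu d} = 2 * ♯C{d.e} := by
  rw [← card_mul_relIndex (Ce_le_Cu d), mul_comm]
  congr 1
  rw [relIndex_eq_two_iff]
  refine ⟨d.s, s_mem_Cu d hn, fun b hb => ?_⟩
  by_cases h : b ∈ C{d.e}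
  · refine Or.inr ⟨h, fun h' => s_not_Ce d hn ?_⟩
    simpa using mul_mem (inv_mem h) h'
  · exact Or.inl ⟨(d.cent_u b hb).resolve_left h, h⟩

theorem card_cl (hn : 2 ≤ n) : (H5.cl (uu d)).card * (2 * ♯C{d.e}) = Nat.card Γ := by
  rw [H5.card_cl, ← card_Cu d hn, mul_comm, Subgroup.card_mul_index]

theorem card_cl' (hn : 2 ≤ n) : 2 * (H5.cl (uu d)).card = d.N.q * d.N.n := by
  have h1 := card_cl d hn
  rw [card_Ce d hn, ← d.L0.card_mul_index, d.card_L0] at h1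
  have h2 : 0 < d.N.m * d.L0.index := by rw [← card_Ce d hn]; exact card_pos _
  apply Nat.eq_of_mul_eq_mul_right h2
  linarith

theorem mem_Ce_of (hn : 2 ≤ n) {x y : Γ} (hx : PiElt {2} x) (hy : Odd (orderOf y))
    (h : x * y = y * x) (hu : uu d ∈ zpowers (x * y))
    (hc : x * x = 1 ∨ ∃ δ, δ * x * δ⁻¹ ∈ zpowers d.e) : x * y ∈ C{d.e} := by
  have hu' := inv_mem_left hx hy h hu (ord_uu d hn)
  have h1 : y ∈ C{d.e} := odd_mem_Ce d (mem_C1.2 (comm_of_zpowers (right_mem hx hy h) hu)) hy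
  refine mul_mem ?_ h1
  have x1 : x ≠ 1 := by
    rintro rfl
    exact not_odd_of_inv hu' (ord_uu d hn) (by simp)
  rcases hc with hc | ⟨δ, hδ⟩
  · rw [inv_unique (mem_zpowers x) hu' (ord_two hc x1) (ord_uu d hn)]
    exact zpowers_le_C1 _ (uu_mem d)
  · have h2 : δ * uu d * δ⁻¹ = uu d := inv_unique (zpowers_le.2 hδ ((mem_zpowers_conj δ).2 hu'))
      (uu_mem d) (by rw [orderOf_conj, ord_uu d hn]) (ord_uu d hn)
    have h3 : δ ∈ N[zpowers d.e] := by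
      by_cases h4 : δ ∈ C{d.e}
      · exact norm_zpowers_of_cent le_rfl h4
      · refine mem_N_of_cj_le ?_
        rw [cj_zpowers, inv_of_not d (mem_C1_iff_conj.2 h2) h4, zpowers_inv]
    exact zpowers_le_C1 _ ((conj_mem_iff h3).1 hδ)

theorem St_e {x y : Γ} (hx : x ∈ zpowers d.e) (h1 : x ≠ 1) (hy : Odd (orderOf y))
    (h : x * y = y * x) : St d (x * y) = 1 := by
  have h2 := d.fix_e x hx h1
  unfold St
  rw [fixedBy_mul ((e_two d).of_mem_zpowers hx) hy h (by rcases d.N.hε with h | h <;> omega), h2,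
    add_sub_cancel_left, eps_sq]

theorem St_es {y : Γ} (hy : Odd (orderOf y)) (h : d.e * d.s * y = y * (d.e * d.s)) :
    St d (d.e * d.s * y) = -1 := by
  have h2 := d.fix_es
  unfold St
  rw [fixedBy_mul (two_of_sq (es_sq d)) hy h (by rcases d.N.hε with h | h <;> omega), h2,
    sub_sub_cancel_left, mul_neg, eps_sq]

open Classical in
theorem card_fix (γ : Γ) :
    (Nat.card (MulAction.fixedBy d.Ω γ) : ℂ) = ∑ x : d.Ω, if γ • x = x then 1 else 0 := by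
  rw [Finset.sum_boole, Nat.card_eq_fintype_card, Fintype.card_subtype]
  rfl

theorem exists_ne' (x : d.Ω) : ∃ y, x ≠ y := by
  have : Nontrivial d.Ω := Fintype.one_lt_card_iff_nontrivial.1 (by
    rw [d.cardΩ]; have := q_pos d; omega)
  obtain ⟨y, hy⟩ := exists_ne x
  exact ⟨y, hy.symm⟩

theorem trans1 (x x' : d.Ω) : ∃ g ∈ d.L0, g • x = x' := by
  obtain ⟨y, hy⟩ := exists_ne' d x
  obtain ⟨y', hy'⟩ := exists_ne' d x'
  obtain ⟨g, hg, h, -⟩ := d.two_trans x y x' y' hy hy'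
  exact ⟨g, hg, h⟩

theorem card_stab (x : d.Ω) : ♯(MulAction.stabilizer Γ x) * (d.N.q + 1) = Nat.card Γ := by
  have : MulAction.IsPretransitive Γ d.Ω := ⟨fun a b => by
    obtain ⟨g, -, h⟩ := trans1 d a b; exact ⟨g, h⟩⟩
  rw [← d.cardΩ, ← Nat.card_eq_fintype_card, ← MulAction.index_stabilizer_of_transitive Γ x,
    Subgroup.card_mul_index]

theorem card_stab2 {x y : d.Ω} (h : x ≠ y) :
    ♯(MulAction.stabilizer Γ (x, y)) * ((d.N.q + 1) * d.N.q) = Nat.card Γ := by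
  classical
  have h1 := MulAction.index_stabilizer Γ (x, y)
  have h2 : MulAction.orbit Γ (x, y) = ↑(univ : Finset d.Ω).offDiag := by
    ext ⟨a, b⟩
    simp only [coe_offDiag, coe_univ, Set.mem_offDiag, Set.mem_univ, true_and]
    constructor
    · rintro ⟨g, hg⟩ e
      simp only [Prod.smul_mk, Prod.mk.injEq] at hg
      exact h (MulAction.injective g (hg.1.trans (e.trans hg.2.symm)))
    · intro hab
      obtain ⟨g, -, h1, h2⟩ := d.two_trans x y a b h hab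
      exact ⟨g, Prod.ext h1 h2⟩
  rw [h2, Set.ncard_coe_finset, offDiag_card, card_univ, d.cardΩ] at h1
  rw [← (MulAction.stabilizer Γ (x, y)).card_mul_index, h1]
  congr 1
  rw [Nat.mul_succ, Nat.add_sub_cancel]

section Lam

variable (lam : Γ →* ℂˣ) (h0 : d.L0 ≤ lam.ker)

open Classical in
/-- `1` for the trivial character, `0` otherwise -/
noncomputable def dl (lam : Γ →* ℂˣ) : ℂ := if lam = 1 then 1 else 0

include h0

theorem sum_lam_top : ∑ γ, (lam γ : ℂ) = dl lam * Nat.card Γ := by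
  rw [← FS_top, sum_lam lam h0 (fun y => ⟨1, one_mem _, y, mem_top _, (one_mul y).symm⟩), card_top]
  rfl

theorem sum_lam_Ce : ∑ γ ∈ FS C{d.e}, (lam γ : ℂ) = dl lam * ♯C{d.e} :=
  sum_lam lam h0 (cover' d)

theorem sum_lam_stab {A : Type} [MulAction Γ A] [DecidableEq A] (x : A)
    (h : ∀ γ : Γ, ∃ g ∈ d.L0, g • x = γ • x) :
    ∑ γ, (lam γ : ℂ) * (if γ • x = x then 1 else 0) =
      dl lam * ♯(MulAction.stabilizer Γ x) := by
  rw [dl, ← sum_lam lam h0 (W := MulAction.stabilizer Γ x), FS, Finset.sum_filter]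
  · refine Finset.sum_congr rfl fun γ _ => ?_
    simp only [MulAction.mem_stabilizer_iff]
    split_ifs <;> simp
  · intro γ
    obtain ⟨g, hg, e⟩ := h γ
    refine ⟨g, hg, g⁻¹ * γ, ?_, by group⟩
    rw [MulAction.mem_stabilizer_iff, mul_smul, ← e, inv_smul_smul]

theorem sum_lam_fix : ∑ γ, (lam γ : ℂ) * Nat.card (MulAction.fixedBy d.Ω γ) =
    dl lam * Nat.card Γ := by
  classical
  simp only [card_fix, Finset.mul_sum]
  rw [Finset.sum_comm]
  have h1 : ∀ x : d.Ω, ∑ γ, (lam γ : ℂ) * (if γ • x = x then 1 else 0) =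
      dl lam * (Nat.card Γ / (d.N.q + 1)) := by
    intro x
    rw [sum_lam_stab d lam h0 x (fun γ => trans1 d _ _), ← card_stab d x]
    have : (d.N.q + 1 : ℂ) ≠ 0 := by exact_mod_cast Nat.succ_ne_zero d.N.q
    push_cast
    field_simp
  rw [Finset.sum_congr rfl fun x _ => h1 x, Finset.sum_const, card_univ, d.cardΩ, nsmul_eq_mul]
  have : (d.N.q + 1 : ℂ) ≠ 0 := by exact_mod_cast Nat.succ_ne_zero d.N.q
  push_cast
  field_simp

theorem sum_lam_fix2 : ∑ γ, (lam γ : ℂ) * Nat.card (MulAction.fixedBy d.Ω γ) ^ 2 =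
    2 * dl lam * Nat.card Γ := by
  classical
  have hq : (d.N.q + 1 : ℂ) ≠ 0 := by exact_mod_cast Nat.succ_ne_zero d.N.q
  have hq' : (d.N.q : ℂ) ≠ 0 := by exact_mod_cast (q_pos d).ne'
  have h1 : ∀ γ : Γ, (lam γ : ℂ) * Nat.card (MulAction.fixedBy d.Ω γ) ^ 2 =
      ∑ x : d.Ω, ∑ y : d.Ω, (lam γ : ℂ) * (if γ • (x, y) = (x, y) then 1 else 0) := by
    intro γ
    rw [card_fix, sq, Finset.sum_mul_sum, Finset.mul_sum]
    refine Finset.sum_congr rfl fun x _ => ?_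
    rw [Finset.mul_sum]
    refine Finset.sum_congr rfl fun y _ => ?_
    simp only [Prod.smul_mk, Prod.mk.injEq]
    by_cases a : γ • x = x <;> by_cases b : γ • y = y <;> simp [a, b]
  have h2 : ∀ x y : d.Ω, ∑ γ, (lam γ : ℂ) * (if γ • (x, y) = (x, y) then 1 else 0) =
      if x = y then dl lam * (Nat.card Γ / (d.N.q + 1))
      else dl lam * (Nat.card Γ / ((d.N.q + 1) * d.N.q)) := by
    intro x y
    split_ifs with h
    · subst h
      have := sum_lam_stab d lam h0 x (fun γ => trans1 d _ _)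
      simp only [Prod.smul_mk, Prod.mk.injEq, and_self]
      rw [this, ← card_stab d x]
      push_cast
      field_simp
    · rw [sum_lam_stab d lam h0 (x, y), ← card_stab2 d h]
      · push_cast
        field_simp
      · intro γ
        obtain ⟨g, hg, a, b⟩ := d.two_trans x y (γ • x) (γ • y) h
          (fun e => h (MulAction.injective γ e))
        exact ⟨g, hg, Prod.ext a b⟩
  rw [Finset.sum_congr rfl fun γ _ => h1 γ, Finset.sum_comm]
  have h3 : ∀ x : d.Ω, ∑ γ, ∑ y : d.Ω, (lam γ : ℂ) * (if γ • (x, y) = (x, y) then 1 else 0) =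
      2 * dl lam * (Nat.card Γ / (d.N.q + 1)) := by
    intro x
    rw [Finset.sum_comm, Finset.sum_congr rfl fun y _ => h2 x y, Finset.sum_ite, Finset.sum_const,
      Finset.sum_const, Finset.filter_eq, if_pos (mem_univ _), card_singleton,
      Finset.filter_ne, card_erase_of_mem (mem_univ _), card_univ, d.cardΩ, Nat.add_sub_cancel]
    simp only [nsmul_eq_mul]
    push_cast
    field_simp
    ring
  rw [Finset.sum_congr rfl fun x _ => h3 x, Finset.sum_const, card_univ, d.cardΩ, nsmul_eq_mul]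
  push_cast
  field_simp

theorem sum_lam_St : ∑ γ, (lam γ : ℂ) * St d γ = 0 := by
  have : ∀ γ : Γ, (lam γ : ℂ) * St d γ = d.N.ε * ((lam γ : ℂ) *
      Nat.card (MulAction.fixedBy d.Ω γ) - lam γ) := by
    intro γ; unfold St; push_cast; ring
  simp only [this]
  rw [← Finset.mul_sum, Finset.sum_sub_distrib, sum_lam_fix d lam h0, sum_lam_top d lam h0,
    sub_self, mul_zero]

theorem sum_lam_St2 : ∑ γ, (lam γ : ℂ) * St d γ ^ 2 = dl lam * Nat.card Γ := by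
  have he : (d.N.ε : ℂ) * d.N.ε = 1 := by exact_mod_cast eps_sq d
  have : ∀ γ : Γ, (lam γ : ℂ) * St d γ ^ 2 = (lam γ : ℂ) *
      Nat.card (MulAction.fixedBy d.Ω γ) ^ 2 - 2 * ((lam γ : ℂ) *
      Nat.card (MulAction.fixedBy d.Ω γ)) + lam γ := by
    intro γ; unfold St; push_cast
    linear_combination ((lam γ : ℂ) * (Nat.card (MulAction.fixedBy d.Ω γ) - 1) ^ 2) * he
  simp only [this]
  rw [Finset.sum_add_distrib, Finset.sum_sub_distrib, ← Finset.mul_sum, sum_lam_fix d lam h0,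
    sum_lam_top d lam h0, sum_lam_fix2 d lam h0]
  ring

end Lam

end H1.WS
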