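import Mathlib
import Cfsg.Agent.H1.WS2

/-!
# The structure of `H = C(t)` in a group with wreathed Sylow 2-subgroup
-/

set_option autoImplicit false
set_option linter.unusedSectionVars false

namespace H1.WS

open H24 Cfsg Subgroup Finset
open H22 (WR WA Bj hh)
open H13.W (PD WC Mod Sing)
open scoped commutatorElement

universe u

variable {G : Type u} [Group G]

section WC

variable (c : WC G)

theorem n1 : 1 ≤ c.n := le_trans one_le_two c.hn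

theorem t_ord : orderOf c.t = 2 := c.E.orderOf_z (n1 c)
theorem u_ord : orderOf c.u = 2 := c.E.orderOf_u (n1 c)

theorem S_le_H : c.S ≤ c.H := fun _ hg =>
  mem_C1_iff_conj.2 (c.E.r_diag_comm (H22.diag_mem_Bj _) hg)

theorem r_H (a : WA c.n) : c.E.r a ∈ c.H := S_le_H c (c.E.r_mem a)
theorem s_H (a : WA c.n) : c.E.s a ∈ c.H := S_le_H c (c.E.s_mem a)
theorem t_H : c.t ∈ c.H := r_H c _
theorem u_H : c.u ∈ c.H := r_H c _
theorem σ_H : c.σ ∈ c.H := s_H c _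

theorem t_comm {h : G} (hh : h ∈ c.H) : h * c.t * h⁻¹ = c.t := mem_C1_iff_conj.1 hh

theorem O_le : c.O ≤ c.H := pcore_le _ _
theorem H_N : c.H ≤ N[c.O] := (pcore_nml {2}ᶜ c.H).2

theorem mem_Z {z : G} : z ∈ c.Z ↔ ∃ j, z = c.E.r (j, j) := by
  constructor
  · rintro ⟨⟨a, b⟩, ha, rfl⟩
    obtain rfl : a = b := H22.mem_Bj_zero.1 ha
    exact ⟨a, rfl⟩
  · rintro ⟨j, rfl⟩
    exact ⟨_, H22.diag_mem_Bj j, rfl⟩

theorem s_eq (a : WA c.n) : c.E.s a = c.E.r a * c.σ := by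
  rw [WC.σ, c.E.r_mul_s, add_zero]

theorem om_pow (j : ℕ) :
    c.E.s (1, 0) ^ (2 * j + 1) = c.E.s ((j : ZMod (2 ^ c.n)) + 1, (j : ZMod (2 ^ c.n))) := by
  rw [pow_succ, pow_mul, sq, c.E.s_mul_self, c.E.r_pow, c.E.r_mul_s]
  simp

theorem fus_H : ∃ h ∈ c.H, h * c.σ * h⁻¹ = c.u := by
  obtain ⟨h, h1, h2⟩ := c.fus
  exact ⟨h, mem_C1.2 (h1 _), h2⟩

theorem w_t : c.w * c.t * c.w⁻¹ = c.u := by
  rw [WC.t, c.hw, WC.u, H22.neg_hh (n1 c), sub_self]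

theorem w_u : c.w * c.u * c.w⁻¹ = c.E.r (0, hh c.n) := by
  rw [WC.u, c.hw, H22.neg_hh (n1 c), sub_zero]

theorem ut : c.u * c.t = c.E.r (0, hh c.n) := by
  rw [WC.u, WC.t, c.E.r_mul_r, Prod.mk_add_mk, H22.hh_add_hh (n1 c), zero_add]

theorem σ_u : c.σ * c.u * c.σ⁻¹ = c.u * c.t := by
  rw [ut, WC.σ, WC.u, c.E.s_conj_r, H22.sw_mk]

theorem not_sing {a : WA c.n} (h : a.1 ≠ a.2) (ht : c.t ∈ zpowers (c.E.r a)) : ¬ Sing a := by
  obtain ⟨m, hm⟩ := c.E.mem_zpowers_r.1 ht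
  rw [WC.t, c.E.r_inj] at hm
  have h1 : (m : ZMod (2 ^ c.n)) * a.1 = hh c.n := by simpa using congrArg Prod.fst hm
  have h2 : (m : ZMod (2 ^ c.n)) * a.2 = hh c.n := by simpa using congrArg Prod.snd hm
  have h3 := H22.hh_add_hh (n1 c)
  rintro (e | e | e)
  · exact h e
  · exact H22.hh_ne_zero (n1 c) (by linear_combination (m : ZMod (2 ^ c.n)) * e - h1 - 2 * h2 - h3)
  · exact H22.hh_ne_zero (n1 c) (by linear_combination (m : ZMod (2 ^ c.n)) * e - 2 * h1 - h2 - h3)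

variable [Finite G]

theorem O_odd : Odd ♯c.O := odd_card_iff.2 (pcore_pi _ _)

theorem S_two {x : G} (hx : x ∈ c.S) : PiElt {2} x :=
  (isPi_of_isPGroup Nat.prime_two c.E.isPGroup).piElt hx

theorem r_two (a : WA c.n) : PiElt {2} (c.E.r a) := S_two c (c.E.r_mem a)
theorem s_two (a : WA c.n) : PiElt {2} (c.E.s a) := S_two c (c.E.s_mem a)

theorem conj_S {X : Subgroup G} (hX : c.S ≤ X) {x : G} (hx : x ∈ X) (h2 : PiElt {2} x) :
    ∃ h ∈ X, h * x * h⁻¹ ∈ c.S := by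
  obtain ⟨g, hg, h⟩ := Sylow_Jsub Nat.prime_two
    ((syl_top_of_sylow Nat.prime_two c.P).of_le hX le_top) h2.isPi (zpowers_le.2 hx)
  exact ⟨g, hg, h (conj_mem_cj g (mem_zpowers x))⟩

theorem r_mem_O {a : WA c.n} (h : c.E.r a ∈ c.O) : a = 0 :=
  c.E.r_eq_one.1 ((r_two c a).eq_one ((pcore_pi _ _).piElt h))

theorem r_inv_mul_O {a b : WA c.n} (h : (c.E.r a)⁻¹ * c.E.r b ∈ c.O) : a = b := by
  rw [c.E.r_inv_mul_r] at h
  exact (sub_eq_zero.1 (r_mem_O c h)).symm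

theorem inv_S {v : G} (hv : v ∈ c.S) (h : orderOf v = 2) (h1 : v ≠ c.t) :
    ∃ g ∈ c.H, v = g * c.u * g⁻¹ := by
  rcases c.E.involution_cases (n1 c) hv h with e | (e | e) | ⟨a, ha, e⟩
  · exact absurd e h1
  · exact ⟨1, one_mem _, by rw [e]; simp [WC.u]⟩
  · exact ⟨c.σ, s_H c _, by rw [σ_u, ut, e]⟩
  · obtain ⟨b, hb⟩ := c.E.s_conj (a := 0) (b := a) (by simp [ha])
    obtain ⟨g, hg, e'⟩ := fus_H c
    refine ⟨c.E.r b * g⁻¹, mul_mem (r_H c b) (inv_mem hg), ?_⟩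
    rw [e, ← hb, ← e', WC.σ]
    group

theorem inv_H {v : G} (hv : v ∈ c.H) (h : orderOf v = 2) (h1 : v ≠ c.t) :
    ∃ g ∈ c.H, v = g * c.u * g⁻¹ := by
  obtain ⟨g, hg, h2⟩ := conj_S c (S_le_H c) hv (two_of_sq (sq_eq_one_of h))
  obtain ⟨g', hg', e⟩ := inv_S c h2 (by rw [orderOf_conj, h]) fun e => h1 (by
    rw [← t_comm c (inv_mem hg), ← e]; group)
  refine ⟨g⁻¹ * g', mul_mem (inv_mem hg) hg', ?_⟩
  calc v = g⁻¹ * (g * v * g⁻¹) * g := by group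
    _ = _ := by rw [e]; group

theorem inv_G {v : G} (h : orderOf v = 2) : IsConj c.t v := by
  obtain ⟨g, -, h2⟩ := conj_S c le_top (mem_top v) (two_of_sq (sq_eq_one_of h))
  refine IsConj.trans ?_ (isConj_iff.2 ⟨g, rfl⟩ : IsConj v (g * v * g⁻¹)).symm
  by_cases e : g * v * g⁻¹ = c.t
  · rw [e]
  obtain ⟨g', -, e'⟩ := inv_S c h2 (by rw [orderOf_conj, h]) e
  exact (isConj_iff.2 ⟨c.w, w_t c⟩).trans (isConj_iff.2 ⟨g', e'.symm⟩)

theorem t_mem_diag {j : ZMod (2 ^ c.n)} (hj : j ≠ 0) : c.t ∈ zpowers (c.E.r (j, j)) := by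
  obtain ⟨v, hv, h⟩ := exists_inv (not_odd_of_two (r_two c (j, j)) (by
    rw [Ne, c.E.r_eq_one]; exact fun e => hj (congrArg Prod.fst e)))
  have h1 : ∀ i, c.E.r (i, i) ∈ zpowers (c.E.r (1, 1)) := fun i =>
    (c.E.isR_zpowers_diag.r_mem _).2 (H22.diag_mem_Bj i)
  rwa [WC.t, inv_unique (h1 _) (zpowers_le.2 (h1 j) hv) (t_ord c) h]

theorem t_mem_anti {j : ZMod (2 ^ c.n)} (hj : j ≠ 0) : c.t ∈ zpowers (c.E.r (j, -j)) := by
  obtain ⟨v, hv, h⟩ := exists_inv (not_odd_of_two (r_two c (j, -j)) (by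
    rw [Ne, c.E.r_eq_one]; exact fun e => hj (congrArg Prod.fst e)))
  have h1 : ∀ i, c.E.r (i, -i) ∈ zpowers (c.E.r (1, -1)) := fun i =>
    (c.E.isR_zpowers_anti.r_mem _).2 (H22.anti_mem_Cj i)
  have h2 := h1 (hh c.n)
  rw [H22.neg_hh (n1 c)] at h2
  rwa [WC.t, inv_unique h2 (zpowers_le.2 (h1 j) hv) (t_ord c) h]

theorem t_mem_om (j : ZMod (2 ^ c.n)) : c.t ∈ zpowers (c.E.s (j + 1, j)) := by
  have h1 : j + 1 + j ≠ 0 := fun e => H22.odd_not_mem_K_pred (n1 c) j (by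
    rw [show 2 * j + 1 = 0 by linear_combination e]; exact zero_mem _)
  have h2 := t_mem_diag c h1
  rw [← c.E.s_mul_self (j + 1, j)] at h2
  exact zpowers_le.2 (mul_mem (mem_zpowers _) (mem_zpowers _)) h2

theorem t_mem_mul {x y : G} (hx : PiElt {2} x) (hy : Odd (orderOf y)) (h : x * y = y * x) :
    c.t ∈ zpowers (x * y) ↔ c.t ∈ zpowers x :=
  ⟨fun h' => inv_mem_left hx hy h h' (t_ord c), fun h' => zpowers_le.2 (left_mem hx hy h) h'⟩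

theorem t_mem_conj {g h : G} (hh : h ∈ c.H) : c.t ∈ zpowers (h * g * h⁻¹) ↔ c.t ∈ zpowers g := by
  conv_lhs => rw [← t_comm c hh]
  exact mem_zpowers_conj h

end WC

section Mod

variable {c : WC G} (M : Mod c)

theorem κ_r (a : WA c.n) : ap M.κ (c.E.r a) = ee M.d (a.1 - a.2) := M.κ_r a

theorem κ_s (a : WA c.n) : ap M.κ (c.E.s a) = ee M.d (a.1 - a.2) * M.d.s := by
  rw [s_eq, ap_mul _ (r_H c a) (σ_H c), κ_r, M.κ_σ]

theorem κ_diag (j : ZMod (2 ^ c.n)) : ap M.κ (c.E.r (j, j)) = 1 := by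
  rw [κ_r, sub_self, ee_zero]

theorem κ_om (j : ZMod (2 ^ c.n)) : ap M.κ (c.E.s (j + 1, j)) = M.d.e * M.d.s := by
  have : Fact (1 < 2 ^ c.n) := ⟨Nat.one_lt_two_pow (by have := c.hn; omega)⟩
  rw [κ_s, add_sub_cancel_left, ee, ZMod.val_one, pow_one]

theorem κ_u : ap M.κ c.u = uu M.d := by
  rw [WC.u, κ_r, sub_zero, ee, uu, H22.hh, ← H22.natCast_two_pow, ZMod.val_cast_of_lt]
  exact Nat.pow_lt_pow_right one_lt_two (by have := c.hn; omega)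

theorem κ_O {o : G} (ho : o ∈ c.O) : ap M.κ o = 1 := by
  rw [ap_of_mem _ (O_le c ho), M.ker]; exact mem_sup_left ho

theorem ker_cases {g : G} (hg : g ∈ c.H) (h : ap M.κ g = 1) :
    ∃ j, (c.E.r (j, j))⁻¹ * g ∈ c.O := by
  rw [ap_of_mem _ hg, M.ker] at h
  have hZ : c.Z ≤ N[c.O] := fun z hz => by
    obtain ⟨j, rfl⟩ := (mem_Z c).1 hz
    exact H_N c (r_H c _)
  obtain ⟨o, ho, z, hz, e⟩ := (mem_sup_of_norm hZ).1 h
  obtain ⟨j, rfl⟩ := (mem_Z c).1 hz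
  refine ⟨j, ?_⟩
  simp only at e
  rw [e, ← mul_assoc]
  exact conj_mem' (H_N c (r_H c _)) ho

theorem exists_κ (γ : M.Γ) : ∃ g ∈ c.H, ap M.κ g = γ := by
  obtain ⟨⟨g, hg⟩, rfl⟩ := M.surj γ
  exact ⟨g, hg, ap_of_mem _ hg⟩

include M in
theorem centZ {h : G} (hh : h ∈ c.H) (j : ZMod (2 ^ c.n)) :
    h * c.E.r (j, j) * h⁻¹ * (c.E.r (j, j))⁻¹ ∈ c.O :=
  M.centZ (commutator_mem_commutator hh ((mem_Z c).2 ⟨j, rfl⟩))

/-- the preimage of `C(e)` -/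
def KK : Subgroup G := pre M.κ C{M.d.e}

theorem mem_KK {g : G} : g ∈ KK M ↔ g ∈ c.H ∧ ap M.κ g ∈ C{M.d.e} := mem_pre

theorem KK_le : KK M ≤ c.H := pre_le _ _

theorem r_KK (a : WA c.n) : c.E.r a ∈ KK M :=
  (mem_KK M).2 ⟨r_H c a, by rw [κ_r]; exact zpowers_le_C1 _ (ee_mem _ _)⟩

theorem O_KK {o : G} (ho : o ∈ c.O) : o ∈ KK M :=
  (mem_KK M).2 ⟨O_le c ho, by rw [κ_O M ho]; exact one_mem _⟩

/-- the determinant, additively -/
noncomputable def dt (g : G) : ZMod (2 ^ c.n) := (ap M.det g).toAdd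

theorem dt_mul {x y : G} (hx : x ∈ c.H) (hy : y ∈ c.H) : dt M (x * y) = dt M x + dt M y := by
  rw [dt, ap_mul _ hx hy]; rfl

theorem dt_r (a : WA c.n) : dt M (c.E.r a) = a.1 + a.2 := by rw [dt, M.det_r]; rfl

theorem dt_s (a : WA c.n) : dt M (c.E.s a) = a.1 + a.2 + hh c.n := by
  rw [s_eq, dt_mul M (r_H c a) (σ_H c), dt_r, dt, M.det_σ]; rfl

theorem dt_conj {x y : G} (hx : x ∈ c.H) (hy : y ∈ c.H) : dt M (x * y * x⁻¹) = dt M y := by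
  rw [dt, ap_conj _ hx hy, mul_inv_cancel_comm]; rfl

theorem dt_odd {y : G} (hy : y ∈ c.H) (ho : Odd (orderOf y)) : dt M y = 0 := by
  have h1 : ap M.det y = 1 := eq_one_of_two_odd (two_of_pow (k := c.n) (by
    rw [← orderOf_dvd_iff_pow_eq_one]
    simpa using orderOf_dvd_natCard (ap M.det y))) (odd_ap _ hy ho)
  rw [dt, h1]; rfl

noncomputable scoped instance : Fintype M.Γ := Fintype.ofFinite _

variable [Finite G]

theorem mod_E0 {x : G} (hx : x ∈ c.H) (h : ap M.κ x ∈ zpowers M.d.e) :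
    ∃ a, (c.E.r a)⁻¹ * x ∈ c.O := by
  obtain ⟨i, hi⟩ := exists_ee M.d h
  obtain ⟨j, hj⟩ := ker_cases M (mul_mem (inv_mem (r_H c (i, 0))) hx) (by
    rw [ap_mul _ (inv_mem (r_H c _)) hx, ap_inv _ (r_H c _), κ_r, sub_zero, hi, inv_mul_cancel])
  refine ⟨(i, 0) + (j, j), ?_⟩
  rwa [← c.E.r_mul_r, mul_inv_rev, mul_assoc]

theorem two_KK {x : G} (hx : x ∈ KK M) (h2 : PiElt {2} x) : ∃ a, (c.E.r a)⁻¹ * x ∈ c.O :=
  mod_E0 M (KK_le M hx) (two_mem M.d c.hn ((mem_KK M).1 hx).2 (h2.ap _ (KK_le M hx)))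

theorem centE {k : G} (hk : k ∈ KK M) (a : WA c.n) :
    k * c.E.r a * k⁻¹ * (c.E.r a)⁻¹ ∈ c.O := by
  have hN : ∀ {g}, g ∈ c.H → g ∈ N[c.O] := fun hg => H_N c hg
  have hr := hN (r_H c a)
  obtain ⟨x, y, hx, hy, hx', hy', e, -⟩ := decomp k
  have hxK : x ∈ KK M := zpowers_le.2 hk hx'
  have hyK : y ∈ KK M := zpowers_le.2 hk hy'
  have hyH := KK_le M hyK
  have h1 : Commute (cs c.O x) (cs c.O (c.E.r a)) := by
    obtain ⟨b, hb⟩ := two_KK M hxK hx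
    rw [← (cs_eq_cs (hN (r_H c b)) (hN (KK_le M hxK))).2 hb, Commute, SemiconjBy,
      ← cs_mul (hN (r_H c b)) hr, c.E.r_comm_r, cs_mul hr (hN (r_H c b))]
  have h2 : Commute (cs c.O y) (cs c.O (c.E.r a)) := by
    have hc : y * c.E.r a * y⁻¹ * (c.E.r a)⁻¹ ∈ c.H :=
      mul_mem (mul_mem (mul_mem hyH (r_H c a)) (inv_mem hyH)) (inv_mem (r_H c a))
    obtain ⟨j, hj⟩ := ker_cases M hc (by
      rw [ap_mul _ (mul_mem (mul_mem hyH (r_H c a)) (inv_mem hyH)) (inv_mem (r_H c a)),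
        ap_conj _ hyH (r_H c a), ap_inv _ (r_H c a), κ_r,
        mem_C1_iff_conj.1 (C1_le_C1_of_mem_zpowers (ee_mem _ _) ((mem_KK M).1 hyK).2),
        mul_inv_cancel])
    have hz := hN (r_H c (j, j))
    have e1 := (cs_eq_cs hz (hN hc)).2 hj
    rw [cs_mul (mul_mem (mul_mem (hN hyH) hr) (inv_mem (hN hyH))) (inv_mem hr),
      cs_mul (mul_mem (hN hyH) hr) (inv_mem (hN hyH)), cs_mul (hN hyH) hr, cs_inv hr,
      cs_inv (hN hyH)] at e1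
    set Y := cs c.O y
    set R := cs c.O (c.E.r a)
    set Z := cs c.O (c.E.r (j, j))
    have e2 : Commute Z Y := cs_comm hz (hN hyH) (centZ M hyH j)
    have e3 : ∀ m : ℕ, Y ^ m * R = Z ^ m * R * Y ^ m := by
      intro m
      induction m with
      | zero => simp
      | succ m ih =>
        calc Y ^ (m + 1) * R = Y * (Y ^ m * R) := by rw [pow_succ']; group
          _ = Y * Z ^ m * R * Y ^ m := by rw [ih]; group
          _ = Z ^ m * (Y * R * Y⁻¹ * R⁻¹) * R * (Y * Y ^ m) := by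
            rw [← (e2.pow_left m).eq]; group
          _ = _ := by rw [← e1, ← pow_succ, ← pow_succ']
    have e4 := e3 (orderOf y)
    rw [← cs_pow (hN hyH), pow_orderOf_eq_one, cs_of_mem (one_mem _), one_mul, mul_one,
      right_eq_mul] at e4
    have e5 : Z = 1 := eq_one_of_two_odd ((r_two c _).ap _ hz)
      (hy.of_dvd_nat (orderOf_dvd_of_pow_eq_one e4))
    rw [e5] at e1
    rw [Commute, SemiconjBy]
    calc Y * R = (Y * R * Y⁻¹ * R⁻¹) * (R * Y) := by group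
      _ = _ := by rw [← e1, one_mul]
  have hkN := hN (KK_le M hk)
  have h3 : Commute (cs c.O k) (cs c.O (c.E.r a)) := by
    rw [e, cs_mul (hN (KK_le M hxK)) (hN hyH)]; exact h1.mul_left h2
  rw [← cs_eq_one (mul_mem (mul_mem (mul_mem hkN hr) (inv_mem hkN)) (inv_mem hr)),
    cs_mul (mul_mem (mul_mem hkN hr) (inv_mem hkN)) (inv_mem hr),
    cs_mul (mul_mem hkN hr) (inv_mem hkN), cs_mul hkN hr, cs_inv hr, cs_inv hkN, h3.eq]
  group

theorem K_decomp {g : G} (hg : g ∈ KK M) :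
    ∃ a, ∃ y ∈ KK M, Odd (orderOf y) ∧ g = c.E.r a * y := by
  obtain ⟨x, y, hx, hy, hx', hy', e, -⟩ := decomp g
  have hyK : y ∈ KK M := zpowers_le.2 hg hy'
  obtain ⟨a, ha⟩ := two_KK M (zpowers_le.2 hg hx') hx
  exact ⟨a, (c.E.r a)⁻¹ * x * y, mul_mem (O_KK M ha) hyK,
    odd_mul_core (O_odd c) ha (H_N c (KK_le M hyK)) hy, by rw [e]; group⟩

theorem K_unique {a b : WA c.n} {y z : G} (hy : y ∈ KK M) (hz : z ∈ KK M)
    (hy' : Odd (orderOf y)) (hz' : Odd (orderOf z)) (e : c.E.r a * y = c.E.r b * z) : a = b :=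
  r_inv_mul_O c (central_unique (H_N c (r_H c a)) (H_N c (KK_le M hy)) (r_two c a) hy'
    (centE M hy a) (H_N c (r_H c b)) (H_N c (KK_le M hz)) (r_two c b) hz' (centE M hz b) e)

theorem K_form (a : WA c.n) {y : G} (hy : y ∈ KK M) (hy' : Odd (orderOf y)) :
    ∃ o ∈ c.O, ∃ y' ∈ C{c.E.r a}, Odd (orderOf y') ∧ c.E.r a * y = o * (c.E.r a * y') * o⁻¹ :=
  normal_form (O_odd c) (H_N c (r_H c a)) (H_N c (KK_le M hy)) (r_two c a) hy' (centE M hy a)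

theorem A_decomp {g : G} (hg : g ∈ c.H) (h : Odd (orderOf (ap M.κ g))) :
    ∃ j, ∃ y ∈ c.H, Odd (orderOf y) ∧ g = c.E.r (j, j) * y := by
  obtain ⟨x, y, hx, hy, hx', hy', e, -⟩ := decomp g
  have hxH : x ∈ c.H := zpowers_le.2 hg hx'
  have hyH : y ∈ c.H := zpowers_le.2 hg hy'
  obtain ⟨j, hj⟩ := ker_cases M hxH (eq_one_of_two_odd (hx.ap _ hxH) (by
    obtain ⟨k, rfl⟩ := hx'
    simp only
    rw [ap_zpow _ hg]
    exact odd_of_mem_zpowers h (zpow_mem (mem_zpowers _) k)))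
  exact ⟨j, (c.E.r (j, j))⁻¹ * x * y, mul_mem (O_le c hj) hyH,
    odd_mul_core (O_odd c) hj (H_N c hyH) hy, by rw [e]; group⟩

include M in
theorem A_unique {i j : ZMod (2 ^ c.n)} {y z : G} (hy : y ∈ c.H) (hz : z ∈ c.H)
    (hy' : Odd (orderOf y)) (hz' : Odd (orderOf z))
    (e : c.E.r (i, i) * y = c.E.r (j, j) * z) : i = j :=
  congrArg Prod.fst (r_inv_mul_O c (central_unique (H_N c (r_H c _)) (H_N c hy) (r_two c _) hy'
    (centZ M hy i) (H_N c (r_H c _)) (H_N c hz) (r_two c _) hz' (centZ M hz j) e))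

include M in
theorem A_form (j : ZMod (2 ^ c.n)) {y : G} (hy : y ∈ c.H) (hy' : Odd (orderOf y)) :
    ∃ o ∈ c.O, ∃ y' ∈ C{c.E.r (j, j)}, Odd (orderOf y') ∧
      c.E.r (j, j) * y = o * (c.E.r (j, j) * y') * o⁻¹ :=
  normal_form (O_odd c) (H_N c (r_H c _)) (H_N c hy) (r_two c _) hy' (centZ M hy j)

theorem κ_rK (a : WA c.n) {y : G} (hy : y ∈ KK M) :
    ap M.κ (c.E.r a * y) = ee M.d (a.1 - a.2) * ap M.κ y := by
  rw [ap_mul _ (r_H c a) (KK_le M hy), κ_r]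

theorem κ_rK_comm (i : ZMod (2 ^ c.n)) {y : G} (hy : y ∈ KK M) :
    ee M.d i * ap M.κ y = ap M.κ y * ee M.d i :=
  (mem_C1.1 (C1_le_C1_of_mem_zpowers (ee_mem _ _) ((mem_KK M).1 hy).2)).symm

theorem uu_mem_iff (a : WA c.n) {y : G} (hy : y ∈ KK M) (hy' : Odd (orderOf y)) :
    uu M.d ∈ zpowers (ap M.κ (c.E.r a * y)) ↔ a.1 ≠ a.2 := by
  have ho := odd_ap M.κ (KK_le M hy) hy'
  rw [κ_rK M a hy]
  constructor
  · intro h e
    rw [e, sub_self, ee_zero, one_mul] at h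
    exact not_odd_of_inv h (ord_uu M.d c.hn) ho
  · intro h
    exact zpowers_le.2 (left_mem (ee_two _ _) ho (κ_rK_comm M _ hy))
      (uu_mem_zp M.d c.hn (ee_mem _ _) (by rw [Ne, ee_eq_one, sub_eq_zero]; exact h))

theorem St_rK {a : WA c.n} (h : a.1 ≠ a.2) {y : G} (hy : y ∈ KK M) (hy' : Odd (orderOf y)) :
    M.St (c.E.r a * y) = 1 := by
  change St M.d (ap M.κ (c.E.r a * y)) = 1
  rw [κ_rK M a hy]
  exact St_e M.d (ee_mem _ _) (by rw [Ne, ee_eq_one, sub_eq_zero]; exact h)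
    (odd_ap M.κ (KK_le M hy) hy') (κ_rK_comm M _ hy)

theorem St_om (j : ZMod (2 ^ c.n)) {y : G} (hy : y ∈ c.H) (hc : y ∈ C{c.E.s (j + 1, j)})
    (hy' : Odd (orderOf y)) : M.St (c.E.s (j + 1, j) * y) = -1 := by
  change St M.d (ap M.κ (c.E.s (j + 1, j) * y)) = -1
  rw [ap_mul _ (s_H c _) hy, κ_om]
  refine St_es M.d (odd_ap M.κ hy hy') ?_
  rw [← κ_om M j, ← ap_mul _ (s_H c _) hy, ← mem_C1.1 hc, ap_mul _ hy (s_H c _)]

theorem St_conj' {h g : G} (hh : h ∈ c.H) (hg : g ∈ c.H) : M.St (h * g * h⁻¹) = M.St g := by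
  change St M.d (ap M.κ _) = St M.d (ap M.κ _)
  rw [ap_conj _ hh hg, St_conj]

theorem St_diag (j : ZMod (2 ^ c.n)) {y : G} (hy : y ∈ c.H) :
    M.St (c.E.r (j, j) * y) = M.St y := by
  change St M.d (ap M.κ _) = St M.d (ap M.κ _)
  rw [ap_mul _ (r_H c _) hy, κ_diag, one_mul]

theorem mem_KK_of {g : G} (hg : g ∈ c.H) (h : uu M.d ∈ zpowers (ap M.κ g)) : g ∈ KK M := by
  obtain ⟨x, y, hx, hy, hx', hy', e, hxy⟩ := decomp g
  have hxH : x ∈ c.H := zpowers_le.2 hg hx'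
  have hyH : y ∈ c.H := zpowers_le.2 hg hy'
  refine (mem_KK M).2 ⟨hg, ?_⟩
  rw [e, ap_mul _ hxH hyH] at h ⊢
  refine mem_Ce_of M.d c.hn (hx.ap _ hxH) (odd_ap _ hyH hy)
    (by rw [← ap_mul _ hxH hyH, hxy, ap_mul _ hyH hxH]) h ?_
  obtain ⟨k, hk, h1⟩ := conj_S c (S_le_H c) hxH hx
  rcases c.E.cases h1 with ⟨a, ha⟩ | ⟨a, ha⟩
  · exact Or.inr ⟨ap M.κ k, by rw [← ap_conj _ hk hxH, ha, κ_r]; exact ee_mem _ _⟩
  · left
    have h2 := Ts_sq M.d (zp_le_T M.d (ee_mem M.d (a.1 - a.2)))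
    rw [← κ_s, ← ha, ap_conj _ hk hxH] at h2
    calc ap M.κ x * ap M.κ x = (ap M.κ k)⁻¹ * (ap M.κ k * ap M.κ x * (ap M.κ k)⁻¹ *
        (ap M.κ k * ap M.κ x * (ap M.κ k)⁻¹)) * ap M.κ k := by group
      _ = 1 := by rw [h2]; group

theorem classify {g : G} (hg : g ∈ c.H) (h : ¬ Odd (orderOf (ap M.κ g))) :
    (∃ v ∈ zpowers (ap M.κ g), IsConj (uu M.d) v) ∨ ∃ k ∈ c.H, ∃ j, ∃ y ∈ c.H,
      y ∈ C{c.E.s (j + 1, j)} ∧ Odd (orderOf y) ∧ g = k * (c.E.s (j + 1, j) * y) * k⁻¹ := by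
  obtain ⟨x, y, hx, hy, hx', hy', e, hxy⟩ := decomp g
  have hxH : x ∈ c.H := zpowers_le.2 hg hx'
  have hyH : y ∈ c.H := zpowers_le.2 hg hy'
  have hxz : ap M.κ x ∈ zpowers (ap M.κ g) := by
    obtain ⟨k, rfl⟩ := hx'
    simp only
    rw [ap_zpow _ hg]
    exact zpow_mem (mem_zpowers _) k
  have key : ∀ k ∈ c.H, ∀ v ∈ zpowers (ap M.κ (k * x * k⁻¹)), IsConj (uu M.d) v →
      ∃ v ∈ zpowers (ap M.κ g), IsConj (uu M.d) v := by
    intro k hk v hv hc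
    refine ⟨(ap M.κ k)⁻¹ * v * (ap M.κ k)⁻¹⁻¹, zpowers_le.2 hxz ?_,
      hc.trans (isConj_iff.2 ⟨_, rfl⟩)⟩
    rw [ap_conj _ hk hxH] at hv
    rw [← mem_zpowers_conj (ap M.κ k)]
    simpa [mul_assoc] using hv
  obtain ⟨k, hk, h1⟩ := conj_S c (S_le_H c) hxH hx
  rcases c.E.cases h1 with ⟨a, ha⟩ | ⟨a, ha⟩
  · left
    refine key k hk _ ?_ (IsConj.refl _)
    rw [ha, κ_r]
    refine uu_mem_zp M.d c.hn (ee_mem _ _) fun e1 => h ?_
    rw [← κ_r, ← ha, ap_conj _ hk hxH, conj_eq_one_iff'] at e1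
    rw [e, ap_mul _ hxH hyH, e1, one_mul]
    exact odd_ap _ hyH hy
  · rcases H22.even_or_odd (a.1 + a.2) with ⟨b, hb⟩ | ⟨b, hb⟩
    · left
      refine key k hk _ (mem_zpowers _) ?_
      rw [ha, κ_s, show a.1 - a.2 = (b - a.2) + (b - a.2) by linear_combination hb]
      exact Ts_conj M.d (zp_le_T M.d (ee_mem _ _)) (ee_dbl_mem _ _)
    · right
      obtain ⟨i, hi⟩ := c.E.s_conj (a := a) (b := (b + 1, b)) (by simp only; linear_combination hb)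
      have hk' : c.E.r i * k ∈ c.H := mul_mem (r_H c i) hk
      have e1 : c.E.r i * k * x * (c.E.r i * k)⁻¹ = c.E.s (b + 1, b) := by
        rw [← hi, ← ha]; group
      refine ⟨(c.E.r i * k)⁻¹, inv_mem hk', b, c.E.r i * k * y * (c.E.r i * k)⁻¹,
        conj_mem (norm_self _ hk') hyH, ?_, odd_conj hy _, ?_⟩
      · rw [← e1, ← cj_C1]
        exact conj_mem_cj _ (mem_C1.2 hxy.symm)
      · rw [← e1, e]; group

end Mod

end H1.WS
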