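import Mathlib
import Cfsg.Agent.H1.WS3

/-!
# Section sums in `H = C(t)`
-/

set_option autoImplicit false
set_option linter.unusedSectionVars false

namespace H1.WS

open H24 Cfsg Subgroup Finset
open H22 (WR WA Bj hh)
open H13.W (PD WC Mod Sing)

universe u

variable {G : Type u} [Group G] [Fintype G]

open Classical in
/-- the elements of odd order of a subgroup -/
noncomputable def OD (X : Subgroup G) : Finset G := (FS X).filter fun y => Odd (orderOf y)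

theorem mem_OD {X : Subgroup G} {y : G} : y ∈ OD X ↔ y ∈ X ∧ Odd (orderOf y) := by simp [OD]

theorem sum_param {ι : Type*} (A : Finset ι) (Y T : Finset G) (f : ι → G)
    (h1 : ∀ a ∈ A, ∀ y ∈ Y, f a * y ∈ T)
    (h2 : ∀ a ∈ A, ∀ b ∈ A, ∀ y ∈ Y, ∀ z ∈ Y, f a * y = f b * z → a = b)
    (h3 : ∀ g ∈ T, ∃ a ∈ A, ∃ y ∈ Y, g = f a * y) (φ : G → ℂ) :
    ∑ g ∈ T, φ g = ∑ a ∈ A, ∑ y ∈ Y, φ (f a * y) := by
  rw [← Finset.sum_product']
  symm
  refine Finset.sum_bij (fun p _ => f p.1 * p.2) ?_ ?_ ?_ ?_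
  · intro p hp
    exact h1 _ (mem_product.1 hp).1 _ (mem_product.1 hp).2
  · rintro ⟨a, y⟩ hp ⟨b, z⟩ hq e
    obtain rfl := h2 _ (mem_product.1 hp).1 _ (mem_product.1 hq).1 _ (mem_product.1 hp).2 _
      (mem_product.1 hq).2 e
    obtain rfl : y = z := mul_left_cancel e
    rfl
  · intro g hg
    obtain ⟨a, ha, y, hy, rfl⟩ := h3 g hg
    exact ⟨(a, y), mem_product.2 ⟨ha, hy⟩, rfl⟩
  · intro _ _; rfl

theorem sum_diag {n : ℕ} (F : WA n → ℂ) :
    ∑ a : WA n with a.1 = a.2, F a = ∑ j, F (j, j) := by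
  rw [Finset.sum_filter, Fintype.sum_prod_type]
  simp

theorem sum_reg {n : ℕ} (F : WA n → ℂ) :
    ∑ a : WA n with a.1 ≠ a.2, F a = ∑ a, F a - ∑ j, F (j, j) := by
  rw [← sum_diag, ← Finset.sum_filter_add_sum_filter_not univ (fun a : WA n => a.1 = a.2) F]
  ring

theorem N_ne (n : ℕ) : (2 ^ n : ℂ) ≠ 0 := pow_ne_zero _ two_ne_zero

theorem card_ZN (n : ℕ) : ((univ : Finset (ZMod (2 ^ n))).card : ℂ) = 2 ^ n := by
  rw [card_univ, ZMod.card]; push_cast; rfl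

variable {c : WC G} (M : Mod c)

open Classical in
theorem sum_odd_part (φ : G → ℂ) :
    ∑ g ∈ FS c.H with Odd (orderOf (ap M.κ g)), φ g =
      ∑ j, ∑ y ∈ OD c.H, φ (c.E.r (j, j) * y) := by
  refine sum_param univ _ _ (fun j => c.E.r (j, j)) ?_ ?_ ?_ φ
  · intro j _ y hy
    obtain ⟨h1, h2⟩ := mem_OD.1 hy
    refine mem_filter.2 ⟨mem_FS.2 (mul_mem (r_H c _) h1), ?_⟩
    rw [ap_mul _ (r_H c _) h1, κ_diag, one_mul]
    exact odd_ap _ h1 h2
  · intro i _ j _ y hy z hz e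
    exact A_unique M (mem_OD.1 hy).1 (mem_OD.1 hz).1 (mem_OD.1 hy).2 (mem_OD.1 hz).2 e
  · intro g hg
    obtain ⟨j, y, h1, h2, e⟩ := A_decomp M (mem_FS.1 (mem_filter.1 hg).1) (mem_filter.1 hg).2
    exact ⟨j, mem_univ _, y, mem_OD.2 ⟨h1, h2⟩, e⟩

open Classical in
theorem sum_uu_part (φ : G → ℂ) :
    ∑ g ∈ FS c.H with uu M.d ∈ zpowers (ap M.κ g), φ g =
      ∑ a : WA c.n with a.1 ≠ a.2, ∑ y ∈ OD (KK M), φ (c.E.r a * y) := by
  refine sum_param _ _ _ c.E.r ?_ ?_ ?_ φ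
  · intro a ha y hy
    obtain ⟨h1, h2⟩ := mem_OD.1 hy
    exact mem_filter.2 ⟨mem_FS.2 (mul_mem (r_H c _) (KK_le M h1)),
      (uu_mem_iff M a h1 h2).2 (mem_filter.1 ha).2⟩
  · intro i _ j _ y hy z hz e
    exact K_unique M (mem_OD.1 hy).1 (mem_OD.1 hz).1 (mem_OD.1 hy).2 (mem_OD.1 hz).2 e
  · intro g hg
    obtain ⟨hg1, hg2⟩ := mem_filter.1 hg
    obtain ⟨a, y, h1, h2, rfl⟩ := K_decomp M (mem_KK_of M (mem_FS.1 hg1) hg2)
    exact ⟨a, mem_filter.2 ⟨mem_univ _, (uu_mem_iff M a h1 h2).1 hg2⟩, y, mem_OD.2 ⟨h1, h2⟩, rfl⟩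

open Classical in
theorem sum_split (φ : G → ℂ) (hc : ∀ h ∈ c.H, ∀ g ∈ c.H, φ (h * g * h⁻¹) = φ g)
    (hφ : ∀ g ∈ c.H, ¬ Odd (orderOf (ap M.κ g)) → φ g ≠ 0 →
      ∃ v ∈ zpowers (ap M.κ g), IsConj (uu M.d) v) :
    ∑ g ∈ FS c.H, φ g = ∑ g ∈ FS c.H with Odd (orderOf (ap M.κ g)), φ g +
      (H5.cl (uu M.d)).card * ∑ g ∈ FS c.H with uu M.d ∈ zpowers (ap M.κ g), φ g := by
  rw [← Finset.sum_filter_add_sum_filter_not (FS c.H) (fun g => Odd (orderOf (ap M.κ g)))]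
  congr 1
  rw [Finset.sum_filter, sum_inv M.κ M.surj (ord_uu M.d c.hn)]
  · congr 1
    refine Finset.sum_congr rfl fun g hg => if_pos ?_
    exact not_odd_of_inv (mem_filter.1 hg).2 (ord_uu M.d c.hn)
  · intro h hh g hg
    rw [ap_conj _ hh hg, orderOf_conj, hc h hh g hg]
  · intro g hg h0
    split_ifs at h0 with h1
    · exact absurd rfl h0
    · exact hφ g hg h1 h0

theorem M0 (φ : G → ℂ) (hc : ∀ h ∈ c.H, ∀ g ∈ c.H, φ (h * g * h⁻¹) = φ g)
    (hom : ∀ j, ∀ y ∈ c.H, y ∈ C{c.E.s (j + 1, j)} → Odd (orderOf y) →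
      φ (c.E.s (j + 1, j) * y) = 0) :
    ∑ g ∈ FS c.H, φ g = ∑ j, ∑ y ∈ OD c.H, φ (c.E.r (j, j) * y) +
      (H5.cl (uu M.d)).card *
        ∑ a : WA c.n with a.1 ≠ a.2, ∑ y ∈ OD (KK M), φ (c.E.r a * y) := by
  rw [sum_split M φ hc, sum_odd_part, sum_uu_part]
  intro g hg h h0
  rcases classify M hg h with h1 | ⟨k, hk, j, y, hy, h1, h2, rfl⟩
  · exact h1
  · exact absurd (by rw [hc k hk _ (mul_mem (s_H c _) hy), hom j y hy h1 h2]) h0

theorem card_H : (♯c.H : ℂ) = Nat.card M.κ.ker * Nat.card M.Γ := by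
  have := sum_ap M.κ M.surj fun _ => 1
  simpa [card_FS] using this

variable (lam : M.Γ →* ℂˣ)

/-- the linear character of `H` given by `lam` -/
noncomputable def mu (g : G) : ℂ := lam (ap M.κ g)

theorem mu_conj {h g : G} (hh : h ∈ c.H) (hg : g ∈ c.H) : mu M lam (h * g * h⁻¹) = mu M lam g := by
  unfold mu
  rw [ap_conj _ hh hg, map_mul, map_mul, map_inv, mul_inv_cancel_comm]

variable (h0 : M.d.L0 ≤ lam.ker)
include h0

theorem mu_r (a : WA c.n) {y : G} (hy : y ∈ c.H) : mu M lam (c.E.r a * y) = mu M lam y := by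
  unfold mu
  rw [ap_mul _ (r_H c a) hy, map_mul, κ_r,
    MonoidHom.mem_ker.1 (h0 (M.d.T_le (zp_le_T M.d (ee_mem _ _)))), one_mul]

theorem mu_s (a : WA c.n) {y : G} (hy : y ∈ c.H) : mu M lam (c.E.s a * y) = mu M lam y := by
  unfold mu
  rw [ap_mul _ (s_H c a) hy, map_mul, κ_s, MonoidHom.mem_ker.1 (h0 (mul_mem
    (M.d.T_le (zp_le_T M.d (ee_mem _ _))) (M.d.L_le M.d.s_mem))), one_mul]

theorem sum_mu : ∑ g ∈ FS c.H, mu M lam g = dl lam * ♯c.H := by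
  unfold mu
  rw [sum_ap M.κ M.surj fun γ => (lam γ : ℂ), sum_lam_top M.d lam h0, card_H M]
  ring

theorem sum_mu_St : ∑ g ∈ FS c.H, mu M lam g * M.St g = 0 := by
  have := sum_ap M.κ M.surj fun γ => (lam γ : ℂ) * St M.d γ
  rw [sum_lam_St M.d lam h0, mul_zero] at this
  exact this

theorem sum_mu_St2 : ∑ g ∈ FS c.H, mu M lam g * M.St g ^ 2 = dl lam * ♯c.H := by
  have := sum_ap M.κ M.surj fun γ => (lam γ : ℂ) * St M.d γ ^ 2
  rw [sum_lam_St2 M.d lam h0] at this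
  rw [card_H M]
  exact this.trans (by ring)

theorem sum_mu_K : ((H5.cl (uu M.d)).card : ℂ) * ∑ y ∈ OD (KK M), mu M lam y =
    dl lam * ♯c.H / (2 * (2 ^ c.n) ^ 2) := by
  classical
  have h1 : ∑ g ∈ FS (KK M), mu M lam g = ∑ a : WA c.n, ∑ y ∈ OD (KK M),
      mu M lam (c.E.r a * y) := by
    refine sum_param _ _ _ c.E.r ?_ ?_ ?_ _
    · intro a _ y hy
      exact mem_FS.2 (mul_mem (r_KK M a) (mem_OD.1 hy).1)
    · intro i _ j _ y hy z hz e
      exact K_unique M (mem_OD.1 hy).1 (mem_OD.1 hz).1 (mem_OD.1 hy).2 (mem_OD.1 hz).2 e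
    · intro g hg
      obtain ⟨a, y, h1, h2, rfl⟩ := K_decomp M (mem_FS.1 hg)
      exact ⟨a, mem_univ _, y, mem_OD.2 ⟨h1, h2⟩, rfl⟩
  rw [Finset.sum_congr rfl fun a _ => Finset.sum_congr rfl fun y hy =>
    mu_r M lam h0 a (KK_le M (mem_OD.1 hy).1), Finset.sum_const, card_univ, Fintype.card_prod,
    ZMod.card, nsmul_eq_mul] at h1
  have h2 : ∑ g ∈ FS (KK M), mu M lam g = Nat.card M.κ.ker * (dl lam * ♯C{M.d.e}) := by
    have := sum_ap M.κ M.surj fun γ => if γ ∈ C{M.d.e} then (lam γ : ℂ) else 0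
    rw [← Finset.sum_filter, ← Finset.sum_filter] at this
    rw [← sum_lam_Ce M.d lam h0]
    convert this using 1
    · refine Finset.sum_congr ?_ fun _ _ => rfl
      ext g
      simp [mem_KK]
    · congr 2
  have h3 : ((H5.cl (uu M.d)).card : ℂ) * (2 * ♯C{M.d.e}) = Nat.card M.Γ := by
    exact_mod_cast card_cl M.d c.hn
  have hN := N_ne c.n
  rw [card_H M, ← h3, eq_div_iff (mul_ne_zero two_ne_zero (pow_ne_zero _ hN))]
  push_cast at h1
  linear_combination (2 * ((H5.cl (uu M.d)).card : ℂ)) * (h2 - h1)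

theorem sum_mu_dt (β : ZMod (2 ^ c.n) → ℂ) :
    ∑ g ∈ FS c.H, mu M lam g * β (dt M g) = dl lam * ♯c.H / 2 ^ c.n * ∑ d, β d := by
  have h1 : ∀ i, ∑ g ∈ FS c.H, mu M lam g * β (dt M g) =
      ∑ g ∈ FS c.H, mu M lam g * β (i + dt M g) := by
    intro i
    rw [← sum_mul_left' (r_H c (i, 0))]
    refine Finset.sum_congr rfl fun g hg => ?_
    rw [mu_r M lam h0 _ (mem_FS.1 hg), dt_mul M (r_H c _) (mem_FS.1 hg), dt_r, add_zero]
  have h2 := Finset.sum_congr (s₁ := univ) rfl fun i _ => h1 i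
  rw [Finset.sum_const, nsmul_eq_mul, card_ZN, Finset.sum_comm] at h2
  have h3 : ∀ g, ∑ i, mu M lam g * β (i + dt M g) = mu M lam g * ∑ d, β d := by
    intro g
    rw [← Finset.mul_sum]
    congr 1
    exact Equiv.sum_comp (Equiv.addRight (dt M g)) β
  rw [Finset.sum_congr rfl fun g _ => h3 g, ← Finset.sum_mul, sum_mu M lam h0] at h2
  have hN := N_ne c.n
  field_simp
  linear_combination h2

theorem M1 (φ : G → ℂ) (hc : ∀ h ∈ c.H, ∀ g ∈ c.H, φ (h * g * h⁻¹) = φ g) (α : WA c.n → ℂ)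
    (β : ZMod (2 ^ c.n) → ℂ) (hβ : ∀ j, β (j + hh c.n) = β j)
    (hB : ∀ a : WA c.n, a.1 ≠ a.2 → ∀ y ∈ KK M, Odd (orderOf y) →
      φ (c.E.r a * y) = mu M lam y * α a)
    (hC : ∀ j, ∀ y ∈ c.H, y ∈ C{c.E.s (j + 1, j)} → Odd (orderOf y) →
      φ (c.E.s (j + 1, j) * y) = mu M lam y * β j) :
    ∑ g ∈ FS c.H, φ g = ∑ j, ∑ y ∈ OD c.H, φ (c.E.r (j, j) * y) +
      dl lam * ♯c.H * ((∑ a : WA c.n with a.1 ≠ a.2, α a) / (2 * (2 ^ c.n) ^ 2) +
        (∑ j, β j) / (4 * 2 ^ c.n)) := by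
  have h2 := H22.hh_add_hh (n1 c)
  set B : ZMod (2 ^ c.n) → ℂ := fun d => (∑ j, if d = j + 1 + j + hh c.n then β j else 0) / 2
    with hBd
  have b1 : ∀ j, B (j + 1 + j + hh c.n) = β j := by
    intro j
    have : ∀ i, (if j + 1 + j + hh c.n = i + 1 + i + hh c.n then β i else 0) =
        (if j = i then β i else 0) + (if j + hh c.n = i then β i else 0) := by
      intro i
      by_cases e1 : j = i
      · subst e1
        rw [if_pos rfl, if_pos rfl, if_neg (by simpa using H22.hh_ne_zero (n1 c)), add_zero]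
      by_cases e2 : j + hh c.n = i
      · subst e2
        rw [if_pos (by linear_combination -h2), if_neg e1, if_pos rfl, zero_add]
      rw [if_neg e1, if_neg e2, if_neg, add_zero]
      intro e
      rcases (H22.add_self_eq_zero_iff (n1 c) (a := i - j)).1 (by linear_combination -e) with
        e3 | e3
      · exact e1 (by linear_combination -e3)
      · exact e2 (by linear_combination -e3)
    simp only [hBd, this, Finset.sum_add_distrib, Finset.sum_ite_eq, mem_univ, if_true, hβ]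
    ring
  have b2 : ∀ i, B (i + i) = 0 := by
    intro i
    simp only [hBd]
    rw [Finset.sum_eq_zero, zero_div]
    intro j _
    rw [if_neg]
    intro e
    obtain ⟨k, hk⟩ := (H22.mem_K_pred (n1 c)).1 (H22.hh_mem_K (n := c.n) (j := c.n - 1)
      (by have := c.hn; omega))
    exact H22.odd_not_mem_K_pred (n1 c) (j + k - i) (by
      rw [show 2 * (j + k - i) + 1 = 0 by linear_combination -e - hk]; exact zero_mem _)
  have b3 : ∑ d, B d = (∑ j, β j) / 2 := by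
    simp only [hBd]
    rw [← Finset.sum_div, Finset.sum_comm]
    simp
  have key := M0 M (fun g => φ g - mu M lam g * B (dt M g)) (fun h hh g hg => by
    rw [hc h hh g hg, mu_conj M lam hh hg, dt_conj M hh hg]) (fun j y hy h1 h2 => by
    rw [hC j y hy h1 h2, mu_s M lam h0 _ hy, dt_mul M (s_H c _) hy, dt_odd M hy h2, dt_s, add_zero,
      b1, sub_self])
  rw [Finset.sum_sub_distrib, sum_mu_dt M lam h0, b3] at key
  have k1 : ∑ j, ∑ y ∈ OD c.H, (φ (c.E.r (j, j) * y) - mu M lam (c.E.r (j, j) * y) *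
      B (dt M (c.E.r (j, j) * y))) = ∑ j, ∑ y ∈ OD c.H, φ (c.E.r (j, j) * y) := by
    refine Finset.sum_congr rfl fun j _ => Finset.sum_congr rfl fun y hy => ?_
    obtain ⟨h1, h2⟩ := mem_OD.1 hy
    rw [dt_mul M (r_H c _) h1, dt_odd M h1 h2, dt_r, add_zero, b2, mul_zero, sub_zero]
  have k2 : ∑ a : WA c.n with a.1 ≠ a.2, ∑ y ∈ OD (KK M), (φ (c.E.r a * y) -
      mu M lam (c.E.r a * y) * B (dt M (c.E.r a * y))) =
      (∑ y ∈ OD (KK M), mu M lam y) * ∑ a : WA c.n with a.1 ≠ a.2, (α a - B (a.1 + a.2)) := by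
    rw [Finset.mul_sum]
    refine Finset.sum_congr rfl fun a ha => ?_
    rw [Finset.sum_mul]
    refine Finset.sum_congr rfl fun y hy => ?_
    obtain ⟨h1, h2⟩ := mem_OD.1 hy
    rw [hB a (mem_filter.1 ha).2 y h1 h2, mu_r M lam h0 _ (KK_le M h1),
      dt_mul M (r_H c _) (KK_le M h1), dt_odd M (KK_le M h1) h2, dt_r, add_zero]
    ring
  have k3 : ∑ a : WA c.n with a.1 ≠ a.2, B (a.1 + a.2) = 2 ^ c.n * ((∑ j, β j) / 2) := by
    rw [sum_reg, Finset.sum_eq_zero (s := univ) (f := fun j => B (j + j)) fun j _ => b2 j,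
      sub_zero, Fintype.sum_prod_type, ← b3, ← card_ZN, ← nsmul_eq_mul, ← Finset.sum_const]
    exact Finset.sum_congr rfl fun i _ => Equiv.sum_comp (Equiv.addLeft i) B
  rw [k1, k2, ← mul_assoc, sum_mu_K M lam h0, Finset.sum_sub_distrib, k3] at key
  have hN := N_ne c.n
  rw [sub_eq_iff_eq_add.1 key]
  field_simp
  ring

theorem sum_one_reg : ∑ a : WA c.n with a.1 ≠ a.2, (1 : ℂ) = (2 ^ c.n) ^ 2 - 2 ^ c.n := by
  rw [sum_reg]
  simp only [Finset.sum_const, card_univ, Fintype.card_prod, ZMod.card, nsmul_eq_mul]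
  push_cast
  ring

theorem sum_A (F : ℂ → ℂ) : ∑ j : ZMod (2 ^ c.n), ∑ y ∈ OD c.H,
    mu M lam (c.E.r (j, j) * y) * F (M.St (c.E.r (j, j) * y)) =
      2 ^ c.n * ∑ y ∈ OD c.H, mu M lam y * F (M.St y) := by
  rw [← card_ZN, ← nsmul_eq_mul, ← Finset.sum_const]
  refine Finset.sum_congr rfl fun j _ => Finset.sum_congr rfl fun y hy => ?_
  rw [mu_r M lam h0 _ (mem_OD.1 hy).1, St_diag M j (mem_OD.1 hy).1]

theorem sum_F (F : ℂ → ℂ) : ∑ g ∈ FS c.H, mu M lam g * F (M.St g) =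
    2 ^ c.n * ∑ y ∈ OD c.H, mu M lam y * F (M.St y) +
      dl lam * ♯c.H * (F 1 * (1 / 2 - 1 / (2 * 2 ^ c.n)) + F (-1) / 4) := by
  rw [M1 M lam h0 (fun g => mu M lam g * F (M.St g)) (fun h hh g hg => by
      rw [mu_conj M lam hh hg, St_conj' M hh hg]) (fun _ => F 1) (fun _ => F (-1))
      (fun _ => rfl) (fun a ha y hy ho => by
        rw [mu_r M lam h0 _ (KK_le M hy), St_rK M ha hy ho, Int.cast_one])
      (fun j y hy h1 h2 => by
        rw [mu_s M lam h0 _ hy, St_om M j hy h1 h2, Int.cast_neg, Int.cast_one]),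
    sum_A M lam h0]
  have := sum_one_reg M lam h0
  simp only [Finset.sum_const, nsmul_eq_mul, mul_one] at this ⊢
  rw [this, card_ZN]
  have hN := N_ne c.n
  field_simp

theorem S0 : ∑ y ∈ OD c.H, mu M lam y =
    dl lam * ♯c.H * (1 / 4 + 1 / (2 * 2 ^ c.n)) / 2 ^ c.n := by
  have := sum_F M lam h0 fun _ => 1
  simp only [mul_one] at this
  rw [sum_mu M lam h0] at this
  rw [eq_div_iff (N_ne _)]
  linear_combination -this

theorem S1 : ∑ y ∈ OD c.H, mu M lam y * M.St y =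
    dl lam * ♯c.H * (1 / (2 * 2 ^ c.n) - 1 / 4) / 2 ^ c.n := by
  have := sum_F M lam h0 fun x => x
  rw [sum_mu_St M lam h0] at this
  rw [eq_div_iff (N_ne _)]
  linear_combination -this

theorem S2 : ∑ y ∈ OD c.H, mu M lam y * M.St y ^ 2 =
    dl lam * ♯c.H * (1 / 4 + 1 / (2 * 2 ^ c.n)) / 2 ^ c.n := by
  have := sum_F M lam h0 fun x => x ^ 2
  rw [sum_mu_St2 M lam h0] at this
  rw [eq_div_iff (N_ne _)]
  linear_combination -this

/-- the master formula -/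
theorem M3 (φ : G → ℂ) (hc : ∀ h ∈ c.H, ∀ g ∈ c.H, φ (h * g * h⁻¹) = φ g) (α : WA c.n → ℂ)
    (β a b : ZMod (2 ^ c.n) → ℂ) (a' b' : ZMod (2 ^ c.n) → ℂ) (hβ : ∀ j, β (j + hh c.n) = β j)
    (hA : ∀ j, ∀ y ∈ c.H, Odd (orderOf y) → φ (c.E.r (j, j) * y) = mu M lam y *
      (((1 + M.St y) / 2 * a j + (1 - M.St y) / 2 * b j) *
        ((1 + M.St y) / 2 * a' j + (1 - M.St y) / 2 * b' j)))
    (hB : ∀ a : WA c.n, a.1 ≠ a.2 → ∀ y ∈ KK M, Odd (orderOf y) →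
      φ (c.E.r a * y) = mu M lam y * α a)
    (hC : ∀ j, ∀ y ∈ c.H, y ∈ C{c.E.s (j + 1, j)} → Odd (orderOf y) →
      φ (c.E.s (j + 1, j) * y) = mu M lam y * β j) :
    ∑ g ∈ FS c.H, φ g = dl lam * ♯c.H *
      ((∑ j, a j * a' j + ∑ a : WA c.n with a.1 ≠ a.2, α a) / (2 * (2 ^ c.n) ^ 2) +
        (∑ j, (b j * b' j + β j)) / (4 * 2 ^ c.n)) := by
  rw [M1 M lam h0 φ hc α β hβ hB hC]
  have : ∀ j, ∑ y ∈ OD c.H, φ (c.E.r (j, j) * y) = dl lam * ♯c.H *
      (a j * a' j / (2 * (2 ^ c.n) ^ 2) + b j * b' j / (4 * 2 ^ c.n)) := by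
    intro j
    have h1 : ∀ y ∈ OD c.H, φ (c.E.r (j, j) * y) =
        (a j + b j) * (a' j + b' j) / 4 * mu M lam y +
        (a j * a' j - b j * b' j) / 2 * (mu M lam y * M.St y) +
        (a j - b j) * (a' j - b' j) / 4 * (mu M lam y * M.St y ^ 2) := by
      intro y hy
      rw [hA j y (mem_OD.1 hy).1 (mem_OD.1 hy).2]
      ring
    rw [Finset.sum_congr rfl h1, Finset.sum_add_distrib, Finset.sum_add_distrib, ← Finset.mul_sum,
      ← Finset.mul_sum, ← Finset.mul_sum, S0 M lam h0, S1 M lam h0, S2 M lam h0]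
    have hN := N_ne c.n
    field_simp
    ring
  rw [Finset.sum_congr rfl fun j _ => this j, ← Finset.mul_sum, Finset.sum_add_distrib,
    Finset.sum_add_distrib, ← Finset.sum_div, ← Finset.sum_div]
  ring

end H1.WS
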