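import Mathlib
import Cfsg.Agent.H1.WS4

/-!
# Sums over `D = {g | t ∈ ⟨g⟩}`
-/

set_option autoImplicit false
set_option linter.unusedSectionVars false

namespace H1.WS

open H24 Cfsg Subgroup Finset
open H22 (WR WA Bj hh)
open H13.W (PD WC Mod Sing Spec Adm)

universe u

variable {G : Type u} [Group G] [Fintype G]

theorem sum_val {n : ℕ} (f : ℕ → ℂ) : ∑ j : ZMod (2 ^ n), f j.val = ∑ i ∈ range (2 ^ n), f i := by
  refine Finset.sum_nbij' (fun j => j.val) (fun i => (i : ZMod (2 ^ n))) ?_ ?_ ?_ ?_ ?_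
  · intro j _; exact mem_range.2 (ZMod.val_lt j)
  · intro _ _; exact mem_univ _
  · intro j _; exact ZMod.natCast_zmod_val j
  · intro i hi; exact ZMod.val_cast_of_lt (mem_range.1 hi)
  · intro _ _; rfl

theorem sum_two_mul (m : ℕ) (f : ℕ → ℂ) :
    ∑ i ∈ range (2 * m), f i = ∑ i ∈ range m, (f (2 * i) + f (2 * i + 1)) := by
  induction m with
  | zero => simp
  | succ m ih => rw [mul_add, mul_one, sum_range_succ, sum_range_succ, sum_range_succ, ih]; ring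

theorem adm_half {n : ℕ} (hn : 1 ≤ n) {Λ : WA n → ℂ} {ϑ : ℕ → ℂ} (ha : Adm Λ ϑ)
    (j : ZMod (2 ^ n)) : ϑ (2 * (j + hh n).val + 1) = ϑ (2 * j.val + 1) := by
  have h1 : ∀ k i, ϑ (i + 2 ^ (n + 1) * k) = ϑ i := by
    intro k
    induction k with
    | zero => simp
    | succ k ih => intro i; rw [mul_add, mul_one, ← add_assoc, ha.per, ih]
  have h2 : (hh n).val = 2 ^ (n - 1) := by
    rw [H22.hh, ← H22.natCast_two_pow, ZMod.val_cast_of_lt]
    exact Nat.pow_lt_pow_right one_lt_two (by omega)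
  rw [← ha.half _ (odd_two_mul_add_one j.val), ← h1 ((j.val + 2 ^ (n - 1)) / 2 ^ n), ZMod.val_add,
    h2]
  congr 1
  have h3 := Nat.mod_add_div (j.val + 2 ^ (n - 1)) (2 ^ n)
  have h4 : 2 ^ n = 2 * 2 ^ (n - 1) := by
    rw [← pow_succ']; congr 1; omega
  rw [pow_succ', mul_assoc]
  omega

variable {c : WC G} {M : Mod c}

open Classical in
theorem sum3 (F : WA c.n → ℂ) (hr : ∀ a : WA c.n, F (a.2, -a.1 - a.2) = F a) (h0 : F 0 = 0) :
    ∑ x, F x = 3 * ∑ x with c.t ∈ zpowers (c.E.r x), F x := by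
  let ρ : WA c.n ≃ WA c.n :=
    { toFun := fun a => (a.2, -a.1 - a.2)
      invFun := fun a => (-a.1 - a.2, a.1)
      left_inv := fun a => by ext <;> simp <;> ring
      right_inv := fun a => by ext <;> simp }
  have k : ∀ v, ∑ x, (if c.w * v * c.w⁻¹ ∈ zpowers (c.E.r x) then F x else 0) =
      ∑ x, if v ∈ zpowers (c.E.r x) then F x else 0 := by
    intro v
    rw [← Equiv.sum_comp ρ]
    refine Finset.sum_congr rfl fun x _ => ?_
    change (if _ ∈ zpowers (c.E.r (x.2, -x.1 - x.2)) then F (x.2, -x.1 - x.2) else 0) = _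
    rw [hr, ← c.hw]
    simp only [mem_zpowers_conj]
  have k1 := k c.t
  have k2 := k c.u
  rw [w_t] at k1
  rw [w_u] at k2
  have hh0 := H22.hh_ne_zero (n1 c)
  have o3 : orderOf (c.E.r (0, hh c.n)) = 2 := by rw [← w_u, orderOf_conj, u_ord]
  have key : ∀ x, F x = (if c.t ∈ zpowers (c.E.r x) then F x else 0) +
      (if c.u ∈ zpowers (c.E.r x) then F x else 0) +
      (if c.E.r (0, hh c.n) ∈ zpowers (c.E.r x) then F x else 0) := by
    intro x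
    by_cases hx : x = 0
    · simp [hx, h0]
    obtain ⟨v, hv, h2⟩ := exists_inv (not_odd_of_two (r_two c x) (by rwa [Ne, c.E.r_eq_one]))
    have e1 : c.t ∈ zpowers (c.E.r x) ↔ v = c.t :=
      ⟨fun h => inv_unique hv h h2 (t_ord c), fun h => h ▸ hv⟩
    have e2 : c.u ∈ zpowers (c.E.r x) ↔ v = c.u :=
      ⟨fun h => inv_unique hv h h2 (u_ord c), fun h => h ▸ hv⟩
    have e3 : c.E.r (0, hh c.n) ∈ zpowers (c.E.r x) ↔ v = c.E.r (0, hh c.n) :=
      ⟨fun h => inv_unique hv h h2 o3, fun h => h ▸ hv⟩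
    simp only [e1, e2, e3]
    obtain ⟨m, rfl⟩ := c.E.mem_zpowers_r.1 hv
    simp only [WC.t, WC.u, c.E.r_inj]
    rcases H22.Om_cases (n1 c) (H22.mem_Om'.2 (c.E.orderOf_r_eq_two.1 h2).1) with e | e | e | e
    · exact absurd e (c.E.orderOf_r_eq_two.1 h2).2
    all_goals simp [e, hh0, hh0.symm]
  rw [Finset.sum_congr rfl fun x _ => key x, Finset.sum_add_distrib, Finset.sum_add_distrib, k2, k1,
    Finset.sum_filter]
  ring

theorem t_mem_rK (M : Mod c) (a : WA c.n) {y : G} (hy : y ∈ KK M) (ho : Odd (orderOf y)) :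
    c.t ∈ zpowers (c.E.r a * y) ↔ c.t ∈ zpowers (c.E.r a) := by
  obtain ⟨o, h1, y', h2, h3, e⟩ := K_form M a hy ho
  rw [e, t_mem_conj c (O_le c h1), t_mem_mul c (r_two c a) h3 (mem_C1.1 h2).symm]

theorem t_mem_A (M : Mod c) (j : ZMod (2 ^ c.n)) {y : G} (hy : y ∈ c.H) (ho : Odd (orderOf y)) :
    c.t ∈ zpowers (c.E.r (j, j) * y) ↔ j ≠ 0 := by
  obtain ⟨o, h1, y', h2, h3, e⟩ := A_form M j hy ho
  rw [e, t_mem_conj c (O_le c h1), t_mem_mul c (r_two c _) h3 (mem_C1.1 h2).symm]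
  refine ⟨fun h e => ?_, t_mem_diag c⟩
  rw [e, show ((0, 0) : WA c.n) = 0 from rfl, c.E.r_zero] at h
  exact not_odd_of_inv h (t_ord c) (by simp)

variable {Θ : G → ℂ} {Λ : WA c.n → ℂ} {ϑ : ℕ → ℂ}

theorem spec_A (h : Spec M Θ Λ ϑ) {j : ZMod (2 ^ c.n)} (hj : j ≠ 0) {y : G} (hy : y ∈ c.H)
    (ho : Odd (orderOf y)) : Θ (c.E.r (j, j) * y) =
      (1 + M.St y) / 2 * Λ (j, j) + (1 - M.St y) / 2 * ϑ (2 * j.val) := by
  obtain ⟨o, h1, y', h2, h3, e⟩ := A_form M j hy ho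
  have hy' : y' ∈ c.H := by
    have : y' = (c.E.r (j, j))⁻¹ * (o⁻¹ * (c.E.r (j, j) * y) * o) := by rw [e]; group
    rw [this]
    exact mul_mem (inv_mem (r_H c _)) (mul_mem (mul_mem (inv_mem (O_le c h1))
      (mul_mem (r_H c _) hy)) (O_le c h1))
  have h4 : M.St y = M.St y' := by
    rw [← St_diag M j hy, e, St_conj' M (O_le c h1) (mul_mem (r_H c _) hy'), St_diag M j hy']
  have := h.cen j.val (Nat.pos_of_ne_zero (by rwa [Ne, ZMod.val_eq_zero])) (ZMod.val_lt j) y'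
    (by rwa [ZMod.natCast_zmod_val]) h3
  rw [ZMod.natCast_zmod_val] at this
  rw [e, h.cf, this, h4]

theorem spec_B (h : Spec M Θ Λ ϑ) {a : WA c.n} (ha : a.1 ≠ a.2) (ht : c.t ∈ zpowers (c.E.r a))
    {y : G} (hy : y ∈ KK M) (ho : Odd (orderOf y)) : Θ (c.E.r a * y) = Λ a := by
  obtain ⟨o, -, y', h2, h3, e⟩ := K_form M a hy ho
  rw [e, h.cf, h.reg a (not_sing c ha ht) y' h2 h3]

theorem spec_C (h : Spec M Θ Λ ϑ) (j : ZMod (2 ^ c.n)) {y : G} (hy : y ∈ C{c.E.s (j + 1, j)})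
    (ho : Odd (orderOf y)) : Θ (c.E.s (j + 1, j) * y) = ϑ (2 * j.val + 1) := by
  have := h.om (2 * j.val + 1) (odd_two_mul_add_one _) y
  rw [om_pow, ZMod.natCast_zmod_val] at this
  exact this hy ho

open Classical in
theorem sum_D (F : G → ℂ) : ∑ g with c.t ∈ zpowers g, F g =
    ∑ g ∈ FS c.H, if c.t ∈ zpowers g then F g else 0 := by
  rw [← Finset.sum_filter]
  refine Finset.sum_congr ?_ fun _ _ => rfl
  ext g
  simp only [mem_filter, mem_univ, true_and, mem_FS, iff_and_self]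
  exact fun h => mem_C1.2 (comm_of_zpowers (mem_zpowers g) h)

open Classical in
theorem sum_G (c : WC G) (F : G → ℂ) (hc : IsClassFunction G F)
    (h0 : ∀ g, Odd (orderOf g) → F g = 0) :
    ∑ g, F g = c.H.index * ∑ g with c.t ∈ zpowers g, F g := by
  have e : ∀ g : G, ap (⊤ : Subgroup G).subtype g = g := fun g => ap_of_mem _ (mem_top g)
  have := sum_inv (⊤ : Subgroup G).subtype (fun g => ⟨⟨g, mem_top g⟩, rfl⟩) (t_ord c) F
    (fun h _ g _ => hc g h) (fun g _ h => by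
      obtain ⟨v, hv, h2⟩ := exists_inv fun ho => h (h0 g ho)
      exact ⟨v, by rwa [e], inv_G c h2⟩)
  simp only [e, FS_top, H5.card_cl] at this
  exact this

open Classical in
theorem Dsum (h : Spec M Θ Λ ϑ) (ha : Adm Λ ϑ) (lam : M.Γ →* ℂˣ) (h0 : M.d.L0 ≤ lam.ker)
    (Ξ : G → ℂ) (hc : ∀ h ∈ c.H, ∀ g ∈ c.H, Ξ (h * g * h⁻¹) = Ξ g) (Λ' : WA c.n → ℂ)
    (ϑ' : ℕ → ℂ) (hr : ∀ a : WA c.n, Λ' (a.2, -a.1 - a.2) = Λ' a)
    (hβ : ∀ j : ZMod (2 ^ c.n), ϑ' (2 * (j + hh c.n).val + 1) = ϑ' (2 * j.val + 1))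
    (hA : ∀ j : ZMod (2 ^ c.n), j ≠ 0 → ∀ y ∈ c.H, Odd (orderOf y) → Ξ (c.E.r (j, j) * y) =
      mu M lam y * ((1 + M.St y) / 2 * Λ' (j, j) + (1 - M.St y) / 2 * ϑ' (2 * j.val)))
    (hB : ∀ a : WA c.n, a.1 ≠ a.2 → c.t ∈ zpowers (c.E.r a) → ∀ y ∈ KK M, Odd (orderOf y) →
      Ξ (c.E.r a * y) = mu M lam y * Λ' a)
    (hC : ∀ j, ∀ y ∈ c.H, y ∈ C{c.E.s (j + 1, j)} → Odd (orderOf y) →
      Ξ (c.E.s (j + 1, j) * y) = mu M lam y * ϑ' (2 * j.val + 1)) :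
    ∑ g with c.t ∈ zpowers g, Θ g * Ξ g = dl lam * ♯c.H *
      ((6 * (2 ^ c.n) ^ 2 : ℂ)⁻¹ * ∑ x, Λ x * Λ' x +
        (4 * 2 ^ c.n : ℂ)⁻¹ * ∑ i ∈ range (2 ^ (c.n + 1)), ϑ i * ϑ' i) := by
  rw [sum_D, M3 M lam h0 _ ?_ (fun a => if c.t ∈ zpowers (c.E.r a) then Λ a * Λ' a else 0)
    (fun j => ϑ (2 * j.val + 1) * ϑ' (2 * j.val + 1)) (fun j => Λ (j, j)) (fun j => ϑ (2 * j.val))
    (fun j => Λ' (j, j)) (fun j => ϑ' (2 * j.val)) ?_ ?_ ?_ ?_]
  · congr 1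
    rw [sum3 (fun x => Λ x * Λ' x) (fun a => by rw [ha.rot, hr]) (by rw [ha.zero, zero_mul]),
      pow_succ' 2 c.n, sum_two_mul,
      ← sum_val fun i => ϑ (2 * i) * ϑ' (2 * i) + ϑ (2 * i + 1) * ϑ' (2 * i + 1), sum_reg,
      ← Finset.sum_filter]
    have : ∑ j, (if c.t ∈ zpowers (c.E.r (j, j)) then Λ (j, j) * Λ' (j, j) else 0) =
        ∑ j, Λ (j, j) * Λ' (j, j) := by
      refine Finset.sum_congr rfl fun j _ => ?_
      by_cases hj : j = 0
      · rw [hj, show ((0, 0) : WA c.n) = 0 from rfl, ha.zero, zero_mul, ite_self]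
      · rw [if_pos (t_mem_diag c hj)]
    rw [this]
    have hN := N_ne c.n
    field_simp
    ring
  · intro k hk g hg
    simp only [t_mem_conj c hk, h.cf g k, hc k hk g hg]
  · intro j
    simp only [adm_half (n1 c) ha, hβ]
  · intro j y hy ho
    simp only [t_mem_A M j hy ho]
    by_cases hj : j = 0
    · rw [if_neg (not_not.2 hj), hj, show ((0, 0) : WA c.n) = 0 from rfl, ha.zero, ZMod.val_zero,
        mul_zero 2, ha.zero']
      ring
    · rw [if_pos hj, spec_A h hj hy ho, hA j hj y hy ho]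
      ring
  · intro a h1 y hy ho
    simp only [t_mem_rK M a hy ho]
    split_ifs with h2
    · rw [spec_B h h1 h2 hy ho, hB a h1 h2 y hy ho]
      ring
    · rw [mul_zero]
  · intro j y hy h1 ho
    rw [if_pos ((t_mem_mul c (s_two c _) ho (mem_C1.1 h1).symm).2 (t_mem_om c j)),
      spec_C h j h1 ho, hC j y hy h1 ho]
    ring

theorem mu_one (M : Mod c) (g : G) : mu M 1 g = 1 := by simp [mu]

theorem dl_one {Γ : Type} [Group Γ] [Fintype Γ] : dl (1 : Γ →* ℂˣ) = 1 := by simp [dl]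

theorem card_G (c : WC G) (x : ℂ) :
    (Nat.card G : ℂ)⁻¹ * (c.H.index * (1 * ♯c.H * x)) = x := by
  have h1 : (Nat.card G : ℂ) = ♯c.H * c.H.index := by exact_mod_cast c.H.card_mul_index.symm
  have h2 : (Nat.card G : ℂ) ≠ 0 := by exact_mod_cast Nat.card_pos.ne'
  field_simp
  rw [h1]
  ring

end H1.WS
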