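import Mathlib
import Cfsg.Agent.H1.WS5

/-!
# Products of two involutions of `L`
-/

set_option autoImplicit false
set_option linter.unusedSectionVars false

namespace H1.WS

open H24 Cfsg Subgroup Finset
open H22 (WR WA Bj hh)
open H13.W (PD WC Mod Sing Spec Adm)

theorem dbl_cases {n : ℕ} (hn : 1 ≤ n) {j : ZMod (2 ^ n)} (h : j + j = 0) :
    j = 0 ∨ j = hh n := by
  rcases H22.Om_cases hn (a := (j, j)) (H22.mem_Om'.2 (Prod.ext h h)) with e | e | e | e
  · exact Or.inl (congrArg Prod.fst e)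
  · exact Or.inr (congrArg Prod.fst e)
  · exact Or.inr (congrArg Prod.fst e)
  · exact Or.inl (congrArg Prod.fst e)

theorem hh_val {n : ℕ} (hn : 1 ≤ n) : 2 * (hh n).val = 2 ^ n := by
  have h2 : (hh n).val = 2 ^ (n - 1) := by
    rw [H22.hh, ← H22.natCast_two_pow, ZMod.val_cast_of_lt]
    exact Nat.pow_lt_pow_right one_lt_two (by omega)
  rw [h2, ← pow_succ']
  congr 1
  omega

theorem conj_inv_of {X : Type*} [Group X] {a b v : X} (ha : a * a = 1) (hb : b * b = 1)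
    (hv : v ∈ zpowers (a * b)) (h : v * v = 1) : a ∈ C{v} ∧ b ∈ C{v} := by
  have ia : a⁻¹ = a := inv_eq_of_mul_eq_one_right ha
  have ib : b⁻¹ = b := inv_eq_of_mul_eq_one_right hb
  have iv : v⁻¹ = v := inv_eq_of_mul_eq_one_right h
  have h1 : a * v * a⁻¹ = v := by
    obtain ⟨k, rfl⟩ := mem_zpowers_iff.1 hv
    refine Eq.trans ?_ iv
    rw [← conj_zpow, ← inv_zpow]
    congr 1
    rw [mul_inv_rev, ia, ib, ← mul_assoc, ha, one_mul]
  have h2 : a ∈ C{v} := mem_C1.2 (by rw [← mul_inv_eq_iff_eq_mul, h1])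
  have h3 : a * b ∈ C{v} := mem_C1.2 (comm_of_zpowers (mem_zpowers _) hv)
  exact ⟨h2, (mul_mem_cancel_left h2).1 h3⟩

variable {Γ : Type} [Group Γ] [Fintype Γ] {n : ℕ} (d : PD Γ n)

theorem V_ord (hn : 2 ≤ n) {a : Γ} (ha : a ∈ H5.cl (uu d)) : orderOf a = 2 := by
  obtain ⟨g, rfl⟩ := isConj_iff.1 (H5.mem_cl.1 ha)
  rw [orderOf_conj, ord_uu d hn]

theorem V_L (hn : 2 ≤ n) {a : Γ} (ha : a ∈ H5.cl (uu d)) : a ∈ d.L := by
  obtain ⟨g, rfl⟩ := isConj_iff.1 (H5.mem_cl.1 ha)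
  exact d.L_nml.conj_mem _ (uu_mem_L d hn) g

theorem St_V (hn : 2 ≤ n) {a : Γ} (ha : a ∈ H5.cl (uu d)) : St d a = 1 := by
  obtain ⟨g, rfl⟩ := isConj_iff.1 (H5.mem_cl.1 ha)
  have := St_e d (uu_mem d) (y := 1) (fun e => by simpa [e] using ord_uu d hn) (by simp) (by simp)
  rwa [St_conj, ← mul_one (uu d)]

open Classical in
/-- number of involutions of `L` sending `x` to `y` -/
noncomputable def nn (x y : d.Ω) : ℂ := ∑ a ∈ H5.cl (uu d), if a • x = y then 1 else 0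

theorem nn_conj (g : Γ) (x y : d.Ω) : nn d (g • x) (g • y) = nn d x y := by
  classical
  rw [nn, nn, ← H5.sum_cl_conj (uu d) (fun a => if a • x = y then (1 : ℂ) else 0) g]
  refine Finset.sum_congr rfl fun a _ => ?_
  simp only [mul_smul, inv_smul_eq_iff]

theorem sum_ite_Ω [DecidableEq d.Ω] (x : d.Ω) (A B : ℂ) :
    ∑ y, (if x = y then A else B) = A + d.N.q * B := by
  have : ∀ y, (if x = y then A else B) = (if x = y then A - B else 0) + B := fun y => by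
    split_ifs <;> ring
  simp only [this, Finset.sum_add_distrib, Finset.sum_ite_eq, mem_univ, if_true, sum_const,
    card_univ, d.cardΩ, nsmul_eq_mul]
  push_cast
  ring

theorem sum_St_V (hn : 2 ≤ n) : ∑ a ∈ H5.cl (uu d), ∑ b ∈ H5.cl (uu d), (St d (a * b) : ℂ) =
    (H5.cl (uu d)).card ^ 2 * d.N.ε / d.N.q := by
  classical
  obtain ⟨x₀⟩ : Nonempty d.Ω := Fintype.card_pos_iff.1 (by rw [d.cardΩ]; omega)
  obtain ⟨y₀, h₀⟩ := exists_ne' d x₀
  have he : (d.N.ε : ℂ) * d.N.ε = 1 := by exact_mod_cast eps_sq d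
  have hq : (d.N.q : ℂ) ≠ 0 := by exact_mod_cast (q_pos d).ne'
  have hq1 : (d.N.q : ℂ) + 1 ≠ 0 := by exact_mod_cast Nat.succ_ne_zero d.N.q
  have h1 : ∀ x y, nn d x y = if x = y then nn d x₀ x₀ else nn d x₀ y₀ := by
    intro x y
    split_ifs with h
    · obtain ⟨g, -, rfl⟩ := trans1 d x₀ x
      rw [← h, nn_conj]
    · obtain ⟨g, -, rfl, rfl⟩ := d.two_trans x₀ y₀ x y h₀ h
      rw [nn_conj]
  have h2 : nn d x₀ x₀ + d.N.q * nn d x₀ y₀ = (H5.cl (uu d)).card := by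
    rw [← sum_ite_Ω d x₀]
    simp only [← h1]
    simp only [nn]
    rw [Finset.sum_comm]
    simp
  have h3 : (d.N.q + 1) * nn d x₀ x₀ = (H5.cl (uu d)).card * (1 + d.N.ε) := by
    have e1 : ∑ x, nn d x x = (d.N.q + 1) * nn d x₀ x₀ := by
      rw [Finset.sum_congr rfl fun x _ => (h1 x x).trans (if_pos rfl)]
      simp [d.cardΩ]
    rw [← e1]
    simp only [nn]
    rw [Finset.sum_comm, card_eq_sum_ones, Nat.cast_sum, Finset.sum_mul]
    refine Finset.sum_congr rfl fun a ha => ?_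
    have e2 : (d.N.ε : ℂ) * (Nat.card (MulAction.fixedBy d.Ω a) - 1) = 1 := by
      exact_mod_cast St_V d hn ha
    rw [card_fix] at e2
    rw [Nat.cast_one, one_mul]
    generalize (∑ x : d.Ω, if a • x = x then (1 : ℂ) else 0) = s at e2 ⊢
    linear_combination (d.N.ε : ℂ) * e2 - (s - 1) * he
  have h4 : ∑ a ∈ H5.cl (uu d), ∑ b ∈ H5.cl (uu d),
      (Nat.card (MulAction.fixedBy d.Ω (a * b)) : ℂ) =
      (d.N.q + 1) * (nn d x₀ x₀ ^ 2 + d.N.q * nn d x₀ y₀ ^ 2) := by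
    have e1 : ∀ x, ∑ y, nn d x y * nn d x y = nn d x₀ x₀ ^ 2 + d.N.q * nn d x₀ y₀ ^ 2 := by
      intro x
      rw [← sum_ite_Ω d x]
      refine Finset.sum_congr rfl fun y _ => ?_
      rw [h1 x y]
      split_ifs <;> ring
    have e2 : ∑ x, ∑ y, nn d x y * nn d x y =
        (d.N.q + 1) * (nn d x₀ x₀ ^ 2 + d.N.q * nn d x₀ y₀ ^ 2) := by
      simp [e1, d.cardΩ]
      ring
    rw [← e2]
    simp only [nn, Finset.sum_mul_sum, card_fix]
    symm
    rw [Finset.sum_congr rfl fun x _ => Finset.sum_comm, Finset.sum_comm]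
    refine Finset.sum_congr rfl fun a ha => ?_
    rw [Finset.sum_congr rfl fun x _ => Finset.sum_comm, Finset.sum_comm]
    refine Finset.sum_congr rfl fun b _ => Finset.sum_congr rfl fun x _ => ?_
    have ia : a⁻¹ = a := inv_eq_of_mul_eq_one_right (sq_eq_one_of (V_ord d hn ha))
    rw [Finset.sum_eq_single (a • x) (fun y _ hy => by rw [if_neg hy.symm, zero_mul])
      (fun h => absurd (mem_univ _) h), if_pos rfl, one_mul]
    simp only [mul_smul, smul_eq_iff_eq_inv_smul a, ia]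
  simp only [St, Int.cast_mul, Int.cast_sub, Int.cast_natCast, Int.cast_one, ← Finset.mul_sum,
    Finset.sum_sub_distrib, h4, sum_const, nsmul_eq_mul]
  have h5 : nn d x₀ x₀ = (H5.cl (uu d)).card * (1 + d.N.ε) / (d.N.q + 1) := by
    rw [← h3]; field_simp
  have h6 : nn d x₀ y₀ = ((H5.cl (uu d)).card - nn d x₀ x₀) / d.N.q := by
    rw [← h2]; field_simp; ring
  rw [h6, h5]
  field_simp
  rcases d.N.hε with e | e <;> rw [e] <;> push_cast <;> ring

theorem card_TL : 2 * ♯(d.T ⊓ d.L) = d.N.m := by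
  have h1 : d.L.relIndex d.T ∣ 2 := by
    rw [← d.L_index]
    exact relIndex_dvd_of_nml ⟨d.L_le, by
      have := d.L_nml
      rw [normalizer_eq_top]; exact le_top⟩ d.T_le
  rcases (Nat.dvd_prime Nat.prime_two).1 h1 with h | h
  · exact absurd (relIndex_eq_one.1 h d.e_mem) d.e_not
  · rw [← d.card_T, ← card_inf_mul_relIndex d.L d.T, h, inf_comm, mul_comm]

theorem odd_ee_mul {i : ZMod (2 ^ n)} {y : Γ} (hy : Odd (orderOf y))
    (h : ee d i * y = y * ee d i) : Odd (orderOf (ee d i * y)) ↔ i = 0 := by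
  refine ⟨fun ho => (ee_eq_one d).1 (eq_one_of_two_odd (ee_two d i)
    (odd_of_mem_zpowers ho (left_mem (ee_two d i) hy h))), ?_⟩
  rintro rfl
  rwa [ee_zero, one_mul]

theorem card_OD_T (hn : 2 ≤ n) : ((OD d.T).card : ℂ) = d.m' := by
  have hc : ∀ i, ∀ y ∈ d.T, ee d i * y = y * ee d i := fun i y hy =>
    (T_abl d).comm (zp_le_T d (ee_mem d i)) hy
  have := sum_param (univ : Finset (ZMod (2 ^ n))) (OD d.T) (FS d.T) (ee d)
    (fun a _ y hy => mem_FS.2 (mul_mem (zp_le_T d (ee_mem d a)) (mem_OD.1 hy).1))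
    (fun a _ b _ y hy z hz e => by
      have h1 : ee d (-b + a) * y = z := by rw [ee_add, ee_neg, mul_assoc, e, inv_mul_cancel_left]
      have h2 := (odd_ee_mul d (mem_OD.1 hy).2 (hc _ y (mem_OD.1 hy).1)).1 (h1 ▸ (mem_OD.1 hz).2)
      linear_combination h2)
    (fun g hg => by
      obtain ⟨x, y, h1, h2, h3, h4, h5, -⟩ := decomp g
      have h6 := zpowers_le.2 (mem_FS.1 hg)
      obtain ⟨a, rfl⟩ := exists_ee d (two_mem d hn (T_le_Ce d (h6 h3)) h1)
      exact ⟨a, mem_univ _, y, mem_OD.2 ⟨h6 h4, h2⟩, h5⟩) (fun _ => 1)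
  simp only [sum_const, nsmul_eq_mul, mul_one, card_FS, card_ZN, d.card_T, d.hm] at this
  push_cast at this
  exact (mul_left_cancel₀ (N_ne n) this).symm

section

variable {X : Type*} [Group X] [Fintype X] {Y : Type*} [Group Y] [Fintype Y]

theorem sum_pairs {V W : Finset X} {v : X} (hv : orderOf v = 2) (hV : ∀ a ∈ V, orderOf a = 2)
    (hW : W ⊆ V) (hW' : ∀ a ∈ V, a ∈ C{v} → a ≠ v → a ∈ W) (F : X → ℂ) :
    ∑ a ∈ V, ∑ b ∈ V, (if v ∈ zpowers (a * b) then F (a * b) else 0) =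
      ∑ a ∈ W, ∑ b ∈ W, if v ∈ zpowers (a * b) then F (a * b) else 0 := by
  have key : ∀ a ∈ V, ∀ b ∈ V, v ∈ zpowers (a * b) → a ∈ W ∧ b ∈ W := by
    intro a ha b hb h
    have h1 := sq_eq_one_of (hV a ha)
    have h2 := sq_eq_one_of (hV b hb)
    obtain ⟨h3, h4⟩ := conj_inv_of h1 h2 h (sq_eq_one_of hv)
    have h5 : a * b = b * a → a * b = v := fun e => by
      refine inv_unique (mem_zpowers _) h (ord_two ?_ fun e => ?_) hv
      · rw [mul_assoc, ← mul_assoc b, ← e, mul_assoc, h2, mul_one, h1]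
      · exact not_odd_of_inv h hv (by simp [e])
    refine ⟨hW' a ha h3 fun e => ?_, hW' b hb h4 fun e => ?_⟩
    · subst e
      have := hV b hb
      rw [mul_eq_left.1 (h5 (mem_C1.1 h4).symm)] at this
      simp at this
    · subst e
      have := hV a ha
      rw [mul_eq_right.1 (h5 (mem_C1.1 h3))] at this
      simp at this
  symm
  refine (Finset.sum_congr rfl fun a ha => Finset.sum_subset hW fun b hb h => ?_).trans
    (Finset.sum_subset hW fun a ha h => Finset.sum_eq_zero fun b hb => ?_)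
  · exact if_neg fun e => h (key a (hW ha) b hb e).2
  · exact if_neg fun e => h (key a ha b hb e).1

theorem sum_conjU {H : Subgroup X} {U : Finset X} (hU : ∀ h ∈ H, ∀ a ∈ U, h * a * h⁻¹ ∈ U)
    {h : X} (hh : h ∈ H) (F : X → ℂ) : ∑ a ∈ U, F (h * a * h⁻¹) = ∑ a ∈ U, F a := by
  refine Finset.sum_nbij' (fun a => h * a * h⁻¹) (fun a => h⁻¹ * a * h⁻¹⁻¹) (hU h hh)
    (hU _ (inv_mem hh)) ?_ ?_ fun _ _ => rfl
  · intro a _; group
  · intro a _; group

theorem sum_inv_pairs {H : Subgroup X} (f : H →* Y) (hf : Function.Surjective f) {t : Y}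
    (ht : orderOf t = 2) {U : Finset X} (hU : ∀ a ∈ U, a ∈ H)
    (hU' : ∀ h ∈ H, ∀ a ∈ U, h * a * h⁻¹ ∈ U) (φ : X → ℂ)
    (hc : ∀ h ∈ H, ∀ g ∈ H, φ (h * g * h⁻¹) = φ g)
    (hφ : ∀ a ∈ U, ∀ b ∈ U, φ (a * b) ≠ 0 → ∃ v ∈ zpowers (ap f (a * b)), IsConj t v) :
    ∑ a ∈ U, ∑ b ∈ U, φ (a * b) = (H5.cl t).card *
      ∑ a ∈ U, ∑ b ∈ U, if t ∈ zpowers (ap f (a * b)) then φ (a * b) else 0 := by
  have h1 : ∀ a ∈ U, ∀ b ∈ U, φ (a * b) =
      ∑ v ∈ H5.cl t, if v ∈ zpowers (ap f (a * b)) then φ (a * b) else 0 := by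
    intro a ha b hb
    by_cases h0 : φ (a * b) = 0
    · simp [h0]
    obtain ⟨v, hv, hv'⟩ := hφ a ha b hb h0
    rw [Finset.sum_eq_single v, if_pos hv]
    · intro v' h1 h2
      rw [if_neg]
      intro h3
      refine h2 (inv_unique h3 hv ?_ ?_)
      · obtain ⟨c, rfl⟩ := isConj_iff.1 (H5.mem_cl.1 h1); rwa [orderOf_conj]
      · obtain ⟨c, rfl⟩ := isConj_iff.1 hv'; rwa [orderOf_conj]
    · intro h; exact absurd (H5.mem_cl.2 hv') h
  rw [Finset.sum_congr rfl fun a ha => (Finset.sum_congr rfl (h1 a ha)).trans Finset.sum_comm,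
    Finset.sum_comm, Finset.card_eq_sum_ones, Nat.cast_sum, Finset.sum_mul]
  refine Finset.sum_congr rfl fun v hv => ?_
  obtain ⟨c, rfl⟩ := isConj_iff.1 (H5.mem_cl.1 hv)
  obtain ⟨⟨h, hh⟩, rfl⟩ := hf c
  rw [← sum_conjU hU' hh, Nat.cast_one, one_mul]
  refine Finset.sum_congr rfl fun a ha => ?_
  rw [← sum_conjU hU' hh]
  refine Finset.sum_congr rfl fun b hb => ?_
  have hg := mul_mem (hU a ha) (hU b hb)
  rw [show h * a * h⁻¹ * (h * b * h⁻¹) = h * (a * b) * h⁻¹ by group, hc h hh _ hg,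
    ap_conj _ hh hg, ap_of_mem f hh]
  simp only [mem_zpowers_conj]

end

theorem sum_V_pairs (hn : 2 ≤ n) (ψ : Γ → ℂ) (h0 : ∀ y ∈ d.T, Odd (orderOf y) → ψ y = 0) :
    ∑ a ∈ H5.cl (uu d), ∑ b ∈ H5.cl (uu d), (if uu d ∈ zpowers (a * b) then ψ (a * b) else 0) =
      ♯(d.T ⊓ d.L) * ∑ ρ ∈ FS (d.T ⊓ d.L), ψ ρ := by
  classical
  have hinj : Set.InjOn (fun τ => τ * d.s) (FS (d.T ⊓ d.L) : Set Γ) :=
    fun _ _ _ _ e => mul_right_cancel e
  have huT : ∀ a ∈ d.T, orderOf a = 2 → a = uu d := fun a ha h2 => by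
    have h3 := two_mem d hn (T_le_Ce d ha) (two_of_sq (sq_eq_one_of h2))
    exact inv_unique h3 (uu_mem d) h2 (ord_uu d hn)
  rw [sum_pairs (W := (FS (d.T ⊓ d.L)).image fun τ => τ * d.s) (ord_uu d hn)
    (fun a ha => V_ord d hn ha), Finset.sum_image hinj, ← card_FS, card_eq_sum_ones, Nat.cast_sum,
    Finset.sum_mul]
  · refine Finset.sum_congr rfl fun τ hτ => ?_
    have hτ := mem_FS.1 hτ
    rw [Finset.sum_image hinj, Nat.cast_one, one_mul, ← sum_mul_left' hτ ψ]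
    refine Finset.sum_nbij' (fun a => a⁻¹) (fun a => a⁻¹)
      (fun a ha => mem_FS.2 (inv_mem (mem_FS.1 ha)))
      (fun a ha => mem_FS.2 (inv_mem (mem_FS.1 ha))) (fun a _ => inv_inv a) (fun a _ => inv_inv a)
      fun σ hσ => ?_
    have hσ := mem_FS.1 hσ
    have e : τ * d.s * (σ * d.s) = τ * σ⁻¹ := by
      rw [← d.s_inv σ hσ.1, s_inv_eq]; group
    have h1 : τ * σ⁻¹ ∈ d.T := mul_mem hτ.1 (inv_mem hσ.1)
    rw [e]
    split_ifs with h
    · rfl
    · refine (h0 _ h1 ?_).symm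
      by_contra h2
      obtain ⟨v, hv, h3⟩ := exists_inv h2
      exact h (huT v (zpowers_le.2 h1 hv) h3 ▸ hv)
  · intro a ha
    obtain ⟨τ, hτ, rfl⟩ := mem_image.1 ha
    exact H5.mem_cl.2 (Ts_conj d (mem_FS.1 hτ).1 (mem_FS.1 hτ).2)
  · intro a ha h1 h2
    have h3 := V_L d hn ha
    have h4 : a ∉ C{d.e} := fun h => h2 (huT a (Ce_inf d hn ▸ ⟨d.L_le h3, h⟩) (V_ord d hn ha))
    have h5 : a * d.s ∈ d.L := mul_mem h3 d.s_mem
    refine mem_image.2 ⟨a * d.s, mem_FS.2 ⟨?_, h5⟩, by rw [mul_assoc, d.s_sq, mul_one]⟩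
    exact Ce_inf d hn ▸ ⟨d.L_le h5, (d.cent_u a h1).resolve_left h4⟩

open Classical in
/-- the value of the symmetrised function on the torus -/
noncomputable def psi (lam : ZMod (2 ^ n) → ℂ) (ρ : Γ) : ℂ :=
  ∑ z, if Odd (orderOf ((ee d (z + z))⁻¹ * ρ)) then lam z else 0

theorem psi_eq (hn : 1 ≤ n) (lam : ZMod (2 ^ n) → ℂ) (x : ZMod (2 ^ n)) {y : Γ}
    (hy : Odd (orderOf y)) (h : ∀ i, ee d i * y = y * ee d i) :
    psi d lam (ee d (x + x) * y) = lam x + lam (x + hh n) := by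
  classical
  have h1 : ∀ z, Odd (orderOf ((ee d (z + z))⁻¹ * (ee d (x + x) * y))) ↔ z = x ∨ z = x + hh n := by
    intro z
    rw [← ee_neg, ← mul_assoc, ← ee_add, odd_ee_mul d hy (h _)]
    constructor
    · intro e
      rcases dbl_cases hn (j := z - x) (by linear_combination -e) with e' | e'
      · exact Or.inl (by linear_combination e')
      · exact Or.inr (by linear_combination e')
    · rintro (rfl | rfl)
      · ring
      · linear_combination -H22.hh_add_hh hn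
  have h2 : x ≠ x + hh n := fun e => H22.hh_ne_zero hn (by linear_combination -e)
  simp only [psi, h1]
  rw [← Finset.sum_filter, ← Finset.sum_pair h2]
  congr 1
  ext z
  simp

theorem sum_psi (hn : 2 ≤ n) (lam : ZMod (2 ^ n) → ℂ) :
    ∑ ρ ∈ FS (d.T ⊓ d.L), psi d lam ρ = d.m' * ∑ z, lam z := by
  classical
  simp only [psi]
  rw [Finset.sum_comm, Finset.mul_sum]
  refine Finset.sum_congr rfl fun z _ => ?_
  rw [sum_mul_left' (H := d.T ⊓ d.L) (inv_mem ⟨zp_le_T d (ee_mem d _), ee_dbl_mem d z⟩)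
    fun ρ => if Odd (orderOf ρ) then lam z else 0, ← Finset.sum_filter, sum_const, nsmul_eq_mul,
    ← card_OD_T d hn]
  congr 3
  ext y
  simp only [mem_filter, mem_FS, mem_OD, Subgroup.mem_inf]
  exact ⟨fun h => ⟨h.1.1, h.2⟩, fun h => ⟨⟨h.1, odd_mem_L d (d.T_le h.1) h.2⟩, h.2⟩⟩

end H1.WS
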