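import Mathlib
import Cfsg.Agent.H1.WS6

/-!
# The involutions of `H` other than `t`
-/

set_option autoImplicit false
set_option linter.unusedSectionVars false

namespace H1.WS

open H24 Cfsg Subgroup Finset
open H22 (WR WA Bj hh)
open H13.W (PD WC Mod Sing Spec Adm)

universe u

variable {G : Type u} [Group G] [Fintype G] (c : WC G)

open Classical in
/-- the conjugates of `u` in `H` -/
noncomputable def UU : Finset G := univ.filter fun a => ∃ h ∈ c.H, a = h * c.u * h⁻¹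

theorem mem_UU' {a : G} : a ∈ UU c ↔ ∃ h ∈ c.H, a = h * c.u * h⁻¹ := by simp [UU]

theorem u_ne_t : c.u ≠ c.t := fun e =>
  H22.hh_ne_zero (n1 c) (congrArg Prod.snd (c.E.r_inj.1 e)).symm

theorem mem_UU {a : G} : a ∈ UU c ↔ a ∈ c.H ∧ orderOf a = 2 ∧ a ≠ c.t := by
  rw [mem_UU']
  refine ⟨?_, fun h => inv_H c h.1 h.2.1 h.2.2⟩
  rintro ⟨h, hh, rfl⟩
  refine ⟨mul_mem (mul_mem hh (u_H c)) (inv_mem hh), by rw [orderOf_conj, u_ord], fun e => ?_⟩
  refine u_ne_t c ?_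
  rw [← t_comm c (inv_mem hh), ← e]
  group

theorem UU_H (a : G) (ha : a ∈ UU c) : a ∈ c.H := ((mem_UU c).1 ha).1

theorem UU_conj (h : G) (hh : h ∈ c.H) (a : G) (ha : a ∈ UU c) : h * a * h⁻¹ ∈ UU c := by
  obtain ⟨g, hg, rfl⟩ := (mem_UU' c).1 ha
  exact (mem_UU' c).2 ⟨h * g, mul_mem hh hg, by group⟩

theorem tt : c.t * c.t = 1 := sq_eq_one_of (t_ord c)

theorem UU_t {a : G} (ha : a ∈ UU c) : c.t * a ∈ UU c := by
  obtain ⟨h1, h2, h3⟩ := (mem_UU c).1 ha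
  refine (mem_UU c).2 ⟨mul_mem (t_H c) h1, ord_two ?_ fun e => h3 ?_, fun e => ?_⟩
  · rw [mul_assoc, ← mul_assoc a, mem_C1.1 h1, mul_assoc, sq_eq_one_of h2, mul_one, tt]
  · rw [← one_mul a, ← tt c, mul_assoc, e, mul_one]
  · rw [mul_eq_left.1 e] at h2
    simp at h2

theorem sum_UU_t (F : G → ℂ) : ∑ a ∈ UU c, F (c.t * a) = ∑ a ∈ UU c, F a := by
  refine Finset.sum_nbij' (fun a => c.t * a) (fun a => c.t * a) (fun _ => UU_t c)
    (fun _ => UU_t c) ?_ ?_ fun _ _ => rfl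
  all_goals intro a _; simp only [← mul_assoc, tt, one_mul]

theorem card_UU : (UU c).card = (c.H ⊓ C{c.u}).relIndex c.H := by
  rw [← ncard_conj, ← Set.ncard_coe_finset]
  congr 1
  ext a
  exact mem_UU' c

variable {c} (M : Mod c)

theorem dt_UU {a : G} (ha : a ∈ UU c) : dt M a = hh c.n := by
  obtain ⟨g, hg, rfl⟩ := (mem_UU' c).1 ha
  rw [dt_conj M hg (u_H c), WC.u, dt_r, add_zero]

theorem κ_UU {a : G} (ha : a ∈ UU c) : ap M.κ a ∈ H5.cl (uu M.d) := by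
  obtain ⟨g, hg, rfl⟩ := (mem_UU' c).1 ha
  rw [ap_conj _ hg (u_H c), κ_u]
  exact H5.mem_cl.2 (isConj_iff.2 ⟨_, rfl⟩)

open Classical in
theorem card_fibre : ((UU c).filter fun a => ap M.κ a = uu M.d).card = 2 * c.k := by
  let A : Finset G := univ.filter fun a => ∃ o ∈ c.O, a = o * c.u * o⁻¹
  have hA : ∀ a, a ∈ A ↔ ∃ o ∈ c.O, a = o * c.u * o⁻¹ := fun a => by simp [A]
  have h1 : A.card = c.k := by
    rw [WC.k, ← ncard_conj, ← Set.ncard_coe_finset]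
    congr 1
    ext a
    exact hA a
  have h2 : Disjoint A (A.image fun a => c.t * a) := by
    rw [Finset.disjoint_left]
    intro a ha hb'
    obtain ⟨b, hb, rfl⟩ := mem_image.1 hb'
    obtain ⟨o, ho, e⟩ := (hA _).1 ha
    obtain ⟨o', ho', rfl⟩ := (hA _).1 hb
    have h3 : c.t = o * (c.u * (o⁻¹ * o') * c.u⁻¹) * o'⁻¹ := by
      rw [← mul_inv_cancel_right c.t (o' * c.u * o'⁻¹), e]; group
    have h4 : c.t ∈ c.O := h3 ▸ mul_mem (mul_mem ho
      (H24.conj_mem (H_N c (u_H c)) (mul_mem (inv_mem ho) ho'))) (inv_mem ho')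
    exact H22.hh_ne_zero (n1 c) (congrArg Prod.fst (r_mem_O c h4))
  have h3 : ((UU c).filter fun a => ap M.κ a = uu M.d) = A ∪ A.image fun a => c.t * a := by
    have k1 : ∀ a ∈ A, a ∈ UU c ∧ ap M.κ a = uu M.d := by
      intro a ha
      obtain ⟨o, ho, rfl⟩ := (hA _).1 ha
      exact ⟨(mem_UU' c).2 ⟨o, O_le c ho, rfl⟩, by
        rw [ap_conj _ (O_le c ho) (u_H c), κ_O M ho, κ_u]; group⟩
    ext a
    rw [mem_filter, mem_union]
    constructor
    · rintro ⟨ha, e⟩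
      obtain ⟨h1, h2, -⟩ := (mem_UU c).1 ha
      obtain ⟨j, hj⟩ := ker_cases M (mul_mem (inv_mem (u_H c)) h1) (by
        rw [ap_mul _ (inv_mem (u_H c)) h1, ap_inv _ (u_H c), κ_u, e, inv_mul_cancel])
      rw [← mul_assoc, ← mul_inv_rev, WC.u, c.E.r_mul_r] at hj
      obtain ⟨o, ho, e'⟩ := conj_of_mod (O_odd c) (H_N c (r_H c _)) (r_two c _)
        (two_of_sq (sq_eq_one_of h2)) hj
      rw [e', orderOf_conj, c.E.orderOf_r_eq_two] at h2
      have h4 : j + j = 0 := by simpa using congrArg Prod.snd h2.1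
      rcases dbl_cases (n1 c) h4 with rfl | rfl
      · exact Or.inl ((hA a).2 ⟨o, ho, by rw [e', WC.u]; simp⟩)
      · refine Or.inr (mem_image.2 ⟨o * c.u * o⁻¹, (hA _).2 ⟨o, ho, rfl⟩, ?_⟩)
        rw [e', ← c.E.r_mul_r, c.E.r_comm_r, ← t_comm c (O_le c ho), WC.u, WC.t]
        group
    · rintro (ha | ha)
      · exact k1 a ha
      · obtain ⟨b, hb, rfl⟩ := mem_image.1 ha
        refine ⟨UU_t c (k1 b hb).1, ?_⟩
        rw [ap_mul _ (t_H c) (UU_H c b (k1 b hb).1), WC.t, κ_diag, one_mul, (k1 b hb).2]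
  rw [h3, card_union_of_disjoint h2, card_image_of_injective _ (mul_right_injective c.t), h1,
    two_mul]

theorem sum_UU (ψ : M.Γ → ℂ) :
    ∑ a ∈ UU c, ψ (ap M.κ a) = 2 * c.k * ∑ v ∈ H5.cl (uu M.d), ψ v := by
  classical
  rw [← Finset.sum_fiberwise_of_maps_to (fun a ha => κ_UU M ha), Finset.mul_sum]
  refine Finset.sum_congr rfl fun v hv => ?_
  obtain ⟨δ, rfl⟩ := isConj_iff.1 (H5.mem_cl.1 hv)
  obtain ⟨h, hh, rfl⟩ := exists_κ M δ
  rw [Finset.sum_congr rfl (g := fun _ => ψ (ap M.κ h * uu M.d * (ap M.κ h)⁻¹))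
    (fun a ha => by rw [(mem_filter.1 ha).2]), Finset.sum_filter, ← sum_conjU (UU_conj c) hh]
  rw [Finset.sum_congr rfl (g := fun a => if ap M.κ a = uu M.d then
    ψ (ap M.κ h * uu M.d * (ap M.κ h)⁻¹) else 0) fun a ha => by
      rw [ap_conj _ hh (UU_H c a ha)]; simp only [mul_left_inj, mul_right_inj], ← Finset.sum_filter, sum_const,
    nsmul_eq_mul]
  congr 1
  exact_mod_cast card_fibre M

theorem sum_UU2 (ψ : M.Γ → ℂ) : ∑ a ∈ UU c, ∑ b ∈ UU c, ψ (ap M.κ (a * b)) =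
    (2 * c.k) ^ 2 * ∑ a ∈ H5.cl (uu M.d), ∑ b ∈ H5.cl (uu M.d), ψ (a * b) := by
  rw [sq, mul_assoc, ← sum_UU M fun a => ∑ b ∈ H5.cl (uu M.d), ψ (a * b), Finset.mul_sum]
  refine Finset.sum_congr rfl fun a ha => ?_
  rw [← sum_UU M fun b => ψ (ap M.κ a * b)]
  exact Finset.sum_congr rfl fun b hb => by rw [ap_mul _ (UU_H c a ha) (UU_H c b hb)]

variable {M} {Θ : G → ℂ} {Λ : WA c.n → ℂ} {ϑ : ℕ → ℂ}

variable (c Θ) in
/-- the truncation of `Θ` to `D` -/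
noncomputable def FD (g : G) : ℂ := if c.t ∈ zpowers g then Θ g else 0

theorem FD_odd {y : G} (hy : Odd (orderOf y)) : FD c Θ y = 0 :=
  if_neg fun h => not_odd_of_inv h (t_ord c) hy

theorem FD_t (h : Spec M Θ Λ ϑ) {y : G} (hy : y ∈ c.H) (ho : Odd (orderOf y)) :
    FD c Θ (c.t * y) =
      (1 + M.St y) / 2 * Λ (hh c.n, hh c.n) + (1 - M.St y) / 2 * ϑ (2 ^ c.n) := by
  have h0 := H22.hh_ne_zero (n1 c)
  rw [FD, if_pos (by exact (t_mem_A M _ hy ho).2 h0), WC.t, spec_A h h0 hy ho, hh_val (n1 c)]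

theorem G2_odd (h : Spec M Θ Λ ϑ) {g : G} (hg : g ∈ c.H) (h0 : dt M g = 0)
    (ho : Odd (orderOf (ap M.κ g))) : FD c Θ g + FD c Θ (c.t * g) =
      (1 + M.St g) / 2 * Λ (hh c.n, hh c.n) + (1 - M.St g) / 2 * ϑ (2 ^ c.n) := by
  obtain ⟨j, y, hy, hy', rfl⟩ := A_decomp M hg ho
  rw [dt_mul M (r_H c _) hy, dt_r, dt_odd M hy hy', add_zero] at h0
  rw [St_diag M j hy]
  rcases dbl_cases (n1 c) h0 with rfl | rfl
  · rw [show ((0, 0) : WA c.n) = 0 from rfl, c.E.r_zero, one_mul, FD_odd hy', FD_t h hy hy',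
      zero_add]
  · change FD c Θ (c.t * y) + FD c Θ (c.t * (c.t * y)) = _
    rw [← mul_assoc, tt, one_mul, FD_odd hy', FD_t h hy hy', add_zero]

theorem FD_anti (h : Spec M Θ Λ ϑ) {x : ZMod (2 ^ c.n)} (hx : x + x ≠ 0) {y : G} (hy : y ∈ KK M)
    (ho : Odd (orderOf y)) : FD c Θ (c.E.r (x, -x) * y) = Λ (x, -x) := by
  have h1 := t_mem_anti c (j := x) (by rintro rfl; simp at hx)
  rw [FD, if_pos ((t_mem_rK M _ hy ho).2 h1),
    spec_B h (fun e => hx (by linear_combination (e : x = -x))) h1 hy ho]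

theorem G2_uu (h : Spec M Θ Λ ϑ) {g : G} (hg : g ∈ c.H) (h0 : dt M g = 0)
    (hu : uu M.d ∈ zpowers (ap M.κ g)) :
    FD c Θ g + FD c Θ (c.t * g) = psi M.d (fun x => Λ (x, -x)) (ap M.κ g) ∧ M.St g = 1 := by
  obtain ⟨⟨x, x'⟩, y, hy, hy', rfl⟩ := K_decomp M (mem_KK_of M hg hu)
  rw [dt_mul M (r_H c _) (KK_le M hy), dt_r, dt_odd M (KK_le M hy) hy', add_zero] at h0
  obtain rfl : x' = -x := by linear_combination (h0 : x + x' = 0)
  have h1 := (uu_mem_iff M _ hy hy').1 hu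
  have h2 : x + x ≠ 0 := fun e => h1 (by linear_combination e : x = -x)
  have h3 := H22.hh_add_hh (n1 c)
  refine ⟨?_, St_rK M h1 hy hy'⟩
  have h4 : c.t * (c.E.r (x, -x) * y) = c.E.r (x + hh c.n, -(x + hh c.n)) * y := by
    rw [← mul_assoc, WC.t, c.E.r_mul_r]
    congr 2
    exact Prod.ext (add_comm _ _) (by
      change hh c.n + -x = -(x + hh c.n); linear_combination h3)
  rw [h4, FD_anti h h2 hy hy', FD_anti h (fun e => h2 (by linear_combination e - h3)) hy hy',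
    κ_rK M _ hy, show (x, -x).1 - (x, -x).2 = x + x by simp,
    psi_eq M.d (n1 c) _ x (odd_ap _ (KK_le M hy) hy') fun i => κ_rK_comm M i hy]

end H1.WS
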